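import Groth.Prelude.Def_Cyc
import Mathlib.RingTheory.Ideal.KrullsHeightTheorem

/-!
Basic facts on dimension functions (`Cyc.IsDimFun`) and generic points of locally Noetherian schemes.
-/

universe u

open AlgebraicGeometry CategoryTheory Order

namespace Groth.Cycles

variable {X : Scheme.{u}} {δ : X → ℤ}

lemma lt_iff_specializes {a b : X} : a < b ↔ b ⤳ a ∧ a ≠ b := by
  rw [lt_iff_le_not_ge, Scheme.le_iff_specializes, Scheme.le_iff_specializes]
  exact ⟨fun h => ⟨h.1, fun e => h.2 (e ▸ specializes_rfl)⟩,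
    fun h => ⟨h.1, fun h' => h.2 (h'.antisymm h.1).eq⟩⟩

lemma delta_strictMono (hδ : Cyc.IsDimFun X δ) : StrictMono δ := fun a b h =>
  (hδ b a (lt_iff_specializes.mp h).1 (lt_iff_specializes.mp h).2.symm).1

lemma delta_le_of_specializes (hδ : Cyc.IsDimFun X δ) {a b : X} (h : b ⤳ a) : δ a ≤ δ b :=
  by
  rcases eq_or_ne a b with rfl | hne
  · exact le_rfl
  · exact (delta_strictMono hδ (lt_iff_specializes.mpr ⟨h, hne⟩)).le

lemma eq_of_specializes_of_delta_le (hδ : Cyc.IsDimFun X δ) {a b : X} (h : b ⤳ a)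
    (h' : δ b ≤ δ a) : b = a := by
  by_contra hne
  have := (hδ b a h hne).1
  omega

lemma delta_eq_of_covBy (hδ : Cyc.IsDimFun X δ) {a b : X} (h : a ⋖ b) : δ b = δ a + 1 := by
  refine (hδ b a h.le h.ne.symm).2 fun z hz1 hz2 => ?_
  by_contra hne
  push Not at hne
  exact h.2 (lt_iff_specializes.mpr ⟨hz2, hne.2.symm⟩) (lt_iff_specializes.mpr ⟨hz1, hne.1⟩)

lemma covBy_of_delta_eq (hδ : Cyc.IsDimFun X δ) {a b : X} (h : b ⤳ a) (hd : δ b = δ a + 1) :
    a ⋖ b := by
  refine ⟨lt_iff_specializes.mpr ⟨h, fun e => by subst e; omega⟩, fun z hz1 hz2 => ?_⟩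
  have h1 := delta_strictMono hδ hz1
  have h2 := delta_strictMono hδ hz2
  omega

/-- Between two distinct points one of which specializes to the other there is a covering step
at the bottom. -/
lemma exists_covBy_le (hδ : Cyc.IsDimFun X δ) {a b : X} (h : a < b) :
    ∃ z, a ⋖ z ∧ z ≤ b := by
  suffices H : ∀ (n : ℕ) (b : X), a < b → δ b ≤ δ a + n → ∃ z, a ⋖ z ∧ z ≤ b from
    H (δ b - δ a).toNat b h (by omega)
  intro n
  induction n with
  | zero => intro b hb hn; have := delta_strictMono hδ hb; omega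
  | succ n ih =>
    intro b hb hn
    by_cases hc : a ⋖ b
    · exact ⟨b, hc, le_rfl⟩
    · obtain ⟨c, hac, hcb⟩ := (not_covBy_iff hb).mp hc
      have := delta_strictMono hδ hcb
      obtain ⟨z, h1, h2⟩ := ih c hac (by omega)
      exact ⟨z, h1, h2.trans hcb.le⟩

/-- Points maximal under generalization are the maximal elements of the specialization order. -/
lemma isMax_iff {x : X} : IsMax x ↔ ∀ z : X, z ⤳ x → z = x :=
  ⟨fun h _ hz => (hz.antisymm (h hz)).eq, fun h z hz => (h z hz).le⟩

variable (X) in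
/-- Every point has a generalization which is a generic point of an irreducible component. -/
lemma exists_isMax_le (x : X) : ∃ ξ : X, x ≤ ξ ∧ IsMax ξ := by
  have hirr : IsIrreducible (irreducibleComponent x) := isIrreducible_irreducibleComponent
  obtain ⟨ξ, hξ⟩ := QuasiSober.sober hirr isClosed_irreducibleComponent
  refine ⟨ξ, hξ.specializes mem_irreducibleComponent, fun z hz => ?_⟩
  have h1 : irreducibleComponent x ⊆ closure {z} := by
    rw [← hξ]
    exact closure_minimal (by simpa using (show z ⤳ ξ from hz).mem_closure) isClosed_closure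
  have h2 : closure {z} = irreducibleComponent x :=
    eq_irreducibleComponent (isIrreducible_singleton.closure.isPreirreducible) h1
  exact hξ.specializes (h2 ▸ subset_closure rfl)

lemma closure_mem_irreducibleComponents {ξ : X} (h : IsMax ξ) :
    closure {ξ} ∈ irreducibleComponents X := by
  refine ⟨isIrreducible_singleton.closure, fun T hT hle => ?_⟩
  obtain ⟨z, hz⟩ := QuasiSober.sober hT.closure isClosed_closure
  have h1 : z ⤳ ξ := hz.specializes (subset_closure (hle (subset_closure rfl)))
  obtain rfl : z = ξ := isMax_iff.mp h z h1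
  exact hz.symm ▸ subset_closure

/-- On a Noetherian scheme there are only finitely many maximal points. -/
lemma finite_setOf_isMax [IsNoetherian X] : {ξ : X | IsMax ξ}.Finite := by
  refine Set.Finite.of_finite_image
    (f := fun ξ : X => closure ({ξ} : Set X))
    ((finite_irreducibleComponents_of_isNoetherian (X := X)).subset ?_) ?_
  · rintro _ ⟨ξ, hξ, rfl⟩
    exact closure_mem_irreducibleComponents hξ
  · intro a _ b _ hab
    exact ((isGenericPoint_closure (x := a)).eq (show closure {b} = closure {a} from hab.symm))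

/-- Every point of a locally Noetherian scheme has an open neighbourhood on which every maximal
generalization generalizes the point. -/
lemma exists_nhd_forall_isMax [IsLocallyNoetherian X] (x : X) :
    ∃ U : X.Opens, x ∈ U ∧ ∀ ξ : X, IsMax ξ → ξ ∈ U → ξ ⤳ x := by
  obtain ⟨_, ⟨V₀, hV, rfl⟩, hxV, -⟩ :=
    X.isBasis_affineOpens.exists_subset_of_mem_open (Set.mem_univ x) isOpen_univ
  let V : X.Opens := V₀
  have : IsNoetherian V.toScheme := by
    have : CompactSpace V.toScheme := isCompact_iff_compactSpace.mp hV.isCompact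
    exact {}
  let S : Set V.toScheme := {ξ | IsMax ξ ∧ ¬ V.ι ξ ⤳ x}
  have hS : S.Finite := finite_setOf_isMax.subset fun ξ h => h.1
  refine ⟨⟨(V : Set X) \ ⋃ ξ ∈ S, closure {V.ι ξ},
    V.isOpen.sdiff (hS.isClosed_biUnion fun _ _ => isClosed_closure)⟩, ⟨hxV, ?_⟩, ?_⟩
  · simp only [Set.mem_iUnion, not_exists]
    intro ξ hξ h
    exact hξ.2 (specializes_iff_mem_closure.mpr h)
  · rintro ξ hξ ⟨hξV, hξS⟩
    by_contra hne
    apply hξS
    simp only [Set.mem_iUnion]
    refine ⟨⟨ξ, hξV⟩, ⟨?_, hne⟩, subset_closure rfl⟩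
    intro z hz
    have : V.ι z = ξ := isMax_iff.mp hξ _ (hz.map V.ι.continuous)
    exact (le_of_eq (Subtype.ext this))

end Groth.Cycles
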