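import Groth.Prelude.Def_Cyc
import Groth.Agent.KTheory.Devissage
import Groth.Agent.CohTwo.PushStalkModule
import Groth.Agent.Cycles.DimFun
import Mathlib.AlgebraicGeometry.Morphisms.Finite

/-!
Lengths of stalks of coherent modules at the top dimensional points of their supports; direct images
along finite morphisms.
-/

universe u

set_option autoImplicit false

open CategoryTheory CategoryTheory.Limits AlgebraicGeometry TopologicalSpace

namespace Groth.Cycles

variable {X Y : Scheme.{u}}

lemma delta_le_of_deltaCompat {f : X ⟶ Y} {δX : X → ℤ} {δY : Y → ℤ} (h : Cyc.DeltaCompat f δX δY)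
    (x : X) : δY (f x) ≤ δX x := by
  obtain ⟨n, -, hn⟩ := h x
  omega

/-- If the support has `δ`-dimension at most `k`, stalks at points of dimension `k` have finite length. -/
lemma length_stalk_ne_top_of_le {δ : X → ℤ} (hX : Cyc.IsSetup X δ) {k : ℤ} {F : X.Modules}
    (hF : Coh.IsCoh F) (hdim : ∀ x : X, Nontrivial (F.presheaf.stalk x) → δ x ≤ k) (y : X)
    (hy : δ y = k) : Module.length (X.presheaf.stalk y) (F.presheaf.stalk y) ≠ ⊤ := by
  have := hX.1
  refine Groth.KTheory.Devissage.length_stalk_ne_top hF y fun z hz hzy => ?_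
  exact eq_of_specializes_of_delta_le hX.2.2 hzy
    (hy ▸ hdim z (not_subsingleton_iff_nontrivial.mp hz))

/-- The support of a direct image lies in any closed set containing the image of the support. -/
theorem subsingleton_stalk_push (f : X ⟶ Y) (M : X.Modules) {C : Set Y} (hC : IsClosed C)
    (hM : ∀ x : X, Nontrivial (M.presheaf.stalk x) → f x ∈ C) {y : Y} (hy : y ∉ C) :
    Subsingleton (((Scheme.Modules.pushforward f).obj M).presheaf.stalk y) := by
  refine subsingleton_of_forall_eq 0 fun t => ?_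
  obtain ⟨U, hU, s, rfl⟩ := Groth.QCohMod.exists_germ _ y t
  let V : Y.Opens := U ⊓ ⟨Cᶜ, hC.isOpen_compl⟩
  have : Subsingleton Γ((Scheme.Modules.pushforward f).obj M, V) := by
    refine subsingleton_of_forall_eq 0 fun (a : Γ(M, f ⁻¹ᵁ V)) => ?_
    refine TopCat.Presheaf.section_ext ⟨M.presheaf, M.isSheaf⟩ (f ⁻¹ᵁ V) _ _ fun z hz => ?_
    have : Subsingleton (M.presheaf.stalk z) :=
      not_nontrivial_iff_subsingleton.mp fun h => (show f z ∈ V from hz).2 (hM z h)
    exact Subsingleton.elim (α := M.presheaf.stalk z) _ _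
  rw [← Groth.QCohMod.germ_res _ (inf_le_left : V ≤ U) y ⟨hU, hy⟩ s,
    Subsingleton.elim (Groth.QCohMod.res _ (inf_le_left : V ≤ U) s) 0, map_zero]

/-- Direct images along finite morphisms preserve coherence. -/
theorem isCoh_push_of_isFinite (i : X ⟶ Y) [IsFinite i] {M : X.Modules} (hM : Coh.IsCoh M) :
    Coh.IsCoh ((Scheme.Modules.pushforward i).obj M) := by
  have := hM.1
  have := Groth.QCohMod.isQCoh_pushforward M i
  refine (Groth.QCohMod.isCoh_iff _).2 ⟨inferInstance, fun U hU => ?_⟩
  have hV : IsAffineOpen (i ⁻¹ᵁ U) := hU.preimage i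
  have := Groth.QCohMod.finite_sections M hM.2 hV
  algebraize [(i.app U).hom]
  have : Module.Finite Γ(Y, U) Γ(X, i ⁻¹ᵁ U) := IsFinite.finite_app i U hU
  letI : Module Γ(Y, U) Γ(M, i ⁻¹ᵁ U) := Module.compHom _ (i.app U).hom
  have : IsScalarTower Γ(Y, U) Γ(X, i ⁻¹ᵁ U) Γ(M, i ⁻¹ᵁ U) :=
    ⟨fun a b m => mul_smul ((i.app U).hom a) b m⟩
  have := Module.Finite.trans (R := Γ(Y, U)) Γ(X, i ⁻¹ᵁ U) Γ(M, i ⁻¹ᵁ U)
  exact Module.Finite.of_surjective
    ({ toFun := fun m => m, map_add' := fun _ _ => rfl, map_smul' := fun _ _ => rfl } :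
      Γ(M, i ⁻¹ᵁ U) →ₗ[Γ(Y, U)] Γ((Scheme.Modules.pushforward i).obj M, U)) fun m => ⟨m, rfl⟩

/-- Irreducible components of a closed subset of a locally Noetherian scheme form a locally finite family. -/
theorem locallyFinite_irreducibleComponents [IsLocallyNoetherian X] (S : Set X) :
    LocallyFinite (fun Z : irreducibleComponents S => ((↑) '' (Z : Set S) : Set X)) := by
  intro x
  obtain ⟨_, ⟨V₀, hV, rfl⟩, hxV, -⟩ :=
    X.isBasis_affineOpens.exists_subset_of_mem_open (Set.mem_univ x) isOpen_univ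
  let V : X.Opens := V₀
  refine ⟨V, V.isOpen.mem_nhds hxV, ?_⟩
  have : IsNoetherian V.toScheme := by
    have : CompactSpace V.toScheme := isCompact_iff_compactSpace.mp hV.isCompact
    exact {}
  let W : Set S := (↑) ⁻¹' (V : Set X)
  have hWo : IsOpen W := V.isOpen.preimage continuous_subtype_val
  let g : W → V.toScheme := fun w => (⟨w.1.1, w.2⟩ : V)
  have hg : Topology.IsInducing g := (V.ι.isOpenEmbedding.isInducing.of_comp_iff).mp
    (show Topology.IsInducing (fun w : W => (w.1.1 : X)) from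
      Topology.IsInducing.subtypeVal.comp Topology.IsInducing.subtypeVal)
  have : NoetherianSpace W := hg.noetherianSpace
  have hfin := (TopologicalSpace.NoetherianSpace.finite_irreducibleComponents (α := W)).image
    (fun C : Set W => closure ((↑) '' C : Set S))
  refine (hfin.preimage Subtype.val_injective.injOn).subset ?_
  rintro ⟨Z, hZ⟩ ⟨_, ⟨z, hz, rfl⟩, hzV⟩
  have hmeet : (Z ∩ Set.range ((↑) : W → S)).Nonempty := ⟨z, hz, ⟨⟨z, hzV⟩, rfl⟩⟩
  refine ⟨_, preimage_mem_irreducibleComponents hZ hWo.isOpenEmbedding_subtypeVal hmeet, ?_⟩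
  change closure ((↑) '' ((↑) ⁻¹' Z : Set W) : Set S) = Z
  rw [Set.image_preimage_eq_inter_range]
  exact (closure_minimal Set.inter_subset_left (isClosed_of_mem_irreducibleComponents Z hZ)).antisymm
    (subset_closure_inter_of_isPreirreducible_of_isOpen hZ.1.2
      hWo.isOpenEmbedding_subtypeVal.isOpen_range hmeet)

end Groth.Cycles
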