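import Groth.Prelude.Def_Cyc
import Groth.Agent.Cycles.DimFun
import Groth.Agent.Cycles.SheafCyc

/-!
Proper pushforward of cycles: coefficients and composites.
-/

universe u

set_option autoImplicit false

open CategoryTheory AlgebraicGeometry

namespace Groth.Cycles

variable {X Y Z : Scheme.{u}}

open Classical in
/-- The coefficient of a pushforward as a finite sum. -/
theorem map_apply_eq_sum (f : X ⟶ Y) [QuasiCompact f] (δX : X → ℤ) (δY : Y → ℤ) (c : AlgebraicCycle X ℤ)
    (y : Y) (s : Finset X) (hs : ∀ x, f x = y → c x ≠ 0 → x ∈ s) :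
    AlgebraicCycle.map f δX δY c y =
      ∑ x ∈ s, if f x = y then c x * (AlgebraicCycle.mapCoeff f δX δY x : ℤ) else 0 := by
  classical
  rw [AlgebraicCycle.map, Function.locallyFinsupp.map_apply,
    finsum_mem_eq_sum_of_inter_support_eq _ (t := s.filter fun x => f x = y)]
  · exact Finset.sum_filter _ _
  ext x
  simp only [Set.mem_inter_iff, Set.mem_preimage, Set.mem_singleton_iff, Function.mem_support, ne_eq,
    mul_eq_zero, not_or, Finset.coe_filter, Set.mem_setOf_eq]
  exact ⟨fun h => ⟨⟨hs x h.1 h.2.1, h.1⟩, h.2⟩, fun h => ⟨h.1.2, h.2⟩⟩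

theorem finite_preimage_inter_support (f : X ⟶ Y) [QuasiCompact f] (c : AlgebraicCycle X ℤ) (y : Y) :
    {x : X | f x = y ∧ c x ≠ 0}.Finite := by
  obtain ⟨_, ⟨V, hV, rfl⟩, hyV, -⟩ :=
    Y.isBasis_affineOpens.exists_subset_of_mem_open (Set.mem_univ y) isOpen_univ
  exact (c.locallyFiniteSupport.finite_inter_support_of_isCompact
    (f.isCompact_preimage hV.isCompact)).subset fun x hx => ⟨show f x ∈ V by rw [hx.1]; exact hyV, hx.2⟩

theorem residueDegree_comp (f : X ⟶ Y) (g : Y ⟶ Z) (x : X) :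
    (f ≫ g).residueDegree x = g.residueDegree (f x) * f.residueDegree x := by
  let := (f.residueFieldMap x).hom.toAlgebra
  let := (g.residueFieldMap (f x)).hom.toAlgebra
  let : Algebra (Z.residueField (g (f x))) (X.residueField x) :=
    ((g.residueFieldMap (f x)) ≫ f.residueFieldMap x).hom.toAlgebra
  have : IsScalarTower (Z.residueField (g (f x))) (Y.residueField (f x)) (X.residueField x) :=
    IsScalarTower.of_algebraMap_eq fun _ => rfl
  have h : (f ≫ g).residueDegree x = Module.finrank (Z.residueField (g (f x))) (X.residueField x) := by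
    unfold Scheme.Hom.residueDegree
    rw [Scheme.residueFieldMap_comp]
    rfl
  rw [h, ← Module.finrank_mul_finrank (Z.residueField (g (f x))) (Y.residueField (f x)) (X.residueField x)]
  rfl

theorem mapCoeff_comp (f : X ⟶ Y) (g : Y ⟶ Z) {δX : X → ℤ} {δY : Y → ℤ} {δZ : Z → ℤ}
    (hf : Cyc.DeltaCompat f δX δY) (hg : Cyc.DeltaCompat g δY δZ) (x : X) :
    AlgebraicCycle.mapCoeff (f ≫ g) δX δZ x =
      AlgebraicCycle.mapCoeff f δX δY x * AlgebraicCycle.mapCoeff g δY δZ (f x) := by
  have h1 := delta_le_of_deltaCompat hf x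
  have h2 := delta_le_of_deltaCompat hg (f x)
  simp only [AlgebraicCycle.mapCoeff, Scheme.Hom.comp_apply]
  by_cases h : δX x = δY (f x) ∧ δY (f x) = δZ (g (f x))
  · rw [if_pos (by omega), if_pos h.1, if_pos h.2, residueDegree_comp, mul_comm]
  · rw [if_neg (by omega)]
    rw [not_and_or] at h
    rcases h with h | h <;> simp [h]

/-- Functoriality of pushforward of cycles. -/
theorem map_map_eq (f : X ⟶ Y) (g : Y ⟶ Z) [QuasiCompact f] [QuasiCompact g] {δX : X → ℤ} {δY : Y → ℤ}
    {δZ : Z → ℤ} (hf : Cyc.DeltaCompat f δX δY) (hg : Cyc.DeltaCompat g δY δZ)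
    (α : AlgebraicCycle X ℤ) :
    AlgebraicCycle.map g δY δZ (AlgebraicCycle.map f δX δY α) = AlgebraicCycle.map (f ≫ g) δX δZ α := by
  classical
  ext z
  set s := (finite_preimage_inter_support (f ≫ g) α z).toFinset
  have hs : ∀ x, x ∈ s ↔ (g (f x) = z ∧ α x ≠ 0) := fun x => by simp [s]
  have hy : ∀ y, g y = z → AlgebraicCycle.map f δX δY α y =
      ∑ x ∈ s, if f x = y then α x * (AlgebraicCycle.mapCoeff f δX δY x : ℤ) else 0 := fun y hy =>
    map_apply_eq_sum f δX δY α y s fun x hx h => (hs x).mpr ⟨hx ▸ hy, h⟩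
  rw [map_apply_eq_sum g δY δZ _ z (s.image f) fun y hgy h => ?_,
    map_apply_eq_sum (f ≫ g) δX δZ α z s fun x hx h => (hs x).mpr ⟨hx, h⟩]
  · rw [← Finset.sum_fiberwise_of_maps_to (g := f) (t := s.image f)
      (fun x hx => Finset.mem_image_of_mem _ hx)]
    refine Finset.sum_congr rfl fun y hy' => ?_
    obtain ⟨x0, hx0, rfl⟩ := Finset.mem_image.mp hy'
    rw [if_pos ((hs x0).mp hx0).1, hy _ ((hs x0).mp hx0).1, Finset.sum_mul, Finset.sum_filter]
    refine Finset.sum_congr rfl fun x hx => ?_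
    by_cases e : f x = f x0
    · rw [if_pos e, if_pos e, if_pos (by simpa using ((hs x).mp hx).1), mapCoeff_comp f g hf hg, e]
      push_cast
      ring
    · rw [if_neg e, if_neg e, zero_mul]
  · rw [hy y hgy] at h
    obtain ⟨x, hx, hne⟩ := Finset.exists_ne_zero_of_sum_ne_zero h
    exact Finset.mem_image.mpr ⟨x, hx, (ite_ne_right_iff.mp hne).1⟩

end Groth.Cycles
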