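import Groth.Prelude.Def_Cyc
import Groth.Agent.Cycles.DimFun
import Groth.Agent.Variety2.DimScheme

/-!
On a Jacobson scheme a dimension function vanishing at closed points is the dimension of the closure.
-/

universe u

set_option autoImplicit false

open CategoryTheory AlgebraicGeometry Order TopologicalSpace

namespace Groth.Cycles

variable {X : Scheme.{u}} {δ : X → ℤ}

theorem length_le_delta_sub (hδ : Cyc.IsDimFun X δ) (p : LTSeries X) :
    (p.length : ℤ) ≤ δ p.last - δ p.head := by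
  have key : ∀ (i : ℕ) (hi : i < p.length + 1), (i : ℤ) ≤ δ (p ⟨i, hi⟩) - δ p.head := by
    intro i
    induction i with
    | zero =>
      intro hi
      have h0 : p ⟨0, hi⟩ = p.head := rfl
      rw [h0]
      simp
    | succ i ih =>
      intro hi
      have h1 := ih (by omega)
      have h2 := delta_strictMono hδ (p.step ⟨i, by omega⟩)
      simp only [Fin.succ_mk, Fin.castSucc_mk] at h2
      push_cast
      omega
  exact key p.length (Nat.lt_succ_self _)

theorem exists_series (hδ : Cyc.IsDimFun X δ) {c b : X} (h : c ≤ b) :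
    ∃ p : LTSeries X, p.head = c ∧ p.last = b ∧ (p.length : ℤ) = δ b - δ c ∧ ∀ i, c ≤ p i ∧ p i ≤ b := by
  suffices H : ∀ (n : ℕ) (c : X), c ≤ b → δ b ≤ δ c + n → ∃ p : LTSeries X, p.head = c ∧ p.last = b ∧
      (p.length : ℤ) = δ b - δ c from by
    obtain ⟨p, h1, h2, h3⟩ := H (δ b - δ c).toNat c h (by omega)
    exact ⟨p, h1, h2, h3, fun i => ⟨h1 ▸ LTSeries.head_le p i, h2 ▸ p.monotone (Fin.le_last i)⟩⟩
  intro n
  induction n with
  | zero =>
    intro c hc hn
    obtain rfl : b = c := eq_of_specializes_of_delta_le hδ hc (by simpa using hn)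
    exact ⟨RelSeries.singleton _ b, rfl, rfl, by simp⟩
  | succ n ih =>
    intro c hc hn
    rcases eq_or_ne c b with rfl | hne
    · exact ⟨RelSeries.singleton _ c, rfl, rfl, by simp⟩
    obtain ⟨z, hz, hzb⟩ := exists_covBy_le hδ (lt_iff_specializes.mpr ⟨hc, hne⟩)
    have hdz := delta_eq_of_covBy hδ hz
    obtain ⟨p, h1, h2, h3⟩ := ih z hzb (by push_cast at hn; omega)
    refine ⟨p.cons c (h1.symm ▸ hz.lt), RelSeries.head_cons .., (RelSeries.last_cons ..).trans h2, ?_⟩
    rw [RelSeries.cons_length]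
    push_cast
    omega

/-- The dimension of the interval between a point and a generalization. -/
theorem krullDim_interval (hδ : Cyc.IsDimFun X δ) {c b : X} (h : c ≤ b) :
    Order.krullDim {w : X // c ≤ w ∧ w ≤ b} = ((δ b - δ c).toNat : WithBot ℕ∞) := by
  have hle := delta_le_of_specializes hδ (h : b ⤳ c)
  refine le_antisymm (iSup_le fun p => ?_) ?_
  · have h1 := length_le_delta_sub hδ (p.map Subtype.val fun _ _ h => h)
    have h2 := delta_le_of_specializes hδ (p.last.2.2 : b ⤳ p.last.1)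
    have h3 := delta_le_of_specializes hδ (p.head.2.1 : p.head.1 ⤳ c)
    simp only [LTSeries.map_length, LTSeries.last_map, LTSeries.head_map] at h1
    exact_mod_cast (show p.length ≤ (δ b - δ c).toNat by omega)
  · obtain ⟨p, -, -, hl, hmem⟩ := exists_series hδ h
    let q : LTSeries {w : X // c ≤ w ∧ w ≤ b} := ⟨p.length, fun i => ⟨p i, hmem i⟩, fun i => p.step i⟩
    rw [show (δ b - δ c).toNat = q.length by change _ = p.length; omega]
    exact q.length_le_krullDim

theorem exists_closed_le [JacobsonSpace X] (ξ : X) : ∃ z : X, z ≤ ξ ∧ IsClosed ({z} : Set X) := by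
  obtain ⟨z, hz, hzc⟩ := nonempty_inter_closedPoints (Z := closure ({ξ} : Set X))
    ⟨ξ, subset_closure rfl⟩ isClosed_closure.isLocallyClosed
  exact ⟨z, specializes_iff_mem_closure.mpr hz, hzc⟩

theorem delta_nonneg_and_height [JacobsonSpace X] (hδ : Cyc.IsDimFun X δ)
    (h0 : ∀ x : X, IsClosed ({x} : Set X) → δ x = 0) (ξ : X) :
    0 ≤ δ ξ ∧ Order.height ξ = (δ ξ).toNat := by
  have hnn : ∀ w : X, 0 ≤ δ w := fun w => by
    obtain ⟨z, hz, hzc⟩ := exists_closed_le w
    have := delta_le_of_specializes hδ (hz : w ⤳ z)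
    rwa [h0 z hzc] at this
  refine ⟨hnn ξ, le_antisymm (Order.height_le fun p hp => ?_) ?_⟩
  · have := length_le_delta_sub hδ p
    have := hnn p.head
    rw [hp] at *
    exact_mod_cast (show p.length ≤ (δ ξ).toNat by omega)
  · obtain ⟨z, hz, hzc⟩ := exists_closed_le ξ
    obtain ⟨p, -, hlast, hl, -⟩ := exists_series hδ hz
    rw [h0 z hzc, sub_zero] at hl
    rw [show (δ ξ).toNat = p.length by omega, ← hlast]
    exact Order.length_le_height_last

/-- The local ring at `z` of the closure of `ξ` sees exactly the points between them. -/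
theorem ringKrullDim_locQuot (z ξ : X) (h : ξ ⤳ z) :
    ringKrullDim (Cyc.LocQuot z ξ h) = Order.krullDim {w : X // z ≤ w ∧ w ≤ ξ} := by
  let ψ := X.presheaf.stalkSpecializes h
  let P : PrimeSpectrum (X.presheaf.stalk z) := Spec.map ψ (IsLocalRing.closedPoint _)
  have hker : RingHom.ker (Cyc.specMap z ξ h) = P.asIdeal := by
    ext a
    exact Ideal.Quotient.eq_zero_iff_mem
  have hP : X.fromSpecStalk z P = ξ := by
    change (Spec.map ψ ≫ X.fromSpecStalk z) _ = ξ
    rw [Scheme.SpecMap_stalkSpecializes_fromSpecStalk]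
    exact Scheme.fromSpecStalk_closedPoint
  have hle : ∀ Q Q' : PrimeSpectrum (X.presheaf.stalk z),
      X.fromSpecStalk z Q ≤ X.fromSpecStalk z Q' ↔ Q' ≤ Q := fun Q Q' => by
    rw [Scheme.le_iff_specializes, (X.fromSpecStalk z).isEmbedding.toIsInducing.specializes_iff]
    exact (PrimeSpectrum.le_iff_specializes Q' Q).symm
  let F : (PrimeSpectrum.zeroLocus (R := X.presheaf.stalk z) (RingHom.ker (Cyc.specMap z ξ h) : Set _)) →
      {w : X // z ≤ w ∧ w ≤ ξ}ᵒᵈ := fun Q => OrderDual.toDual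
    ⟨X.fromSpecStalk z Q.1, Scheme.range_fromSpecStalk.le ⟨Q.1, rfl⟩,
      ((hle Q.1 P).mpr (show P.asIdeal ≤ Q.1.asIdeal from
        hker ▸ (PrimeSpectrum.mem_zeroLocus _ _).mp Q.2)).trans hP.le⟩
  have hbij : Function.Bijective F := by
    refine ⟨fun a b e => Subtype.ext ((X.fromSpecStalk z).isEmbedding.injective
      (congrArg (fun w : {w : X // z ≤ w ∧ w ≤ ξ}ᵒᵈ => (OrderDual.ofDual w).1) e)), fun w => ?_⟩
    obtain ⟨Q, hQ⟩ := Scheme.range_fromSpecStalk.ge (OrderDual.ofDual w).2.1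
    refine ⟨⟨Q, (PrimeSpectrum.mem_zeroLocus _ _).mpr ?_⟩, congrArg OrderDual.toDual (Subtype.ext hQ)⟩
    rw [hker]
    exact (hle Q P).mp (hQ.le.trans ((OrderDual.ofDual w).2.2.trans hP.ge))
  let e : (PrimeSpectrum.zeroLocus (R := X.presheaf.stalk z) (RingHom.ker (Cyc.specMap z ξ h) : Set _)) ≃o
      {w : X // z ≤ w ∧ w ≤ ξ}ᵒᵈ :=
    { Equiv.ofBijective F hbij with map_rel_iff' := fun {a b} => hle b.1 a.1 }
  rw [ringKrullDim_quotient, Order.krullDim_eq_of_orderIso e, Order.krullDim_orderDual]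

end Groth.Cycles
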