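import Groth.Prelude.Def_Cyc
import Groth.Agent.Cycles.DimJacobson
import Groth.Agent.FibreDim.DimensionFormulaScheme
import Groth.Agent.Misc6.Equidim
import Groth.Agent.PropsBasic2.Reduced
import Groth.Agent.S9126
import Groth.Agent.CohTwo.PushClosed

/-!
The dimension function induced on a scheme locally of finite type over a scheme with dimension function.
-/

universe u

set_option autoImplicit false

open CategoryTheory AlgebraicGeometry TopologicalSpace

namespace Groth.Cycles

variable {X Y Z : Scheme.{u}}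

/-- A closed immersion identifies the local dimension with the dimension of the interval. -/
theorem ringKrullDim_stalk_closedImmersion {δ : X → ℤ} (hδ : Cyc.IsDimFun X δ) [IrreducibleSpace Z]
    (i : Z ⟶ X) [IsClosedImmersion i] (z : Z) :
    ringKrullDim (Z.presheaf.stalk z) =
      ((δ (i (genericPoint Z)) - δ (i z)).toNat : WithBot ℕ∞) := by
  rw [← krullDim_interval hδ (c := i z) (b := i (genericPoint Z))
    ((genericPoint_specializes z).map i.continuous), ringKrullDim_stalk_eq_coheight,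
    Order.coheight_eq_krullDim_Ici]
  have hle : ∀ a b : Z, i a ≤ i b ↔ a ≤ b := fun a b => by
    simp only [Scheme.le_iff_specializes]
    exact i.isEmbedding.toIsInducing.specializes_iff
  let F : Set.Ici z → {w : X // i z ≤ w ∧ w ≤ i (genericPoint Z)} := fun w =>
    ⟨i w.1, (hle _ _).mpr w.2, (genericPoint_specializes w.1).map i.continuous⟩
  have hbij : Function.Bijective F := by
    refine ⟨fun a b e => Subtype.ext (i.isEmbedding.injective (congrArg Subtype.val e)), fun w => ?_⟩
    obtain ⟨v, hv⟩ : w.1 ∈ Set.range i := by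
      refine i.isClosedEmbedding.isClosed_range.closure_subset ?_
      exact closure_mono (Set.singleton_subset_iff.mpr (Set.mem_range_self (genericPoint Z)))
        (specializes_iff_mem_closure.mp (show i (genericPoint Z) ⤳ w.1 from w.2.2))
    exact ⟨⟨v, (hle _ _).mp (hv ▸ w.2.1)⟩, Subtype.ext hv⟩
  exact Order.krullDim_eq_of_orderIso { Equiv.ofBijective F hbij with map_rel_iff' := fun {a b} => hle a.1 b.1 }

theorem relTrdeg_preimmersion_comp (f : X ⟶ Y) (j : Y ⟶ Z) [IsPreimmersion j] (x : X) :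
    Groth.Variety2.Dim.relTrdeg (f ≫ j) x = Groth.Variety2.Dim.relTrdeg f x := by
  let := (f.residueFieldMap x).hom.toAlgebra
  let := (j.residueFieldMap (f x)).hom.toAlgebra
  let : Algebra (Z.residueField (j (f x))) (X.residueField x) :=
    (j.residueFieldMap (f x) ≫ f.residueFieldMap x).hom.toAlgebra
  have : IsScalarTower (Z.residueField (j (f x))) (Y.residueField (f x)) (X.residueField x) :=
    IsScalarTower.of_algebraMap_eq fun _ => rfl
  have : Algebra.IsAlgebraic (Z.residueField (j (f x))) (Y.residueField (f x)) := ⟨fun b => by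
    obtain ⟨a, rfl⟩ := Groth.Variety2.Dim.residueFieldMap_surjective j (f x) b
    exact isAlgebraic_algebraMap a⟩
  have h : Groth.Variety2.Dim.relTrdeg (f ≫ j) x =
      Algebra.trdeg (Z.residueField (j (f x))) (X.residueField x) := by
    unfold Groth.Variety2.Dim.relTrdeg
    rw [Scheme.residueFieldMap_comp]
    rfl
  have h0 := trdeg_add_eq (Z.residueField (j (f x))) (Y.residueField (f x)) (A := X.residueField x)
  rw [trdeg_eq_zero, zero_add] at h0
  rw [h, ← h0]
  rfl

theorem closure_scheme (ξ : X) :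
    ∃ (W : Scheme.{u}) (i : W ⟶ X) (_ : IsClosedImmersion i) (_ : IsReduced W) (_ : IrreducibleSpace W),
      Set.range i = closure {ξ} ∧ i (genericPoint W) = ξ := by
  let S : Closeds X := ⟨closure {ξ}, isClosed_closure⟩
  let i := (Scheme.IdealSheafData.vanishingIdeal S).subschemeι
  have hr : Set.range i = closure {ξ} := Groth.PropsBasic2.range_vanishingIdeal_subschemeι S
  have := Groth.CohTwo.isIntegral_closure_subscheme (ξ := ξ) (Y := S) rfl
  exact ⟨_, i, inferInstance, inferInstance, inferInstance, hr, Groth.CohTwo.apply_genericPoint_eq i hr⟩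

/-- The dimension formula in terms of dimension functions: the drop of the induced function along a
specialization is the dimension of the local ring of the closure. -/
theorem exists_drop_eq_dim (f : X ⟶ Y) [LocallyOfFiniteType f] {δ : Y → ℤ} (hY : Cyc.IsSetup Y δ)
    {δX : X → ℤ} (hδ : Cyc.DeltaCompat f δX δ) {ξ x : X} (h : ξ ⤳ x) :
    ∃ n : ℕ, δX ξ - δX x = n ∧ Order.krullDim {w : X // x ≤ w ∧ w ≤ ξ} = n := by
  have := hY.1
  obtain ⟨Z, i, _, _, _, hir, hiξ⟩ := closure_scheme ξ
  obtain ⟨Y', j, _, _, _, hjr, hjη⟩ := closure_scheme (f ξ)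
  have : IsLocallyNoetherian Y' := LocallyOfFiniteType.isLocallyNoetherian j
  obtain ⟨f', hf'⟩ := Groth.PropsBasic2.exists_lift_of_isReduced (i ≫ f) j (by
    rw [hjr]
    rintro _ ⟨z, rfl⟩
    rw [← specializes_iff_mem_closure, ← hiξ, Scheme.Hom.comp_apply]
    exact ((genericPoint_specializes z).map i.continuous).map f.continuous)
  have hw : ∀ z, j (f' z) = f (i z) := fun z => by
    rw [← Scheme.Hom.comp_apply, hf', Scheme.Hom.comp_apply]
  have hgen : f' (genericPoint Z) = genericPoint Y' :=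
    j.isEmbedding.injective (by rw [hw, hiξ, hjη])
  have : IsDominant f' := ⟨dense_iff_closure_eq.mpr (Set.eq_univ_of_univ_subset
    ((genericPoint_spec Y').def.symm.subset.trans
      (closure_mono (Set.singleton_subset_iff.mpr ⟨_, hgen⟩))))⟩
  have : LocallyOfFiniteType f' := by
    have : LocallyOfFiniteType (f' ≫ j) := hf' ▸ inferInstance
    exact locallyOfFiniteType_of_comp f' j
  obtain ⟨z, hz⟩ : x ∈ Set.range i := hir.ge (specializes_iff_mem_closure.mp h)
  obtain ⟨t, t₀, ht, -, ht₀, -, -, heq⟩ := Groth.FibreDim.exists_dim_formula f' z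
  have huc : CAlg.IsUniversallyCatenary (Y'.presheaf.stalk (f' z)) := by
    let := (j.stalkMap (f' z)).hom.toAlgebra
    have : Algebra.FiniteType (Y.presheaf.stalk (j (f' z))) (Y'.presheaf.stalk (f' z)) :=
      RingHom.finiteType_algebraMap.mp (RingHom.FiniteType.of_surjective _ (j.stalkMap_surjective _))
    exact Groth.Agent.S9126.result _ _ (hY.2.1 (j (f' z)))
  have htr : ∀ w : Z, Groth.Variety2.Dim.relTrdeg f' w = Groth.Variety2.Dim.relTrdeg f (i w) := fun w => by
    rw [← relTrdeg_preimmersion_comp f' j w, hf', Groth.Misc6.Equidim.relTrdeg_comp_preimmersion]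
  obtain ⟨a, ha, ha'⟩ := hδ ξ
  obtain ⟨b, hb, hb'⟩ := hδ x
  have hat : a = t₀ := by
    have : Groth.Variety2.Dim.relTrdeg f ξ = a := ha
    rw [← hiξ, ← htr, ht₀, Nat.cast_inj] at this
    exact this.symm
  have hbt : b = t := by
    have : Groth.Variety2.Dim.relTrdeg f x = b := hb
    rw [← hz, ← htr, ht, Nat.cast_inj] at this
    exact this.symm
  have hdim : ringKrullDim (Z.presheaf.stalk z) = Order.krullDim {w : X // x ≤ w ∧ w ≤ ξ} := by
    have hle : ∀ a b : Z, i a ≤ i b ↔ a ≤ b := fun a b => by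
      simp only [Scheme.le_iff_specializes]
      exact i.isEmbedding.toIsInducing.specializes_iff
    let F : Set.Ici z → {w : X // x ≤ w ∧ w ≤ ξ} := fun w =>
      ⟨i w.1, hz ▸ (hle _ _).mpr w.2, hiξ ▸ (genericPoint_specializes w.1).map i.continuous⟩
    have hbij : Function.Bijective F := by
      refine ⟨fun a b e => Subtype.ext (i.isEmbedding.injective (congrArg Subtype.val e)), fun w => ?_⟩
      obtain ⟨v, hv⟩ : w.1 ∈ Set.range i :=
        hir.ge (specializes_iff_mem_closure.mp (show ξ ⤳ w.1 from w.2.2))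
      exact ⟨⟨v, (hle _ _).mp (hz.le.trans (w.2.1.trans hv.ge))⟩, Subtype.ext hv⟩
    rw [ringKrullDim_stalk_eq_coheight, Order.coheight_eq_krullDim_Ici]
    exact Order.krullDim_eq_of_orderIso
      { Equiv.ofBijective F hbij with map_rel_iff' := fun {a b} => hle a.1 b.1 }
  have hY' := ringKrullDim_stalk_closedImmersion hY.2.2 j (f' z)
  rw [hjη, hw, hz] at hY'
  have e := heq huc
  change _ = ringKrullDim (Y'.presheaf.stalk (f' z)) + _ at e
  rw [hY', hdim] at e
  have hd := delta_le_of_specializes hY.2.2 (h.map f.continuous)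
  generalize Order.krullDim {w : X // x ≤ w ∧ w ≤ ξ} = D at e ⊢
  have h2 : D + (t : WithBot ℕ∞) = (((δ (f ξ) - δ (f x)).toNat + t₀ : ℕ) : WithBot ℕ∞) := by
    rw [e]; push_cast; rfl
  cases D with
  | bot => exact (WithBot.natCast_ne_bot _ ((WithBot.bot_add _).symm.trans h2).symm).elim
  | coe D =>
    have h3 : D + (t : ℕ∞) = (((δ (f ξ) - δ (f x)).toNat + t₀ : ℕ) : ℕ∞) := WithBot.coe_injective h2
    cases D with
    | top => exact (ENat.natCast_ne_top _ ((top_add _).symm.trans h3).symm).elim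
    | coe n =>
      have h4 : n + t = (δ (f ξ) - δ (f x)).toNat + t₀ := by exact_mod_cast h3
      exact ⟨n, by omega, rfl⟩

theorem isDimFun_of_deltaCompat (f : X ⟶ Y) [LocallyOfFiniteType f] {δ : Y → ℤ} (hY : Cyc.IsSetup Y δ)
    {δX : X → ℤ} (hδ : Cyc.DeltaCompat f δX δ) : Cyc.IsDimFun X δX := by
  intro x y hxy hne
  obtain ⟨n, hn, hk⟩ := exists_drop_eq_dim f hY hδ hxy
  have hlt : (⟨y, le_rfl, hxy⟩ : {w : X // y ≤ w ∧ w ≤ x}) < ⟨x, hxy, le_rfl⟩ :=
    lt_iff_specializes.mpr ⟨hxy, hne.symm⟩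
  have h1 : ((1 : ℕ) : WithBot ℕ∞) ≤ n := by
    rw [← hk]
    let p : LTSeries {w : X // y ≤ w ∧ w ≤ x} :=
      LTSeries.mk 1 ![⟨y, le_rfl, hxy⟩, ⟨x, hxy, le_rfl⟩]
        (Fin.strictMono_iff_lt_succ.mpr fun i => by fin_cases i; exact hlt)
    exact Order.LTSeries.length_le_krullDim p
  have h1' : 1 ≤ n := by exact_mod_cast h1
  refine ⟨by omega, fun himm => ?_⟩
  have hn1 : n ≤ 1 := by
    have hk1 : Order.krullDim {w : X // y ≤ w ∧ w ≤ x} ≤ ((1 : ℕ) : WithBot ℕ∞) := by
      refine iSup_le fun p => ?_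
      by_contra hp
      have hp2 : 2 ≤ p.length := by
        have : ¬ p.length ≤ 1 := fun h => hp (by exact_mod_cast h)
        omega
      have a1 : p ⟨0, by omega⟩ < p ⟨1, by omega⟩ := p.strictMono (Fin.mk_lt_mk.mpr (by omega))
      have a2 : p ⟨1, by omega⟩ < p ⟨2, by omega⟩ := p.strictMono (Fin.mk_lt_mk.mpr (by omega))
      rcases himm (p ⟨1, by omega⟩).1 (p ⟨1, by omega⟩).2.2 (p ⟨1, by omega⟩).2.1 with e | e
      · exact (show (p ⟨1, by omega⟩).1 < x from lt_of_lt_of_le a2 (p ⟨2, by omega⟩).2.2).ne e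
      · exact (show y < (p ⟨1, by omega⟩).1 from lt_of_le_of_lt (p ⟨0, by omega⟩).2.1 a1).ne e.symm
    rw [hk] at hk1
    exact_mod_cast hk1
  omega

end Groth.Cycles
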