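import Groth.Prelude.Def_Cyc
import Groth.Agent.Cycles.DimFun
import Groth.Agent.Cycles.DimJacobson
import Mathlib.RingTheory.TensorProduct.Basic

/-!
Primes of a local ring of a scheme as generalizations.
-/

universe u

set_option autoImplicit false
set_option linter.style.haveILetI false

open CategoryTheory AlgebraicGeometry IsLocalRing

namespace Groth.Cycles

variable {X : Scheme.{u}}

/-- The prime of `O_{X,x}` of a generalization. -/
noncomputable def genPrime {x ξ : X} (h : ξ ⤳ x) : PrimeSpectrum (X.presheaf.stalk x) :=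
  Spec.map (X.presheaf.stalkSpecializes h) (closedPoint _)

theorem genPrime_asIdeal {x ξ : X} (h : ξ ⤳ x) :
    (genPrime h).asIdeal = RingHom.ker (Cyc.specMap x ξ h) := by
  ext a
  show X.presheaf.stalkSpecializes h a ∈ maximalIdeal _ ↔ _
  rw [← IsLocalRing.residue_eq_zero_iff]
  rfl

theorem fromSpecStalk_genPrime {x ξ : X} (h : ξ ⤳ x) : X.fromSpecStalk x (genPrime h) = ξ := by
  change (Spec.map (X.presheaf.stalkSpecializes h) ≫ X.fromSpecStalk x) _ = ξ
  rw [Scheme.SpecMap_stalkSpecializes_fromSpecStalk]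
  exact Scheme.fromSpecStalk_closedPoint

theorem genPrime_fromSpecStalk {x : X} (Q : PrimeSpectrum (X.presheaf.stalk x))
    (h : X.fromSpecStalk x Q ⤳ x) : genPrime h = Q :=
  (X.fromSpecStalk x).isEmbedding.injective (fromSpecStalk_genPrime h)

theorem genPrime_mem_minimalPrimes_iff {x ξ : X} (h : ξ ⤳ x) :
    (genPrime h).asIdeal ∈ minimalPrimes (X.presheaf.stalk x) ↔ ∀ z : X, z ⤳ ξ → z = ξ := by
  constructor
  · intro hmin z hz
    obtain ⟨P, rfl⟩ : z ∈ Set.range (X.fromSpecStalk x) := Scheme.range_fromSpecStalk.ge (hz.trans h)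
    have hle : P.asIdeal ≤ (genPrime h).asIdeal := (PrimeSpectrum.le_iff_specializes P (genPrime h)).mpr
      ((X.fromSpecStalk x).isEmbedding.toIsInducing.specializes_iff.mp (by rwa [fromSpecStalk_genPrime]))
    conv_rhs => rw [← fromSpecStalk_genPrime h]
    rw [show P = genPrime h from PrimeSpectrum.ext (le_antisymm hle (hmin.2 ⟨P.isPrime, bot_le⟩ hle))]
  · intro hmax
    refine ⟨⟨inferInstance, bot_le⟩, fun q hq hle => ?_⟩
    let P : PrimeSpectrum (X.presheaf.stalk x) := ⟨q, hq.1⟩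
    have hs : X.fromSpecStalk x P ⤳ ξ := by
      conv_rhs => rw [← fromSpecStalk_genPrime h]
      exact ((PrimeSpectrum.le_iff_specializes P (genPrime h)).mp hle).map (X.fromSpecStalk x).continuous
    have : P = genPrime h := (X.fromSpecStalk x).isEmbedding.injective (by
      rw [hmax _ hs, fromSpecStalk_genPrime])
    exact (congrArg PrimeSpectrum.asIdeal this).ge

/-- The local ring at a generalization is a localization. -/
theorem isLocalization_stalkSpecializes {x ξ : X} (h : ξ ⤳ x) :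
    letI := (X.presheaf.stalkSpecializes h).hom.toAlgebra
    IsLocalization.AtPrime (X.presheaf.stalk ξ) (genPrime h).asIdeal := by
  obtain ⟨_, ⟨V, hV, rfl⟩, hxV, -⟩ :=
    X.isBasis_affineOpens.exists_subset_of_mem_open (Set.mem_univ x) isOpen_univ
  have hξV : ξ ∈ (V : X.Opens) := h.mem_open V.2 hxV
  letI := (X.presheaf.stalkSpecializes h).hom.toAlgebra
  letI a1 : Algebra Γ(X, V) (X.presheaf.stalk x) := (X.presheaf.germ V x hxV).hom.toAlgebra
  letI a2 : Algebra Γ(X, V) (X.presheaf.stalk ξ) := (X.presheaf.germ V ξ hξV).hom.toAlgebra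
  have : IsScalarTower Γ(X, V) (X.presheaf.stalk x) (X.presheaf.stalk ξ) :=
    IsScalarTower.of_algebraMap_eq fun s => (X.presheaf.germ_stalkSpecializes_apply hxV h s).symm
  have lx : IsLocalization.AtPrime (X.presheaf.stalk x) (hV.primeIdealOf ⟨x, hxV⟩).asIdeal :=
    hV.isLocalization_stalk ⟨x, hxV⟩
  have lξ : IsLocalization.AtPrime (X.presheaf.stalk ξ) (hV.primeIdealOf ⟨ξ, hξV⟩).asIdeal :=
    hV.isLocalization_stalk ⟨ξ, hξV⟩
  have hpξ : ∀ a : Γ(X, V), a ∈ (hV.primeIdealOf ⟨ξ, hξV⟩).asIdeal ↔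
      algebraMap Γ(X, V) (X.presheaf.stalk x) a ∈ (genPrime h).asIdeal := by
    intro a
    rw [IsAffineOpen.primeIdealOf_eq_map_closedPoint]
    show (X.presheaf.germ V ξ hξV).hom a ∈ maximalIdeal _ ↔ (X.presheaf.stalkSpecializes h).hom
      ((X.presheaf.germ V x hxV).hom a) ∈ maximalIdeal _
    rw [X.presheaf.germ_stalkSpecializes_apply hxV h a]
  have hMN : (hV.primeIdealOf ⟨x, hxV⟩).asIdeal.primeCompl ≤ (hV.primeIdealOf ⟨ξ, hξV⟩).asIdeal.primeCompl := by
    intro a ha ha'
    have h1 : IsUnit (algebraMap Γ(X, V) (X.presheaf.stalk x) a) :=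
      IsLocalization.map_units (X.presheaf.stalk x) (⟨a, ha⟩ : (hV.primeIdealOf ⟨x, hxV⟩).asIdeal.primeCompl)
    exact (genPrime h).isPrime.ne_top (Ideal.eq_top_of_isUnit_mem _ ((hpξ a).mp ha') h1)
  have h0 := IsLocalization.isLocalization_of_submonoid_le (X.presheaf.stalk x) (X.presheaf.stalk ξ)
    _ _ hMN
  refine IsLocalization.of_le_of_exists_dvd
    (M := (hV.primeIdealOf ⟨ξ, hξV⟩).asIdeal.primeCompl.map (algebraMap Γ(X, V) (X.presheaf.stalk x))) _ ?_ ?_
  · rintro _ ⟨a, ha, rfl⟩ ha'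
    exact ha ((hpξ a).mpr ha')
  · intro b hb
    obtain ⟨⟨a, m⟩, ham⟩ := IsLocalization.surj (hV.primeIdealOf ⟨x, hxV⟩).asIdeal.primeCompl b
    refine ⟨algebraMap Γ(X, V) _ a, ⟨a, fun ha => ?_, rfl⟩, ⟨algebraMap Γ(X, V) _ m, ham.symm⟩⟩
    rcases (genPrime h).isPrime.mem_or_mem (show b * algebraMap Γ(X, V) _ m ∈ (genPrime h).asIdeal from
      ham ▸ (hpξ a).mp ha) with h1 | h1
    · exact hb h1
    · exact hMN m.2 ((hpξ m).mpr h1)

theorem length_stalk_eq {x ξ : X} (h : ξ ⤳ x) :
    Module.length (Localization.AtPrime (genPrime h).asIdeal)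
      (LocalizedModule (genPrime h).asIdeal.primeCompl (X.presheaf.stalk x)) =
      Module.length (X.presheaf.stalk ξ) (X.presheaf.stalk ξ) := by
  letI := (X.presheaf.stalkSpecializes h).hom.toAlgebra
  have := isLocalization_stalkSpecializes h
  rw [((LocalizedModule.equivTensorProduct (genPrime h).asIdeal.primeCompl (X.presheaf.stalk x)).trans
    (TensorProduct.AlgebraTensorModule.rid (X.presheaf.stalk x) (Localization.AtPrime (genPrime h).asIdeal)
      (Localization.AtPrime (genPrime h).asIdeal))).length_eq]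
  let e : Localization.AtPrime (genPrime h).asIdeal ≃ₐ[X.presheaf.stalk x] X.presheaf.stalk ξ :=
    IsLocalization.algEquiv (genPrime h).asIdeal.primeCompl _ _
  let : Algebra (Localization.AtPrime (genPrime h).asIdeal) (X.presheaf.stalk ξ) := e.toRingEquiv.toRingHom.toAlgebra
  rw [← Module.length_eq_of_surjective (R := X.presheaf.stalk ξ)
    (S := Localization.AtPrime (genPrime h).asIdeal) (M := X.presheaf.stalk ξ) e.surjective]
  exact (AlgEquiv.ofBijective (Algebra.ofId (Localization.AtPrime (genPrime h).asIdeal) (X.presheaf.stalk ξ))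
    e.bijective).toLinearEquiv.length_eq

theorem isFractionRing_locQuot {x ξ : X} (h : ξ ⤳ x) :
    IsFractionRing (Cyc.LocQuot x ξ h) (X.residueField ξ) := by
  letI := (X.presheaf.stalkSpecializes h).hom.toAlgebra
  have := isLocalization_stalkSpecializes h
  have hinj : Function.Injective (algebraMap (Cyc.LocQuot x ξ h) (X.residueField ξ)) :=
    RingHom.lift_injective_of_ker_le_ideal _ _ le_rfl
  have : FaithfulSMul (Cyc.LocQuot x ξ h) (X.residueField ξ) :=
    (faithfulSMul_iff_algebraMap_injective _ _).mpr hinj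
  refine IsFractionRing.of_field (Cyc.LocQuot x ξ h) (X.residueField ξ) fun z => ?_
  obtain ⟨w, rfl⟩ := X.residue_surjective ξ z
  obtain ⟨⟨a, s⟩, hw⟩ := IsLocalization.surj (genPrime h).asIdeal.primeCompl w
  refine ⟨Ideal.Quotient.mk _ a, Ideal.Quotient.mk _ s.1, ?_⟩
  have hs : Cyc.specMap x ξ h s.1 ≠ 0 := fun h0 => s.2 (by
    show s.1 ∈ (genPrime h).asIdeal
    exact (genPrime_asIdeal h).ge h0)
  symm
  show Cyc.specMap x ξ h a / Cyc.specMap x ξ h s.1 = _
  rw [div_eq_iff hs]
  show X.residue ξ (X.presheaf.stalkSpecializes h a) = X.residue ξ w * X.residue ξ (X.presheaf.stalkSpecializes h s.1)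
  rw [← map_mul]
  exact congrArg (X.residue ξ) hw.symm

end Groth.Cycles
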