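import Groth.Agent.Cycles.NormLocal
import Groth.Prelude.Def_Cyc
import Mathlib.AlgebraicGeometry.FunctionField
import Mathlib.AlgebraicGeometry.Morphisms.Finite

/-!
Orders of norms along a finite morphism of integral schemes.
-/

universe u

set_option autoImplicit false
set_option linter.style.haveILetI false

open CategoryTheory AlgebraicGeometry IsLocalRing

namespace Groth.Cycles

variable {X Y : Scheme.{u}}

theorem toNat_length_eq_finrank (k M : Type u) [Field k] [AddCommGroup M] [Module k M] :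
    (Module.length k M).toNat = Module.finrank k M := by
  by_cases h : Module.Finite k M
  · rw [Module.length_eq_finrank]; simp
  · rw [Module.finrank_of_not_finite h]
    by_cases hl : Module.length k M = ⊤
    · rw [hl]; rfl
    · have hN : IsNoetherian k M := (isFiniteLength_iff_isNoetherian_isArtinian.mp (Module.length_ne_top_iff.mp hl)).1
      exact absurd (inferInstance : Module.Finite k M) h

theorem specMap_germ {x ξ : X} (h : ξ ⤳ x) (U : X.Opens) (hx : x ∈ U) (s : Γ(X, U)) :
    Cyc.specMap x ξ h (X.presheaf.germ U x hx s) = X.residue ξ (X.presheaf.germ U ξ (h.mem_open U.2 hx) s) := by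
  show (X.presheaf.stalkSpecializes h ≫ X.residue ξ).hom _ = _
  simp only [CommRingCat.comp_apply]
  rw [TopCat.Presheaf.germ_stalkSpecializes_apply]

theorem residue_generic_bijective [IsIntegral X] {ξ : X} (hξ : ξ = genericPoint X) :
    Function.Bijective (X.residue ξ) := by
  subst hξ
  exact Groth.RefRank.residue_gen_bijective

theorem specMap_injective [IsIntegral X] {ξ : X} (hξ : ξ = genericPoint X) (x : X) (h : ξ ⤳ x) :
    Function.Injective (Cyc.specMap x ξ h) := by
  subst hξ
  exact Groth.RefRank.residue_gen_bijective.1.comp (Groth.RefRank.rspec_gen_injective x)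

theorem isFractionRing_residue_comp [IsIntegral X] {ξ : X} (hξ : ξ = genericPoint X) (U : X.Opens)
    (hU : IsAffineOpen U) (hm : ξ ∈ U) :
    letI := ((X.residue ξ).hom.comp (X.presheaf.germ U ξ hm).hom).toAlgebra
    IsFractionRing Γ(X, U) (X.residueField ξ) := by
  subst hξ
  have : Nonempty U := ⟨⟨_, hm⟩⟩
  have : Nonempty U.toScheme := ⟨⟨_, hm⟩⟩
  have := functionField_isFractionRing_of_isAffineOpen X U hU
  letI := ((X.residue (genericPoint X)).hom.comp (X.presheaf.germ U (genericPoint X) hm).hom).toAlgebra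
  exact IsLocalization.isLocalization_of_algEquiv (nonZeroDivisors Γ(X, U)) (S := X.functionField)
    (P := X.residueField (genericPoint X))
    (AlgEquiv.ofBijective { toRingHom := (X.residue (genericPoint X)).hom, commutes' := fun _ => rfl }
      Groth.RefRank.residue_gen_bijective)

theorem isFractionRing_stalk_residue [IsIntegral X] {ξ : X} (hξ : ξ = genericPoint X) (x : X) (h : ξ ⤳ x) :
    letI := (Cyc.specMap x ξ h).toAlgebra
    IsFractionRing (X.presheaf.stalk x) (X.residueField ξ) := by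
  subst hξ
  letI := (Cyc.specMap x (genericPoint X) h).toAlgebra
  exact IsLocalization.isLocalization_of_algEquiv (nonZeroDivisors (X.presheaf.stalk x)) (S := X.functionField)
    (P := X.residueField (genericPoint X))
    (AlgEquiv.ofBijective { toRingHom := (X.residue (genericPoint X)).hom, commutes' := fun _ => rfl }
      Groth.RefRank.residue_gen_bijective)

theorem ordAt_generic_eq_ordFrac [IsIntegral X] [IsLocallyNoetherian X] {ξ : X} (hξ : ξ = genericPoint X)
    (x : X) (h : ξ ⤳ x) (hd : Ring.KrullDimLE 1 (X.presheaf.stalk x)) (f : X.residueField ξ) :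
    letI := (Cyc.specMap x ξ h).toAlgebra
    Cyc.ordAt x ξ h f = CycAlg.ordFrac (X.presheaf.stalk x) (X.residueField ξ) f := by
  letI := (Cyc.specMap x ξ h).toAlgebra
  have := isFractionRing_stalk_residue hξ x h
  refine Groth.RefRank.ordFrac_transport (A := X.presheaf.stalk x) (K := X.residueField ξ)
    (Ideal.Quotient.mk (RingHom.ker (Cyc.specMap x ξ h)))
    ⟨(RingHom.injective_iff_ker_eq_bot _).mpr (by
      rw [Ideal.mk_ker, ← RingHom.injective_iff_ker_eq_bot]; exact specMap_injective hξ x h),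
      Ideal.Quotient.mk_surjective⟩
    (RingHom.id _) Function.bijective_id (fun a => rfl) f

theorem finite_app_of_isFinite_restrict (p : X ⟶ Y) (V : Y.Opens) (hV : IsAffineOpen V)
    (hfin : IsFinite (p ∣_ V)) : IsAffineOpen (p ⁻¹ᵁ V) ∧ (p.app V).hom.Finite := by
  have : IsAffine V.toScheme := hV
  have : IsAffine (p ⁻¹ᵁ V).toScheme := isAffine_of_isAffineHom (p ∣_ V)
  refine ⟨this, ?_⟩
  have key : ∀ (V' : Y.Opens) (U' : X.Opens) (e : U' ≤ p ⁻¹ᵁ V'), V' = V → U' = p ⁻¹ᵁ V →
      (p.appLE V' U' e).hom.Finite → (p.app V).hom.Finite := by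
    intro V' U' e h1 h2 h3
    subst h1 h2
    rwa [Scheme.Hom.appLE_eq_app] at h3
  have h := IsFinite.finite_app (f := p ∣_ V) ⊤ (isAffineOpen_top V.toScheme)
  rw [morphismRestrict_app'] at h
  exact key _ _ _ (V.ι_image_top) (by rw [Scheme.Hom.preimage_top, Scheme.Opens.ι_image_top]) h

theorem toNat_length_residueField (p : X ⟶ Y) (x : X) (y : Y) (hxy : p x = y) :
    letI := ((p.stalkMap x).hom.comp (Y.presheaf.stalkSpecializes (specializes_of_eq hxy)).hom).toAlgebra
    (Module.length (Y.presheaf.stalk y) (ResidueField (X.presheaf.stalk x))).toNat = p.residueDegree x := by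
  subst hxy
  letI a1 := ((p.stalkMap x).hom.comp (Y.presheaf.stalkSpecializes (specializes_of_eq (rfl : p x = p x))).hom).toAlgebra
  letI a2 : Algebra (Y.residueField (p x)) (ResidueField (X.presheaf.stalk x)) := (p.residueFieldMap x).hom.toAlgebra
  letI a3 : Algebra (Y.presheaf.stalk (p x)) (Y.residueField (p x)) := (Y.residue (p x)).hom.toAlgebra
  have : IsScalarTower (Y.presheaf.stalk (p x)) (Y.residueField (p x)) (ResidueField (X.presheaf.stalk x)) := by
    refine IsScalarTower.of_algebraMap_eq fun a => ?_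
    show IsLocalRing.residue _ ((p.stalkMap x).hom ((Y.presheaf.stalkSpecializes _).hom a)) =
      (p.residueFieldMap x).hom (IsLocalRing.residue _ a)
    rw [TopCat.Presheaf.stalkSpecializes_refl]
    rfl
  rw [Module.length_eq_of_surjective (R := Y.residueField (p x)) (S := Y.presheaf.stalk (p x))
    (M := ResidueField (X.presheaf.stalk x)) (Y.residue_surjective (p x)), toNat_length_eq_finrank]
  rfl

theorem ordAt_normGen_eq_finsum [IsIntegral X] [IsIntegral Y] [IsLocallyNoetherian X] [IsLocallyNoetherian Y]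
    (p : X ⟶ Y) (ξ : X) (hξ : ξ = genericPoint X) (hη : p ξ = genericPoint Y) (V : Y.Opens)
    (hV : IsAffineOpen V) (hfinV : IsFinite (p ∣_ V)) (hfinξ : (p.residueFieldMap ξ).hom.Finite)
    (y : Y) (hyV : y ∈ V) (hdim : ringKrullDim (Y.presheaf.stalk y) = 1) (hspec : p ξ ⤳ y)
    (hx : ∀ x : X, ξ ⤳ x) (f : X.residueField ξ) (hf : f ≠ 0) :
    Finite {x : X // p x = y} ∧
      Cyc.ordAt y (p ξ) hspec (Cyc.normGen p ξ f) =
        ∑ᶠ x : {x : X // p x = y}, (p.residueDegree x.1 : ℤ) * Cyc.ordAt x.1 ξ (hx x.1) f := by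
  classical
  obtain ⟨hU, hfinR⟩ := finite_app_of_isFinite_restrict p V hV hfinV
  set U := p ⁻¹ᵁ V with hUdef
  have hηV : p ξ ∈ V := hspec.mem_open V.2 hyV
  have hξU : ξ ∈ U := hηV
  have : Nonempty U := ⟨⟨_, hξU⟩⟩
  have : Nonempty V := ⟨⟨_, hηV⟩⟩
  have : Nonempty U.toScheme := ⟨⟨_, hξU⟩⟩
  have : Nonempty V.toScheme := ⟨⟨_, hηV⟩⟩
  have : IsNoetherianRing Γ(Y, V) := IsLocallyNoetherian.component_noetherian ⟨V, hV⟩
  let q := (hV.primeIdealOf ⟨y, hyV⟩).asIdeal
  letI := TopCat.Presheaf.algebra_section_stalk Y.presheaf (⟨y, hyV⟩ : V)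
  have := hV.isLocalization_stalk ⟨y, hyV⟩
  let K := Y.residueField (p ξ)
  let L := X.residueField ξ
  letI aK : Algebra Γ(Y, V) K := ((Y.residue (p ξ)).hom.comp (Y.presheaf.germ V (p ξ) hηV).hom).toAlgebra
  letI aAK : Algebra (Y.presheaf.stalk y) K := (Cyc.specMap y (p ξ) hspec).toAlgebra
  have hK : IsFractionRing Γ(Y, V) K := isFractionRing_residue_comp hη V hV hηV
  have : IsScalarTower Γ(Y, V) (Y.presheaf.stalk y) K :=
    IsScalarTower.of_algebraMap_eq fun r => (specMap_germ hspec V hyV r).symm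
  letI aS : Algebra Γ(Y, V) Γ(X, U) := (p.app V).hom.toAlgebra
  have : Module.Finite Γ(Y, V) Γ(X, U) := hfinR
  letI aL : Algebra Γ(X, U) L := ((X.residue ξ).hom.comp (X.presheaf.germ U ξ hξU).hom).toAlgebra
  have hL : IsFractionRing Γ(X, U) L := isFractionRing_residue_comp hξ U hU hξU
  letI aKL : Algebra K L := (p.residueFieldMap ξ).hom.toAlgebra
  have : FiniteDimensional K L := hfinξ
  letI aRL : Algebra Γ(Y, V) L := ((algebraMap Γ(X, U) L).comp (algebraMap Γ(Y, V) Γ(X, U))).toAlgebra
  have : IsScalarTower Γ(Y, V) Γ(X, U) L := IsScalarTower.of_algebraMap_eq fun _ => rfl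
  have : IsScalarTower Γ(Y, V) K L := IsScalarTower.of_algebraMap_eq fun r => by
    show X.residue ξ (X.presheaf.germ U ξ hξU (p.app V r)) =
      p.residueFieldMap ξ (Y.residue (p ξ) (Y.presheaf.germ V (p ξ) hηV r))
    rw [← CommRingCat.comp_apply (Y.residue (p ξ)) (p.residueFieldMap ξ), Scheme.residue_residueFieldMap,
      CommRingCat.comp_apply, Scheme.Hom.germ_stalkMap_apply]
  have hinj : Function.Injective (algebraMap Γ(Y, V) Γ(X, U)) := by
    refine Function.Injective.of_comp (f := algebraMap Γ(X, U) L) ?_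
    rw [← RingHom.coe_comp, ← IsScalarTower.algebraMap_eq, IsScalarTower.algebraMap_eq Γ(Y, V) K L]
    exact (algebraMap K L).injective.comp (IsFractionRing.injective _ K)
  -- primes over `q` and points over `y`
  have hover : ∀ x : {x : X // p x = y},
      (hU.primeIdealOf ⟨x.1, (by show p x.1 ∈ V; rw [x.2]; exact hyV)⟩).asIdeal.comap (algebraMap Γ(Y, V) Γ(X, U)) = q := by
    rintro ⟨x, rfl⟩
    show ((hU.primeIdealOf ⟨x, hyV⟩).asIdeal).comap (p.app V).hom = (hV.primeIdealOf ⟨p x, hyV⟩).asIdeal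
    rw [IsAffineOpen.primeIdealOf_eq_map_closedPoint, IsAffineOpen.primeIdealOf_eq_map_closedPoint]
    show ((maximalIdeal _).comap (X.presheaf.germ U x hyV).hom).comap (p.app V).hom =
      (maximalIdeal _).comap (Y.presheaf.germ V (p x) hyV).hom
    rw [Ideal.comap_comap, ← IsLocalRing.maximalIdeal_comap (p.stalkMap x).hom, Ideal.comap_comap]
    congr 1
    rw [← CommRingCat.hom_comp, ← CommRingCat.hom_comp, Scheme.Hom.germ_stalkMap]
  let toP : {x : X // p x = y} → OverPrime Γ(Y, V) q Γ(X, U) := fun x =>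
    ⟨hU.primeIdealOf ⟨x.1, (by show p x.1 ∈ V; rw [x.2]; exact hyV)⟩, hover x⟩
  have htoP : Function.Bijective toP := by
    constructor
    · intro a b hab
      refine Subtype.ext ?_
      have := congrArg (fun P : OverPrime Γ(Y, V) q Γ(X, U) => hU.fromSpec P.1) hab
      simpa only [toP, IsAffineOpen.fromSpec_primeIdealOf] using this
    · rintro ⟨P, hP⟩
      have hmem : hU.fromSpec P ∈ U := hU.range_fromSpec.le ⟨P, rfl⟩
      have hPeq : hU.primeIdealOf ⟨_, hmem⟩ = P :=
        hU.fromSpec.isOpenEmbedding.injective (hU.fromSpec_primeIdealOf _)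
      have hpx : p (hU.fromSpec P) = y := by
        have h1 : (hU.primeIdealOf ⟨_, hmem⟩).asIdeal.comap (p.app V).hom =
            (hV.primeIdealOf ⟨p (hU.fromSpec P), hmem⟩).asIdeal := by
          rw [IsAffineOpen.primeIdealOf_eq_map_closedPoint, IsAffineOpen.primeIdealOf_eq_map_closedPoint]
          show ((maximalIdeal _).comap (X.presheaf.germ U _ hmem).hom).comap (p.app V).hom =
            (maximalIdeal _).comap (Y.presheaf.germ V _ hmem).hom
          rw [Ideal.comap_comap, ← IsLocalRing.maximalIdeal_comap (p.stalkMap (hU.fromSpec P)).hom,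
            Ideal.comap_comap]
          congr 1
          rw [← CommRingCat.hom_comp, ← CommRingCat.hom_comp, Scheme.Hom.germ_stalkMap]
        rw [hPeq] at h1
        have h2 : hV.primeIdealOf ⟨p (hU.fromSpec P), hmem⟩ = hV.primeIdealOf ⟨y, hyV⟩ :=
          PrimeSpectrum.ext (h1.symm.trans hP)
        have := congrArg hV.fromSpec h2
        simpa only [IsAffineOpen.fromSpec_primeIdealOf] using this
      exact ⟨⟨hU.fromSpec P, hpx⟩, Subtype.ext hPeq⟩
  let e : OverPrime Γ(Y, V) q Γ(X, U) ≃ {x : X // p x = y} := (Equiv.ofBijective toP htoP).symm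
  have hxU : ∀ P, (e P).1 ∈ U := fun P => by show p (e P).1 ∈ V; rw [(e P).2]; exact hyV
  let Sl : OverPrime Γ(Y, V) q Γ(X, U) → Type u := fun P => X.presheaf.stalk (e P).1
  letI : ∀ P, Algebra Γ(X, U) (Sl P) := fun P => (X.presheaf.germ U (e P).1 (hxU P)).hom.toAlgebra
  have hloc : ∀ P, IsLocalization.AtPrime (Sl P) P.1.asIdeal := fun P => by
    have h := hU.isLocalization_stalk ⟨(e P).1, hxU P⟩
    have hP : hU.primeIdealOf ⟨(e P).1, hxU P⟩ = P.1 :=
      congrArg Subtype.val ((Equiv.ofBijective toP htoP).apply_symm_apply P)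
    rw [hP] at h
    exact h
  letI : ∀ P, Algebra Γ(Y, V) (Sl P) := fun P =>
    ((algebraMap Γ(X, U) (Sl P)).comp (algebraMap Γ(Y, V) Γ(X, U))).toAlgebra
  have : ∀ P, IsScalarTower Γ(Y, V) Γ(X, U) (Sl P) := fun P => IsScalarTower.of_algebraMap_eq fun _ => rfl
  letI : ∀ P, Algebra (Y.presheaf.stalk y) (Sl P) := fun P =>
    ((p.stalkMap (e P).1).hom.comp (Y.presheaf.stalkSpecializes (specializes_of_eq (e P).2)).hom).toAlgebra
  have : ∀ P, IsScalarTower Γ(Y, V) (Y.presheaf.stalk y) (Sl P) := fun P =>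
    IsScalarTower.of_algebraMap_eq fun r => by
      show X.presheaf.germ U (e P).1 (hxU P) (p.app V r) = p.stalkMap (e P).1
        (Y.presheaf.stalkSpecializes (specializes_of_eq (e P).2) (Y.presheaf.germ V y hyV r))
      rw [TopCat.Presheaf.germ_stalkSpecializes_apply, Scheme.Hom.germ_stalkMap_apply]
  letI : ∀ P, Algebra (Sl P) L := fun P => (Cyc.specMap (e P).1 ξ (hx _)).toAlgebra
  have : ∀ P, IsScalarTower Γ(X, U) (Sl P) L := fun P =>
    IsScalarTower.of_algebraMap_eq fun s => (specMap_germ (hx _) U (hxU P) s).symm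
  obtain ⟨hfinite, hkd, heq⟩ := ordFrac_norm_eq_finsum_over Γ(Y, V) q (Y.presheaf.stalk y) Γ(X, U) K L
    hdim hinj Sl hf
  refine ⟨Finite.of_equiv _ e, ?_⟩
  have hkdY : Ring.KrullDimLE 1 (Y.presheaf.stalk y) := Ring.krullDimLE_iff.mpr hdim.le
  rw [ordAt_generic_eq_ordFrac hη y hspec hkdY]
  refine heq.trans ?_
  rw [← finsum_comp_equiv e]
  refine finsum_congr fun P => ?_
  rw [ordAt_generic_eq_ordFrac hξ _ (hx _) (hkd P), ← toNat_length_residueField p (e P).1 y (e P).2]

end Groth.Cycles
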