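import Groth.Prelude.Def_Cyc
import Groth.Agent.Cycles.DimFun
import Groth.Agent.CycleLimits.Generic
import Groth.Agent.FibreDim.LowerSemicont
import Groth.Agent.FibreDim.RelDim
import Mathlib.RingTheory.LocalRing.Length
import Mathlib.FieldTheory.IntermediateField.Adjoin.Algebra

/-!
Shifts of dimension functions at generic points of fibres, and flat pullback of cycles along composites.
-/

universe u

set_option autoImplicit false

open CategoryTheory AlgebraicGeometry IsLocalRing
open scoped TensorProduct

namespace Groth.Cycles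

open Groth.CycleLimits

variable {X Y Z : Scheme.{u}}

/-- At a generic point of a fibre of a morphism of relative dimension `r` the residue extension has
transcendence degree `r`. -/
theorem relTrdeg_eq_of_isFibreGeneric (f : X ⟶ Y) [LocallyOfFiniteType f] {r : ℕ}
    (hr : Cyc.HasRelDim f r) {x : X} (hx : IsFibreGeneric f x) :
    Groth.Variety2.Dim.relTrdeg f x = r := by
  obtain ⟨n, hn, hn'⟩ := Groth.FibreDim.exists_relTrdeg_eq_height f x
  have hmax : IsMax (f.asFiber x) := isMax_iff.mpr fun w hw => (f.fiberι _).isEmbedding.injective <| by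
    have h1 : (f.fiberι (f x)) w ⤳ x :=
      (hw.map (f.fiberι (f x)).continuous).trans (specializes_of_eq (f.fiberι_asFiber x))
    rw [f.fiberι_asFiber]
    exact hx _ (Groth.FibreDim.apply_fiberι f _ w) h1
  have h := hr (f x) _ (closure_mem_irreducibleComponents hmax)
  rw [Groth.Variety2.Dim.dim_closure_singleton] at h
  have h' : (Order.height (f.asFiber x) : ℕ∞) = r := by exact_mod_cast h
  rw [hn] 
  rw [hn'] at h'
  exact_mod_cast h'

/-- The shift of compatible dimension functions at generic points of fibres. -/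
theorem delta_eq_add_of_isFibreGeneric (f : X ⟶ Y) [LocallyOfFiniteType f] {r : ℕ}
    (hr : Cyc.HasRelDim f r) {δX : X → ℤ} {δY : Y → ℤ} (hδ : Cyc.DeltaCompat f δX δY) {x : X}
    (hx : IsFibreGeneric f x) : δX x = δY (f x) + r := by
  obtain ⟨n, hn, hn'⟩ := hδ x
  have : Groth.Variety2.Dim.relTrdeg f x = n := hn
  rw [relTrdeg_eq_of_isFibreGeneric f hr hx, Nat.cast_inj] at this
  rw [hn', this]

theorem isFibreGeneric_of_comp (f : X ⟶ Y) (g : Y ⟶ Z) [Flat f] {x : X}
    (h : IsFibreGeneric (f ≫ g) x) : IsFibreGeneric f x ∧ IsFibreGeneric g (f x) := by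
  refine ⟨fun y hy hs => h y (by simp only [Scheme.Hom.comp_apply, hy]) hs, fun y hy hs => ?_⟩
  obtain ⟨x', hx', rfl⟩ := (AlgebraicGeometry.Flat.generalizingMap f) hs
  rw [h x' (by simp only [Scheme.Hom.comp_apply, hy]) hx']

theorem isFibreGeneric_comp (f : X ⟶ Y) (g : Y ⟶ Z) {x : X} (hf : IsFibreGeneric f x)
    (hg : IsFibreGeneric g (f x)) : IsFibreGeneric (f ≫ g) x := by
  intro y hy hs
  exact hf y (hg (f y) (by simpa using hy) (hs.map f.continuous)) hs

theorem length_fibre_comp (f : X ⟶ Y) (g : Y ⟶ Z) [Flat f] (x : X) :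
    Module.length (X.presheaf.stalk x) (X.presheaf.stalk x ⧸ fibreIdeal (f ≫ g) x) =
      Module.length (Y.presheaf.stalk (f x)) (Y.presheaf.stalk (f x) ⧸ fibreIdeal g (f x)) *
        Module.length (X.presheaf.stalk x) (X.presheaf.stalk x ⧸ fibreIdeal f x) := by
  let : Algebra (Y.presheaf.stalk (f x)) (X.presheaf.stalk x) := (f.stalkMap x).hom.toAlgebra
  have : IsLocalHom (algebraMap (Y.presheaf.stalk (f x)) (X.presheaf.stalk x)) :=
    inferInstanceAs (IsLocalHom (f.stalkMap x).hom)
  have : Module.Flat (Y.presheaf.stalk (f x)) (X.presheaf.stalk x) := Flat.stalkMap f x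
  have e : fibreIdeal (f ≫ g) x =
      (fibreIdeal g (f x)).map (algebraMap (Y.presheaf.stalk (f x)) (X.presheaf.stalk x)) := by
    rw [fibreIdeal, fibreIdeal, Ideal.map_map, RingHom.algebraMap_toAlgebra]
    rw [Scheme.Hom.stalkMap_comp]
    rfl
  rw [e, (Algebra.TensorProduct.quotIdealMapEquivTensorQuot (X.presheaf.stalk x)
    (fibreIdeal g (f x))).toLinearEquiv.length_eq,
    IsLocalRing.length_baseChange (Y.presheaf.stalk (f x)) (X.presheaf.stalk x)]
  rfl

/-- Flat pullback of cycle coefficient functions along a composite. -/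
theorem pullFun_comp_eq (f : X ⟶ Y) (g : Y ⟶ Z) [Flat f] [IsLocallyNoetherian X] [IsLocallyNoetherian Y]
    (δX : X → ℤ) (δY : Y → ℤ) (δZ : Z → ℤ) (r s : ℤ)
    (hr : ∀ x : X, IsFibreGeneric f x → δX x = δY (f x) + r)
    (hs : ∀ y : Y, IsFibreGeneric g y → δY y = δZ (g y) + s) (α : Z → ℤ) :
    Cyc.pullFun (f ≫ g) δX δZ (r + s) α = Cyc.pullFun f δX δY r (Cyc.pullFun g δY δZ s α) := by
  funext x
  have hl := congrArg ENat.toNat (length_fibre_comp f g x)
  rw [ENat.toNat_mul] at hl
  simp only [Cyc.pullFun]
  by_cases h : IsFibreGeneric f x ∧ IsFibreGeneric g (f x)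
  · rw [if_pos (by simp only [Scheme.Hom.comp_apply, hr x h.1, hs _ h.2]; ring), if_pos (hr x h.1),
      if_pos (hs _ h.2)]
    simp only [Scheme.Hom.comp_apply]
    erw [hl]
    push_cast
    ring
  · rw [not_and_or] at h
    have h0 : (Module.length (Y.presheaf.stalk (f x)) (Y.presheaf.stalk (f x) ⧸ fibreIdeal g (f x))).toNat *
        (Module.length (X.presheaf.stalk x) (X.presheaf.stalk x ⧸ fibreIdeal f x)).toNat = 0 := by
      rcases h with h | h
      · rw [length_toNat_eq_zero_of_not f x h, mul_zero]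
      · rw [length_toNat_eq_zero_of_not g (f x) h, zero_mul]
    rw [h0] at hl
    have hL : (Module.length (X.presheaf.stalk x) (X.presheaf.stalk x ⧸ fibreIdeal (f ≫ g) x)).toNat = 0 := hl
    simp only [fibreIdeal] at hL h0
    rw [hL]
    rcases mul_eq_zero.mp h0 with e | e <;> rw [e] <;> simp

/-- A residue extension of transcendence degree zero along a morphism locally of finite type is finite. -/
theorem finite_residueFieldMap_of_trdeg_eq_zero (f : X ⟶ Y) [LocallyOfFiniteType f] (x : X)
    (h : Groth.Variety2.Dim.relTrdeg f x = 0) : (f.residueFieldMap x).hom.Finite := by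
  let := (f.residueFieldMap x).hom.toAlgebra
  have : IsLocalHom (f.stalkMap x).hom := inferInstance
  have hEss : Algebra.EssFiniteType (Y.residueField (f x)) (X.residueField x) := by
    rw [← RingHom.essFiniteType_algebraMap]
    exact RingHom.EssFiniteType.residueFieldMap (LocallyOfFiniteType.stalkMap f x)
  have : Algebra.IsAlgebraic (Y.residueField (f x)) (X.residueField x) := trdeg_eq_zero_iff.mp h
  obtain ⟨S, hS⟩ := IntermediateField.fg_top_iff.mpr hEss
  have hfin := IntermediateField.finiteDimensional_adjoin (K := Y.residueField (f x)) (S := (S : Set (X.residueField x)))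
    fun y _ => (Algebra.IsAlgebraic.isAlgebraic y).isIntegral
  rw [hS] at hfin
  exact RingHom.finite_algebraMap.mpr (Module.Finite.equiv IntermediateField.topEquiv.toLinearEquiv)

end Groth.Cycles
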