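import Groth.Agent.Cycles.DimFunLft
import Groth.Agent.Cycles.PullComp
import Groth.Agent.FibreDim.BaseChange
import Groth.Agent.FibreDim.RelDim

/-!
Transcendence degrees at generic points of fibres and under base change.
-/

universe u

set_option autoImplicit false

open CategoryTheory CategoryTheory.Limits AlgebraicGeometry

namespace Groth.Cycles

open Groth.CycleLimits

variable {X Y Y' : Scheme.{u}}

theorem relTrdeg_eq_fibreDimAt_of_isFibreGeneric (f : X ⟶ Y) [LocallyOfFiniteType f] {x : X}
    (hx : IsFibreGeneric f x) :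
    ∃ n : ℕ, Groth.Variety2.Dim.relTrdeg f x = n ∧ FlatMor.fibreDimAt f x = n := by
  obtain ⟨n, hn, hn'⟩ := Groth.FibreDim.exists_relTrdeg_eq_height f x
  refine ⟨n, hn, ?_⟩
  have hmax : IsMax (f.asFiber x) := isMax_iff.mpr fun w hw => (f.fiberι _).isEmbedding.injective <| by
    have h1 : (f.fiberι (f x)) w ⤳ x :=
      (hw.map (f.fiberι (f x)).continuous).trans (specializes_of_eq (f.fiberι_asFiber x))
    rw [f.fiberι_asFiber]
    exact hx _ (Groth.FibreDim.apply_fiberι f _ w) h1
  have : LocallyOfFiniteType (f.fiberToSpecResidueField (f x)) :=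
    inferInstanceAs (LocallyOfFiniteType (pullback.snd f (Y.fromSpecResidueField (f x))))
  have h := Groth.FibreDim.fibreDimAt_fiberι f (f x) (f.asFiber x)
  rw [show (f.fiberι (f x)).base (f.asFiber x) = x from f.fiberι_asFiber x] at h
  rw [h, Groth.FibreDim.localDim_eq_height_of_isMax (k := Y.residueField (f x)) (f.fiberToSpecResidueField (f x)) hmax, hn']
  rfl

/-- A maximal point of a flat base change lies over a generic point of a fibre of the base change map. -/
theorem isFibreGeneric_snd_of_isMax (a : X ⟶ Y) (g : Y' ⟶ Y) [Flat g] {x' : ↥(pullback a g)}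
    (hx' : ∀ y : ↥(pullback a g), y ⤳ x' → y = x') :
    IsFibreGeneric g (pullback.snd a g x') := by
  set ξ := pullback.fst a g x' with hξdef
  have hs : g (pullback.snd a g x') = a ξ := by
    rw [hξdef, ← Scheme.Hom.comp_apply, ← Scheme.Hom.comp_apply, pullback.condition]
  intro w hw hsp
  let s := a ξ
  let e : Spec (X.residueField ξ) ⟶ Spec (Y.residueField s) := Spec.map (a.residueFieldMap ξ)
  have : Flat e := by
    rw [Flat.SpecMap_iff]
    let := (a.residueFieldMap ξ).hom.toAlgebra
    exact RingHom.flat_algebraMap_iff.mpr (inferInstance : Module.Flat (Y.residueField s) (X.residueField ξ))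
  let F := pullback (g.fiberToSpecResidueField s) e
  let q : F ⟶ g.fiber s := pullback.fst _ _
  have : Flat q := inferInstanceAs (Flat (pullback.fst (g.fiberToSpecResidueField s) e))
  have hcomm : g.fiberι s ≫ g = g.fiberToSpecResidueField s ≫ Y.fromSpecResidueField s :=
    Groth.FibreDim.fiberι_comp g s
  let m : F ⟶ (pullback a g) := pullback.lift (pullback.snd _ e ≫ X.fromSpecResidueField ξ) (q ≫ g.fiberι s) (by
    rw [Category.assoc, Category.assoc, hcomm, ← Scheme.Hom.SpecMap_residueFieldMap_fromSpecResidueField,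
      ← Category.assoc, ← Category.assoc, pullback.condition])
  have hm2 : m ≫ pullback.snd a g = q ≫ g.fiberι s := pullback.lift_snd ..
  let pg : Spec ((pullback a g).residueField x') ⟶ g.fiber s := pullback.lift
    ((pullback a g).fromSpecResidueField x' ≫ pullback.snd a g)
    (Spec.map ((pullback.fst a g).residueFieldMap x') ≫ e) (by
      rw [Category.assoc, ← pullback.condition, Category.assoc,
        Scheme.Hom.SpecMap_residueFieldMap_fromSpecResidueField, ← Category.assoc, ← Category.assoc,
        Scheme.Hom.SpecMap_residueFieldMap_fromSpecResidueField])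
  let pF : Spec ((pullback a g).residueField x') ⟶ F := pullback.lift pg
    (Spec.map ((pullback.fst a g).residueFieldMap x')) (pullback.lift_snd ..)
  have hpm : pF ≫ m = (pullback a g).fromSpecResidueField x' := by
    apply pullback.hom_ext
    · rw [Category.assoc, pullback.lift_fst, pullback.lift_snd_assoc,
        Scheme.Hom.SpecMap_residueFieldMap_fromSpecResidueField]
    · rw [Category.assoc, pullback.lift_snd, pullback.lift_fst_assoc]
      exact pullback.lift_fst ..
  let z : F := pF (IsLocalRing.closedPoint ((pullback a g).residueField x'))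
  have hz : m z = x' := by
    change (pF ≫ m) _ = x'
    rw [hpm]
    exact Scheme.fromSpecResidueField_apply _ _
  obtain ⟨wf, hwf⟩ : w ∈ Set.range (g.fiberι s) := (g.range_fiberι s).ge (hw.trans hs)
  have hqz : g.fiberι s (q z) = pullback.snd a g x' := by
    rw [← hz]
    exact (congrArg (fun φ : F ⟶ Y' => φ z) hm2).symm
  have hspf : wf ⤳ q z :=
    (g.fiberι s).isEmbedding.toIsInducing.specializes_iff.mp (hwf.symm ▸ hqz.symm ▸ hsp)
  obtain ⟨z', hz', hqz'⟩ := (AlgebraicGeometry.Flat.generalizingMap q) hspf
  have e2 : m z' = x' := hx' _ ((hz'.map m.continuous).trans (specializes_of_eq hz))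
  rw [← e2, ← hwf, ← hqz']
  exact (congrArg (fun φ : F ⟶ Y' => φ z') hm2).symm

theorem delta_eq_of_isMax_baseChange {δS : Y → ℤ} {δS' : Y' → ℤ} (g : Y' ⟶ Y) [Flat g] (c : ℤ)
    (hc : ∀ s' : Y', IsFibreGeneric g s' → δS' s' = δS (g s') + c) (a : X ⟶ Y) [LocallyOfFiniteType a]
    [IrreducibleSpace X] {δX : X → ℤ} (hX : Cyc.DeltaCompat a δX δS) {δX' : ↥(pullback a g) → ℤ}
    (hX' : Cyc.DeltaCompat (pullback.snd a g) δX' δS') {x' : ↥(pullback a g)}
    (hx' : ∀ y : ↥(pullback a g), y ⤳ x' → y = x') :
    δX' x' = δX (genericPoint X) + c := by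
  have hξ : pullback.fst a g x' = genericPoint X := by
    obtain ⟨y, hy, hfy⟩ := (AlgebraicGeometry.Flat.generalizingMap (pullback.fst a g))
      (genericPoint_specializes (pullback.fst a g x'))
    rw [← hfy, hx' y hy]
  have hs : g (pullback.snd a g x') = a (genericPoint X) := by
    rw [← hξ, ← Scheme.Hom.comp_apply, ← Scheme.Hom.comp_apply, pullback.condition]
  have hsg := hc _ (isFibreGeneric_snd_of_isMax a g hx')
  obtain ⟨t', ht', hd'⟩ := relTrdeg_eq_fibreDimAt_of_isFibreGeneric (pullback.snd a g) (x := x')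
    (fun y _ h => hx' y h)
  obtain ⟨t, ht, hd⟩ := relTrdeg_eq_fibreDimAt_of_isFibreGeneric a (x := genericPoint X)
    (fun y _ h => (h.antisymm (genericPoint_specializes y)).eq)
  rw [Groth.FibreDim.fibreDimAt_baseChange a g (pullback.snd a g) (pullback.fst a g)
    (IsPullback.of_hasPullback a g) x', hξ, hd] at hd'
  have htt : t = t' := by exact_mod_cast hd'
  obtain ⟨n, hn, hn'⟩ := hX (genericPoint X)
  obtain ⟨n', hn2, hn2'⟩ := hX' x'
  have e1 : t = n := by
    have : Groth.Variety2.Dim.relTrdeg a (genericPoint X) = n := hn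
    rw [ht] at this; exact_mod_cast this
  have e2 : t' = n' := by
    have : Groth.Variety2.Dim.relTrdeg (pullback.snd a g) x' = n' := hn2
    rw [ht'] at this; exact_mod_cast this
  rw [hn2', hn', hsg, hs]
  omega

end Groth.Cycles
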