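import Groth.Agent.Cycles.ClosureDiv
import Groth.Agent.Cycles.DimFunLft

/-!
Sums of locally finite families of principal divisors; excision.
-/

universe u

set_option autoImplicit false

open CategoryTheory AlgebraicGeometry

namespace Groth.Cycles

variable {X : Scheme.{u}}

/-- The principal divisor on the closure of any point is a cycle. -/
theorem exists_cycle_divFun {δ : X → ℤ} (hX : Cyc.IsSetup X δ) (ξ : X) (f : X.residueField ξ) (hf : f ≠ 0) :
    ∃ α : AlgebraicCycle X ℤ, ⇑α = Cyc.divFun δ ξ f := by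
  obtain ⟨W, i, _, _, _, -, hiξ⟩ := closure_scheme ξ
  subst hiξ
  have : IsIntegral W := isIntegral_of_irreducibleSpace_of_isReduced W
  obtain ⟨β, hβ⟩ := exists_cycle_eq_divFun (isSetup_closedImmersion i hX) (genericPoint W) rfl
    ((i.residueFieldMap (genericPoint W)).hom f) ((map_ne_zero_iff _ (i.residueFieldMap _).hom.injective).mpr hf)
  exact ⟨_, map_closedImmersion_divFun i δ _ f β hβ⟩

theorem finite_of_isCompact {ι : Type*} (ξ : ι → X)
    (hlf : ∀ x : X, ∃ U : Set X, IsOpen U ∧ x ∈ U ∧ {i | (closure {ξ i} ∩ U).Nonempty}.Finite)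
    {K : Set X} (hK : IsCompact K) : {i | (closure {ξ i} ∩ K).Nonempty}.Finite := by
  choose U hUo hxU hUfin using hlf
  obtain ⟨s, hs⟩ := hK.elim_finite_subcover U hUo fun x _ => Set.mem_iUnion.mpr ⟨x, hxU x⟩
  refine ((s.finite_toSet.biUnion fun x _ => hUfin x)).subset ?_
  rintro i ⟨z, hz, hzK⟩
  obtain ⟨x, hxs, hzx⟩ := Set.mem_iUnion₂.mp (hs hzK)
  exact Set.mem_biUnion hxs ⟨z, hz, hzx⟩

theorem divFun_eq_zero_of_notMem {δ : X → ℤ} {ξ : X} (f : X.residueField ξ) {x : X} (h : x ∉ closure {ξ}) :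
    Cyc.divFun δ ξ f x = 0 := dif_neg fun h' => h h'.1.mem_closure

theorem divFun_eq_zero_of_delta {δ : X → ℤ} {ξ : X} (f : X.residueField ξ) {x : X} (h : δ x + 1 ≠ δ ξ) :
    Cyc.divFun δ ξ f x = 0 := dif_neg fun h' => h h'.2

/-- The sum of a locally finite family of principal divisors is a cycle. -/
theorem exists_cycle_finsum_divFun {δ : X → ℤ} (hX : Cyc.IsSetup X δ) {ι : Type*} (ξ : ι → X)
    (f : (i : ι) → X.residueField (ξ i)) (hf : ∀ i, f i ≠ 0)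
    (hlf : ∀ x : X, ∃ U : Set X, IsOpen U ∧ x ∈ U ∧ {i | (closure {ξ i} ∩ U).Nonempty}.Finite) :
    ∃ α : AlgebraicCycle X ℤ, ∀ x, α x = ∑ᶠ i, Cyc.divFun δ (ξ i) (f i) x := by
  choose a ha using fun i => exists_cycle_divFun hX (ξ i) (f i) (hf i)
  refine ⟨⟨fun x => ∑ᶠ i, Cyc.divFun δ (ξ i) (f i) x, Set.subset_univ _, fun x _ => ?_⟩, fun x => rfl⟩
  obtain ⟨_, ⟨V, hV, rfl⟩, hxV, -⟩ :=
    X.isBasis_affineOpens.exists_subset_of_mem_open (Set.mem_univ x) isOpen_univ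
  refine ⟨V, V.isOpen.mem_nhds hxV, ((finite_of_isCompact ξ hlf hV.isCompact).biUnion fun i _ =>
    (a i).locallyFiniteSupport.finite_inter_support_of_isCompact hV.isCompact).subset ?_⟩
  rintro z ⟨hzV, hz⟩
  obtain ⟨i, hi⟩ : ∃ i, Cyc.divFun δ (ξ i) (f i) z ≠ 0 := by
    by_contra! h
    exact hz (finsum_eq_zero_of_forall_eq_zero h)
  refine Set.mem_biUnion (x := i) ⟨z, by_contra fun h => hi (divFun_eq_zero_of_notMem _ h), hzV⟩ ⟨hzV, ?_⟩
  show a i z ≠ 0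
  rw [ha i]
  exact hi

theorem divFun_openImmersion {Z : Scheme.{u}} (j : Z ⟶ X) [IsOpenImmersion j] (δ : X → ℤ) {ξ z : Z}
    (F : X.residueField (j ξ)) :
    Cyc.divFun δ (j ξ) F (j z) = Cyc.divFun (fun w => δ (j w)) ξ ((j.residueFieldMap ξ).hom F) z := by
  by_cases h : ξ ⤳ z ∧ δ (j z) + 1 = δ (j ξ)
  · rw [Cyc.divFun, dif_pos ⟨h.1.map j.continuous, h.2⟩, Cyc.divFun, dif_pos h]
    exact (ordAt_preimmersion j _ _ F).symm
  · rw [Cyc.divFun, dif_neg fun h' => h ⟨j.isOpenEmbedding.isInducing.specializes_iff.mp h'.1, h'.2⟩,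
      Cyc.divFun, dif_neg h]

theorem exists_excision (δ : X → ℤ) (hX : Cyc.IsSetup X δ) (U : X.Opens) (k : ℤ) (α β : AlgebraicCycle X ℤ)
    (hα : α ∈ Cyc.Zk X δ k) (hβ : β ∈ Cyc.Zk X δ k) (αU βU : AlgebraicCycle (↑U : Scheme.{u}) ℤ)
    (hαU : ∀ u : ↥U, αU u = α (U.ι u)) (hβU : ∀ u : ↥U, βU u = β (U.ι u))
    (h : Cyc.RatEquiv (fun u : ↥U => δ (U.ι u)) k αU βU) :
    ∃ γ : AlgebraicCycle X ℤ, γ ∈ Cyc.Zk X δ k ∧ (∀ x : X, x ∈ U → γ x = 0) ∧ Cyc.RatEquiv δ k α (β + γ) := by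
  classical
  have := hX.1
  obtain ⟨ι, ξ, f, hξ, hf, hlf, hc⟩ := h
  have hbij : ∀ i, Function.Bijective (U.ι.residueFieldMap (ξ i)).hom := fun i =>
    ⟨(U.ι.residueFieldMap (ξ i)).hom.injective, Groth.Variety2.Dim.residueFieldMap_surjective U.ι (ξ i)⟩
  choose g hg using fun i => (hbij i).2 (f i)
  have hg0 : ∀ i, g i ≠ 0 := fun i h0 => hf i (by rw [← hg i, h0, map_zero])
  have hlfX : ∀ x : X, ∃ V : Set X, IsOpen V ∧ x ∈ V ∧
      {i | (closure {U.ι (ξ i)} ∩ V).Nonempty}.Finite := by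
    intro x
    obtain ⟨_, ⟨V, hV, rfl⟩, hxV, -⟩ :=
      X.isBasis_affineOpens.exists_subset_of_mem_open (Set.mem_univ x) isOpen_univ
    have hK : IsCompact (U.ι ⁻¹ᵁ V : Set (U : Scheme.{u})) := by
      have hVn : IsNoetherianRing Γ(X, V) := IsLocallyNoetherian.component_noetherian ⟨V, hV⟩
      have : TopologicalSpace.NoetherianSpace (V : Set X) := noetherianSpace_of_isAffineOpen V hV
      rw [U.ι.isOpenEmbedding.isInducing.isCompact_iff]
      have hc := (TopologicalSpace.NoetherianSpace.isCompact (Subtype.val ⁻¹'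
        (U.ι '' (U.ι ⁻¹ᵁ V : Set (U : Scheme.{u}))) : Set (V : Set X))).image continuous_subtype_val
      rwa [Subtype.image_preimage_coe, Set.inter_eq_right.mpr] at hc
      rintro _ ⟨u, hu, rfl⟩
      exact hu
    refine ⟨V, V.isOpen, hxV, (finite_of_isCompact ξ hlf hK).subset ?_⟩
    rintro i ⟨z, hz, hzV⟩
    obtain ⟨_, hV', rfl⟩ := mem_closure_iff.mp hz V V.isOpen hzV
    exact ⟨ξ i, subset_closure rfl, hV'⟩
  obtain ⟨D, hD⟩ := exists_cycle_finsum_divFun hX (fun i => U.ι (ξ i)) g hg0 hlfX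
  refine ⟨α - β - D, fun x hx => ?_, fun x hxU => ?_, ι, fun i => U.ι (ξ i), g, hξ, hg0, hlfX, fun x => ?_⟩
  · simp only [Function.locallyFinsuppWithin.coe_sub, Pi.sub_apply]
    rw [hα x hx, hβ x hx, hD, finsum_eq_zero_of_forall_eq_zero fun i =>
      divFun_eq_zero_of_delta (g i) (by have := hξ i; simp only at this; omega)]
    rfl
  · obtain ⟨u, rfl⟩ : ∃ u : U, U.ι u = x := ⟨⟨x, hxU⟩, rfl⟩
    have h1 := hc u
    simp only [Function.locallyFinsuppWithin.coe_sub, Pi.sub_apply] at h1 ⊢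
    rw [hαU, hβU] at h1
    rw [h1, hD, sub_eq_zero]
    refine finsum_congr fun i => ?_
    rw [divFun_openImmersion U.ι δ, hg]
    rfl
  · rw [← hD]
    simp only [Function.locallyFinsuppWithin.coe_sub, Function.locallyFinsuppWithin.coe_add, Pi.sub_apply,
      Pi.add_apply]
    ring

end Groth.Cycles
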