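import Groth.Agent.Cycles.NormScheme
import Groth.Agent.Cycles.DimFun
import Groth.Agent.Cycles.DimJacobson
import Groth.Agent.Cycles.PushCyc
import Groth.Agent.Cycles.PullComp
import Groth.Agent.S1867

/-!
Pushforward of principal divisors along generically finite proper morphisms.
-/

universe u

set_option autoImplicit false

open CategoryTheory AlgebraicGeometry

namespace Groth.Cycles

variable {X Y : Scheme.{u}}

theorem ringKrullDim_stalk_eq_one_of_delta [IsIntegral Y] {δ : Y → ℤ} (hδ : Cyc.IsDimFun Y δ) {y : Y}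
    (h : δ y + 1 = δ (genericPoint Y)) : ringKrullDim (Y.presheaf.stalk y) = 1 := by
  have hle : ∀ z : Y, z ≤ genericPoint Y := fun z => genericPoint_specializes z
  rw [ringKrullDim_stalk_eq_coheight]
  suffices Order.coheight y = 1 by rw [this]; rfl
  refine le_antisymm (Order.coheight_le fun p hp => ?_) (Order.one_le_iff_ne_zero.mpr ?_)
  · have h1 := length_le_delta_sub hδ p
    have h2 : δ p.last ≤ δ (genericPoint Y) := delta_le_of_specializes hδ (hle _)
    have h3 : δ y ≤ δ p.head := hp ▸ le_rfl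
    exact_mod_cast (show (p.length : ℤ) ≤ 1 by omega)
  · rw [Ne, Order.coheight_eq_zero]
    intro hmax
    have := hmax (hle y)
    have e : genericPoint Y = y := ((show y ⤳ genericPoint Y from this).antisymm (hle y)).eq.symm
    rw [e] at h
    omega

theorem exists_affine_isFinite [IsIntegral X] [IsIntegral Y] [IsLocallyNoetherian Y] (p : X ⟶ Y) [IsProper p]
    (hgen : p (genericPoint X) = genericPoint Y) (hfin : (p.residueFieldMap (genericPoint X)).hom.Finite)
    (y : Y) (hy : ringKrullDim (Y.presheaf.stalk y) = 1) :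
    ∃ V : Y.Opens, IsAffineOpen V ∧ y ∈ V ∧ IsFinite (p ∣_ V) := by
  obtain ⟨W, hyW, hW⟩ := Groth.Agent.S1867.result X Y p hgen hfin y hy
  obtain ⟨_, ⟨V, hV, rfl⟩, hyV, hVW⟩ :=
    Y.isBasis_affineOpens.exists_subset_of_mem_open (show y ∈ (W : Set Y) from hyW) W.isOpen
  refine ⟨V, hV, hyV, ?_⟩
  have h1 : IsFinite ((p ∣_ W) ∣_ (W.ι ⁻¹ᵁ V)) := inferInstance
  have h2 := (MorphismProperty.arrow_mk_iso_iff @IsFinite (morphismRestrictRestrict p W _)).mp h1
  have h3 : W.ι ''ᵁ (W.ι ⁻¹ᵁ V) = V := by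
    rw [Scheme.Hom.image_preimage_eq_opensRange_inf, Scheme.Opens.opensRange_ι]
    exact inf_eq_right.mpr hVW
  rwa [h3] at h2

theorem divFun_apply_of {δ : X → ℤ} {ξ : X} (f : X.residueField ξ) {x : X} (h : ξ ⤳ x) (hd : δ x + 1 = δ ξ) :
    Cyc.divFun δ ξ f x = Cyc.ordAt x ξ h f := dif_pos ⟨h, hd⟩

theorem map_divFun_eq [IsIntegral X] [IsIntegral Y] (δX : X → ℤ) (δY : Y → ℤ) (hX : Cyc.IsSetup X δX)
    (hY : Cyc.IsSetup Y δY) (p : X ⟶ Y) [IsProper p] (hδ : Cyc.DeltaCompat p δX δY)
    (ξ : X) (hξ : ξ = genericPoint X) (hdom : p ξ = genericPoint Y) (hn : δX ξ = δY (genericPoint Y))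
    (f : X.residueField ξ) (hf : f ≠ 0) (α : AlgebraicCycle X ℤ) (hα : ⇑α = Cyc.divFun δX ξ f) :
    ⇑(AlgebraicCycle.map p δX δY α) = Cyc.divFun δY (p ξ) (Cyc.normGen p ξ f) := by
  classical
  have := hX.1
  have := hY.1
  have hfin : (p.residueFieldMap ξ).hom.Finite := by
    refine finite_residueFieldMap_of_trdeg_eq_zero p ξ ?_
    obtain ⟨n, hn1, hn2⟩ := hδ ξ
    have h0 : n = 0 := by rw [hdom] at hn2; omega
    rw [h0, Nat.cast_zero] at hn1
    exact hn1
  funext y
  have hspec : p ξ ⤳ y := hdom ▸ genericPoint_specializes y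
  by_cases hy : δY y + 1 = δY (p ξ)
  · rw [divFun_apply_of _ hspec hy]
    have hdim := ringKrullDim_stalk_eq_one_of_delta hY.2.2 (hdom ▸ hy)
    obtain ⟨V, hV, hyV, hfinV⟩ := exists_affine_isFinite p (hξ ▸ hdom) (by subst hξ; exact hfin) y hdim
    obtain ⟨hF, heq⟩ := ordAt_normGen_eq_finsum p ξ hξ hdom V hV hfinV hfin y hyV hdim hspec
      (fun x => hξ ▸ genericPoint_specializes x) f hf
    have : Finite {x : X // p x = y} := hF
    have : Fintype {x : X // p x = y} := Fintype.ofFinite _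
    rw [heq, finsum_eq_sum_of_fintype,
      map_apply_eq_sum p δX δY α y (Finset.univ.map (Function.Embedding.subtype fun x => p x = y))
        (fun x hx _ => Finset.mem_map.mpr ⟨⟨x, hx⟩, Finset.mem_univ _, rfl⟩),
      Finset.sum_map]
    refine Finset.sum_congr rfl fun x _ => ?_
    have hxy : p x.1 = y := x.2
    have hne : x.1 ≠ ξ := fun e => by
      have h1 : δY y = δY (p ξ) := by rw [← hxy, e]
      omega
    have hspx : ξ ⤳ x.1 := hξ ▸ genericPoint_specializes _
    have h2 := (hX.2.2 ξ x.1 hspx hne.symm).1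
    have h3 := delta_le_of_deltaCompat hδ x.1
    rw [hxy] at h3
    rw [hdom] at hy
    have hd : δX x.1 + 1 = δX ξ := by omega
    simp only [Function.Embedding.coe_subtype]
    rw [if_pos hxy, AlgebraicCycle.mapCoeff, if_pos (by rw [hxy]; omega), hα, divFun_apply_of _ hspx hd]
    ring
  · rw [Cyc.divFun, dif_neg fun h => hy h.2, map_apply_eq_sum p δX δY α y
      (finite_preimage_inter_support p α y).toFinset (fun x hx h => by simp [hx, h])]
    refine Finset.sum_eq_zero fun x hx => ?_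
    split_ifs with hxy
    · rw [AlgebraicCycle.mapCoeff]
      split_ifs with hd
      · rw [hα, Cyc.divFun, dif_neg fun h => hy ?_, zero_mul]
        rw [← hxy, hdom, ← hn, ← hd]
        exact h.2
      · simp
    · rfl

end Groth.Cycles
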