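import Groth.Agent.Cycles.CurveDegree
import Groth.Agent.Cycles.NormDiv
import Groth.Agent.PropsBasic2.StalkFlat

/-!
Pushforward of principal divisors when the dimension drops.
-/

universe u

set_option autoImplicit false
set_option linter.style.haveILetI false

open CategoryTheory AlgebraicGeometry IsLocalRing

namespace Groth.Cycles

variable {X Y : Scheme.{u}}

theorem finsum_ordAt_eq_zero_of_proper_curve {K : Type u} [Field K] [IsIntegral X]
    (c : X ⟶ Spec (CommRingCat.of K)) [IsProper c] (hdim : topologicalKrullDim X = 1) (z : X)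
    (hz : z = genericPoint X) (hsp : ∀ x : X, z ⤳ x) (F : X.residueField z) (hF : F ≠ 0) :
    ∑ᶠ (x : X) (_ : IsClosed ({x} : Set X)), (c.residueDegree x : ℤ) * Cyc.ordAt x z (hsp x) F = 0 := by
  subst hz
  have : IsLocallyNoetherian X := LocallyOfFiniteType.isLocallyNoetherian c
  obtain ⟨f, rfl⟩ := Groth.RefRank.residue_gen_bijective.2 F
  have hf : f ≠ 0 := fun h => hF (by rw [h, map_zero])
  rw [← finsum_eq_zero_of_proper_curve c hdim f hf]
  refine finsum_congr fun x => finsum_congr fun hx => ?_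
  rw [Groth.RefRank.ordAt_residue (ringKrullDim_stalk_closed c hdim x hx).le]
  rfl

theorem stalkMap_fiberι_bijective [IsIntegral Y] (p : X ⟶ Y) (η : Y) (hη : η = genericPoint Y)
    (w : p.fiber η) : Function.Bijective ((p.fiberι η).stalkMap w) := by
  subst hη
  refine ⟨?_, (p.fiberι (genericPoint Y)).stalkMap_surjective w⟩
  have hflat : Flat (p.fiberι (genericPoint Y)) := by
    have : Flat (Y.fromSpecResidueField (genericPoint Y)) := by
      have : IsIso (Y.residue (genericPoint Y)) :=
        (ConcreteCategory.isIso_iff_bijective _).mpr Groth.RefRank.residue_gen_bijective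
      rw [Scheme.fromSpecResidueField]
      exact MorphismProperty.comp_mem _ _ _ inferInstance (Groth.PropsBasic2.flat_fromSpecStalk _)
    exact MorphismProperty.IsStableUnderBaseChange.of_isPullback (P := @Flat)
      (IsPullback.of_hasPullback p (Y.fromSpecResidueField (genericPoint Y))).flip this
  algebraize [((p.fiberι (genericPoint Y)).stalkMap w).hom]
  have : Module.Flat (X.presheaf.stalk (p.fiberι (genericPoint Y) w))
      ((p.fiber (genericPoint Y)).presheaf.stalk w) := Flat.stalkMap _ w
  have : IsLocalHom (algebraMap (X.presheaf.stalk (p.fiberι (genericPoint Y) w))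
      ((p.fiber (genericPoint Y)).presheaf.stalk w)) :=
    inferInstanceAs (IsLocalHom ((p.fiberι (genericPoint Y)).stalkMap w).hom)
  have := Module.FaithfullyFlat.of_flat_of_isLocalHom
    (A := X.presheaf.stalk (p.fiberι (genericPoint Y) w))
    (B := (p.fiber (genericPoint Y)).presheaf.stalk w)
  exact FaithfulSMul.algebraMap_injective _ _

theorem residueDegree_of_preimmersion (f : X ⟶ Y) [IsPreimmersion f] (x : X) : f.residueDegree x = 1 := by
  letI := (f.residueFieldMap x).hom.toAlgebra
  exact (LinearEquiv.ofBijective (Algebra.linearMap (Y.residueField (f x)) (X.residueField x))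
    ⟨(f.residueFieldMap x).hom.injective, Groth.Variety2.Dim.residueFieldMap_surjective f x⟩).finrank_eq.symm.trans
      (Module.finrank_self _)

theorem residueDegree_fiberTo (p : X ⟶ Y) (η : Y) (w : p.fiber η) :
    (p.fiberToSpecResidueField η).residueDegree w = p.residueDegree (p.fiberι η w) := by
  have h := congrArg (fun f : p.fiber η ⟶ Y => f.residueDegree w) (p.fiber_fac η)
  simp only [residueDegree_comp, residueDegree_of_preimmersion, mul_one, one_mul] at h
  exact h.symm

theorem ordAt_eq_of_stalkMap_bijective [IsIntegral X] [IsIntegral Y] [IsLocallyNoetherian X]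
    [IsLocallyNoetherian Y] (f : X ⟶ Y) {w w0 : X} (hw0 : w0 = genericPoint X) (h0 : f w0 = genericPoint Y)
    (hX : w0 ⤳ w) (hY : f w0 ⤳ f w) (hd : Ring.KrullDimLE 1 (X.presheaf.stalk w))
    (hbij : Function.Bijective (f.stalkMap w)) (hres : Function.Bijective (f.residueFieldMap w0).hom)
    (F : Y.residueField (f w0)) :
    Cyc.ordAt w w0 hX ((f.residueFieldMap w0).hom F) = Cyc.ordAt (f w) (f w0) hY F := by
  let e := RingEquiv.ofBijective (f.stalkMap w).hom hbij
  have hdY : Ring.KrullDimLE 1 (Y.presheaf.stalk (f w)) := Ring.krullDimLE_iff.mpr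
    ((ringKrullDim_eq_of_ringEquiv e).le.trans (Ring.krullDimLE_iff.mp hd))
  rw [ordAt_generic_eq_ordFrac hw0 w hX hd, ordAt_generic_eq_ordFrac h0 (f w) hY hdY]
  letI := (Cyc.specMap (f w) (f w0) hY).toAlgebra
  letI := (Cyc.specMap w w0 hX).toAlgebra
  have := isFractionRing_stalk_residue h0 (f w) hY
  refine Groth.RefRank.ordFrac_transport (A := Y.presheaf.stalk (f w)) (K := Y.residueField (f w0))
    (f.stalkMap w).hom hbij (f.residueFieldMap w0).hom hres (fun a => ?_) F
  show (Y.presheaf.stalkSpecializes hY ≫ Y.residue (f w0) ≫ f.residueFieldMap w0) a =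
    (f.stalkMap w ≫ X.presheaf.stalkSpecializes hX ≫ X.residue w0) a
  rw [Scheme.residue_residueFieldMap, Scheme.Hom.stalkSpecializes_stalkMap_assoc]

theorem map_divFun_apply_generic [IsIntegral X] [IsIntegral Y] (δX : X → ℤ) (δY : Y → ℤ)
    (hX : Cyc.IsSetup X δX) (hY : Cyc.IsSetup Y δY) (p : X ⟶ Y) [IsProper p] (hδ : Cyc.DeltaCompat p δX δY)
    (η : Y) (hη : η = genericPoint Y) (ξ : X) (hξ : ξ = genericPoint X) (hdom : p ξ = η)
    (hn : δX ξ = δY η + 1) (f : X.residueField ξ) (hf : f ≠ 0) (α : AlgebraicCycle X ℤ)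
    (hα : ⇑α = Cyc.divFun δX ξ f) : AlgebraicCycle.map p δX δY α η = 0 := by
  classical
  have := hX.1
  have := hY.1
  have hsp : ∀ x : X, ξ ⤳ x := fun x => hξ ▸ genericPoint_specializes x
  have hover : ∀ z : X, p z = η → z ≠ ξ → δX z = δY η ∧ δX z + 1 = δX ξ := by
    intro z hz hne
    have h1 := (hX.2.2 ξ z (hsp z) hne.symm).1
    have h2 := delta_le_of_deltaCompat hδ z
    rw [hz] at h2
    omega
  by_cases hall : ∀ z : X, p z = η → z = ξ
  · rw [map_apply_eq_sum p δX δY α η {ξ} fun z hz _ => Finset.mem_singleton.mpr (hall z hz),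
      Finset.sum_singleton]
    split_ifs
    · rw [AlgebraicCycle.mapCoeff, if_neg (by rw [hdom]; omega)]
      simp
  push Not at hall
  obtain ⟨z₁, hz₁, hz₁ne⟩ := hall
  obtain ⟨w0, hw0⟩ : ξ ∈ Set.range (p.fiberι η) := by rw [p.range_fiberι]; exact hdom
  subst hw0
  have hspF : ∀ w : (p.fiber η), w0 ⤳ w := fun w => (p.fiberι η).isEmbedding.isInducing.specializes_iff.mp (hsp _)
  have hbij : ∀ w : (p.fiber η), Function.Bijective ((p.fiberι η).stalkMap w) := fun w => stalkMap_fiberι_bijective p η hη w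
  have hdomF : ∀ w : (p.fiber η), IsDomain ((p.fiber η).presheaf.stalk w) := fun w =>
    (RingEquiv.ofBijective ((p.fiberι η).stalkMap w).hom (hbij w)).symm.toMulEquiv.isDomain _
  have : ∀ w : (p.fiber η), _root_.IsReduced ((p.fiber η).presheaf.stalk w) := fun w => by
    have := hdomF w
    infer_instance
  have : IsReduced (p.fiber η) := isReduced_of_isReduced_stalk (p.fiber η)
  have hgenF : IsGenericPoint w0 (Set.univ : Set (p.fiber η)) := Set.eq_univ_of_forall fun w => (hspF w).mem_closure
  have : IrreducibleSpace (p.fiber η) :=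
    { isPreirreducible_univ := (hgenF.isIrreducible).isPreirreducible
      toNonempty := ⟨w0⟩ }
  have : IsIntegral (p.fiber η) := isIntegral_of_irreducibleSpace_of_isReduced (p.fiber η)
  have hw0gen : w0 = genericPoint (p.fiber η) := hgenF.eq (genericPoint_spec (p.fiber η))
  let c : (p.fiber η) ⟶ Spec (CommRingCat.of (Y.residueField η)) := p.fiberToSpecResidueField η
  have : IsProper c := MorphismProperty.pullback_snd (P := @IsProper) _ _ inferInstance
  have : IsLocallyNoetherian (p.fiber η) := LocallyOfFiniteType.isLocallyNoetherian c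
  have hpι : ∀ w : (p.fiber η), p ((p.fiberι η) w) = η := fun w => (p.range_fiberι η).le ⟨w, rfl⟩
  have hιlt : ∀ a b : (p.fiber η), a < b → (p.fiberι η) a < (p.fiberι η) b := fun a b h => by
    rw [lt_iff_specializes] at h ⊢
    exact ⟨h.1.map (p.fiberι η).continuous, fun e => h.2 ((p.fiberι η).isEmbedding.injective e)⟩
  obtain ⟨w₁, hw₁⟩ : z₁ ∈ Set.range (p.fiberι η) := by rw [p.range_fiberι]; exact hz₁
  have hdim : topologicalKrullDim (p.fiber η) = 1 := by
    rw [Groth.Variety2.Dim.dim_eq_height_genericPoint, ← hw0gen]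
    suffices Order.height w0 = 1 by rw [this]; rfl
    refine le_antisymm (Order.height_le fun s hs => ?_) (Order.one_le_iff_ne_zero.mpr ?_)
    · have h1 := length_le_delta_sub hX.2.2 (s.map (p.fiberι η) hιlt)
      have h2 : δY η ≤ δX ((p.fiberι η) s.head) := by
        have := delta_le_of_deltaCompat hδ ((p.fiberι η) s.head)
        rwa [hpι] at this
      rw [LTSeries.last_map, LTSeries.head_map, hs] at h1
      simp only [LTSeries.map_length] at h1
      exact_mod_cast (show (s.length : ℤ) ≤ 1 by omega)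
    · rw [Ne, Order.height_eq_zero]
      intro hmin
      exact hz₁ne (hw₁ ▸ congrArg (p.fiberι η) ((hspF w₁).antisymm (hmin (hspF w₁))).eq.symm)
  have hclosed : ∀ w : (p.fiber η), IsClosed ({w} : Set (p.fiber η)) ↔ w ≠ w0 := fun w => by
    rw [Groth.CurveBridge.isClosed_singleton_iff (p.fiber η) hdim, hw0gen]
  have hres : Function.Bijective ((p.fiberι η).residueFieldMap w0).hom :=
    ⟨((p.fiberι η).residueFieldMap w0).hom.injective, Groth.Variety2.Dim.residueFieldMap_surjective (p.fiberι η) w0⟩
  have key := finsum_ordAt_eq_zero_of_proper_curve c hdim w0 hw0gen hspF (((p.fiberι η).residueFieldMap w0).hom f)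
    ((map_ne_zero_iff _ hres.1).mpr hf)
  have hord : ∀ w : (p.fiber η), IsClosed ({w} : Set (p.fiber η)) →
      Cyc.ordAt w w0 (hspF w) (((p.fiberι η).residueFieldMap w0).hom f) = α ((p.fiberι η) w) := by
    intro w hw
    have hne : (p.fiberι η) w ≠ (p.fiberι η) w0 := fun e => (hclosed w).mp hw ((p.fiberι η).isEmbedding.injective e)
    rw [hα, divFun_apply_of f (hsp ((p.fiberι η) w)) (hover _ (hpι w) hne).2]
    exact ordAt_eq_of_stalkMap_bijective (p.fiberι η) hw0gen hξ (hspF w) (hsp _)
      (Ring.krullDimLE_iff.mpr (ringKrullDim_stalk_closed c hdim w hw).le) (hbij w) hres f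
  have hα0 : α ((p.fiberι η) w0) = 0 := by
    rw [hα, Cyc.divFun, dif_neg fun h => by have := h.2; omega]
  set s := (finite_preimage_inter_support p α η).toFinset
  have hs : ∀ x, x ∈ s ↔ p x = η ∧ α x ≠ 0 := fun x => by simp [s]
  have hinj : Set.InjOn (p.fiberι η) ((p.fiberι η) ⁻¹' (s : Set X)) := (p.fiberι η).isEmbedding.injective.injOn
  rw [finsum_cond_eq_sum_of_cond_iff (p := fun w : (p.fiber η) => IsClosed ({w} : Set (p.fiber η))) _
    (t := s.preimage (p.fiberι η) hinj)] at key
  · rw [map_apply_eq_sum p δX δY α η s fun x hx h => (hs x).mpr ⟨hx, h⟩,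
      ← Finset.sum_preimage (p.fiberι η) s hinj _ (fun x hx hr => (hr (by rw [p.range_fiberι]; exact ((hs x).mp hx).1)).elim),
      ← key]
    refine Finset.sum_congr rfl fun w hw => ?_
    obtain ⟨hpw, hαw⟩ := (hs _).mp (Finset.mem_preimage.mp hw)
    have hne : w ≠ w0 := fun e => hαw (e ▸ hα0)
    have hne' : (p.fiberι η) w ≠ (p.fiberι η) w0 := fun e => hne ((p.fiberι η).isEmbedding.injective e)
    rw [if_pos hpw, hord w ((hclosed w).mpr hne), AlgebraicCycle.mapCoeff,
      if_pos (by rw [hpw]; exact (hover _ hpw hne').1), residueDegree_fiberTo p η w, mul_comm]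
  · intro w hne
    refine ⟨fun hw => Finset.mem_preimage.mpr ((hs _).mpr ⟨hpι w, ?_⟩), fun hw => (hclosed w).mpr fun e => ?_⟩
    · rw [← hord w hw]
      exact right_ne_zero_of_mul hne
    · exact ((hs _).mp (Finset.mem_preimage.mp hw)).2 (e ▸ hα0)

theorem map_divFun_eq_zero [IsIntegral X] [IsIntegral Y] (δX : X → ℤ) (δY : Y → ℤ) (hX : Cyc.IsSetup X δX)
    (hY : Cyc.IsSetup Y δY) (p : X ⟶ Y) [IsProper p] (hδ : Cyc.DeltaCompat p δX δY) (ξ : X)
    (hξ : ξ = genericPoint X) (hdom : p ξ = genericPoint Y) (hn : δX ξ ≠ δY (genericPoint Y))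
    (f : X.residueField ξ) (hf : f ≠ 0) (α : AlgebraicCycle X ℤ) (hα : ⇑α = Cyc.divFun δX ξ f) :
    AlgebraicCycle.map p δX δY α = 0 := by
  classical
  ext y
  have h0 := delta_le_of_deltaCompat hδ ξ
  rw [hdom] at h0
  by_cases hy : y = genericPoint Y ∧ δX ξ = δY (genericPoint Y) + 1
  · exact map_divFun_apply_generic δX δY hX hY p hδ y hy.1 ξ hξ (hdom.trans hy.1.symm) (hy.1 ▸ hy.2) f hf α hα
  rw [map_apply_eq_sum p δX δY α y (finite_preimage_inter_support p α y).toFinset (fun x hx h => by simp [hx, h])]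
  refine Finset.sum_eq_zero fun x _ => ?_
  split_ifs with hxy
  · rw [AlgebraicCycle.mapCoeff]
    split_ifs with hd
    · rw [hα, Cyc.divFun, dif_neg fun h => hy ?_, zero_mul]
      have hle := delta_le_of_specializes hY.2.2 (genericPoint_specializes y)
      rw [hxy] at hd
      have hyη : y = genericPoint Y :=
        (eq_of_specializes_of_delta_le hY.2.2 (genericPoint_specializes y) (by omega)).symm
      refine ⟨hyη, ?_⟩
      have := h.2
      rw [hd, hyη] at this
      omega
    · simp
  · rfl

end Groth.Cycles
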