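import Groth.Agent.Cycles.ClosureDiv
import Groth.Agent.Cycles.GenFibre
import Groth.Agent.PropsBasic2.Reduced
import Groth.Agent.Misc6.Equidim

/-!
Proper pushforward of the principal divisor on the closure of a point.
-/

universe u

set_option autoImplicit false
set_option linter.style.haveILetI false

open CategoryTheory AlgebraicGeometry

namespace Groth.Cycles

variable {X Y Z W : Scheme.{u}}

theorem residueFieldMap_comp_apply (f : W ⟶ X) (g : X ⟶ Y) (w : W) (c : Y.residueField ((f ≫ g) w)) :
    ((f ≫ g).residueFieldMap w).hom c = (f.residueFieldMap w).hom ((g.residueFieldMap (f w)).hom c) := by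
  rw [Scheme.residueFieldMap_comp]
  rfl

theorem residueFieldMap_bijective (f : W ⟶ X) [IsPreimmersion f] (w : W) :
    Function.Bijective (f.residueFieldMap w).hom :=
  ⟨(f.residueFieldMap w).hom.injective, Groth.Variety2.Dim.residueFieldMap_surjective f w⟩

theorem normGen_comp_left (i : W ⟶ X) [IsPreimmersion i] (g : X ⟶ Y) (w : W) (b : X.residueField (i w)) :
    Cyc.normGen (i ≫ g) w ((i.residueFieldMap w).hom b) = Cyc.normGen g (i w) b := by
  letI := (g.residueFieldMap (i w)).hom.toAlgebra
  letI : Algebra (Y.residueField (g (i w))) (W.residueField w) := ((i ≫ g).residueFieldMap w).hom.toAlgebra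
  refine (Algebra.norm_eq_of_equiv_equiv (A₁ := Y.residueField (g (i w))) (A₂ := Y.residueField (g (i w)))
    (RingEquiv.refl _) (RingEquiv.ofBijective (i.residueFieldMap w).hom (residueFieldMap_bijective i w)) ?_ b).symm
  ext c
  exact residueFieldMap_comp_apply i g w c

theorem normGen_comp_right (g : W ⟶ X) (j : X ⟶ Y) [IsPreimmersion j] (w : W) (F : W.residueField w) :
    (j.residueFieldMap (g w)).hom (Cyc.normGen (g ≫ j) w F) = Cyc.normGen g w F := by
  letI := (g.residueFieldMap w).hom.toAlgebra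
  letI : Algebra (Y.residueField (j (g w))) (W.residueField w) := ((g ≫ j).residueFieldMap w).hom.toAlgebra
  let e := RingEquiv.ofBijective (j.residueFieldMap (g w)).hom (residueFieldMap_bijective j (g w))
  have h := Algebra.norm_eq_of_equiv_equiv (A₁ := Y.residueField (j (g w))) (A₂ := X.residueField (g w))
    e (RingEquiv.refl (W.residueField w)) (by
      ext c
      exact (residueFieldMap_comp_apply g j w c).symm) F
  show e (Algebra.norm (Y.residueField (j (g w))) F) = Algebra.norm (X.residueField (g w)) F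
  rw [h, e.apply_symm_apply]
  rfl

theorem divFun_normGen_congr {δ : Y → ℤ} {q q' : W ⟶ Y} (h : q = q') (w : W) (F : W.residueField w) :
    Cyc.divFun δ (q w) (Cyc.normGen q w F) = Cyc.divFun δ (q' w) (Cyc.normGen q' w F) := by
  subst h; rfl

theorem deltaCompat_restrict {δX : X → ℤ} {δY : Y → ℤ} (p : X ⟶ Y) (hδ : Cyc.DeltaCompat p δX δY)
    (i : W ⟶ X) [IsPreimmersion i] (j : Z ⟶ Y) [IsPreimmersion j] (p' : W ⟶ Z) (h : p' ≫ j = i ≫ p) :
    Cyc.DeltaCompat p' (δX ∘ i) (δY ∘ j) := by
  intro w
  obtain ⟨n, hn, hn'⟩ := hδ (i w)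
  refine ⟨n, ?_, ?_⟩
  · show Groth.Variety2.Dim.relTrdeg p' w = n
    rw [← relTrdeg_preimmersion_comp p' j w, h, Groth.Misc6.Equidim.relTrdeg_comp_preimmersion]
    exact hn
  · have : j (p' w) = p (i w) := by rw [← Scheme.Hom.comp_apply, h, Scheme.Hom.comp_apply]
    simp only [Function.comp_apply, this]
    exact hn'

/-- The pushforward of the principal divisor on the closure of `ξ`. -/
theorem exists_push_divFun (δX : X → ℤ) (δY : Y → ℤ) (hX : Cyc.IsSetup X δX)
    (hY : Cyc.IsSetup Y δY) (p : X ⟶ Y) [IsProper p] (hδ : Cyc.DeltaCompat p δX δY) (ξ : X)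
    (f : X.residueField ξ) (hf : f ≠ 0) :
    ∃ α : AlgebraicCycle X ℤ, ⇑α = Cyc.divFun δX ξ f ∧
      (δX ξ = δY (p ξ) → Cyc.normGen p ξ f ≠ 0 ∧
        ⇑(AlgebraicCycle.map p δX δY α) = Cyc.divFun δY (p ξ) (Cyc.normGen p ξ f)) ∧
      (δX ξ ≠ δY (p ξ) → AlgebraicCycle.map p δX δY α = 0) := by
  have := hX.1
  have := hY.1
  obtain ⟨W, i, _, _, _, hir, hiξ⟩ := closure_scheme ξ
  obtain ⟨Y', j, _, _, _, hjr, hjη⟩ := closure_scheme (p ξ)
  subst hiξ
  have : IsIntegral W := isIntegral_of_irreducibleSpace_of_isReduced W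
  have : IsIntegral Y' := isIntegral_of_irreducibleSpace_of_isReduced Y'
  obtain ⟨p', hp'⟩ := Groth.PropsBasic2.exists_lift_of_isReduced (i ≫ p) j (by
    rw [hjr]
    rintro _ ⟨z, rfl⟩
    rw [← specializes_iff_mem_closure, Scheme.Hom.comp_apply]
    exact ((genericPoint_specializes z).map i.continuous).map p.continuous)
  have hdom : p' (genericPoint W) = genericPoint Y' := j.isEmbedding.injective (by
    rw [hjη, ← Scheme.Hom.comp_apply, hp', Scheme.Hom.comp_apply])
  have hprop : IsProper p' := by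
    have : IsProper (p' ≫ j) := hp' ▸ inferInstance
    exact IsProper.of_comp p' j
  have hδ' := deltaCompat_restrict p hδ i j p' hp'
  have hW := isSetup_closedImmersion i hX
  have hY' := isSetup_closedImmersion j hY
  set F := (i.residueFieldMap (genericPoint W)).hom f with hFdef
  have hF : F ≠ 0 := (map_ne_zero_iff _ (i.residueFieldMap _).hom.injective).mpr hf
  obtain ⟨β, hβ⟩ := exists_cycle_eq_divFun hW (genericPoint W) rfl F hF
  have hpush : AlgebraicCycle.map p δX δY (AlgebraicCycle.map i (δX ∘ i) δX β) =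
      AlgebraicCycle.map j (δY ∘ j) δY (AlgebraicCycle.map p' (δX ∘ i) (δY ∘ j) β) := by
    rw [map_map_eq i p (deltaCompat_preimmersion i δX) hδ, map_map_eq p' j hδ' (deltaCompat_preimmersion j δY)]
    congr 1
    exact hp'.symm
  refine ⟨AlgebraicCycle.map i (δX ∘ i) δX β, map_closedImmersion_divFun i δX _ f β hβ, fun he => ?_, fun he => ?_⟩
  · have hn : (δX ∘ i) (genericPoint W) = (δY ∘ j) (genericPoint Y') := by
      simp only [Function.comp_apply, hjη]; exact he
    have h1 := map_divFun_eq (δX ∘ i) (δY ∘ j) hW hY' p' hδ' (genericPoint W) rfl hdom hn F hF β hβ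
    refine ⟨?_, ?_⟩
    · letI := (p.residueFieldMap (i (genericPoint W))).hom.toAlgebra
      have : Module.Finite (Y.residueField (p (i (genericPoint W)))) (X.residueField (i (genericPoint W))) := by
        refine finite_residueFieldMap_of_trdeg_eq_zero p _ ?_
        obtain ⟨n, hn1, hn2⟩ := hδ (i (genericPoint W))
        have h0 : n = 0 := by omega
        rw [h0, Nat.cast_zero] at hn1
        exact hn1
      exact Algebra.norm_ne_zero_iff.mpr hf
    · rw [hpush, ← normGen_comp_left i p (genericPoint W) f]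
      refine Eq.trans ?_ (divFun_normGen_congr hp' (genericPoint W) F)
      refine map_closedImmersion_divFun j δY (p' (genericPoint W)) _ _ ?_
      rw [normGen_comp_right]
      exact h1
  · rw [hpush, map_divFun_eq_zero (δX ∘ i) (δY ∘ j) hW hY' p' hδ' (genericPoint W) rfl hdom
      (by simp only [Function.comp_apply, hjη]; exact he) F hF β hβ]
    exact map_zero' j (δY ∘ j) δY
where
  map_zero' {Z Y : Scheme.{u}} (j : Z ⟶ Y) [QuasiCompact j] (a : Z → ℤ) (b : Y → ℤ) :
      AlgebraicCycle.map j a b (0 : AlgebraicCycle Z ℤ) = 0 := by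
    ext y
    rw [map_apply_eq_sum j a b 0 y ∅ fun x _ h => (h rfl).elim, Finset.sum_empty]
    rfl

open Classical in
/-- Proper pushforward of a cycle rationally equivalent to zero. -/
theorem ratEquivZero_map (δX : X → ℤ) (δY : Y → ℤ) (hX : Cyc.IsSetup X δX)
    (hY : Cyc.IsSetup Y δY) (p : X ⟶ Y) [IsProper p] (hδ : Cyc.DeltaCompat p δX δY) (k : ℤ)
    (c : AlgebraicCycle X ℤ) (h : Cyc.RatEquivZero δX k c) :
    Cyc.RatEquivZero δY k (AlgebraicCycle.map p δX δY c) := by
  obtain ⟨ι, ξ, f, hξ, hf, hlf, hc⟩ := h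
  choose α hα hαeq hαne using fun i => exists_push_divFun δX δY hX hY p hδ (ξ i) (f i) (hf i)
  -- finitely many members of the family meet a compact set
  have hmeet : ∀ K : Set X, IsCompact K → {i | (closure {ξ i} ∩ K).Nonempty}.Finite := by
    intro K hK
    choose U hUo hxU hUfin using hlf
    obtain ⟨s, hs⟩ := hK.elim_finite_subcover U hUo fun x _ => Set.mem_iUnion.mpr ⟨x, hxU x⟩
    refine ((s.finite_toSet.biUnion fun x _ => hUfin x)).subset ?_
    rintro i ⟨z, hz, hzK⟩
    obtain ⟨x, hxs, hzx⟩ := Set.mem_iUnion₂.mp (hs hzK)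
    exact Set.mem_biUnion hxs ⟨z, hz, hzx⟩
  have himg : ∀ i (y : Y), y ∈ closure {p (ξ i)} → ∃ x, x ∈ closure {ξ i} ∧ p x = y := by
    intro i y hy
    have := (p.isClosedMap _ (isClosed_closure (s := {ξ i})))
    obtain ⟨x, hx, rfl⟩ := this.closure_subset
      (closure_mono (Set.singleton_subset_iff.mpr (Set.mem_image_of_mem p (subset_closure (Set.mem_singleton (ξ i))))) hy)
    exact ⟨x, hx, rfl⟩
  refine ⟨{i // δY (p (ξ i)) = k + 1}, fun i => p (ξ i.1), fun i => Cyc.normGen p (ξ i.1) (f i.1),
    fun i => i.2, fun i => (hαeq i.1 (by rw [hξ, i.2])).1, fun y => ?_, fun y => ?_⟩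
  · obtain ⟨_, ⟨V, hV, rfl⟩, hyV, -⟩ :=
      Y.isBasis_affineOpens.exists_subset_of_mem_open (Set.mem_univ y) isOpen_univ
    refine ⟨V, V.isOpen, hyV, ((hmeet _ (p.isCompact_preimage hV.isCompact)).preimage
      Subtype.val_injective.injOn).subset ?_⟩
    rintro i ⟨z, hz, hzV⟩
    obtain ⟨x, hx, rfl⟩ := himg i.1 z hz
    exact ⟨x, hx, hzV⟩
  · have hfin := hmeet (p ⁻¹' {y}) (p.isCompact_preimage_singleton y)
    set I := hfin.toFinset with hI
    have hout : ∀ i ∉ I, ∀ x, p x = y → α i x = 0 := by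
      intro i hi x hx
      rw [hα, Cyc.divFun, dif_neg]
      exact fun h => hi (hfin.mem_toFinset.mpr ⟨x, h.1.mem_closure, hx⟩)
    have hsupp : ∀ i, AlgebraicCycle.map p δX δY (α i) y ≠ 0 → i ∈ I := fun i hne => by
      by_contra hi
      refine hne ?_
      rw [map_apply_eq_sum p δX δY (α i) y ∅ fun x hx h => (h (hout i hi x hx)).elim, Finset.sum_empty]
    set s := (finite_preimage_inter_support p c y).toFinset ∪
      I.biUnion fun i => (finite_preimage_inter_support p (α i) y).toFinset
    have hsum : ∀ x, p x = y → c x = ∑ i ∈ I, α i x := fun x hx => by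
      rw [hc x, finsum_congr fun i => congrFun (hα i).symm x]
      exact finsum_eq_sum_of_support_subset _ fun i hi => by
        by_contra h; exact hi (hout i h x hx)
    have e1 : AlgebraicCycle.map p δX δY c y = ∑ i ∈ I, AlgebraicCycle.map p δX δY (α i) y := by
      rw [map_apply_eq_sum p δX δY c y s fun x hx h => Finset.mem_union_left _ (by simp [hx, h]),
        Finset.sum_congr rfl fun i hi => map_apply_eq_sum p δX δY (α i) y s fun x hx h =>
          Finset.mem_union_right _ (Finset.mem_biUnion.mpr ⟨i, hi, by simp [hx, h]⟩),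
        Finset.sum_comm]
      refine Finset.sum_congr rfl fun x _ => ?_
      split_ifs with hx
      · rw [hsum x hx, Finset.sum_mul]
      · simp
    rw [e1, ← finsum_eq_sum_of_support_subset (s := I) (fun i => AlgebraicCycle.map p δX δY (α i) y)
      (fun i hi => hsupp i hi)]
    rw [finsum_subtype_eq_finsum_cond (f := fun i => Cyc.divFun δY (p (ξ i)) (Cyc.normGen p (ξ i) (f i)) y)
      (fun i => δY (p (ξ i)) = k + 1)]
    refine finsum_congr fun i => ?_
    rw [finsum_eq_if]
    split_ifs with hi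
    · rw [(hαeq i (by rw [hξ, hi])).2]
    · rw [hαne i (by rw [hξ]; exact Ne.symm hi)]
      rfl

theorem map_sub' (p : X ⟶ Y) [QuasiCompact p] (δX : X → ℤ) (δY : Y → ℤ) (a b : AlgebraicCycle X ℤ) :
    AlgebraicCycle.map p δX δY (a - b) = AlgebraicCycle.map p δX δY a - AlgebraicCycle.map p δX δY b := by
  classical
  ext y
  set s := (finite_preimage_inter_support p a y).toFinset ∪ (finite_preimage_inter_support p b y).toFinset
  have hz : ∀ x, p x = y → x ∉ s → a x = 0 ∧ b x = 0 := fun x hx hxs => by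
    simp only [s, Finset.mem_union, Set.Finite.mem_toFinset, Set.mem_ofPred_eq, hx, true_and, not_or, not_not] at hxs
    exact hxs
  simp only [Function.locallyFinsuppWithin.coe_sub, Pi.sub_apply]
  rw [map_apply_eq_sum p δX δY a y s fun x hx h => by_contra fun hxs => h (hz x hx hxs).1,
    map_apply_eq_sum p δX δY b y s fun x hx h => by_contra fun hxs => h (hz x hx hxs).2,
    map_apply_eq_sum p δX δY (a - b) y s fun x hx h => by_contra fun hxs => h (by
      simp [(hz x hx hxs).1, (hz x hx hxs).2]), ← Finset.sum_sub_distrib]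
  refine Finset.sum_congr rfl fun x _ => ?_
  split_ifs <;> simp [sub_mul]

end Groth.Cycles
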