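import Groth.Agent.Cycles.FlatDiv
import Groth.Agent.Cycles.PushDiv
import Groth.Agent.Cycles.Excision
import Groth.Agent.S9501

/-!
Flat pullback of the principal divisor on the closure of an arbitrary point, and of rational equivalences.
-/

universe u

set_option autoImplicit false
set_option linter.style.haveILetI false

open CategoryTheory AlgebraicGeometry IsLocalRing Limits
open Groth.CycleLimits

namespace Groth.Cycles

variable {X Y Z W : Scheme.{u}}

theorem fibreIdeal_congr {g g' : Z ⟶ Y} (e : g = g') (z : Z) : fibreIdeal g z = fibreIdeal g' z := by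
  subst e; rfl

theorem fibreIdeal_comp (f : X ⟶ Y) (g : Y ⟶ Z) (x : X) :
    fibreIdeal (f ≫ g) x = (fibreIdeal g (f x)).map (f.stalkMap x).hom := by
  rw [fibreIdeal, fibreIdeal, Ideal.map_map, Scheme.Hom.stalkMap_comp]
  rfl

theorem fibreIdeal_closedImmersion (j : Z ⟶ Y) [IsClosedImmersion j] (z : Z) :
    fibreIdeal j z = maximalIdeal (Z.presheaf.stalk z) :=
  map_maximalIdeal_of_surjective _ (j.stalkMap_surjective z)

/-- The comparison of the fibres of a base change along a closed immersion. -/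
noncomputable def fibreComparison (f : X ⟶ Y) (j : W ⟶ Y) (w : W) :
    (pullback.snd f j).fiber w ⟶ f.fiber (j w) :=
  pullback.map _ _ _ _ (pullback.fst f j) (Spec.map (j.residueFieldMap w)) j
    pullback.condition.symm (by simp)

theorem fibreComparison_fiberι (f : X ⟶ Y) (j : W ⟶ Y) (w : W) :
    fibreComparison f j w ≫ f.fiberι (j w) = (pullback.snd f j).fiberι w ≫ pullback.fst f j :=
  pullback.lift_fst _ _ _

instance isIso_fibreComparison (f : X ⟶ Y) (j : W ⟶ Y) [IsPreimmersion j] (w : W) :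
    IsIso (fibreComparison f j w) := by
  have hbij : IsIso (j.residueFieldMap w) :=
    (ConcreteCategory.isIso_iff_bijective _).mpr (residueFieldMap_bijective j w)
  exact (isPullback_fiberToSpecResidueField_of_isPullback (IsPullback.of_hasPullback f j) w).isIso_fst_of_isIso

/-- A closed immersion obtained by base change does not change the local rings of the fibres. -/
theorem ker_stalkMap_fst_le (f : X ⟶ Y) (j : W ⟶ Y) [IsClosedImmersion j] (z : ↥(pullback f j)) :
    RingHom.ker ((pullback.fst f j).stalkMap z).hom ≤ fibreIdeal f (pullback.fst f j z) := by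
  set f' := pullback.snd f j
  set i := pullback.fst f j
  suffices h : ∀ (w : W) (v : ↥(f'.fiber w)),
      RingHom.ker (i.stalkMap (f'.fiberι w v)).hom ≤ fibreIdeal f (i (f'.fiberι w v)) by
    exact f'.fiberι_asFiber z ▸ h (f' z) (f'.asFiber z)
  intro w v
  set φ := fibreComparison f j w
  have key : RingHom.ker (((φ ≫ f.fiberι (j w)).stalkMap v).hom) ≤
      fibreIdeal f ((φ ≫ f.fiberι (j w)) v) := by
    intro a ha
    rw [RingHom.mem_ker, Scheme.Hom.stalkMap_comp] at ha
    have hinj : Function.Injective (φ.stalkMap v).hom :=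
      ((ConcreteCategory.isIso_iff_bijective _).mp inferInstance).1
    refine (Groth.Agent.S9501.result f (j w) (φ v)).2.le ?_
    exact hinj (ha.trans (map_zero _).symm)
  have aux : ∀ g g' : (f'.fiber w) ⟶ X, g = g' →
      RingHom.ker (g.stalkMap v).hom ≤ fibreIdeal f (g v) →
      RingHom.ker (g'.stalkMap v).hom ≤ fibreIdeal f (g' v) := by
    rintro g g' rfl h; exact h
  have h := aux _ _ (fibreComparison_fiberι f j w) key
  intro a ha
  refine h ?_
  rw [RingHom.mem_ker, Scheme.Hom.stalkMap_comp]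
  show (f'.fiberι w).stalkMap v ((i.stalkMap (f'.fiberι w v)) a) = 0
  rw [RingHom.mem_ker.mp ha, map_zero]

theorem length_fibre_pullback (f : X ⟶ Y) (j : W ⟶ Y) [IsClosedImmersion j] (z : ↥(pullback f j)) :
    Module.length ((pullback f j).presheaf.stalk z)
        ((pullback f j).presheaf.stalk z ⧸ fibreIdeal (pullback.snd f j) z) =
      Module.length (X.presheaf.stalk (pullback.fst f j z))
        (X.presheaf.stalk (pullback.fst f j z) ⧸ fibreIdeal f (pullback.fst f j z)) := by
  set f' := pullback.snd f j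
  set i := pullback.fst f j
  letI : Algebra (X.presheaf.stalk (i z)) ((pullback f j).presheaf.stalk z) := (i.stalkMap z).hom.toAlgebra
  have hsurj : Function.Surjective (algebraMap (X.presheaf.stalk (i z)) ((pullback f j).presheaf.stalk z)) :=
    i.stalkMap_surjective z
  have hI : fibreIdeal f' z = (fibreIdeal f (i z)).map
      (algebraMap (X.presheaf.stalk (i z)) ((pullback f j).presheaf.stalk z)) := by
    rw [RingHom.algebraMap_toAlgebra, ← fibreIdeal_comp, fibreIdeal_congr (pullback.condition (f := f) (g := j)),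
      fibreIdeal_comp, fibreIdeal_closedImmersion j]
  rw [hI]
  let π : X.presheaf.stalk (i z) →ₗ[X.presheaf.stalk (i z)] (pullback f j).presheaf.stalk z ⧸
      (fibreIdeal f (i z)).map (algebraMap _ ((pullback f j).presheaf.stalk z)) :=
    (Ideal.Quotient.mkₐ (X.presheaf.stalk (i z)) _).toLinearMap.comp (Algebra.linearMap _ _)
  have hπ : Function.Surjective π := Ideal.Quotient.mk_surjective.comp hsurj
  have hker : LinearMap.ker π = fibreIdeal f (i z) := by
    ext a
    rw [LinearMap.mem_ker]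
    show Ideal.Quotient.mk _ (algebraMap _ _ a) = 0 ↔ _
    rw [Ideal.Quotient.eq_zero_iff_mem, ← Ideal.mem_comap, Ideal.comap_map_of_surjective _ hsurj,
      sup_eq_left.mpr]
    exact ker_stalkMap_fst_le f j z
  exact (Module.length_eq_of_surjective (R := (pullback f j).presheaf.stalk z)
      (S := X.presheaf.stalk (i z)) hsurj).symm.trans
    (((Submodule.quotEquivOfEq _ _ hker).symm.trans (π.quotKerEquivOfSurjective hπ)).length_eq).symm

theorem hasRelDim_pullback_snd (f : X ⟶ Y) {r : ℕ} (hr : Cyc.HasRelDim f r) (j : W ⟶ Y) [IsPreimmersion j] :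
    Cyc.HasRelDim (pullback.snd f j) r := by
  intro w T hT
  let e := (fibreComparison f j w).homeomorph
  have hT' : e '' T ∈ irreducibleComponents ↥(f.fiber (j w)) := by
    refine ⟨hT.1.image _ e.continuous.continuousOn, fun V hV hTV => ?_⟩
    have h := hT.2 (hV.image e.symm e.symm.continuous.continuousOn)
      (fun t ht => ⟨e t, hTV ⟨t, ht, rfl⟩, e.symm_apply_apply t⟩)
    intro v hv
    exact ⟨e.symm v, h ⟨v, hv, rfl⟩, e.apply_symm_apply v⟩
  exact (IsHomeomorph.topologicalKrullDim_eq _ (e.image T).isHomeomorph).trans (hr (j w) _ hT')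

/-- There are only finitely many generic points of components in a quasi-compact set. -/
theorem finite_maximal_inter [IsLocallyNoetherian X] {V : X.Opens} (hV : IsAffineOpen V) :
    {ξ : X | (∀ z : X, z ⤳ ξ → z = ξ) ∧ ξ ∈ V}.Finite := by
  have : TopologicalSpace.NoetherianSpace (V : Set X) := by
    have hVn : IsNoetherianRing Γ(X, V) := IsLocallyNoetherian.component_noetherian ⟨V, hV⟩
    exact noetherianSpace_of_isAffineOpen V hV
  have hfin := (TopologicalSpace.NoetherianSpace.finite_irreducibleComponents (α := (V : Set X)))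
  refine (hfin.preimage (f := fun ξ : (V : Set X) => closure {ξ})
    (s := irreducibleComponents (V : Set X)) ?_).image Subtype.val |>.subset ?_
  · intro a _ b _ h
    exact (inseparable_iff_closure_eq.mpr h).eq
  · rintro ξ ⟨hmax, hξV⟩
    refine ⟨⟨ξ, hξV⟩, ⟨isIrreducible_singleton.closure, fun T hT hsub => ?_⟩, rfl⟩
    intro t ht
    have hT' := (hT.image Subtype.val continuous_subtype_val.continuousOn).closure
    have hg := hT'.isGenericPoint_genericPoint isClosed_closure
    have hξT : ξ ∈ closure (Subtype.val '' T) :=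
      subset_closure ⟨⟨ξ, hξV⟩, hsub (subset_closure rfl), rfl⟩
    have hgξ := hmax _ (hg.specializes hξT)
    rw [closure_subtype]
    simp only [Set.image_singleton]
    rw [← hgξ, hg.def]
    exact subset_closure ⟨t, ht, rfl⟩

theorem ordFrac_pow {A : Type u} [CommRing A] {K : Type u} [Field K] [Algebra A K] (F : K) (hF : F ≠ 0) :
    ∀ n : ℕ, CycAlg.ordFrac A K (F ^ n) = n * CycAlg.ordFrac A K F := by
  by_cases hA : IsNoetherianRing A ∧ Ring.KrullDimLE 1 A ∧ Nontrivial A ∧ IsFractionRing A K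
  · obtain ⟨_, _, _, _⟩ := hA
    have : IsDomain A := (IsFractionRing.injective A K).isDomain
    intro n
    induction n with
    | zero => simp [Groth.RefRank.ordFrac_one']
    | succ n ih =>
      rw [pow_succ, Groth.RefRank.ordFrac_mul' (pow_ne_zero n hF) hF, ih]
      push_cast; ring
  · intro n
    unfold CycAlg.ordFrac
    rw [dif_neg hA, dif_neg hA, mul_zero]

theorem divFun_pow (δ : X → ℤ) (ξ : X) (F : X.residueField ξ) (hF : F ≠ 0) (n : ℕ) (x : X) :
    Cyc.divFun δ ξ (F ^ n) x = n * Cyc.divFun δ ξ F x := by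
  unfold Cyc.divFun
  split_ifs
  · exact ordFrac_pow F hF n
  · rw [mul_zero]

theorem divFun_preimmersion (i : Z ⟶ X) [IsPreimmersion i] (δ : X → ℤ) (η z : Z)
    (F : X.residueField (i η)) :
    Cyc.divFun δ (i η) F (i z) = Cyc.divFun (δ ∘ i) η ((i.residueFieldMap η).hom F) z := by
  by_cases h : η ⤳ z ∧ δ (i z) + 1 = δ (i η)
  · rw [Cyc.divFun, dif_pos ⟨h.1.map i.continuous, h.2⟩, Cyc.divFun,
      dif_pos (show η ⤳ z ∧ (δ ∘ i) z + 1 = (δ ∘ i) η from h)]
    exact (ordAt_preimmersion i _ _ F).symm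
  · rw [Cyc.divFun, dif_neg, Cyc.divFun, dif_neg (show ¬(η ⤳ z ∧ (δ ∘ i) z + 1 = (δ ∘ i) η) from h)]
    exact fun h' => h ⟨i.isEmbedding.isInducing.specializes_iff.mp h'.1, h'.2⟩

/-- The flat pullback of the principal divisor on the closure of any point is a locally finite sum of
principal divisors. -/
theorem exists_pull_family (δX : X → ℤ) (δY : Y → ℤ) (hX : Cyc.IsSetup X δX) (hY : Cyc.IsSetup Y δY)
    (f : X ⟶ Y) [Flat f] (c : ℤ) (hc : ∀ x, IsFibreGeneric f x → δX x = δY (f x) + c) (η : Y) (g : Y.residueField η) (hg : g ≠ 0) :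
    ∃ (κ : Type u) (ξ : κ → X) (F : (a : κ) → X.residueField (ξ a)),
      (∀ a, F a ≠ 0) ∧ (∀ a, δX (ξ a) = δY η + c) ∧ (∀ a, f (ξ a) = η) ∧
      (∀ V : X.Opens, IsAffineOpen V → {a | (closure {ξ a} ∩ (V : Set X)).Nonempty}.Finite) ∧
      ∀ x, Cyc.pullFun f δX δY c (Cyc.divFun δY η g) x = ∑ᶠ a, Cyc.divFun δX (ξ a) (F a) x := by
  have := hX.1
  obtain ⟨W, j, _, _, _, hjr, rfl⟩ := closure_scheme η
  have : IsIntegral W := isIntegral_of_irreducibleSpace_of_isReduced W
  set f' := pullback.snd f j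
  set i := pullback.fst f j
  set g' := (j.residueFieldMap (genericPoint W)).hom g
  have hg' : g' ≠ 0 := (map_ne_zero_iff _ (j.residueFieldMap _).hom.injective).mpr hg
  have hZ := isSetup_closedImmersion i hX
  have hW := isSetup_closedImmersion j hY
  have hc' : ∀ z, IsFibreGeneric f' z → (δX ∘ i) z = (δY ∘ j) (f' z) + c := fun z hz => by
    have hsq : f (i z) = j (f' z) := by
      rw [← Scheme.Hom.comp_apply, pullback.condition, Scheme.Hom.comp_apply]
    refine (hc (i z) fun y hy hs => ?_).trans (by rw [hsq]; rfl)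
    obtain ⟨z', rfl, hz'⟩ := Scheme.Pullback.exists_preimage_pullback (f := f) (g := j) y (f' z) (hy.trans hsq)
    rw [hz z' hz' (i.isEmbedding.isInducing.specializes_iff.mp hs)]
  have := hZ.1
  have key := pullFun_divFun (δX ∘ i) (δY ∘ j) hZ hW f' c hc' (genericPoint W) rfl g' hg'
  let κ := {ξ : ↥(pullback f j) // (∀ z : ↥(pullback f j), z ⤳ ξ → z = ξ) ∧ f' ξ = genericPoint W}
  choose Φ hΦ using fun a : κ => (residueFieldMap_bijective i a.1).2
    (f'.residueFieldMap a.1 ((W.residueFieldCongr a.2.2.symm).hom g'))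
  have hΦ0 : ∀ a, Φ a ≠ 0 := fun a h0 => by
    have h := hΦ a
    rw [h0, map_zero] at h
    exact (map_ne_zero_iff _ (f'.residueFieldMap a.1).hom.injective).mpr
      ((map_ne_zero_iff _ (W.residueFieldCongr a.2.2.symm).hom.hom.injective).mpr hg') h.symm
  let n : κ → ℕ := fun a => (Module.length ((pullback f j).presheaf.stalk a.1)
    ((pullback f j).presheaf.stalk a.1)).toNat
  refine ⟨κ, fun a => i a.1, fun a => Φ a ^ n a, fun a => pow_ne_zero _ (hΦ0 a), fun a => ?_, fun a => ?_,
    fun V hV => ?_, fun x => ?_⟩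
  · exact delta_eq_of_max f' hc' a.2.1
  · rw [← Scheme.Hom.comp_apply, pullback.condition, Scheme.Hom.comp_apply, a.2.2]
  · have hfin := finite_maximal_inter (X := pullback f j) (hV.preimage i)
    refine (hfin.preimage (f := Subtype.val) Subtype.val_injective.injOn).subset ?_
    rintro a ⟨x, hx, hxV⟩
    refine ⟨a.2.1, ?_⟩
    show i a.1 ∈ V
    exact (specializes_iff_mem_closure.mpr hx).mem_open V.isOpen hxV
  · by_cases hx : x ∈ Set.range i
    · obtain ⟨z, rfl⟩ := hx
      have hterm : ∀ a : κ, Cyc.divFun δX (i a.1) (Φ a ^ n a) (i z) = pullTerm f' (δX ∘ i) g' z a := by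
        intro a
        rw [divFun_pow δX _ _ (hΦ0 a), divFun_preimmersion i δX a.1 z, hΦ a]
        rfl
      rw [finsum_congr hterm, ← key z]
      have hfz : f (i z) = j (f' z) := by
        rw [← Scheme.Hom.comp_apply, pullback.condition, Scheme.Hom.comp_apply]
      show (if _ then _ else _) = if _ then _ else _
      simp only [Function.comp_apply, hfz, divFun_preimmersion j δY]
      rw [show ((Module.length (X.presheaf.stalk (i z)) (X.presheaf.stalk (i z) ⧸ fibreIdeal f (i z)))) =
        Module.length ((pullback f j).presheaf.stalk z) ((pullback f j).presheaf.stalk z ⧸ fibreIdeal f' z)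
        from (length_fibre_pullback f j z).symm]
    · have hfx : f x ∉ closure {j (genericPoint W)} := by
        rintro h
        rw [← hjr] at h
        obtain ⟨w, hw⟩ := h
        obtain ⟨z, hz1, -⟩ := Scheme.Pullback.exists_preimage_pullback (f := f) (g := j) x w hw.symm
        exact hx ⟨z, hz1⟩
      rw [Cyc.pullFun]
      simp only [divFun_eq_zero_of_notMem g hfx, zero_mul, ite_self]
      refine (finsum_eq_zero_of_forall_eq_zero fun a => divFun_eq_zero_of_notMem _ fun h => hx ?_).symm
      exact i.isClosedEmbedding.isClosed_range.closure_subset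
        (closure_mono (Set.singleton_subset_iff.mpr (Set.mem_range_self a.1)) h)

/-- Flat pullback respects rational equivalence to zero. -/
theorem ratEquivZero_pullFun (δX : X → ℤ) (δY : Y → ℤ) (hX : Cyc.IsSetup X δX) (hY : Cyc.IsSetup Y δY)
    (f : X ⟶ Y) [Flat f] (c : ℤ) (hc : ∀ x, IsFibreGeneric f x → δX x = δY (f x) + c) (k : ℤ) (γ : AlgebraicCycle Y ℤ) (h : Cyc.RatEquivZero δY k γ)
    (γ' : AlgebraicCycle X ℤ) (hγ' : ⇑γ' = Cyc.pullFun f δX δY c ⇑γ) :
    Cyc.RatEquivZero δX (k + c) γ' := by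
  classical
  obtain ⟨ι, η, g, hη, hg, hlf, hsumγ⟩ := h
  choose κ ξ F hF hξ hfξ hfin hsum using fun i => exists_pull_family δX δY hX hY f c hc (η i) (g i) (hg i)
  -- only finitely many members of the new family meet an affine open
  have hfinV : ∀ V : X.Opens, IsAffineOpen V →
      {p : Σ i, κ i | (closure {ξ p.1 p.2} ∩ (V : Set X)).Nonempty}.Finite := by
    intro V hV
    have h1 := finite_of_isCompact η hlf (hV.isCompact.image f.continuous)
    refine (h1.biUnion fun i _ => (hfin i V hV).image (Sigma.mk i)).subset ?_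
    rintro ⟨i, a⟩ ⟨x, hx, hxV⟩
    refine Set.mem_biUnion (x := i) ⟨f x, ?_, x, hxV, rfl⟩ ⟨a, ⟨x, hx, hxV⟩, rfl⟩
    exact (hfξ i a ▸ (specializes_iff_mem_closure.mpr hx).map f.continuous).mem_closure
  refine ⟨Σ i, κ i, fun p => ξ p.1 p.2, fun p => F p.1 p.2, fun p => ?_, fun p => hF _ _, fun x => ?_, fun x => ?_⟩
  · rw [hξ, hη]; ring
  · obtain ⟨_, ⟨V, hV, rfl⟩, hxV, -⟩ :=
      X.isBasis_affineOpens.exists_subset_of_mem_open (Set.mem_univ x) isOpen_univ
    exact ⟨V, V.isOpen, hxV, hfinV V hV⟩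
  · obtain ⟨_, ⟨V, hV, rfl⟩, hxV, -⟩ :=
      X.isBasis_affineOpens.exists_subset_of_mem_open (Set.mem_univ x) isOpen_univ
    have hs : Function.support (fun p : Σ i, κ i => Cyc.divFun δX (ξ p.1 p.2) (F p.1 p.2) x) ⊆
        ((hfinV V hV).toFinset : Set (Σ i, κ i)) := fun p hp => by
      refine (hfinV V hV).mem_toFinset.mpr ⟨x, ?_, hxV⟩
      by_contra hn
      exact hp (divFun_eq_zero_of_notMem _ hn)
    have hsig : ∑ᶠ p : Σ i, κ i, Cyc.divFun δX (ξ p.1 p.2) (F p.1 p.2) x =
        ∑ᶠ i, ∑ᶠ a, Cyc.divFun δX (ξ i a) (F i a) x := finsum_sigma' _ ((hfinV V hV).subset fun p hp =>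
          (hfinV V hV).mem_toFinset.mp (hs hp))
    rw [hsig, ← finsum_congr fun i => hsum i x, hγ']
    unfold Cyc.pullFun
    split_ifs
    · rw [hsumγ, finsum_mul]
    · exact finsum_zero.symm
where
  finsum_sigma' {ι : Type u} {κ : ι → Type u} (φ : (Σ i, κ i) → ℤ) (h : (Function.support φ).Finite) :
      ∑ᶠ p, φ p = ∑ᶠ i, ∑ᶠ a, φ ⟨i, a⟩ := by
    classical
    let s := (h.toFinset.image Sigma.fst).sigma fun i => h.toFinset.preimage (Sigma.mk i) sigma_mk_injective.injOn
    have hmem : ∀ p, φ p ≠ 0 → p ∈ s := fun p hp => by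
      have : p ∈ h.toFinset := h.mem_toFinset.mpr hp
      exact Finset.mem_sigma.mpr ⟨Finset.mem_image_of_mem _ this, Finset.mem_preimage.mpr this⟩
    rw [finsum_eq_sum_of_support_subset φ (s := s) fun p hp => hmem p hp, Finset.sum_sigma,
      finsum_eq_sum_of_support_subset _ (s := h.toFinset.image Sigma.fst) fun i hi => ?_]
    · refine Finset.sum_congr rfl fun i _ => (finsum_eq_sum_of_support_subset _ fun a ha => ?_).symm
      exact (Finset.mem_sigma.mp (hmem ⟨i, a⟩ ha)).2
    · obtain ⟨a, ha⟩ : ∃ a, φ ⟨i, a⟩ ≠ 0 := by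
        by_contra! hn
        exact hi (finsum_eq_zero_of_forall_eq_zero hn)
      exact Finset.mem_image.mpr ⟨⟨i, a⟩, h.mem_toFinset.mpr ha, rfl⟩

end Groth.Cycles
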