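import Groth.Agent.Cycles.PullComp
import Groth.Agent.Cycles.PushCyc
import Groth.Agent.FlatMor2.Weighting.FlatLength
import Mathlib.AlgebraicGeometry.Morphisms.FlatRank

/-!
Flat base change commutes with pushforward of cycles.
-/

universe u

set_option autoImplicit false
set_option linter.style.haveILetI false

open CategoryTheory AlgebraicGeometry IsLocalRing Limits
open Groth.CycleLimits

namespace Groth.Cycles

variable {X X' Y : Scheme.{u}}

theorem fibreIdeal_field {T : Scheme.{u}} {k : Type u} [Field k] (g : T ⟶ Spec (CommRingCat.of k)) (t : T) :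
    fibreIdeal g t = ⊥ := by
  refine (Ideal.map_eq_bot_iff_le_ker _).mpr (le_trans (le_of_eq ?_) bot_le)
  refine IsLocalRing.isField_iff_maximalIdeal_eq.mp ?_
  exact Field.toIsField (Spec (CommRingCat.of k)).functionField |> fun h => by
    have : g t = genericPoint (Spec (CommRingCat.of k)) := Subsingleton.elim _ _
    rw [this]; exact h

/-- The projection of the fibre of a base change onto the fibre. -/
noncomputable def fibreProj (f : Y ⟶ X) (p : X' ⟶ X) (y : Y) :
    (pullback.fst f p).fiber y ⟶ p.fiber (f y) :=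
  pullback.map _ _ _ _ (pullback.snd f p) (Spec.map (f.residueFieldMap y)) f
    pullback.condition (by simp)

theorem fibreProj_fiberι (f : Y ⟶ X) (p : X' ⟶ X) (y : Y) :
    fibreProj f p y ≫ p.fiberι (f y) = (pullback.fst f p).fiberι y ≫ pullback.snd f p :=
  pullback.lift_fst _ _ _

theorem isPullback_fibreProj (f : Y ⟶ X) (p : X' ⟶ X) (y : Y) :
    IsPullback (fibreProj f p y) ((pullback.fst f p).fiberToSpecResidueField y)
      (p.fiberToSpecResidueField (f y)) (Spec.map (f.residueFieldMap y)) :=
  isPullback_fiberToSpecResidueField_of_isPullback (IsPullback.of_hasPullback f p).flip y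

instance flat_SpecMap_residueFieldMap (f : Y ⟶ X) (y : Y) : Flat (Spec.map (f.residueFieldMap y)) := by
  rw [HasRingHomProperty.Spec_iff (P := @Flat)]
  exact RingHom.Flat.of_isField (Field.toIsField _) _

instance flat_fibreProj (f : Y ⟶ X) (p : X' ⟶ X) (y : Y) : Flat (fibreProj f p y) :=
  MorphismProperty.of_isPullback (isPullback_fibreProj f p y).flip (flat_SpecMap_residueFieldMap f y)

/-- A generic point of a fibre of the base change maps to a generic point of a fibre. -/
theorem isFibreGeneric_snd_of_fst (f : Y ⟶ X) (p : X' ⟶ X) {z : ↥(pullback f p)}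
    (h : IsFibreGeneric (pullback.fst f p) z) : IsFibreGeneric p (pullback.snd f p z) := by
  set q := pullback.fst f p
  set f' := pullback.snd f p
  intro w hw hwx
  set φ := fibreProj f p (q z)
  set t := q.asFiber z
  have ht : q.fiberι (q z) t = z := q.fiberι_asFiber z
  have hφ : ∀ v, p.fiberι (f (q z)) (φ v) = f' (q.fiberι (q z) v) := fun v => by
    rw [← Scheme.Hom.comp_apply, fibreProj_fiberι, Scheme.Hom.comp_apply]
  obtain ⟨v, hv⟩ : w ∈ Set.range (p.fiberι (f (q z))) := by
    rw [Scheme.Hom.range_fiberι, Set.mem_preimage, Set.mem_singleton_iff, hw, ← Scheme.Hom.comp_apply,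
      ← Scheme.Hom.comp_apply, ← pullback.condition]
  have hvt : v ⤳ φ t := (p.fiberι _).isEmbedding.isInducing.specializes_iff.mp (by rwa [hv, hφ, ht])
  obtain ⟨t', ht', hv'⟩ := (AlgebraicGeometry.Flat.generalizingMap φ) hvt
  have hz' := h (q.fiberι (q z) t') (Groth.FibreDim.apply_fiberι q _ t') ((ht'.map (q.fiberι _).continuous).trans (specializes_of_eq ht))
  rw [← hv, ← hv', hφ, hz']

/-- The sum over the points above a pair: degree times length. -/
theorem sum_length_mul_residueDegree (f : Y ⟶ X) (p : X' ⟶ X) (y : Y) (x' : X') (hxy : f y = p x')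
    (hfin : (f.residueFieldMap y).hom.Finite) (s : Finset ↥(pullback f p))
    (hs : ∀ z, z ∈ s → pullback.fst f p z = y ∧ pullback.snd f p z = x')
    (hs' : ∀ z, pullback.fst f p z = y → pullback.snd f p z = x' →
      (Module.length ((pullback f p).presheaf.stalk z)
        ((pullback f p).presheaf.stalk z ⧸ fibreIdeal (pullback.fst f p) z)).toNat ≠ 0 → z ∈ s) :
    ∑ z ∈ s, (Module.length ((pullback f p).presheaf.stalk z)
        ((pullback f p).presheaf.stalk z ⧸ fibreIdeal (pullback.fst f p) z)).toNat *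
          (pullback.snd f p).residueDegree z =
      (Module.length (X'.presheaf.stalk x') (X'.presheaf.stalk x' ⧸ fibreIdeal p x')).toNat *
        f.residueDegree y := by
  classical
  set q := pullback.fst f p
  set f' := pullback.snd f p
  obtain ⟨u, rfl⟩ : x' ∈ Set.range (p.fiberι (f y)) := by
    rw [Scheme.Hom.range_fiberι]; exact hxy.symm
  set φ := fibreProj f p y
  have : IsFinite (Spec.map (f.residueFieldMap y)) := (IsFinite.SpecMap_iff _).mpr hfin
  have hsq := isPullback_fibreProj f p y
  have : IsFinite φ := MorphismProperty.of_isPullback hsq.flip ‹IsFinite (Spec.map (f.residueFieldMap y))›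
  have : IsFinite (φ.fiberToSpecResidueField u : φ.fiber u ⟶ Spec (CommRingCat.of ((p.fiber (f y)).residueField u))) :=
    MorphismProperty.of_isPullback (IsPullback.of_hasPullback φ _) ‹IsFinite φ›
  let z0 : ↥(Spec (CommRingCat.of ((p.fiber (f y)).residueField u))) :=
    IsLocalRing.closedPoint ((p.fiber (f y)).residueField u)
  have hrank : (φ.fiberToSpecResidueField u : φ.fiber u ⟶ Spec (CommRingCat.of ((p.fiber (f y)).residueField u))).finrank z0 =
      f.residueDegree y := by
    show (pullback.snd φ ((p.fiber (f y)).fromSpecResidueField u)).finrank z0 = _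
    rw [Scheme.Hom.finrank_pullback_snd,
      Scheme.Hom.finrank_of_isPullback _ φ (Spec.map (f.residueFieldMap y)) _ hsq.flip]
    letI := (f.residueFieldMap y).hom.toAlgebra
    have hf : Module.Finite (X.residueField (f y)) (Y.residueField y) := hfin
    refine (Scheme.Hom.finrank_SpecMap_algebraMap (X.residueField (f y)) (Y.residueField y) _).trans ?_
    rw [Module.rankAtStalk_eq_finrank_of_free]
    rfl
  let g : φ.fiber u ⟶ Spec (CommRingCat.of ((p.fiber (f y)).residueField u)) := φ.fiberToSpecResidueField u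
  have : IsFinite g := ‹_›
  obtain ⟨hTf, -⟩ := Misc3Fib.finite_discrete_of_isFinite g
  have := Fintype.ofFinite (φ.fiber u)
  have key := Groth.FlatMor2.finsum_length_mul_residueDegree g z0
  rw [finsum_eq_sum_of_fintype, show g.finrank z0 = f.residueDegree y from hrank] at key
  -- the point of the base change attached to a point of the fibre
  let ε : φ.fiber u → ↥(pullback f p) := fun v => q.fiberι y (φ.fiberι u v)
  have hεinj : Function.Injective ε :=
    (q.fiberι y).isEmbedding.injective.comp (φ.fiberι u).isEmbedding.injective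
  have hφ : ∀ v, p.fiberι (f y) (φ v) = f' (q.fiberι y v) := fun v => by
    rw [← Scheme.Hom.comp_apply, fibreProj_fiberι, Scheme.Hom.comp_apply]
  have hεq : ∀ v, q (ε v) = y := fun v => Groth.FibreDim.apply_fiberι q _ _
  have hεf : ∀ v, f' (ε v) = p.fiberι (f y) u := fun v => by
    rw [← hφ, Groth.FibreDim.apply_fiberι φ]
  -- lengths
  have hlen : ∀ v, Module.length ((pullback f p).presheaf.stalk (ε v))
      ((pullback f p).presheaf.stalk (ε v) ⧸ fibreIdeal q (ε v)) =
        Module.length (X'.presheaf.stalk (p.fiberι (f y) u))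
          (X'.presheaf.stalk (p.fiberι (f y) u) ⧸ fibreIdeal p (p.fiberι (f y) u)) *
          Module.length ((φ.fiber u).presheaf.stalk v) ((φ.fiber u).presheaf.stalk v) := by
    intro v
    set t := φ.fiberι u v
    have h0 : ∀ {k : Type u} [Field k] {T : Scheme.{u}} (g : T ⟶ Spec (CommRingCat.of k)) (a : T),
        Module.length (T.presheaf.stalk a) (T.presheaf.stalk a ⧸ fibreIdeal g a) =
          Module.length (T.presheaf.stalk a) (T.presheaf.stalk a) := fun g a => by
      rw [fibreIdeal_field]
      exact (Submodule.quotEquivOfEqBot _ rfl).length_eq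
    let p0 : p.fiber (f y) ⟶ Spec (CommRingCat.of (X.residueField (f y))) := p.fiberToSpecResidueField (f y)
    have h1 : Module.length (((pullback.fst f p).fiber y).presheaf.stalk t)
        (((pullback.fst f p).fiber y).presheaf.stalk t) =
        Module.length ((p.fiber (f y)).presheaf.stalk (φ t)) ((p.fiber (f y)).presheaf.stalk (φ t)) *
          Module.length (((pullback.fst f p).fiber y).presheaf.stalk t)
            (((pullback.fst f p).fiber y).presheaf.stalk t ⧸ fibreIdeal φ t) :=
      (h0 (φ ≫ p0) t).symm.trans ((length_fibre_comp φ p0 t).trans (congrArg (· * _) (h0 p0 (φ t))))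
    have h2 := Groth.FlatMor2.fibLength_asFiber q y t
    have h3 := Groth.FlatMor2.fibLength_asFiber p (f y) u
    have h4 := Groth.FlatMor2.fibLength_asFiber φ u v
    unfold Groth.FlatMor2.fibLength at h2 h3 h4
    have h5 : φ t = u := Groth.FibreDim.apply_fiberι φ _ _
    have h6 : Module.length ((p.fiber (f y)).presheaf.stalk (φ t)) ((p.fiber (f y)).presheaf.stalk (φ t)) =
        Module.length ((p.fiber (f y)).presheaf.stalk u) ((p.fiber (f y)).presheaf.stalk u) :=
      congrArg (fun a => Module.length ((p.fiber (f y)).presheaf.stalk a) ((p.fiber (f y)).presheaf.stalk a)) h5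
    calc _ = Module.length (((pullback.fst f p).fiber y).presheaf.stalk t)
          (((pullback.fst f p).fiber y).presheaf.stalk t) := h2.symm
      _ = _ := h1
      _ = _ := by rw [h6, h3, h4]
  have hdeg : ∀ v, f'.residueDegree (ε v) = (φ.fiberToSpecResidueField u).residueDegree v := by
    intro v
    have h := congrArg (fun g : (pullback.fst f p).fiber y ⟶ X' => g.residueDegree (φ.fiberι u v))
      (fibreProj_fiberι f p y)
    simp only [residueDegree_comp, residueDegree_preimm, one_mul, mul_one] at h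
    rw [Groth.FlatMor2.residueDegree_fiber]
    exact h.symm
  rw [← key, Finset.mul_sum, ← Finset.sum_filter_ne_zero]
  symm
  rw [← Finset.sum_filter_ne_zero]
  refine Finset.sum_bij (fun v _ => ε v) (fun v hv => ?_) (fun a _ b _ h => hεinj h) (fun z hz => ?_)
    fun v _ => ?_
  · simp only [Finset.mem_filter, Finset.mem_univ, true_and] at hv
    have hne : (Module.length ((pullback f p).presheaf.stalk (ε v))
        ((pullback f p).presheaf.stalk (ε v) ⧸ fibreIdeal q (ε v))).toNat *
        f'.residueDegree (ε v) ≠ 0 := by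
      rw [hlen, hdeg, ENat.toNat_mul, mul_assoc]; exact hv
    exact Finset.mem_filter.mpr ⟨hs' _ (hεq v) (hεf v) (left_ne_zero_of_mul hne), hne⟩
  · obtain ⟨hz, hne⟩ := Finset.mem_filter.mp hz
    obtain ⟨hzy, hzx⟩ := hs z hz
    obtain ⟨t, rfl⟩ : z ∈ Set.range (q.fiberι y) := by
      rw [Scheme.Hom.range_fiberι]; exact hzy
    obtain ⟨v, rfl⟩ : t ∈ Set.range (φ.fiberι u) := by
      rw [Scheme.Hom.range_fiberι]
      exact (p.fiberι (f y)).isEmbedding.injective ((hφ t).trans hzx)
    refine ⟨v, Finset.mem_filter.mpr ⟨Finset.mem_univ _, ?_⟩, rfl⟩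
    rwa [hlen, hdeg, ENat.toNat_mul, mul_assoc] at hne
  · rw [hlen, hdeg, ENat.toNat_mul, mul_assoc]
where
  residueDegree_preimm {A B : Scheme.{u}} (g : A ⟶ B) [IsPreimmersion g] (a : A) : g.residueDegree a = 1 :=
    Misc13.NormSection.residueDegree_eq_one_of_surjective g a
      (Groth.Variety2.Dim.residueFieldMap_surjective g a)

/-- Flat base change commutes with pushforward of cycles. -/
theorem pullFun_map_baseChange (f : Y ⟶ X) (p : X' ⟶ X) [LocallyOfFiniteType f] [QuasiCompact f] [Flat p]
    [IsLocallyNoetherian X'] (δ : X → ℤ) (δ' : X' → ℤ) (δY : Y → ℤ) (δY' : ↥(pullback f p) → ℤ)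
    (hf : Cyc.DeltaCompat f δY δ) [IsLocallyNoetherian (pullback f p)] (c : ℤ)
    (hc : ∀ x', IsFibreGeneric p x' → δ' x' = δ (p x') + c)
    (hcY : ∀ z, IsFibreGeneric (pullback.fst f p) z → δY' z = δY (pullback.fst f p z) + c)
    (α : AlgebraicCycle Y ℤ) (α' : AlgebraicCycle (pullback f p) ℤ)
    (hα' : ⇑α' = Cyc.pullFun (pullback.fst f p) δY' δY c ⇑α) :
    Cyc.pullFun p δ' δ c ⇑(AlgebraicCycle.map f δY δ α) =
      ⇑(AlgebraicCycle.map (pullback.snd f p) δY' δ' α') := by
  classical
  set q := pullback.fst f p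
  set f' := pullback.snd f p
  funext x'
  have hsq : ∀ z, f (q z) = p (f' z) := fun z => by
    rw [← Scheme.Hom.comp_apply, pullback.condition, Scheme.Hom.comp_apply]
  let L : ↥(pullback f p) → ℕ := fun z => (Module.length ((pullback f p).presheaf.stalk z)
    ((pullback f p).presheaf.stalk z ⧸ fibreIdeal q z)).toNat
  set s' := (finite_preimage_inter_support f' α' x').toFinset
  have hs' : ∀ z, z ∈ s' ↔ f' z = x' ∧ α' z ≠ 0 := fun z => by simp [s']
  have hα'' : ∀ z, α' z = if δY' z = δY (q z) + c then α (q z) * (L z : ℤ) else 0 := fun z =>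
    congrFun hα' z
  have hgen : ∀ z, α' z ≠ 0 → IsFibreGeneric q z ∧ δY' z = δY (q z) + c ∧ α (q z) ≠ 0 ∧ L z ≠ 0 := by
    intro z hz
    rw [hα''] at hz
    split_ifs at hz with h
    · simp only [ne_eq, mul_eq_zero, not_or, Nat.cast_eq_zero] at hz
      exact ⟨by_contra fun hng => hz.2 (length_toNat_eq_zero_of_not q z hng), h, hz⟩
    · exact absurd rfl hz
  rw [map_apply_eq_sum f' δY' δ' α' x' s' fun z hz h => (hs' z).mpr ⟨hz, h⟩]
  rw [Cyc.pullFun]
  by_cases hx : IsFibreGeneric p x'
  swap
  · rw [Finset.sum_eq_zero fun z hz => by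
      obtain ⟨hzx, hz0⟩ := (hs' z).mp hz
      exact (hx (hzx ▸ isFibreGeneric_snd_of_fst f p (hgen z hz0).1)).elim]
    split_ifs
    · exact mul_eq_zero_of_right _ (Nat.cast_eq_zero.mpr (length_toNat_eq_zero_of_not p x' hx))
    · rfl
  rw [if_pos (hc x' hx)]
  set s := (finite_preimage_inter_support f α (p x')).toFinset
  have hs : ∀ y, y ∈ s ↔ f y = p x' ∧ α y ≠ 0 := fun y => by simp [s]
  rw [map_apply_eq_sum f δY δ α (p x') s fun y hy h => (hs y).mpr ⟨hy, h⟩, Finset.sum_mul]
  rw [← Finset.sum_fiberwise_of_maps_to (g := q) (t := s) (s := s') fun z hz => by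
    obtain ⟨hzx, hz0⟩ := (hs' z).mp hz
    exact (hs _).mpr ⟨(hsq z).trans (congrArg p hzx), (hgen z hz0).2.2.1⟩]
  refine Finset.sum_congr rfl fun y hy => ?_
  obtain ⟨hyx, hy0⟩ := (hs y).mp hy
  rw [if_pos hyx]
  have hterm : ∀ z ∈ s'.filter (fun z => q z = y),
      (if f' z = x' then α' z * (AlgebraicCycle.mapCoeff f' δY' δ' z : ℤ) else 0) =
        if δY y = δ (p x') then α y * ((L z * f'.residueDegree z : ℕ) : ℤ) else 0 := by
    intro z hz
    obtain ⟨hz1, hzy⟩ := Finset.mem_filter.mp hz
    obtain ⟨hzx, hz0⟩ := (hs' z).mp hz1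
    obtain ⟨-, hd, -, -⟩ := hgen z hz0
    rw [if_pos hzx, hα'', if_pos hd, hzy, AlgebraicCycle.mapCoeff]
    have hiff : δY' z = δ' (f' z) ↔ δY y = δ (p x') := by
      rw [hd, hzy, hzx, hc x' hx]; omega
    by_cases h : δY y = δ (p x')
    · rw [if_pos h, if_pos (hiff.mpr h)]; push_cast; ring
    · rw [if_neg h, if_neg fun h' => h (hiff.mp h')]; simp
  rw [Finset.sum_congr rfl hterm, AlgebraicCycle.mapCoeff, hyx]
  by_cases h : δY y = δ (p x')
  swap
  · simp [if_neg h]
  simp only [if_pos h]
  have hfin : (f.residueFieldMap y).hom.Finite := by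
    refine finite_residueFieldMap_of_trdeg_eq_zero f y ?_
    obtain ⟨n, hn, hn'⟩ := hf y
    have : Groth.Variety2.Dim.relTrdeg f y = n := hn
    rw [this, show n = 0 by rw [hyx] at hn'; omega, Nat.cast_zero]
  rw [← Finset.mul_sum, ← Nat.cast_sum, sum_length_mul_residueDegree f p y x' hyx hfin _
    (fun z hz => ⟨(Finset.mem_filter.mp hz).2, ((hs' z).mp (Finset.mem_filter.mp hz).1).1⟩)
    fun z hzy hzx hz => Finset.mem_filter.mpr ⟨(hs' z).mpr ⟨hzx, ?_⟩, hzy⟩]
  · push_cast; ring
  · have hgz : IsFibreGeneric q z := by_contra fun hng => hz (length_toNat_eq_zero_of_not q z hng)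
    rw [hα'', if_pos (hcY z hgz), hzy]
    exact mul_ne_zero hy0 (Nat.cast_ne_zero.mpr hz)

theorem relTrdeg_comp_add {Z : Scheme.{u}} (f : X' ⟶ Y) (g : Y ⟶ Z) (x : X') :
    Groth.Variety2.Dim.relTrdeg (f ≫ g) x =
      Groth.Variety2.Dim.relTrdeg g (f x) + Groth.Variety2.Dim.relTrdeg f x := by
  let := (f.residueFieldMap x).hom.toAlgebra
  let := (g.residueFieldMap (f x)).hom.toAlgebra
  let : Algebra (Z.residueField (g (f x))) (X'.residueField x) :=
    ((g.residueFieldMap (f x)) ≫ f.residueFieldMap x).hom.toAlgebra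
  have : IsScalarTower (Z.residueField (g (f x))) (Y.residueField (f x)) (X'.residueField x) :=
    IsScalarTower.of_algebraMap_eq fun _ => rfl
  have h : Groth.Variety2.Dim.relTrdeg (f ≫ g) x =
      Algebra.trdeg (Z.residueField (g (f x))) (X'.residueField x) := by
    unfold Groth.Variety2.Dim.relTrdeg
    rw [Scheme.residueFieldMap_comp]
    rfl
  rw [h, ← trdeg_add_eq (Z.residueField (g (f x))) (Y.residueField (f x)) (A := X'.residueField x)]
  rfl

/-- The dimension function on a fibre product is the induced one along either projection. -/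
theorem deltaCompat_fst (f : Y ⟶ X) (p : X' ⟶ X) [LocallyOfFiniteType p] {δ : X → ℤ} {δ' : X' → ℤ} {δY : Y → ℤ}
    {δY' : ↥(pullback f p) → ℤ} (hf : Cyc.DeltaCompat f δY δ) (hp : Cyc.DeltaCompat p δ' δ)
    (hY' : Cyc.DeltaCompat (pullback.snd f p) δY' δ') : Cyc.DeltaCompat (pullback.fst f p) δY' δY := by
  intro z
  obtain ⟨a, ha, ha'⟩ := hf (pullback.fst f p z)
  obtain ⟨b, hb, hb'⟩ := hp (pullback.snd f p z)
  obtain ⟨d, hd, hd'⟩ := hY' z
  obtain ⟨m, hm, -⟩ := Groth.FibreDim.exists_relTrdeg_eq_height (pullback.fst f p) z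
  refine ⟨m, hm, ?_⟩
  have h : Groth.Variety2.Dim.relTrdeg (pullback.fst f p ≫ f) z =
      Groth.Variety2.Dim.relTrdeg (pullback.snd f p ≫ p) z := by rw [pullback.condition]
  have ha2 : Groth.Variety2.Dim.relTrdeg f (pullback.fst f p z) = a := ha
  have hb2 : Groth.Variety2.Dim.relTrdeg p (pullback.snd f p z) = b := hb
  have hd2 : Groth.Variety2.Dim.relTrdeg (pullback.snd f p) z = d := hd
  rw [relTrdeg_comp_add, relTrdeg_comp_add, ha2, hb2, hd2, hm] at h
  have h' : a + m = b + d := by exact_mod_cast h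
  have e : p (pullback.snd f p z) = f (pullback.fst f p z) := by
    rw [← Scheme.Hom.comp_apply, ← pullback.condition, Scheme.Hom.comp_apply]
  rw [e] at hb'
  omega

end Groth.Cycles
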