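import Groth.Agent.Cycles.NormDiv
import Groth.Agent.Cycles.DimFunLft
import Groth.Agent.RefRank.Ord
import Groth.Agent.S1692

/-!
Principal divisors on the closure of a point as cycles pushed forward from an integral closed subscheme.
-/

universe u

set_option autoImplicit false
set_option linter.style.haveILetI false

open CategoryTheory AlgebraicGeometry

namespace Groth.Cycles

variable {X Y Z : Scheme.{u}}

/-- The order of vanishing only depends on the ring with its map to the field. -/
theorem ordFrac_congr {A B : Type u} [CommRing A] [CommRing B] {K L : Type u} [Field K] [Field L]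
    [Algebra A K] [Algebra B L] (q : A ≃+* B) (r : K ≃+* L)
    (hc : ∀ a, r (algebraMap A K a) = algebraMap B L (q a)) (f : K) :
    CycAlg.ordFrac B L (r f) = CycAlg.ordFrac A K f := by
  by_cases hA : IsNoetherianRing A ∧ Ring.KrullDimLE 1 A ∧ Nontrivial A ∧ IsFractionRing A K
  · obtain ⟨_, _, _, _⟩ := hA
    have : IsDomain A := (IsFractionRing.injective A K).isDomain
    exact Groth.RefRank.ordFrac_transport q.toRingHom q.bijective r.toRingHom r.bijective hc f
  by_cases hB : IsNoetherianRing B ∧ Ring.KrullDimLE 1 B ∧ Nontrivial B ∧ IsFractionRing B L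
  · obtain ⟨_, _, _, _⟩ := hB
    have : IsDomain B := (IsFractionRing.injective B L).isDomain
    have h := Groth.RefRank.ordFrac_transport q.symm.toRingHom q.symm.bijective r.symm.toRingHom r.symm.bijective
      (L := K) (fun b => r.injective (by
        show r (r.symm (algebraMap B L b)) = r (algebraMap A K (q.symm b))
        rw [hc, r.apply_symm_apply, q.apply_symm_apply])) (r f)
    rw [RingEquiv.toRingHom_eq_coe, RingHom.coe_coe, r.symm_apply_apply] at h
    exact h.symm
  unfold CycAlg.ordFrac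
  rw [dif_neg hA, dif_neg hB]

theorem ordAt_preimmersion (i : Z ⟶ X) [IsPreimmersion i] {w0 w : Z} (h : w0 ⤳ w) (h' : i w0 ⤳ i w)
    (F : X.residueField (i w0)) :
    Cyc.ordAt w w0 h ((i.residueFieldMap w0).hom F) = Cyc.ordAt (i w) (i w0) h' F := by
  have hcomm : ∀ a : X.presheaf.stalk (i w),
      (i.residueFieldMap w0).hom (Cyc.specMap (i w) (i w0) h' a) = Cyc.specMap w w0 h (i.stalkMap w a) :=
    fun a => by
      show (X.presheaf.stalkSpecializes h' ≫ X.residue (i w0) ≫ i.residueFieldMap w0) a =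
        (i.stalkMap w ≫ Z.presheaf.stalkSpecializes h ≫ Z.residue w0) a
      rw [Scheme.residue_residueFieldMap, Scheme.Hom.stalkSpecializes_stalkMap_assoc]
  let Q : Cyc.LocQuot (i w) (i w0) h' →+* Cyc.LocQuot w w0 h :=
    Ideal.quotientMap _ (i.stalkMap w).hom fun a ha => by
      rw [Ideal.mem_comap, RingHom.mem_ker, ← hcomm, RingHom.mem_ker.mp ha, map_zero]
  have hQ : Function.Bijective Q := by
    refine ⟨Ideal.quotientMap_injective' fun a ha => ?_, Ideal.quotientMap_surjective (i.stalkMap_surjective w)⟩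
    rw [Ideal.mem_comap, RingHom.mem_ker, ← hcomm] at ha
    exact RingHom.mem_ker.mpr ((map_eq_zero_iff _ (i.residueFieldMap w0).hom.injective).mp ha)
  exact ordFrac_congr (RingEquiv.ofBijective Q hQ)
    (RingEquiv.ofBijective (i.residueFieldMap w0).hom
      ⟨(i.residueFieldMap w0).hom.injective, Groth.Variety2.Dim.residueFieldMap_surjective i w0⟩)
    (fun a => by
      obtain ⟨a, rfl⟩ := Ideal.Quotient.mk_surjective a
      exact hcomm a) F

theorem isSetup_closedImmersion (i : Z ⟶ X) [IsClosedImmersion i] {δ : X → ℤ} (hX : Cyc.IsSetup X δ) :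
    Cyc.IsSetup Z (δ ∘ i) := by
  have := hX.1
  refine ⟨LocallyOfFiniteType.isLocallyNoetherian i, fun z => ?_, fun x y hxy hne => ?_⟩
  · let := (i.stalkMap z).hom.toAlgebra
    have : Algebra.FiniteType (X.presheaf.stalk (i z)) (Z.presheaf.stalk z) :=
      RingHom.finiteType_algebraMap.mp (RingHom.FiniteType.of_surjective _ (i.stalkMap_surjective z))
    exact Groth.Agent.S9126.result _ _ (hX.2.1 (i z))
  · obtain ⟨h1, h2⟩ := hX.2.2 (i x) (i y) (hxy.map i.continuous) fun e => hne (i.isEmbedding.injective e)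
    refine ⟨h1, fun himm => h2 fun z hxz hzy => ?_⟩
    obtain ⟨v, rfl⟩ : z ∈ Set.range i := i.isClosedEmbedding.isClosed_range.closure_subset
      (closure_mono (Set.singleton_subset_iff.mpr (Set.mem_range_self x)) hxz.mem_closure)
    rcases himm v (i.isEmbedding.isInducing.specializes_iff.mp hxz)
      (i.isEmbedding.isInducing.specializes_iff.mp hzy) with e | e
    · exact Or.inl (congrArg i e)
    · exact Or.inr (congrArg i e)

theorem deltaCompat_preimmersion (i : Z ⟶ X) [IsPreimmersion i] (δ : X → ℤ) : Cyc.DeltaCompat i (δ ∘ i) δ := by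
  intro z
  refine ⟨0, ?_, by simp⟩
  rw [Nat.cast_zero]
  exact Groth.Variety2.Dim.relTrdeg_eq_zero_of_surjective i z (Groth.Variety2.Dim.residueFieldMap_surjective i z)

theorem mapCoeff_preimmersion (i : Z ⟶ X) [IsPreimmersion i] (δ : X → ℤ) (z : Z) :
    AlgebraicCycle.mapCoeff i (δ ∘ i) δ z = 1 := by
  rw [AlgebraicCycle.mapCoeff, if_pos (by rfl)]
  letI := (i.residueFieldMap z).hom.toAlgebra
  exact (LinearEquiv.ofBijective (Algebra.linearMap (X.residueField (i z)) (Z.residueField z))
    ⟨(i.residueFieldMap z).hom.injective,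
      Groth.Variety2.Dim.residueFieldMap_surjective i z⟩).finrank_eq.symm.trans (Module.finrank_self _)

/-- The principal divisor on an integral scheme as a cycle. -/
theorem exists_cycle_eq_divFun [IsIntegral X] {δ : X → ℤ} (hX : Cyc.IsSetup X δ) (ξ : X)
    (hξ : ξ = genericPoint X) (F : X.residueField ξ) (hF : F ≠ 0) :
    ∃ α : AlgebraicCycle X ℤ, ⇑α = Cyc.divFun δ ξ F := by
  subst hξ
  have := hX.1
  obtain ⟨f, rfl⟩ := Groth.RefRank.residue_gen_bijective.2 F
  have hf : f ≠ 0 := fun h => hF (by rw [h, map_zero])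
  refine ⟨⟨Cyc.divFun δ (genericPoint X) (X.residue (genericPoint X) f), Set.subset_univ _, fun x _ => ?_⟩, rfl⟩
  obtain ⟨t, ht, hfin⟩ := Groth.Agent.S1692.result X f hf x
  refine ⟨t, ht, (hfin.image Subtype.val).subset ?_⟩
  rintro z ⟨hzt, hz⟩
  rw [Function.mem_support, Cyc.divFun] at hz
  split_ifs at hz with hc
  · have hdim := ringKrullDim_stalk_eq_one_of_delta hX.2.2 hc.2
    rw [Groth.RefRank.ordAt_residue hdim.le] at hz
    have hco := (Groth.RefRank.coheight_eq_one_iff z).mpr hdim
    exact ⟨⟨z, hco, by rwa [Groth.RefRank.ord_eq_ordK hco]⟩, ⟨z, subset_closure rfl, hzt⟩, rfl⟩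
  · exact absurd rfl hz

theorem map_closedImmersion_divFun (i : Z ⟶ X) [IsClosedImmersion i] (δ : X → ℤ) (η : Z)
    (F : X.residueField (i η)) (α : AlgebraicCycle Z ℤ)
    (hα : ⇑α = Cyc.divFun (δ ∘ i) η ((i.residueFieldMap η).hom F)) :
    ⇑(AlgebraicCycle.map i (δ ∘ i) δ α) = Cyc.divFun δ (i η) F := by
  classical
  funext x
  by_cases hx : x ∈ Set.range i
  · obtain ⟨z, rfl⟩ := hx
    rw [map_apply_eq_sum i (δ ∘ i) δ α (i z) {z} fun w hw _ => Finset.mem_singleton.mpr (i.isEmbedding.injective hw),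
      Finset.sum_singleton, if_pos rfl, mapCoeff_preimmersion, Nat.cast_one, mul_one, hα]
    by_cases h : η ⤳ z ∧ δ (i z) + 1 = δ (i η)
    · rw [Cyc.divFun, dif_pos (show η ⤳ z ∧ (δ ∘ i) z + 1 = (δ ∘ i) η from h), Cyc.divFun,
        dif_pos ⟨h.1.map i.continuous, h.2⟩]
      exact ordAt_preimmersion i _ _ F
    · rw [Cyc.divFun, dif_neg (show ¬ (η ⤳ z ∧ (δ ∘ i) z + 1 = (δ ∘ i) η) from h), Cyc.divFun, dif_neg]
      exact fun h' => h ⟨i.isEmbedding.isInducing.specializes_iff.mp h'.1, h'.2⟩
  · rw [map_apply_eq_sum i (δ ∘ i) δ α x ∅ fun w hw _ => (hx ⟨w, hw⟩).elim, Finset.sum_empty, Cyc.divFun,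
      dif_neg]
    exact fun h => hx (i.isClosedEmbedding.isClosed_range.closure_subset
      (closure_mono (Set.singleton_subset_iff.mpr (Set.mem_range_self η)) h.1.mem_closure))

end Groth.Cycles
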