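import Groth.Prelude.Def_Cyc
import Groth.Agent.Cycles.SheafCyc
import Groth.Agent.CycleLimits.Generic
import Groth.Agent.QCohMod.Pullback
import Mathlib.RingTheory.LocalRing.Length

/-!
Flat pullback of the cycle of a coherent module.
-/

universe u

set_option autoImplicit false

open CategoryTheory AlgebraicGeometry IsLocalRing
open scoped TensorProduct

namespace Groth.Cycles

open Groth.CycleLimits

variable {X X' : Scheme.{u}}

theorem length_stalk_pullback (p : X' ⟶ X) [Flat p] (F : X.Modules) (x : X') :
    Module.length (X'.presheaf.stalk x) (((Scheme.Modules.pullback p).obj F).presheaf.stalk x) =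
      Module.length (X.presheaf.stalk (p x)) (F.presheaf.stalk (p x)) *
        Module.length (X'.presheaf.stalk x) (X'.presheaf.stalk x ⧸ fibreIdeal p x) := by
  let := Groth.QCohMod.stalkAlg p x
  have : IsLocalHom (algebraMap (X.presheaf.stalk (p x)) (X'.presheaf.stalk x)) :=
    inferInstanceAs (IsLocalHom (p.stalkMap x).hom)
  have : Module.Flat (X.presheaf.stalk (p x)) (X'.presheaf.stalk x) := Flat.stalkMap p x
  rw [← (Groth.QCohMod.pullStalkEquiv p F x).length_eq,
    IsLocalRing.length_baseChange (X.presheaf.stalk (p x)) (X'.presheaf.stalk x)]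
  rfl

theorem pullFun_sheafFun_eq (p : X' ⟶ X) [Flat p] {δ : X → ℤ} {δ' : X' → ℤ} [IsLocallyNoetherian X']
    (hδ' : Cyc.IsDimFun X' δ') (c : ℤ) (hc : ∀ x' : X', IsFibreGeneric p x' → δ' x' = δ (p x') + c)
    (k : ℤ) (F : X.Modules) (hdim : ∀ x : X, Nontrivial (F.presheaf.stalk x) → δ x ≤ k) :
    (∀ x' : X', Nontrivial (((Scheme.Modules.pullback p).obj F).presheaf.stalk x') → δ' x' ≤ k + c) ∧
      Cyc.pullFun p δ' δ c (Cyc.sheafFun δ k F) =
        Cyc.sheafFun δ' (k + c) ((Scheme.Modules.pullback p).obj F) := by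
  have hbase : ∀ x' : X', Nontrivial (((Scheme.Modules.pullback p).obj F).presheaf.stalk x') →
      Nontrivial (F.presheaf.stalk (p x')) := fun x' h => by
    by_contra hn
    have := not_nontrivial_iff_subsingleton.mp hn
    have h0 := length_stalk_pullback p F x'
    rw [(Module.length_eq_zero (R := X.presheaf.stalk (p x'))), zero_mul, Module.length_eq_zero_iff] at h0
    exact not_nontrivial_iff_subsingleton.mpr h0 h
  have hle : ∀ x' : X', Nontrivial (F.presheaf.stalk (p x')) →
      δ' x' ≤ k + c ∧ (δ' x' = k + c → δ' x' = δ (p x') + c) := by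
    intro x' h
    obtain ⟨w, hw, hwp, hgen⟩ := exists_isFibreGeneric p x'
    have h1 := hc w hgen
    rw [hwp] at h1
    have h2 := delta_le_of_specializes hδ' hw
    have h3 := hdim _ h
    refine ⟨by omega, fun he => ?_⟩
    rw [← eq_of_specializes_of_delta_le hδ' hw (by omega)]
    rw [hwp]
    exact h1
  refine ⟨fun x' h => (hle x' (hbase x' h)).1, funext fun x' => ?_⟩
  simp only [Cyc.pullFun, Cyc.sheafFun]
  have hl := congrArg ENat.toNat (length_stalk_pullback p F x')
  rw [ENat.toNat_mul] at hl
  simp only [fibreIdeal] at hl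
  by_cases h : δ' x' = δ (p x') + c
  · rw [if_pos h]
    by_cases hk : δ (p x') = k
    · rw [if_pos hk, if_pos (by omega), hl]
      push_cast
      ring
    · rw [if_neg hk, if_neg (by omega), zero_mul]
  · rw [if_neg h]
    by_cases hk : δ' x' = k + c
    · rw [if_pos hk]
      have : Subsingleton (F.presheaf.stalk (p x')) :=
        not_nontrivial_iff_subsingleton.mp fun hn => h ((hle x' hn).2 hk)
      rw [hl, (Module.length_eq_zero (R := X.presheaf.stalk (p x')))]
      simp
    · rw [if_neg hk]

end Groth.Cycles
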