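import Groth.Agent.Cycles.KeyScheme
import Groth.Agent.Cycles.Excision
import Groth.Agent.RefRank.Rank1
import Groth.Agent.RefRank.HomSec
import Groth.Agent.PicAux.Sections
import Groth.Prelude.Def_C1

/-!
Divisors of rational sections of invertible modules on closures of points.
-/

universe u

set_option autoImplicit false
set_option linter.style.haveILetI false

open CategoryTheory AlgebraicGeometry IsLocalRing
open Groth.RefRank Groth.QCohMod

namespace Groth.Cycles

variable {X : Scheme.{u}}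

theorem exists_gen_nhd {L : X.Modules} (hL : PicF.IsInvertible L) (x : X) :
    ∃ (U : X.Opens) (s : Γ(L, U)), x ∈ U ∧ Groth.PicAux.Gen L U s :=
  (Groth.PicAux.isInvertible_iff_exists_gen L).1 hL x

theorem exists_basis {L : X.Modules} (hL : PicF.IsInvertible L) (x : X) : ∃ t, IsStalkBasis L x t := by
  obtain ⟨U, s, hx, hs⟩ := exists_gen_nhd hL x
  exact ⟨_, isStalkBasis_germ_of_gen hs hx⟩

/-- A chosen basis of the stalk. -/
noncomputable def bas {L : X.Modules} (hL : PicF.IsInvertible L) (x : X) : L.presheaf.stalk x :=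
  (exists_basis hL x).choose

theorem bas_spec {L : X.Modules} (hL : PicF.IsInvertible L) (x : X) : IsStalkBasis L x (bas hL x) :=
  (exists_basis hL x).choose_spec

theorem exists_unit_of_basis {L : X.Modules} {x : X} {t t' : L.presheaf.stalk x} (ht : IsStalkBasis L x t)
    (ht' : Submodule.span (X.presheaf.stalk x) {t'} = ⊤) :
    ∃ w : X.presheaf.stalk x, IsUnit w ∧ t' = w • t := by
  obtain ⟨w, hw⟩ := ht.2 t'
  obtain ⟨v, hv⟩ := Submodule.mem_span_singleton.mp (ht'.ge (Submodule.mem_top (x := t)))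
  refine ⟨w, IsUnit.of_mul_eq_one_right v (ht.1 ?_), hw.symm⟩
  simp only [one_smul, mul_smul]
  rw [show w • t = t' from hw, hv]

theorem isStalkBasis_smul {L : X.Modules} {x : X} {t : L.presheaf.stalk x} (ht : IsStalkBasis L x t)
    {w : X.presheaf.stalk x} (hw : IsUnit w) : IsStalkBasis L x (w • t) := by
  obtain ⟨w, rfl⟩ := hw
  have e : (fun a : X.presheaf.stalk x => a • (w : X.presheaf.stalk x) • t) =
      (fun a => a • t) ∘ fun a => a * (w : X.presheaf.stalk x) := funext fun a => (mul_smul a _ t).symm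
  rw [IsStalkBasis, e]
  exact ht.comp w.mulRight.bijective

theorem isStalkBasis_mspec {L : X.Modules} (hL : PicF.IsInvertible L) {x y : X} (h : y ⤳ x)
    {t : L.presheaf.stalk x} (ht : IsStalkBasis L x t) : IsStalkBasis L y (mspec L h t) := by
  obtain ⟨U, s, hx, hs⟩ := exists_gen_nhd hL x
  obtain ⟨w, hw, rfl⟩ := exists_unit_of_basis (isStalkBasis_germ_of_gen hs hx) ht.span_eq_top
  rw [mspec_smul, mspec_germ]
  exact isStalkBasis_smul (isStalkBasis_germ_of_gen hs (h.mem_open U.2 hx)) (hw.map _)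

/-- The class of an element of the stalk in the fibre. -/
noncomputable abbrev fmk {L : X.Modules} {ξ : X} (t : L.presheaf.stalk ξ) : Cyc.secFibre L ξ :=
  Submodule.Quotient.mk t

open Classical in
/-- The coordinate of an element of the fibre with respect to an element of the stalk. -/
noncomputable def coef (L : X.Modules) (ξ : X) (t : L.presheaf.stalk ξ) (s : Cyc.secFibre L ξ) :
    X.residueField ξ :=
  if h : ∃ φ : X.presheaf.stalk ξ, s = φ • fmk t then X.residue ξ h.choose else 0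

theorem exists_coef {L : X.Modules} {ξ : X} {t : L.presheaf.stalk ξ} (ht : IsStalkBasis L ξ t)
    (s : Cyc.secFibre L ξ) : ∃ φ : X.presheaf.stalk ξ, s = φ • fmk t := by
  obtain ⟨v, rfl⟩ := Submodule.Quotient.mk_surjective _ s
  obtain ⟨φ, rfl⟩ := ht.2 v
  exact ⟨φ, Submodule.Quotient.mk_smul ..⟩

theorem smul_fmk_eq_iff {L : X.Modules} {ξ : X} {t : L.presheaf.stalk ξ} (ht : IsStalkBasis L ξ t)
    (φ ψ : X.presheaf.stalk ξ) : φ • fmk t = ψ • fmk t ↔ X.residue ξ φ = X.residue ξ ψ := by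
  rw [← Submodule.Quotient.mk_smul, ← Submodule.Quotient.mk_smul, Submodule.Quotient.eq, ← sub_smul]
  constructor
  · intro h
    refine sub_eq_zero.mp ?_
    rw [← map_sub]
    refine (IsLocalRing.residue_eq_zero_iff _).mpr ?_
    have key : ∀ v ∈ maximalIdeal (X.presheaf.stalk ξ) • (⊤ : Submodule (X.presheaf.stalk ξ) (L.presheaf.stalk ξ)),
        ∃ m ∈ maximalIdeal (X.presheaf.stalk ξ), v = m • t := by
      intro v hv
      refine Submodule.smul_induction_on hv (fun m hm w _ => ?_) ?_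
      · obtain ⟨a, rfl⟩ := ht.2 w
        exact ⟨m * a, Ideal.mul_mem_right _ _ hm, (mul_smul m a t).symm⟩
      · rintro _ _ ⟨m, hm, rfl⟩ ⟨m', hm', rfl⟩
        exact ⟨m + m', add_mem hm hm', (add_smul m m' t).symm⟩
    obtain ⟨m, hm, he⟩ := key _ h
    rwa [ht.1 he]
  · intro h
    refine Submodule.smul_mem_smul ?_ Submodule.mem_top
    refine (IsLocalRing.residue_eq_zero_iff _).mp ?_
    exact (map_sub (X.residue ξ).hom φ ψ).trans (sub_eq_zero.mpr h)

theorem coef_smul {L : X.Modules} {ξ : X} {t : L.presheaf.stalk ξ} (ht : IsStalkBasis L ξ t)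
    (φ : X.presheaf.stalk ξ) : coef L ξ t (φ • fmk t) = X.residue ξ φ := by
  have h : ∃ ψ : X.presheaf.stalk ξ, φ • fmk t = ψ • fmk t := ⟨φ, rfl⟩
  rw [coef, dif_pos h]
  exact ((smul_fmk_eq_iff ht _ _).mp h.choose_spec).symm

theorem coef_ne_zero {L : X.Modules} {ξ : X} {t : L.presheaf.stalk ξ} (ht : IsStalkBasis L ξ t)
    {s : Cyc.secFibre L ξ} (hs : s ≠ 0) : coef L ξ t s ≠ 0 := by
  obtain ⟨φ, rfl⟩ := exists_coef ht s
  rw [coef_smul ht]
  intro h
  exact hs (by rw [(smul_fmk_eq_iff ht φ 0).mpr (h.trans (map_zero _).symm), zero_smul])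

theorem coef_smul_left {L : X.Modules} {ξ : X} {t : L.presheaf.stalk ξ} (ht : IsStalkBasis L ξ t)
    {w : X.presheaf.stalk ξ} (hw : IsUnit w) (s : Cyc.secFibre L ξ) :
    coef L ξ t s = coef L ξ (w • t) s * X.residue ξ w := by
  obtain ⟨φ, rfl⟩ := exists_coef (isStalkBasis_smul ht hw) s
  rw [coef_smul (isStalkBasis_smul ht hw)]
  have e : φ • fmk (w • t) = (φ * w) • fmk t := by rw [mul_smul]; rfl
  rw [e, coef_smul ht, map_mul]

theorem coef_fmk {L : X.Modules} {ξ : X} {t : L.presheaf.stalk ξ} (ht : IsStalkBasis L ξ t) :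
    coef L ξ t (fmk t) = 1 := by
  have h := coef_smul ht 1
  rwa [one_smul, map_one] at h

theorem exists_coef_eq {L : X.Modules} {ξ : X} {t : L.presheaf.stalk ξ} (ht : IsStalkBasis L ξ t)
    {c : X.residueField ξ} (hc : c ≠ 0) : ∃ s : Cyc.secFibre L ξ, s ≠ 0 ∧ coef L ξ t s = c := by
  obtain ⟨φ, rfl⟩ := X.residue_surjective ξ c
  refine ⟨φ • fmk t, fun h => hc ?_, coef_smul ht φ⟩
  rw [← coef_smul ht φ, h, show (0 : Cyc.secFibre L ξ) = (0 : X.presheaf.stalk ξ) • fmk t from (zero_smul _ _).symm,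
    coef_smul ht, map_zero]

variable {δ : X → ℤ}

/-- The coordinate of a rational section for a basis at a specialization. -/
noncomputable def ratCoef {L : X.Modules} {ξ x : X} (h : ξ ⤳ x) (t : L.presheaf.stalk x) (s : Cyc.secFibre L ξ) :
    X.residueField ξ := coef L ξ (mspec L h t) s

theorem ratCoef_ne_zero {L : X.Modules} (hL : PicF.IsInvertible L) {ξ x : X} (h : ξ ⤳ x)
    {t : L.presheaf.stalk x} (ht : IsStalkBasis L x t) {s : Cyc.secFibre L ξ} (hs : s ≠ 0) :
    ratCoef h t s ≠ 0 := coef_ne_zero (isStalkBasis_mspec hL h ht) hs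

theorem ratCoef_smul {L : X.Modules} (hL : PicF.IsInvertible L) {ξ x : X} (h : ξ ⤳ x)
    {t : L.presheaf.stalk x} (ht : IsStalkBasis L x t) {w : X.presheaf.stalk x} (hw : IsUnit w)
    (s : Cyc.secFibre L ξ) : ratCoef h t s = ratCoef h (w • t) s * Cyc.specMap x ξ h w := by
  unfold ratCoef
  rw [mspec_smul]
  exact coef_smul_left (isStalkBasis_mspec hL h ht) (hw.map _) s

theorem ratCoef_mspec {L : X.Modules} {ξ x z : X} (h : ξ ⤳ x) (hx : x ⤳ z) (t : L.presheaf.stalk z)
    (s : Cyc.secFibre L ξ) : ratCoef h (mspec L hx t) s = ratCoef (h.trans hx) t s := by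
  rw [ratCoef, ratCoef, mspec_mspec]

theorem secOrdAt_eq {L : X.Modules} (hX : Cyc.IsSetup X δ) (hL : PicF.IsInvertible L) {ξ x : X}
    (h : IsDivPt δ ξ x) {t : L.presheaf.stalk x} (ht : IsStalkBasis L x t) {s : Cyc.secFibre L ξ} (hs : s ≠ 0) :
    Cyc.secOrdAt L ξ x h.1 s = Cyc.ordAt x ξ h.1 (ratCoef h.1 t s) := by
  have hspan : ∃ t : L.presheaf.stalk x, Submodule.span (X.presheaf.stalk x) {t} = ⊤ := ⟨t, ht.span_eq_top⟩
  obtain ⟨w, hw, hwt⟩ := exists_unit_of_basis ht (Classical.choose_spec hspan)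
  have hb := isStalkBasis_smul ht hw
  have hex : ∃ φ : X.presheaf.stalk ξ,
      s = φ • fmk (mspec L h.1 (Classical.choose hspan)) := by
    rw [hwt]; exact exists_coef (isStalkBasis_mspec hL h.1 hb) s
  have e1 : coef L ξ (mspec L h.1 (Classical.choose hspan)) s = X.residue ξ hex.choose := dif_pos hex
  rw [Cyc.secOrdAt, dif_pos hspan, dif_pos hex]
  show Cyc.ordAt x ξ h.1 (X.residue ξ hex.choose) = _
  rw [← e1, hwt, show coef L ξ (mspec L h.1 (w • t)) s = ratCoef h.1 (w • t) s from rfl,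
    ratCoef_smul hL h.1 ht hw, ordAt_mul hX h (ratCoef_ne_zero hL h.1 hb hs) (specMap_ne_zero h.1 hw),
    ordAt_specMap_of_isUnit hX h hw, add_zero]

theorem secDivFun_eq {L : X.Modules} (hX : Cyc.IsSetup X δ) (hL : PicF.IsInvertible L) {ξ x z : X}
    (h : ξ ⤳ x) (hx : x ⤳ z) {t : L.presheaf.stalk z} (ht : IsStalkBasis L z t) {s : Cyc.secFibre L ξ}
    (hs : s ≠ 0) :
    Cyc.secDivFun δ L ξ s x = Cyc.divFun δ ξ (ratCoef (h.trans hx) t s) x := by
  by_cases hd : δ x + 1 = δ ξ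
  · rw [Cyc.secDivFun, dif_pos ⟨h, hd⟩, Cyc.divFun, dif_pos ⟨h, hd⟩,
      secOrdAt_eq hX hL ⟨h, hd⟩ (isStalkBasis_mspec hL hx ht) hs, ratCoef_mspec]
  · rw [Cyc.secDivFun, dif_neg fun h' => hd h'.2, Cyc.divFun, dif_neg fun h' => hd h'.2]

/-- A rational function is a quotient of two functions on an affine open. -/
theorem exists_div_sections {ξ : X} {V : X.Opens} (hV : IsAffineOpen V) (hξ : ξ ∈ V) (c : X.residueField ξ)
    (hc : c ≠ 0) : ∃ p q : Γ(X, V), X.residue ξ (X.presheaf.germ V ξ hξ p) ≠ 0 ∧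
      X.residue ξ (X.presheaf.germ V ξ hξ q) ≠ 0 ∧
      c = X.residue ξ (X.presheaf.germ V ξ hξ p) / X.residue ξ (X.presheaf.germ V ξ hξ q) := by
  obtain ⟨r, rfl⟩ := X.residue_surjective ξ c
  obtain ⟨p, q, hq, he⟩ := exists_mul_germ_eq hV hξ r
  have hq' : X.residue ξ (X.presheaf.germ V ξ hξ q) ≠ 0 :=
    (((Scheme.mem_basicOpen X q ξ hξ).mp hq).map (X.residue ξ).hom).ne_zero
  refine ⟨p, q, ?_, hq', ?_⟩
  · rw [← he, map_mul]; exact mul_ne_zero hq' hc
  · rw [← he, map_mul, mul_div_cancel_left₀ _ hq']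

/-- In an affine open, a rational function is a unit at all but finitely many codimension one points. -/
theorem exists_finite_nonunit (hX : Cyc.IsSetup X δ) {ξ : X} {V : X.Opens} (hV : IsAffineOpen V)
    (c : X.residueField ξ) (hc : c ≠ 0) :
    {x | x ∈ V ∧ ∃ h : IsDivPt δ ξ x, ¬ ∃ w : X.presheaf.stalk x, IsUnit w ∧ c = Cyc.specMap x ξ h.1 w}.Finite := by
  by_cases hξ : ξ ∈ V
  swap
  · exact Set.finite_empty.subset fun x hx => hξ (hx.2.1.1.mem_open V.2 hx.1)
  obtain ⟨p, q, hp, hq, rfl⟩ := exists_div_sections hV hξ c hc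
  obtain ⟨α, hα⟩ := exists_cycle_divFun hX ξ _ hp
  obtain ⟨β, hβ⟩ := exists_cycle_divFun hX ξ _ hq
  refine ((α.locallyFiniteSupport.finite_inter_support_of_isCompact hV.isCompact).union
    (β.locallyFiniteSupport.finite_inter_support_of_isCompact hV.isCompact)).subset ?_
  rintro x ⟨hxV, hdiv, hn⟩
  have hgerm : ∀ r : Γ(X, V), X.residue ξ (X.presheaf.germ V ξ hξ r) =
      Cyc.specMap x ξ hdiv.1 (X.presheaf.germ V x hxV r) := fun r => by
    show _ = X.residue ξ (X.presheaf.stalkSpecializes hdiv.1 (X.presheaf.germ V x hxV r))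
    rw [TopCat.Presheaf.germ_stalkSpecializes_apply]
  have key : ∀ (r : Γ(X, V)) (γ : AlgebraicCycle X ℤ),
      ⇑γ = Cyc.divFun δ ξ (X.residue ξ (X.presheaf.germ V ξ hξ r)) →
      X.residue ξ (X.presheaf.germ V ξ hξ r) ≠ 0 → γ x = 0 → IsUnit (X.presheaf.germ V x hxV r) := by
    intro r γ hγ hr h0
    have := hX.1
    have := isDomain_locQuot hdiv.1
    have := krullDimLE_one_of_isDivPt hX hdiv
    have := isFractionRing_locQuot hdiv.1
    rw [hγ, Cyc.divFun, dif_pos (show ξ ⤳ x ∧ δ x + 1 = δ ξ from hdiv), hgerm, Cyc.ordAt,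
      show Cyc.specMap x ξ hdiv.1 (X.presheaf.germ V x hxV r) =
        algebraMap (Cyc.LocQuot x ξ hdiv.1) (X.residueField ξ) (Ideal.Quotient.mk _ (X.presheaf.germ V x hxV r))
        from rfl] at h0
    have hne : Ideal.Quotient.mk (RingHom.ker (Cyc.specMap x ξ hdiv.1)) (X.presheaf.germ V x hxV r) ≠ 0 := by
      rw [Ne, Ideal.Quotient.eq_zero_iff_mem, RingHom.mem_ker, ← hgerm]
      exact hr
    rw [Groth.RefRank.ordFrac_algebraMap' hne, Nat.cast_eq_zero, ENat.toNat_eq_zero] at h0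
    have h1 := h0.resolve_right (Ring.ord_ne_top (mem_nonZeroDivisors_of_ne_zero hne))
    unfold Ring.ord at h1
    rw [Module.length_eq_zero_iff, Ideal.Quotient.subsingleton_iff, Ideal.span_singleton_eq_top] at h1
    have : IsLocalHom (Ideal.Quotient.mk (RingHom.ker (Cyc.specMap x ξ hdiv.1))) :=
      IsLocalHom.of_surjective _ Ideal.Quotient.mk_surjective
    exact isUnit_of_map_unit _ _ h1
  by_contra hx
  simp only [Set.mem_union, Set.mem_inter_iff, SetLike.mem_coe, hxV, true_and, Function.mem_support, not_or,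
    not_not] at hx
  have up := key p α hα hp hx.1
  have uq := key q β hβ hq hx.2
  obtain ⟨uq, huq⟩ := uq
  refine hn ⟨X.presheaf.germ V x hxV p * ↑uq⁻¹, up.mul (Units.isUnit _), ?_⟩
  rw [hgerm, hgerm, map_mul, ← huq, map_units_inv, div_eq_mul_inv]

/-- The divisor of a rational section vanishes at all but finitely many points of a quasi-compact set. -/
theorem exists_cycle_secDivFun {L : X.Modules} (hX : Cyc.IsSetup X δ) (hL : PicF.IsInvertible L) (ξ : X)
    {s : Cyc.secFibre L ξ} (hs : s ≠ 0) : ∃ α : AlgebraicCycle X ℤ, ⇑α = Cyc.secDivFun δ L ξ s := by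
  refine ⟨⟨Cyc.secDivFun δ L ξ s, Set.subset_univ _, fun y _ => ?_⟩, rfl⟩
  obtain ⟨U, g, hyU, hg⟩ := exists_gen_nhd hL y
  obtain ⟨_, ⟨V, hV, rfl⟩, hyV, hVU⟩ := X.isBasis_affineOpens.exists_subset_of_mem_open hyU U.2
  refine ⟨V, V.isOpen.mem_nhds hyV, ?_⟩
  by_cases hξ : ξ ∈ V
  swap
  · refine Set.finite_empty.subset ?_
    rintro x ⟨hxV, hx⟩
    refine hx (dif_neg fun h => hξ (h.1.mem_open V.2 hxV))
  have hb := isStalkBasis_germ_of_gen hg (hVU hξ)
  refine (exists_finite_nonunit hX hV _ (coef_ne_zero hb hs)).subset ?_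
  rintro x ⟨hxV, hx⟩
  rw [Function.mem_support, Cyc.secDivFun] at hx
  split_ifs at hx with h
  · refine ⟨hxV, h, fun ⟨w, hw, he⟩ => hx ?_⟩
    rw [secOrdAt_eq hX hL h (isStalkBasis_germ_of_gen hg (hVU hxV)) hs]
    rw [show ratCoef h.1 (germ L x (hVU hxV) g) s = coef L ξ (germ L ξ (hVU hξ) g) s by
      rw [ratCoef, mspec_germ]]
    rw [he]
    exact ordAt_specMap_of_isUnit hX h hw
  · exact absurd rfl hx

end Groth.Cycles
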