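import Groth.Agent.Cycles.TameK
import Groth.Agent.Cycles.StalkPrimes
import Groth.Agent.Cycles.DimJacobson
import Groth.Agent.Cycles.NormDiv
import Groth.Agent.Cycles.ClosureDiv

/-!
The tame symbol of two rational functions on the closure of a point, and the key lemma:
the sum of the divisors of the tame symbols vanishes.
-/

universe u

set_option autoImplicit false
set_option linter.style.haveILetI false

open CategoryTheory AlgebraicGeometry IsLocalRing

namespace Groth.Cycles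

variable {X : Scheme.{u}}

/-- The points of codimension one on the closure of `ξ`. -/
def IsDivPt (δ : X → ℤ) (ξ x : X) : Prop := ξ ⤳ x ∧ δ x + 1 = δ ξ

theorem isDomain_locQuot {x ξ : X} (h : ξ ⤳ x) : IsDomain (Cyc.LocQuot x ξ h) :=
  have := isFractionRing_locQuot h
  (IsFractionRing.injective (Cyc.LocQuot x ξ h) (X.residueField ξ)).isDomain

instance nontrivial_locQuot {x ξ : X} (h : ξ ⤳ x) : Nontrivial (Cyc.LocQuot x ξ h) :=
  Ideal.Quotient.nontrivial_iff.mpr (RingHom.ker_ne_top _)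

instance isLocalRing_locQuot {x ξ : X} (h : ξ ⤳ x) : IsLocalRing (Cyc.LocQuot x ξ h) :=
  IsLocalRing.of_surjective' (Ideal.Quotient.mk _) Ideal.Quotient.mk_surjective

theorem ringKrullDim_locQuot_eq {δ : X → ℤ} (hδ : Cyc.IsDimFun X δ) {x ξ : X} (h : ξ ⤳ x) :
    ringKrullDim (Cyc.LocQuot x ξ h) = ((δ ξ - δ x).toNat : WithBot ℕ∞) := by
  rw [ringKrullDim_locQuot, krullDim_interval hδ h]

/-- The residue field of the local ring of the closure. -/
noncomputable def resEquiv {x ξ : X} (h : ξ ⤳ x) : X.residueField x ≃+* ResidueField (Cyc.LocQuot x ξ h) :=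
  haveI : IsLocalHom (Ideal.Quotient.mk (RingHom.ker (Cyc.specMap x ξ h))) :=
    IsLocalHom.of_surjective _ Ideal.Quotient.mk_surjective
  RingEquiv.ofBijective (ResidueField.map (Ideal.Quotient.mk (RingHom.ker (Cyc.specMap x ξ h))))
    ⟨RingHom.injective _, fun z => by
      obtain ⟨z, rfl⟩ := residue_surjective z
      obtain ⟨w, rfl⟩ := Ideal.Quotient.mk_surjective z
      exact ⟨residue _ w, ResidueField.map_residue _ _⟩⟩

theorem resEquiv_residue {x ξ : X} (h : ξ ⤳ x) (w : X.presheaf.stalk x) :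
    resEquiv h (X.residue x w) = residue _ (Ideal.Quotient.mk _ w) := rfl

theorem resEquiv_symm_residue {x ξ : X} (h : ξ ⤳ x) (w : X.presheaf.stalk x) :
    (resEquiv h).symm (residue _ (Ideal.Quotient.mk _ w)) = X.residue x w := by
  rw [← resEquiv_residue h w, RingEquiv.symm_apply_apply]

open Classical in
/-- The tame symbol at `x` of two rational functions on the closure of `ξ`. -/
noncomputable def symb (δ : X → ℤ) (hX : Cyc.IsSetup X δ) (ξ : X) (f g : X.residueField ξ) (x : X) :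
    X.residueField x :=
  if h : IsDivPt δ ξ x then
    haveI := hX.1
    haveI := isDomain_locQuot h.1
    haveI : Ring.KrullDimLE 1 (Cyc.LocQuot x ξ h.1) := Ring.krullDimLE_iff.mpr (by
      rw [ringKrullDim_locQuot_eq hX.2.2]
      exact_mod_cast (show (δ ξ - δ x).toNat ≤ 1 by have := h.2; omega))
    haveI := isFractionRing_locQuot h.1
    (resEquiv h.1).symm (TameK.T (Cyc.LocQuot x ξ h.1) f g)
  else 1

theorem krullDimLE_one_of_isDivPt {δ : X → ℤ} (hX : Cyc.IsSetup X δ) {ξ x : X} (h : IsDivPt δ ξ x) :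
    Ring.KrullDimLE 1 (Cyc.LocQuot x ξ h.1) := Ring.krullDimLE_iff.mpr (by
  rw [ringKrullDim_locQuot_eq hX.2.2]
  exact_mod_cast (show (δ ξ - δ x).toNat ≤ 1 by have := h.2; omega))

theorem symb_eq {δ : X → ℤ} (hX : Cyc.IsSetup X δ) {ξ x : X} (h : IsDivPt δ ξ x)
    [IsDomain (Cyc.LocQuot x ξ h.1)] [IsNoetherianRing (Cyc.LocQuot x ξ h.1)]
    [Ring.KrullDimLE 1 (Cyc.LocQuot x ξ h.1)] [IsFractionRing (Cyc.LocQuot x ξ h.1) (X.residueField ξ)]
    (f g : X.residueField ξ) :
    symb δ hX ξ f g x = (resEquiv h.1).symm (TameK.T (Cyc.LocQuot x ξ h.1) f g) := by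
  rw [symb, dif_pos h]

theorem symb_ne_zero {δ : X → ℤ} (hX : Cyc.IsSetup X δ) {ξ : X} {f g : X.residueField ξ} (hf : f ≠ 0)
    (hg : g ≠ 0) (x : X) : symb δ hX ξ f g x ≠ 0 := by
  by_cases h : IsDivPt δ ξ x
  · have := hX.1
    have := isDomain_locQuot h.1
    have := krullDimLE_one_of_isDivPt hX h
    have := isFractionRing_locQuot h.1
    rw [symb_eq hX h]
    exact (map_ne_zero_iff _ (resEquiv h.1).symm.injective).mpr (TameK.T_ne_zero _ hf hg)
  · rw [symb, dif_neg h]; exact one_ne_zero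

theorem symb_mul_left {δ : X → ℤ} (hX : Cyc.IsSetup X δ) {ξ : X} {f f' g : X.residueField ξ} (hf : f ≠ 0)
    (hf' : f' ≠ 0) (hg : g ≠ 0) (x : X) :
    symb δ hX ξ (f * f') g x = symb δ hX ξ f g x * symb δ hX ξ f' g x := by
  by_cases h : IsDivPt δ ξ x
  · have := hX.1
    have := isDomain_locQuot h.1
    have := krullDimLE_one_of_isDivPt hX h
    have := isFractionRing_locQuot h.1
    rw [symb_eq hX h, symb_eq hX h, symb_eq hX h, TameK.T_mul_left _ hf hf' hg, map_mul]
  · simp only [symb, dif_neg h, one_mul]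

theorem symb_mul_right {δ : X → ℤ} (hX : Cyc.IsSetup X δ) {ξ : X} {f g g' : X.residueField ξ} (hf : f ≠ 0)
    (hg : g ≠ 0) (hg' : g' ≠ 0) (x : X) :
    symb δ hX ξ f (g * g') x = symb δ hX ξ f g x * symb δ hX ξ f g' x := by
  by_cases h : IsDivPt δ ξ x
  · have := hX.1
    have := isDomain_locQuot h.1
    have := krullDimLE_one_of_isDivPt hX h
    have := isFractionRing_locQuot h.1
    rw [symb_eq hX h, symb_eq hX h, symb_eq hX h, TameK.T_mul_right _ hf hg hg', map_mul]
  · simp only [symb, dif_neg h, one_mul]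

theorem divFun_one {δ : X → ℤ} (hX : Cyc.IsSetup X δ) (x z : X) : Cyc.divFun δ x 1 z = 0 := by
  unfold Cyc.divFun
  split_ifs with h
  · have := hX.1
    have := isDomain_locQuot h.1
    have := isFractionRing_locQuot h.1
    have := krullDimLE_one_of_isDivPt hX (show IsDivPt δ x z from h)
    exact Groth.RefRank.ordFrac_one'
  · rfl

theorem divFun_mul {δ : X → ℤ} (hX : Cyc.IsSetup X δ) {x : X} {u v : X.residueField x} (hu : u ≠ 0)
    (hv : v ≠ 0) (z : X) : Cyc.divFun δ x (u * v) z = Cyc.divFun δ x u z + Cyc.divFun δ x v z := by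
  unfold Cyc.divFun
  split_ifs with h
  · have := hX.1
    have := isDomain_locQuot h.1
    have := isFractionRing_locQuot h.1
    have := krullDimLE_one_of_isDivPt hX (show IsDivPt δ x z from h)
    exact Groth.RefRank.ordFrac_mul' hu hv
  · rw [add_zero]

theorem divFun_symb_div_left {δ : X → ℤ} (hX : Cyc.IsSetup X δ) {ξ : X} {f f' g : X.residueField ξ}
    (hf : f ≠ 0) (hf' : f' ≠ 0) (hg : g ≠ 0) (x z : X) :
    Cyc.divFun δ x (symb δ hX ξ (f / f') g x) z =
      Cyc.divFun δ x (symb δ hX ξ f g x) z - Cyc.divFun δ x (symb δ hX ξ f' g x) z := by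
  have h := div_ne_zero hf hf'
  have e := divFun_mul hX (symb_ne_zero hX h hg x) (symb_ne_zero hX hf' hg x) z
  rw [← symb_mul_left hX h hf' hg, div_mul_cancel₀ f hf'] at e
  linarith

theorem divFun_symb_div_right {δ : X → ℤ} (hX : Cyc.IsSetup X δ) {ξ : X} {f g g' : X.residueField ξ}
    (hf : f ≠ 0) (hg : g ≠ 0) (hg' : g' ≠ 0) (x z : X) :
    Cyc.divFun δ x (symb δ hX ξ f (g / g') x) z =
      Cyc.divFun δ x (symb δ hX ξ f g x) z - Cyc.divFun δ x (symb δ hX ξ f g' x) z := by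
  have h := div_ne_zero hg hg'
  have e := divFun_mul hX (symb_ne_zero hX hf h x) (symb_ne_zero hX hf hg' x) z
  rw [← symb_mul_right hX hf h hg', div_mul_cancel₀ g hg'] at e
  linarith

/-- The inclusion of local rings of the closure of `ξ` at a specialization and at a generalization. -/
noncomputable def locQuotMap {z x ξ : X} (hx : x ⤳ z) (h : ξ ⤳ x) :
    Cyc.LocQuot z ξ (h.trans hx) →+* Cyc.LocQuot x ξ h :=
  Ideal.quotientMap _ (X.presheaf.stalkSpecializes hx).hom fun a ha => by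
    rw [Ideal.mem_comap, RingHom.mem_ker] at *
    show (X.presheaf.stalkSpecializes hx ≫ X.presheaf.stalkSpecializes h ≫ X.residue ξ) a = 0
    rw [TopCat.Presheaf.stalkSpecializes_comp_assoc]
    exact ha

theorem algebraMap_locQuotMap {z x ξ : X} (hx : x ⤳ z) (h : ξ ⤳ x) (a : Cyc.LocQuot z ξ (h.trans hx)) :
    algebraMap (Cyc.LocQuot x ξ h) (X.residueField ξ) (locQuotMap hx h a) =
      algebraMap (Cyc.LocQuot z ξ (h.trans hx)) (X.residueField ξ) a := by
  obtain ⟨a, rfl⟩ := Ideal.Quotient.mk_surjective a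
  show (X.presheaf.stalkSpecializes hx ≫ X.presheaf.stalkSpecializes h ≫ X.residue ξ) a =
    (X.presheaf.stalkSpecializes (h.trans hx) ≫ X.residue ξ) a
  rw [TopCat.Presheaf.stalkSpecializes_comp_assoc]

/-- The prime of a generalization in the local ring of the closure. -/
noncomputable def midPrime {z x ξ : X} (hx : x ⤳ z) (h : ξ ⤳ x) :
    PrimeSpectrum (Cyc.LocQuot z ξ (h.trans hx)) :=
  ⟨(maximalIdeal (Cyc.LocQuot x ξ h)).comap (locQuotMap hx h), Ideal.IsPrime.comap _⟩

theorem mk_mem_maximalIdeal_iff {x ξ : X} (h : ξ ⤳ x) (w : X.presheaf.stalk x) :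
    Ideal.Quotient.mk (RingHom.ker (Cyc.specMap x ξ h)) w ∈ maximalIdeal (Cyc.LocQuot x ξ h) ↔
      w ∈ maximalIdeal (X.presheaf.stalk x) := by
  have : IsLocalHom (Ideal.Quotient.mk (RingHom.ker (Cyc.specMap x ξ h))) :=
    IsLocalHom.of_surjective _ Ideal.Quotient.mk_surjective
  simp only [mem_maximalIdeal, mem_nonunits_iff, isUnit_map_iff]

theorem comap_mk_midPrime {z x ξ : X} (hx : x ⤳ z) (h : ξ ⤳ x) :
    (midPrime hx h).asIdeal.comap (Ideal.Quotient.mk _) = (genPrime hx).asIdeal := by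
  ext a
  show Ideal.Quotient.mk _ (X.presheaf.stalkSpecializes hx a) ∈ maximalIdeal _ ↔ _
  rw [mk_mem_maximalIdeal_iff]
  rfl

theorem isLocalization_locQuotMap {z x ξ : X} (hx : x ⤳ z) (h : ξ ⤳ x) :
    letI := (locQuotMap hx h).toAlgebra
    IsLocalization.AtPrime (Cyc.LocQuot x ξ h) (midPrime hx h).asIdeal := by
  letI := (X.presheaf.stalkSpecializes hx).hom.toAlgebra
  have := isLocalization_stalkSpecializes hx
  letI := (locQuotMap hx h).toAlgebra
  have hu : ∀ s : Cyc.LocQuot z ξ (h.trans hx), s ∉ (midPrime hx h).asIdeal → IsUnit (locQuotMap hx h s) :=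
    fun s hs => by
      by_contra hn
      exact hs ((mem_maximalIdeal _).mpr hn)
  refine (isLocalization_iff_isLocalizationMap _ _).mpr ⟨fun s => hu s.1 s.2, fun w => ?_, fun {a b} hab => ⟨1, ?_⟩⟩
  · obtain ⟨w, rfl⟩ := Ideal.Quotient.mk_surjective w
    obtain ⟨⟨a, s, hs⟩, e⟩ := IsLocalization.surj (genPrime hx).asIdeal.primeCompl w
    refine ⟨⟨Ideal.Quotient.mk _ a, Ideal.Quotient.mk _ s, fun hs' => hs ?_⟩, ?_⟩
    · rw [← comap_mk_midPrime hx h]; exact hs'
    · exact congrArg (Ideal.Quotient.mk (RingHom.ker (Cyc.specMap x ξ h))) e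
  · have := isFractionRing_locQuot (h.trans hx)
    have e : algebraMap (Cyc.LocQuot x ξ h) (X.residueField ξ) (locQuotMap hx h a) =
        algebraMap (Cyc.LocQuot x ξ h) (X.residueField ξ) (locQuotMap hx h b) := congrArg _ hab
    rw [algebraMap_locQuotMap, algebraMap_locQuotMap] at e
    rw [IsFractionRing.injective _ _ e]

theorem height_midPrime {δ : X → ℤ} (hδ : Cyc.IsDimFun X δ) {z x ξ : X} (hx : x ⤳ z) (h : ξ ⤳ x) :
    ((midPrime hx h).asIdeal.height : WithBot ℕ∞) = ((δ ξ - δ x).toNat : WithBot ℕ∞) := by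
  letI := (locQuotMap hx h).toAlgebra
  have := isLocalization_locQuotMap hx h
  rw [← IsLocalization.AtPrime.ringKrullDim_eq_height (midPrime hx h).asIdeal (Cyc.LocQuot x ξ h),
    ringKrullDim_locQuot_eq hδ h]

/-- The term of the key lemma at a generalization. -/
theorem ordFrac_symb {δ : X → ℤ} (hX : Cyc.IsSetup X δ) {z x ξ : X} (hx : x ⤳ z) (hdiv : IsDivPt δ ξ x)
    {a b : Cyc.LocQuot z ξ (hdiv.1.trans hx)} (ha : a ≠ 0) (hb : b ≠ 0) :
    Cyc.ordAt z x hx (symb δ hX ξ (algebraMap _ _ a) (algebraMap _ _ b) x) =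
      CycAlg.ordFrac (Cyc.LocQuot z ξ (hdiv.1.trans hx) ⧸ (midPrime hx hdiv.1).asIdeal)
        (midPrime hx hdiv.1).asIdeal.ResidueField
        (CycAlg.tameSymbol (Localization.AtPrime (midPrime hx hdiv.1).asIdeal)
          (algebraMap _ _ a) (algebraMap _ _ b)) := by
  have := hX.1
  have h := hdiv.1
  have := isDomain_locQuot hdiv.1
  have hdimx := krullDimLE_one_of_isDivPt hX hdiv
  have := isFractionRing_locQuot hdiv.1
  have := isDomain_locQuot (hdiv.1.trans hx)
  have := isFractionRing_locQuot (hdiv.1.trans hx)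
  set q := (midPrime hx hdiv.1).asIdeal with hq
  letI := (locQuotMap hx hdiv.1).toAlgebra
  have := isLocalization_locQuotMap hx hdiv.1
  let ψ : Localization.AtPrime q ≃ₐ[Cyc.LocQuot z ξ (hdiv.1.trans hx)] Cyc.LocQuot x ξ hdiv.1 :=
    IsLocalization.algEquiv q.primeCompl _ _
  have : IsNoetherianRing (Localization.AtPrime q) := IsLocalization.isNoetherianRing q.primeCompl _ inferInstance
  have : Ring.KrullDimLE 1 (Localization.AtPrime q) := Ring.krullDimLE_iff.mpr
    ((ringKrullDim_eq_of_ringEquiv ψ.toRingEquiv).le.trans (Ring.krullDimLE_iff.mp hdimx))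
  have hinj : Function.Injective (algebraMap (Cyc.LocQuot z ξ (hdiv.1.trans hx)) (Localization.AtPrime q)) :=
    IsLocalization.injective (M := q.primeCompl) (Localization.AtPrime q) (fun s (hs : s ∉ q) => mem_nonZeroDivisors_of_ne_zero fun h0 =>
      hs (h0 ▸ q.zero_mem))
  have hne : ∀ {c : Cyc.LocQuot z ξ (hdiv.1.trans hx)}, c ≠ 0 → locQuotMap hx hdiv.1 c ≠ 0 := fun hc h0 => hc
    (IsFractionRing.injective _ (X.residueField ξ) (by rw [← algebraMap_locQuotMap hx hdiv.1, h0, map_zero, map_zero]))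
  have : IsLocalHom ψ.toRingEquiv.toRingHom := ⟨fun w hw => by
    have := hw.map ψ.symm.toRingEquiv.toRingHom
    simpa using this⟩
  have hsym : TameK.T (Cyc.LocQuot x ξ hdiv.1) (algebraMap _ (X.residueField ξ) a) (algebraMap _ (X.residueField ξ) b) =
      ResidueField.map (ψ.toRingEquiv.toRingHom) (CycAlg.tameSymbol (Localization.AtPrime q)
          (algebraMap _ _ a) (algebraMap _ _ b)) := by
    rw [← TameK.tameSymbol_transport ψ.toRingEquiv.toRingHom ψ.bijective
      (mem_nonZeroDivisors_of_ne_zero ((map_ne_zero_iff _ hinj).mpr ha))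
      (mem_nonZeroDivisors_of_ne_zero ((map_ne_zero_iff _ hinj).mpr hb))]
    show _ = CycAlg.tameSymbol _ (ψ (algebraMap _ _ a)) (ψ (algebraMap _ _ b))
    rw [ψ.commutes, ψ.commutes, ← algebraMap_locQuotMap hx hdiv.1, ← algebraMap_locQuotMap hx hdiv.1]
    show _ = CycAlg.tameSymbol _ (locQuotMap hx hdiv.1 a) (locQuotMap hx hdiv.1 b)
    have h := TameK.T_div (Cyc.LocQuot x ξ hdiv.1) (K := X.residueField ξ) (hne ha) one_ne_zero (hne hb) one_ne_zero
    rw [map_one, div_one, div_one] at h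
    rw [h]
    have h1 : ∀ {c : Cyc.LocQuot x ξ hdiv.1}, c ≠ 0 → CycAlg.tameSymbol (Cyc.LocQuot x ξ hdiv.1) c 1 = 1 ∧
        CycAlg.tameSymbol (Cyc.LocQuot x ξ hdiv.1) 1 c = 1 := fun hc => by
      have e1 := TameK.sym_mul_right _ hc one_ne_zero one_ne_zero
      have e2 := TameK.sym_mul_left _ one_ne_zero one_ne_zero hc
      rw [one_mul] at e1 e2
      exact ⟨(mul_eq_left₀ (TameK.sym_ne_zero _ hc one_ne_zero)).mp e1.symm,
        (mul_eq_left₀ (TameK.sym_ne_zero _ one_ne_zero hc)).mp e2.symm⟩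
    rw [(h1 (hne ha)).1, (h1 (hne hb)).2, (h1 one_ne_zero).1, mul_one, mul_one, div_one]
  rw [symb_eq hX hdiv, hsym]
  let r : q.ResidueField ≃+* X.residueField x :=
    (ResidueField.mapEquiv ψ.toRingEquiv).trans (resEquiv hdiv.1).symm
  let Q : Cyc.LocQuot z ξ (hdiv.1.trans hx) ⧸ q ≃+* Cyc.LocQuot z x hx :=
    (DoubleQuot.quotQuotEquivQuotOfLE (I := RingHom.ker (Cyc.specMap z ξ (hdiv.1.trans hx)))
      (J := RingHom.ker (Cyc.specMap z x hx)) (fun a ha => by
        rw [← genPrime_asIdeal, ← comap_mk_midPrime hx hdiv.1, Ideal.mem_comap,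
          Ideal.Quotient.eq_zero_iff_mem.mpr ha]
        exact Ideal.zero_mem _) |> fun e => (Ideal.quotEquivOfEq
          ((Ideal.map_comap_of_surjective _ Ideal.Quotient.mk_surjective q).symm.trans (congrArg _
            ((comap_mk_midPrime hx hdiv.1).trans (genPrime_asIdeal hx))))).trans e)
  refine ordFrac_congr Q r (fun c => ?_) _
  obtain ⟨c, rfl⟩ := Ideal.Quotient.mk_surjective c
  obtain ⟨c, rfl⟩ := Ideal.Quotient.mk_surjective c
  show (resEquiv hdiv.1).symm (ResidueField.map ψ.toRingEquiv.toRingHom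
    (residue (Localization.AtPrime q) (algebraMap _ _ (Ideal.Quotient.mk _ c)))) = Cyc.specMap z x hx c
  rw [ResidueField.map_residue]
  show (resEquiv hdiv.1).symm (residue _ (ψ (algebraMap _ _ (Ideal.Quotient.mk _ c)))) = _
  rw [ψ.commutes]
  exact resEquiv_symm_residue hdiv.1 _

/-- The generalizations of `z` on the closure of `ξ` of codimension one as primes. -/
theorem exists_midPrime {δ : X → ℤ} (hδ : Cyc.IsDimFun X δ) {z ξ : X} (h : ξ ⤳ z)
    (q : PrimeSpectrum (Cyc.LocQuot z ξ h)) (hq : q.asIdeal.height = 1) :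
    ∃ (x : X) (hx : x ⤳ z) (hξ : ξ ⤳ x), δ x + 1 = δ ξ ∧ midPrime hx hξ = q := by
  let Q : PrimeSpectrum (X.presheaf.stalk z) :=
    ⟨q.asIdeal.comap (Ideal.Quotient.mk _), Ideal.IsPrime.comap _⟩
  have hx : X.fromSpecStalk z Q ⤳ z := Scheme.range_fromSpecStalk.le ⟨Q, rfl⟩
  have hξ : ξ ⤳ X.fromSpecStalk z Q := by
    have hle : (genPrime h).asIdeal ≤ Q.asIdeal := fun a ha => by
      rw [genPrime_asIdeal] at ha
      show Ideal.Quotient.mk _ a ∈ q.asIdeal
      rw [Ideal.Quotient.eq_zero_iff_mem.mpr ha]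
      exact Ideal.zero_mem _
    conv_lhs => rw [← fromSpecStalk_genPrime h]
    exact ((PrimeSpectrum.le_iff_specializes _ _).mp hle).map (X.fromSpecStalk z).continuous
  have heq : midPrime hx hξ = q := PrimeSpectrum.ext (Ideal.comap_injective_of_surjective _
    Ideal.Quotient.mk_surjective (by rw [comap_mk_midPrime, genPrime_fromSpecStalk Q hx]))
  refine ⟨_, hx, hξ, ?_, heq⟩
  have h1 := height_midPrime hδ hx hξ
  rw [heq, hq] at h1
  have h2 : ((1 : ℕ) : WithBot ℕ∞) = ((δ ξ - δ (X.fromSpecStalk z Q)).toNat : WithBot ℕ∞) := by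
    exact_mod_cast h1
  have h3 : 1 = (δ ξ - δ (X.fromSpecStalk z Q)).toNat := by exact_mod_cast h2
  omega

/-- Key lemma for two elements of the local ring. -/
theorem sum_divFun_symb_algebraMap {δ : X → ℤ} (hX : Cyc.IsSetup X δ) {z ξ : X} (h : ξ ⤳ z)
    (hd : δ z + 2 = δ ξ) {a b : Cyc.LocQuot z ξ h} (ha : a ≠ 0) (hb : b ≠ 0) :
    (Function.support fun x => Cyc.divFun δ x (symb δ hX ξ (algebraMap _ _ a) (algebraMap _ _ b) x) z).Finite ∧
      ∑ᶠ x, Cyc.divFun δ x (symb δ hX ξ (algebraMap _ _ a) (algebraMap _ _ b) x) z = 0 := by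
  classical
  have := hX.1
  have := isDomain_locQuot h
  have hA : ringKrullDim (Cyc.LocQuot z ξ h) = 2 := by
    rw [ringKrullDim_locQuot_eq hX.2.2, show (δ ξ - δ z).toNat = 2 by omega]
    rfl
  have key := Groth.MilnorKLambda.Key.key_lemma hA a b (mem_nonZeroDivisors_of_ne_zero ha)
    (mem_nonZeroDivisors_of_ne_zero hb)
  set F : X → ℤ := fun x => Cyc.divFun δ x (symb δ hX ξ (algebraMap _ _ a) (algebraMap _ _ b) x) z
  let S : Set X := {x | IsDivPt δ ξ x ∧ x ⤳ z}
  have hS : Function.support F ⊆ S := fun x hx => by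
    rw [Function.mem_support] at hx
    by_cases hxz : x ⤳ z
    · refine ⟨by_contra fun hn => hx ?_, hxz⟩
      simp only [F, symb, dif_neg hn, divFun_one hX]
    · exact (hx (dif_neg fun h' => hxz h'.1)).elim
  have hmid : ∀ x (hx : x ∈ S), (midPrime hx.2 hx.1.1).asIdeal.height = 1 := fun x hx => by
    have h1 := height_midPrime hX.2.2 hx.2 hx.1.1
    rw [show (δ ξ - δ x).toNat = 1 by have := hx.1.2; omega] at h1
    exact_mod_cast h1
  let T : Set (PrimeSpectrum (Cyc.LocQuot z ξ h)) := {q | q.asIdeal.height = 1}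
  let e : S → T := fun x => ⟨midPrime x.2.2 x.2.1.1, hmid x.1 x.2⟩
  have he : Function.Bijective e := by
    refine ⟨fun x y hxy => ?_, fun q => ?_⟩
    · have h1 : midPrime x.2.2 x.2.1.1 = midPrime y.2.2 y.2.1.1 := congrArg Subtype.val hxy
      have h2 := congrArg (fun p => p.asIdeal.comap (Ideal.Quotient.mk _)) h1
      simp only [comap_mk_midPrime] at h2
      have h3 := congrArg (X.fromSpecStalk z) (PrimeSpectrum.ext h2)
      rw [fromSpecStalk_genPrime, fromSpecStalk_genPrime] at h3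
      exact Subtype.ext h3
    · obtain ⟨x, hx, hξ, hδ', heq⟩ := exists_midPrime hX.2.2 h q.1 q.2
      exact ⟨⟨x, ⟨hξ, hδ'⟩, hx⟩, Subtype.ext heq⟩
  have hterm : ∀ x : S, F x.1 = Groth.MilnorKLambda.Key.term a b (e x).1 := by
    intro x
    have hz : δ z + 1 = δ x.1 := by have := x.2.1.2; omega
    simp only [F, Cyc.divFun, dif_pos (show x.1 ⤳ z ∧ δ z + 1 = δ x.1 from ⟨x.2.2, hz⟩)]
    exact ordFrac_symb hX x.2.2 x.2.1 ha hb
  constructor
  · have hab : a * b ∈ nonZeroDivisors (Cyc.LocQuot z ξ h) := mem_nonZeroDivisors_of_ne_zero (mul_ne_zero ha hb)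
    refine ((((Groth.MilnorKLambda.Key.zeros_finite (C := Cyc.LocQuot z ξ h) hA hab).preimage
      Subtype.val_injective.injOn).preimage he.1.injOn).image Subtype.val).subset fun x hx => ?_
    refine ⟨⟨x, hS hx⟩, ?_, rfl⟩
    have hmem : a * b ∈ (e ⟨x, hS hx⟩).1.asIdeal := by_contra fun hn => hx ((hterm ⟨x, hS hx⟩).trans
      (Groth.MilnorKLambda.Key.term_eq_zero hA a b _ (e ⟨x, hS hx⟩).2 hn))
    exact ⟨(Groth.MilnorKLambda.Key.height_eq_one_iff hA hab _ hmem).mp (e ⟨x, hS hx⟩).2, hmem⟩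
  rw [← finsum_mem_univ, finsum_mem_inter_support_eq F Set.univ S (by
      rw [Set.univ_inter, Set.inter_eq_right.mpr hS]),
    ← finsum_set_coe_eq_finsum_mem]
  rw [finsum_eq_of_bijective e he (g := fun q : T => Groth.MilnorKLambda.Key.term a b q.1) hterm,
    finsum_set_coe_eq_finsum_mem (s := T) (f := fun q => Groth.MilnorKLambda.Key.term a b q)]
  exact key

theorem sum_divFun_symb {δ : X → ℤ} (hX : Cyc.IsSetup X δ) (ξ : X) {f g : X.residueField ξ} (hf : f ≠ 0)
    (hg : g ≠ 0) (z : X) : ∑ᶠ x, Cyc.divFun δ x (symb δ hX ξ f g x) z = 0 := by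
  by_cases hz : ξ ⤳ z ∧ δ z + 2 = δ ξ
  swap
  · refine finsum_eq_zero_of_forall_eq_zero fun x => ?_
    by_cases hx : IsDivPt δ ξ x
    · exact dif_neg fun h' => hz ⟨hx.1.trans h'.1, by have := hx.2; omega⟩
    · rw [symb, dif_neg hx, divFun_one hX]
  obtain ⟨h, hd⟩ := hz
  have := hX.1
  have := isDomain_locQuot h
  have := isFractionRing_locQuot h
  obtain ⟨a, b, ha, hb, rfl⟩ := TameK.exists_div (Cyc.LocQuot z ξ h) hf
  obtain ⟨c, d, hc, hdd, rfl⟩ := TameK.exists_div (Cyc.LocQuot z ξ h) hg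
  have hne : ∀ {w : Cyc.LocQuot z ξ h}, w ≠ 0 → algebraMap _ (X.residueField ξ) w ≠ 0 := fun hw =>
    (map_ne_zero_iff _ (IsFractionRing.injective _ _)).mpr hw
  set U : Cyc.LocQuot z ξ h → Cyc.LocQuot z ξ h → X → ℤ := fun p q x => Cyc.divFun δ x
    (symb δ hX ξ (algebraMap _ _ p) (algebraMap _ _ q) x) z
  have hdiv : ∀ x, Cyc.divFun δ x (symb δ hX ξ (algebraMap _ _ a / algebraMap _ _ b)
      (algebraMap _ _ c / algebraMap _ _ d) x) z = U a c x - U b c x - (U a d x - U b d x) := by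
    intro x
    set A := algebraMap (Cyc.LocQuot z ξ h) (X.residueField ξ) a
    set B := algebraMap (Cyc.LocQuot z ξ h) (X.residueField ξ) b
    set C := algebraMap (Cyc.LocQuot z ξ h) (X.residueField ξ) c
    set D := algebraMap (Cyc.LocQuot z ξ h) (X.residueField ξ) d
    rw [divFun_symb_div_right hX (div_ne_zero (hne ha) (hne hb)) (hne hc) (hne hdd) x z,
      divFun_symb_div_left hX (hne ha) (hne hb) (hne hc) x z,
      divFun_symb_div_left hX (hne ha) (hne hb) (hne hdd) x z]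
  have hU : ∀ {p q}, p ≠ 0 → q ≠ 0 → (Function.support (U p q)).Finite := fun hp hq =>
    (sum_divFun_symb_algebraMap hX h hd hp hq).1
  have hsub : ∀ {F G : X → ℤ}, (Function.support F).Finite → (Function.support G).Finite →
      (Function.support fun x => F x - G x).Finite := fun hF hG =>
    (hF.union hG).subset fun x hx => by
      by_contra hn
      simp only [Set.mem_union, Function.mem_support, not_or, not_not] at hn
      exact hx (by simp [hn.1, hn.2])
  rw [finsum_congr hdiv, finsum_sub_distrib (hsub (hU ha hc) (hU hb hc)) (hsub (hU ha hdd) (hU hb hdd)),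
    finsum_sub_distrib (hU ha hc) (hU hb hc), finsum_sub_distrib (hU ha hdd) (hU hb hdd)]
  simp only [U]
  rw [(sum_divFun_symb_algebraMap hX h hd ha hc).2, (sum_divFun_symb_algebraMap hX h hd hb hc).2,
    (sum_divFun_symb_algebraMap hX h hd ha hdd).2, (sum_divFun_symb_algebraMap hX h hd hb hdd).2]
  ring

theorem ordAt_specMap_of_isUnit {δ : X → ℤ} (hX : Cyc.IsSetup X δ) {ξ x : X} (h : IsDivPt δ ξ x)
    {w : X.presheaf.stalk x} (hw : IsUnit w) : Cyc.ordAt x ξ h.1 (Cyc.specMap x ξ h.1 w) = 0 := by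
  have := hX.1
  have := isDomain_locQuot h.1
  have := krullDimLE_one_of_isDivPt hX h
  have := isFractionRing_locQuot h.1
  exact Groth.RefRank.ordFrac_of_isUnit' (K := X.residueField ξ)
    (hw.map (Ideal.Quotient.mk (RingHom.ker (Cyc.specMap x ξ h.1))))

theorem ordAt_mul {δ : X → ℤ} (hX : Cyc.IsSetup X δ) {ξ x : X} (h : IsDivPt δ ξ x)
    {f g : X.residueField ξ} (hf : f ≠ 0) (hg : g ≠ 0) :
    Cyc.ordAt x ξ h.1 (f * g) = Cyc.ordAt x ξ h.1 f + Cyc.ordAt x ξ h.1 g := by
  have := hX.1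
  have := isDomain_locQuot h.1
  have := krullDimLE_one_of_isDivPt hX h
  have := isFractionRing_locQuot h.1
  exact Groth.RefRank.ordFrac_mul' hf hg

theorem specMap_ne_zero {ξ x : X} (h : ξ ⤳ x) {w : X.presheaf.stalk x} (hw : IsUnit w) :
    Cyc.specMap x ξ h w ≠ 0 := (hw.map (Cyc.specMap x ξ h)).ne_zero

theorem symb_unit_left {δ : X → ℤ} (hX : Cyc.IsSetup X δ) {ξ x : X} (h : IsDivPt δ ξ x)
    {w : X.presheaf.stalk x} (hw : IsUnit w) {g : X.residueField ξ} (hg : g ≠ 0) :
    symb δ hX ξ (Cyc.specMap x ξ h.1 w) g x = X.residue x w ^ Cyc.ordAt x ξ h.1 g := by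
  have := hX.1
  have := isDomain_locQuot h.1
  have := krullDimLE_one_of_isDivPt hX h
  have := isFractionRing_locQuot h.1
  rw [symb_eq hX h, show Cyc.specMap x ξ h.1 w = algebraMap (Cyc.LocQuot x ξ h.1) (X.residueField ξ)
    (Ideal.Quotient.mk _ w) from rfl, TameK.T_unit_left _ (hw.map (Ideal.Quotient.mk _)) hg, map_zpow₀,
    resEquiv_symm_residue]
  rfl

theorem symb_unit_right {δ : X → ℤ} (hX : Cyc.IsSetup X δ) {ξ x : X} (h : IsDivPt δ ξ x)
    {w : X.presheaf.stalk x} (hw : IsUnit w) {g : X.residueField ξ} (hg : g ≠ 0) :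
    symb δ hX ξ g (Cyc.specMap x ξ h.1 w) x = X.residue x w ^ (-Cyc.ordAt x ξ h.1 g) := by
  have := hX.1
  have := isDomain_locQuot h.1
  have := krullDimLE_one_of_isDivPt hX h
  have := isFractionRing_locQuot h.1
  have hne := specMap_ne_zero h.1 hw
  have e : symb δ hX ξ g (Cyc.specMap x ξ h.1 w) x * symb δ hX ξ (Cyc.specMap x ξ h.1 w) g x = 1 := by
    rw [symb_eq hX h, symb_eq hX h, ← map_mul, TameK.T_swap _ hg hne, map_one]
  rw [symb_unit_left hX h hw hg] at e
  rw [zpow_neg]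
  exact eq_inv_of_mul_eq_one_left e

theorem symb_units {δ : X → ℤ} (hX : Cyc.IsSetup X δ) {ξ x : X} (h : IsDivPt δ ξ x)
    {w w' : X.presheaf.stalk x} (hw : IsUnit w) (hw' : IsUnit w') :
    symb δ hX ξ (Cyc.specMap x ξ h.1 w) (Cyc.specMap x ξ h.1 w') x = 1 := by
  rw [symb_unit_left hX h hw (specMap_ne_zero h.1 hw'), ordAt_specMap_of_isUnit hX h hw', zpow_zero]

theorem ordAt_one {δ : X → ℤ} (hX : Cyc.IsSetup X δ) {ξ x : X} (h : IsDivPt δ ξ x) :
    Cyc.ordAt x ξ h.1 1 = 0 := by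
  have h1 := ordAt_specMap_of_isUnit hX h (isUnit_one (M := X.presheaf.stalk x))
  rwa [map_one] at h1

end Groth.Cycles
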