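import Groth.Agent.Cycles.SecDiv

/-!
Commutativity of intersecting with two first Chern classes, and its consequences.
-/

universe u

set_option autoImplicit false
set_option linter.style.haveILetI false

open CategoryTheory AlgebraicGeometry IsLocalRing
open Groth.RefRank Groth.QCohMod

namespace Groth.Cycles

variable {X : Scheme.{u}} {δ : X → ℤ}

theorem divFun_zpow (hX : Cyc.IsSetup X δ) {x : X} {c : X.residueField x} (hc : c ≠ 0) (z : X) (n : ℤ) :
    Cyc.divFun δ x (c ^ n) z = n * Cyc.divFun δ x c z := by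
  induction n using Int.induction_on with
  | zero => rw [zpow_zero, divFun_one hX, zero_mul]
  | succ n ih => rw [zpow_add_one₀ hc, divFun_mul hX (zpow_ne_zero _ hc) hc, ih]; ring
  | pred n ih =>
    have h := divFun_mul hX (zpow_ne_zero (-(n : ℤ) - 1) hc) hc z
    rw [← zpow_add_one₀ hc, sub_add_cancel, ih] at h
    linarith

open Classical in
/-- The correction function at a codimension one point. -/
noncomputable def commFun (hX : Cyc.IsSetup X δ) {L N : X.Modules} (hL : PicF.IsInvertible L)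
    (hN : PicF.IsInvertible N) (ξ : X) (s : Cyc.secFibre L ξ) (t : Cyc.secFibre N ξ)
    (u : (x : X) → Cyc.secFibre N x) (v : (x : X) → Cyc.secFibre L x) (x : X) : X.residueField x :=
  if h : IsDivPt δ ξ x then
    symb δ hX ξ (ratCoef h.1 (bas hL x) s) (ratCoef h.1 (bas hN x) t) x *
      coef N x (bas hN x) (u x) ^ Cyc.ordAt x ξ h.1 (ratCoef h.1 (bas hL x) s) *
      coef L x (bas hL x) (v x) ^ (-Cyc.ordAt x ξ h.1 (ratCoef h.1 (bas hN x) t))
  else 1

section Comm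

variable (hX : Cyc.IsSetup X δ) {L N : X.Modules} (hL : PicF.IsInvertible L) (hN : PicF.IsInvertible N)
  {ξ : X} {s : Cyc.secFibre L ξ} {t : Cyc.secFibre N ξ} {u : (x : X) → Cyc.secFibre N x}
  {v : (x : X) → Cyc.secFibre L x} (hs : s ≠ 0) (ht : t ≠ 0) (hu : ∀ x, u x ≠ 0) (hv : ∀ x, v x ≠ 0)

include hs ht hu hv in
theorem commFun_ne_zero (x : X) : commFun hX hL hN ξ s t u v x ≠ 0 := by
  by_cases h : IsDivPt δ ξ x
  · rw [commFun, dif_pos h]
    exact mul_ne_zero (mul_ne_zero (symb_ne_zero hX (ratCoef_ne_zero hL h.1 (bas_spec hL x) hs)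
      (ratCoef_ne_zero hN h.1 (bas_spec hN x) ht) x) (zpow_ne_zero _ (coef_ne_zero (bas_spec hN x) (hu x))))
      (zpow_ne_zero _ (coef_ne_zero (bas_spec hL x) (hv x)))
  · rw [commFun, dif_neg h]; exact one_ne_zero

include hs ht in
/-- The correction function does not depend on the bases. -/
theorem commFun_eq {x : X} (h : IsDivPt δ ξ x) {l : L.presheaf.stalk x} (hl : IsStalkBasis L x l)
    {m : N.presheaf.stalk x} (hm : IsStalkBasis N x m) :
    commFun hX hL hN ξ s t u v x = symb δ hX ξ (ratCoef h.1 l s) (ratCoef h.1 m t) x *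
      coef N x m (u x) ^ Cyc.ordAt x ξ h.1 (ratCoef h.1 l s) *
      coef L x l (v x) ^ (-Cyc.ordAt x ξ h.1 (ratCoef h.1 m t)) := by
  obtain ⟨μ, hμ, rfl⟩ := exists_unit_of_basis (bas_spec hL x) hl.span_eq_top
  obtain ⟨ν, hν, rfl⟩ := exists_unit_of_basis (bas_spec hN x) hm.span_eq_top
  have e1 := ratCoef_smul hL h.1 (bas_spec hL x) hμ s
  have e2 := ratCoef_smul hN h.1 (bas_spec hN x) hν t
  have e3 := coef_smul_left (bas_spec hN x) hν (u x)
  have e4 := coef_smul_left (bas_spec hL x) hμ (v x)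
  rw [commFun, dif_pos h, e1, e2, e3, e4]
  set a := ratCoef h.1 (μ • bas hL x) s
  set b := ratCoef h.1 (ν • bas hN x) t
  have ha : a ≠ 0 := ratCoef_ne_zero hL h.1 hl hs
  have hb : b ≠ 0 := ratCoef_ne_zero hN h.1 hm ht
  have hμ' := specMap_ne_zero h.1 hμ
  have hν' := specMap_ne_zero h.1 hν
  rw [symb_mul_left hX ha hμ' (mul_ne_zero hb hν'), symb_mul_right hX ha hb hν', symb_mul_right hX hμ' hb hν',
    symb_unit_right hX h hν ha, symb_unit_left hX h hμ hb, symb_units hX h hμ hν, ordAt_mul hX h ha hμ',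
    ordAt_mul hX h hb hν', ordAt_specMap_of_isUnit hX h hμ, ordAt_specMap_of_isUnit hX h hν, add_zero, add_zero,
    mul_one, mul_zpow, mul_zpow, zpow_neg, zpow_neg, zpow_neg]
  have hμr : X.residue x μ ≠ 0 := (hμ.map (X.residue x).hom).ne_zero
  have hνr : X.residue x ν ≠ 0 := (hν.map (X.residue x).hom).ne_zero
  field_simp

include hL hN hs ht in
theorem finite_commFun {V : X.Opens} (hV : IsAffineOpen V) :
    {x | x ∈ V ∧ commFun hX hL hN ξ s t u v x ≠ 1}.Finite := by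
  have hloc : ∀ y : X, ∃ O : X.Opens, y ∈ O ∧ {x | x ∈ O ∧ commFun hX hL hN ξ s t u v x ≠ 1}.Finite := by
    intro y
    obtain ⟨U, g, hyU, hg⟩ := exists_gen_nhd hL y
    obtain ⟨U', g', hyU', hg'⟩ := exists_gen_nhd hN y
    obtain ⟨_, ⟨W, hW, rfl⟩, hyW, hWU⟩ :=
      X.isBasis_affineOpens.exists_subset_of_mem_open (show y ∈ U ⊓ U' from ⟨hyU, hyU'⟩) (U ⊓ U').2
    refine ⟨W, hyW, ?_⟩
    by_cases hξ : ξ ∈ W
    swap
    · refine Set.finite_empty.subset ?_
      rintro x ⟨hxW, hx⟩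
      exact hx (dif_neg fun h => hξ (h.1.mem_open W.2 hxW))
    have hbl := isStalkBasis_germ_of_gen hg (hWU hξ).1
    have hbm := isStalkBasis_germ_of_gen hg' (hWU hξ).2
    refine ((exists_finite_nonunit hX hW _ (coef_ne_zero hbl hs)).union
      (exists_finite_nonunit hX hW _ (coef_ne_zero hbm ht))).subset ?_
    rintro x ⟨hxW, hx⟩
    by_cases h : IsDivPt δ ξ x
    swap
    · exact absurd (dif_neg h) hx
    by_contra hn
    obtain ⟨w, hw, hwa⟩ : ∃ w : X.presheaf.stalk x, IsUnit w ∧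
        coef L ξ (germ L ξ (hWU hξ).1 g) s = Cyc.specMap x ξ h.1 w :=
      by_contra fun hc => hn (Or.inl ⟨hxW, h, hc⟩)
    obtain ⟨w', hw', hwb⟩ : ∃ w : X.presheaf.stalk x, IsUnit w ∧
        coef N ξ (germ N ξ (hWU hξ).2 g') t = Cyc.specMap x ξ h.1 w :=
      by_contra fun hc => hn (Or.inr ⟨hxW, h, hc⟩)
    refine hx ?_
    rw [commFun_eq hX hL hN hs ht h (isStalkBasis_germ_of_gen hg (hWU hxW).1)
      (isStalkBasis_germ_of_gen hg' (hWU hxW).2),
      show ratCoef h.1 (germ L x (hWU hxW).1 g) s = coef L ξ (germ L ξ (hWU hξ).1 g) s by rw [ratCoef, mspec_germ],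
      show ratCoef h.1 (germ N x (hWU hxW).2 g') t = coef N ξ (germ N ξ (hWU hξ).2 g') t by rw [ratCoef, mspec_germ],
      hwa, hwb, symb_units hX h hw hw', ordAt_specMap_of_isUnit hX h hw, ordAt_specMap_of_isUnit hX h hw',
      neg_zero, zpow_zero, zpow_zero, mul_one, mul_one]
  choose O hyO hO using hloc
  obtain ⟨T, hT⟩ := hV.isCompact.elim_finite_subcover (fun y => (O y : Set X)) (fun y => (O y).2)
    fun y _ => Set.mem_iUnion.mpr ⟨y, hyO y⟩
  refine (T.finite_toSet.biUnion fun y _ => hO y).subset ?_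
  rintro x ⟨hxV, hx⟩
  obtain ⟨y, hy, hxy⟩ := Set.mem_iUnion₂.mp (hT hxV)
  exact Set.mem_biUnion hy ⟨hxy, hx⟩

include hL hN hs ht hu hv in
/-- The difference of the two iterated first Chern classes is a sum of principal divisors. -/
theorem c1_comm (z : X) :
    Cyc.c1CapFun δ N (Cyc.secDivFun δ L ξ s) u z - Cyc.c1CapFun δ L (Cyc.secDivFun δ N ξ t) v z =
      ∑ᶠ x, Cyc.divFun δ x (commFun hX hL hN ξ s t u v x) z := by
  classical
  by_cases hz : ξ ⤳ z ∧ δ z + 2 = δ ξ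
  swap
  · have h1 : ∀ (M : X.Modules) (P : X.Modules) (r : Cyc.secFibre M ξ) (w : (x : X) → Cyc.secFibre P x),
        Cyc.c1CapFun δ P (Cyc.secDivFun δ M ξ r) w z = 0 := fun M P r w => by
      refine finsum_eq_zero_of_forall_eq_zero fun x => ?_
      by_cases hx : ξ ⤳ x ∧ δ x + 1 = δ ξ
      · refine mul_eq_zero_of_right _ (dif_neg fun h' => hz ⟨hx.1.trans h'.1, by
          have := hx.2; have := h'.2; omega⟩)
      · exact mul_eq_zero_of_left (dif_neg hx) _
    rw [h1, h1, sub_zero]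
    refine (finsum_eq_zero_of_forall_eq_zero fun x => ?_).symm
    by_cases hx : IsDivPt δ ξ x
    · exact dif_neg fun h' => hz ⟨hx.1.trans h'.1, by have := hx.2; have := h'.2; omega⟩
    · rw [commFun, dif_neg hx, divFun_one hX]
  obtain ⟨hξz, hdz⟩ := hz
  set l := bas hL z
  set m := bas hN z
  have hl := bas_spec hL z
  have hm := bas_spec hN z
  set a := ratCoef hξz l s with hadef
  set b := ratCoef hξz m t with hbdef
  have ha : a ≠ 0 := ratCoef_ne_zero hL hξz hl hs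
  have hb : b ≠ 0 := ratCoef_ne_zero hN hξz hm ht
  have hterm : ∀ x, Cyc.divFun δ x (commFun hX hL hN ξ s t u v x) z =
      Cyc.divFun δ x (symb δ hX ξ a b x) z +
        (Cyc.secDivFun δ L ξ s x * Cyc.secDivFun δ N x (u x) z -
          Cyc.secDivFun δ N ξ t x * Cyc.secDivFun δ L x (v x) z) := by
    intro x
    by_cases hd : IsDivPt δ ξ x
    swap
    · rw [commFun, dif_neg hd, symb, dif_neg hd, divFun_one hX]
      simp only [Cyc.secDivFun, dif_neg (show ¬(ξ ⤳ x ∧ δ x + 1 = δ ξ) from hd), zero_mul, sub_zero, add_zero]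
    by_cases hxz : x ⤳ z
    swap
    · simp only [Cyc.divFun, Cyc.secDivFun, dif_neg (show ¬(x ⤳ z ∧ δ z + 1 = δ x) from fun h' => hxz h'.1),
        mul_zero, sub_zero, add_zero]
    rw [commFun_eq hX hL hN hs ht hd (isStalkBasis_mspec hL hxz hl) (isStalkBasis_mspec hN hxz hm),
      secDivFun_eq hX hL hd.1 hxz hl hs, secDivFun_eq hX hN hd.1 hxz hm ht,
      secDivFun_eq hX hN hxz (specializes_refl z) hm (hu x), secDivFun_eq hX hL hxz (specializes_refl z) hl (hv x)]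
    rw [ratCoef_mspec, ratCoef_mspec, ← hadef, ← hbdef]
    have hc : coef N x (mspec N hxz m) (u x) ≠ 0 := coef_ne_zero (isStalkBasis_mspec hN hxz hm) (hu x)
    have he : coef L x (mspec L hxz l) (v x) ≠ 0 := coef_ne_zero (isStalkBasis_mspec hL hxz hl) (hv x)
    have hsy := symb_ne_zero hX ha hb x
    rw [divFun_mul hX (mul_ne_zero hsy (zpow_ne_zero _ hc)) (zpow_ne_zero _ he),
      divFun_mul hX hsy (zpow_ne_zero _ hc), divFun_zpow hX hc, divFun_zpow hX he,
      show Cyc.divFun δ ξ a x = Cyc.ordAt x ξ hd.1 a from dif_pos hd,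
      show Cyc.divFun δ ξ b x = Cyc.ordAt x ξ hd.1 b from dif_pos hd]
    show _ = _ + (_ * Cyc.divFun δ x (coef N x (mspec N hxz m) (u x)) z -
      _ * Cyc.divFun δ x (coef L x (mspec L hxz l) (v x)) z)
    ring
  obtain ⟨_, ⟨V, hV, rfl⟩, hzV, -⟩ :=
    X.isBasis_affineOpens.exists_subset_of_mem_open (Set.mem_univ z) isOpen_univ
  set S := ((exists_finite_nonunit hX hV a ha).union (exists_finite_nonunit hX hV b hb)).toFinset
  have hS : ∀ x, IsDivPt δ ξ x → x ⤳ z → x ∉ S → (∃ w : X.presheaf.stalk x, ∃ h : ξ ⤳ x, IsUnit w ∧ a = Cyc.specMap x ξ h w) ∧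
      ∃ w : X.presheaf.stalk x, ∃ h : ξ ⤳ x, IsUnit w ∧ b = Cyc.specMap x ξ h w := by
    intro x hd hxz hxS
    obtain ⟨w, hw, hwa⟩ : ∃ w : X.presheaf.stalk x, IsUnit w ∧ a = Cyc.specMap x ξ hd.1 w :=
      by_contra fun hc => hxS ((Set.Finite.mem_toFinset _).mpr (Or.inl ⟨hxz.mem_open V.2 hzV, hd, hc⟩))
    obtain ⟨w', hw', hwb⟩ : ∃ w : X.presheaf.stalk x, IsUnit w ∧ b = Cyc.specMap x ξ hd.1 w :=
      by_contra fun hc => hxS ((Set.Finite.mem_toFinset _).mpr (Or.inr ⟨hxz.mem_open V.2 hzV, hd, hc⟩))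
    exact ⟨⟨w, hd.1, hw, hwa⟩, w', hd.1, hw', hwb⟩
  have hzero : ∀ x, x ∉ S → Cyc.divFun δ x (symb δ hX ξ a b x) z = 0 ∧
      Cyc.secDivFun δ L ξ s x * Cyc.secDivFun δ N x (u x) z = 0 ∧
      Cyc.secDivFun δ N ξ t x * Cyc.secDivFun δ L x (v x) z = 0 := by
    intro x hxS
    by_cases hd : IsDivPt δ ξ x
    swap
    · rw [symb, dif_neg hd, divFun_one hX]
      simp only [Cyc.secDivFun, dif_neg (show ¬(ξ ⤳ x ∧ δ x + 1 = δ ξ) from hd), zero_mul, and_self]
    by_cases hxz : x ⤳ z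
    swap
    · simp only [Cyc.divFun, Cyc.secDivFun, dif_neg (show ¬(x ⤳ z ∧ δ z + 1 = δ x) from fun h' => hxz h'.1),
        mul_zero, and_self]
    obtain ⟨⟨w, h1, hw, hwa⟩, w', h2, hw', hwb⟩ := hS x hd hxz hxS
    refine ⟨?_, mul_eq_zero_of_left ?_ _, mul_eq_zero_of_left ?_ _⟩
    · rw [hwa, hwb, symb_units hX hd hw hw', divFun_one hX]
    · rw [secDivFun_eq hX hL hd.1 hxz hl hs, ← hadef, Cyc.divFun, dif_pos (show ξ ⤳ x ∧ δ x + 1 = δ ξ from hd),
        hwa, ordAt_specMap_of_isUnit hX hd hw]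
    · rw [secDivFun_eq hX hN hd.1 hxz hm ht, ← hbdef, Cyc.divFun, dif_pos (show ξ ⤳ x ∧ δ x + 1 = δ ξ from hd),
        hwb, ordAt_specMap_of_isUnit hX hd hw']
  have sum_eq : ∀ F : X → ℤ, (∀ x, x ∉ S → F x = 0) → ∑ᶠ x, F x = ∑ x ∈ S, F x := fun F hF =>
    finsum_eq_sum_of_support_subset _ fun x hx => by
      by_contra h
      exact hx (hF x h)
  rw [finsum_congr hterm, sum_eq _ fun x hx => by rw [(hzero x hx).1, (hzero x hx).2.1, (hzero x hx).2.2]; ring,
    Finset.sum_add_distrib, Finset.sum_sub_distrib, ← sum_eq _ fun x hx => (hzero x hx).1,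
    sum_divFun_symb hX ξ ha hb z, zero_add, ← sum_eq _ fun x hx => (hzero x hx).2.1,
    ← sum_eq _ fun x hx => (hzero x hx).2.2]
  rfl

end Comm

/-- A family of principal divisors which is finite on each affine open gives rational equivalence to zero. -/
theorem ratEquivZero_of_family (hX : Cyc.IsSetup X δ) {k : ℤ} {α : AlgebraicCycle X ℤ} (ι : Type u) (ξ : ι → X)
    (f : (i : ι) → X.residueField (ξ i)) (hf : ∀ i, f i ≠ 0) (hδ : ∀ i, f i ≠ 1 → δ (ξ i) = k + 1)
    (hfin : ∀ V : X.Opens, IsAffineOpen V → {i | f i ≠ 1 ∧ ξ i ∈ V}.Finite)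
    (hα : ∀ z, α z = ∑ᶠ i, Cyc.divFun δ (ξ i) (f i) z) : Cyc.RatEquivZero δ k α := by
  classical
  refine ⟨{i // f i ≠ 1}, fun i => ξ i.1, fun i => f i.1, fun i => hδ i.1 i.2, fun i => hf i.1, fun y => ?_,
    fun z => ?_⟩
  · obtain ⟨_, ⟨V, hV, rfl⟩, hyV, -⟩ :=
      X.isBasis_affineOpens.exists_subset_of_mem_open (Set.mem_univ y) isOpen_univ
    refine ⟨V, V.2, hyV, ((hfin V hV).preimage Subtype.val_injective.injOn).subset ?_⟩
    rintro i ⟨x, hx, hxV⟩
    exact ⟨i.2, (specializes_iff_mem_closure.mpr hx).mem_open V.2 hxV⟩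
  · rw [hα, finsum_subtype_eq_finsum_cond (f := fun i => Cyc.divFun δ (ξ i) (f i) z) (p := fun i => f i ≠ 1)]
    refine finsum_congr fun i => ?_
    by_cases h : f i = 1
    · rw [finsum_eq_if, if_neg (not_not.mpr h), h, divFun_one hX]
    · rw [finsum_eq_if, if_pos h]

theorem c1CapFun_sum {L : X.Modules} {ι : Type*} (n : ι → ℤ) (D : ι → X → ℤ)
    (v : (x : X) → Cyc.secFibre L x) (β : X → ℤ) (z : X) (hβ : ∀ x, x ⤳ z → β x = ∑ᶠ i, n i * D i x)
    (T : Finset ι) (hT : ∀ i x, x ⤳ z → n i * D i x ≠ 0 → i ∈ T)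
    (S : Finset X) (hS : ∀ i ∈ T, ∀ x, x ⤳ z → D i x ≠ 0 → x ∈ S) :
    Cyc.c1CapFun δ L β v z = ∑ i ∈ T, n i * Cyc.c1CapFun δ L (D i) v z := by
  classical
  have hout : ∀ (F : X → ℤ) (x : X), ¬ x ⤳ z → F x * Cyc.secDivFun δ L x (v x) z = 0 := fun F x hx =>
    mul_eq_zero_of_right _ (dif_neg fun h => hx h.1)
  have hsum : ∀ x, x ⤳ z → β x = ∑ i ∈ T, n i * D i x := fun x hx => by
    rw [hβ x hx]
    exact finsum_eq_sum_of_support_subset _ fun i hi => hT i x hx hi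
  have e1 : Cyc.c1CapFun δ L β v z = ∑ x ∈ S, β x * Cyc.secDivFun δ L x (v x) z := by
    refine finsum_eq_sum_of_support_subset _ fun x hx => ?_
    by_cases hxz : x ⤳ z
    · have hb : β x ≠ 0 := fun h => hx (mul_eq_zero_of_left h _)
      rw [hsum x hxz] at hb
      obtain ⟨i, hi, hne⟩ := Finset.exists_ne_zero_of_sum_ne_zero hb
      exact hS i hi x hxz (right_ne_zero_of_mul hne)
    · exact absurd (hout β x hxz) hx
  have e2 : ∀ i ∈ T, Cyc.c1CapFun δ L (D i) v z = ∑ x ∈ S, D i x * Cyc.secDivFun δ L x (v x) z := fun i hi => by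
    refine finsum_eq_sum_of_support_subset _ fun x hx => ?_
    by_cases hxz : x ⤳ z
    · exact hS i hi x hxz fun h => hx (mul_eq_zero_of_left h _)
    · exact absurd (hout _ x hxz) hx
  rw [e1, show ∑ i ∈ T, n i * Cyc.c1CapFun δ L (D i) v z =
    ∑ i ∈ T, ∑ x ∈ S, n i * (D i x * Cyc.secDivFun δ L x (v x) z) from
    Finset.sum_congr rfl fun i hi => by rw [e2 i hi, Finset.mul_sum]]
  rw [Finset.sum_comm]
  refine Finset.sum_congr rfl fun x _ => ?_
  by_cases hxz : x ⤳ z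
  · rw [hsum x hxz, Finset.sum_mul]
    exact Finset.sum_congr rfl fun i _ => by ring
  · rw [hout β x hxz]
    exact (Finset.sum_eq_zero fun i _ => by rw [hout _ x hxz, mul_zero]).symm

/-- The global basis of the structure sheaf in the fibre. -/
noncomputable def oneFib (X : Scheme.{u}) (x : X) : Cyc.secFibre (Coh.structureModule X) x :=
  fmk (germ (Coh.structureModule X) x (U := ⊤) trivial (Groth.PicAux.oneSec X ⊤))

theorem isInvertible_structureModule (X : Scheme.{u}) : PicF.IsInvertible (Coh.structureModule X) :=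
  (Groth.PicAux.isInvertible_iff_exists_gen _).2 fun _ => ⟨⊤, _, trivial, Groth.PicAux.gen_oneSec ⊤⟩

theorem isStalkBasis_oneSec (x : X) :
    IsStalkBasis (Coh.structureModule X) x (germ (Coh.structureModule X) x (U := ⊤) trivial (Groth.PicAux.oneSec X ⊤)) :=
  isStalkBasis_germ_of_gen (Groth.PicAux.gen_oneSec ⊤) trivial

theorem secDivFun_structure (hX : Cyc.IsSetup X δ) {ξ : X} {s : Cyc.secFibre (Coh.structureModule X) ξ}
    (hs : s ≠ 0) (x : X) :
    Cyc.secDivFun δ (Coh.structureModule X) ξ s x = Cyc.divFun δ ξ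
      (coef (Coh.structureModule X) ξ
        (germ (Coh.structureModule X) ξ (U := ⊤) trivial (Groth.PicAux.oneSec X ⊤)) s) x := by
  by_cases h : ξ ⤳ x
  · rw [secDivFun_eq hX (isInvertible_structureModule X) h (specializes_refl x) (isStalkBasis_oneSec x) hs,
      ratCoef, mspec_germ]
  · rw [Cyc.secDivFun, dif_neg fun h' => h h'.1, Cyc.divFun, dif_neg fun h' => h h'.1]

theorem oneFib_ne_zero (x : X) : oneFib X x ≠ 0 := fun h => by
  have h1 := coef_fmk (isStalkBasis_oneSec x)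
  rw [show fmk _ = oneFib X x from rfl, h] at h1
  have h2 := coef_smul (isStalkBasis_oneSec x) 0
  rw [zero_smul, map_zero] at h2
  exact one_ne_zero (h1.symm.trans h2)

/-- The first Chern class of an invertible module is defined on cycles up to rational equivalence. -/
theorem c1_ratEquivZero (hX : Cyc.IsSetup X δ) {L : X.Modules} (hL : PicF.IsInvertible L) {k : ℤ}
    {α : AlgebraicCycle X ℤ} (h0 : Cyc.RatEquivZero δ (k + 1) α)
    {v : (x : X) → Cyc.secFibre L x} (hv : ∀ x, v x ≠ 0) {γ : AlgebraicCycle X ℤ}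
    (hγ : ⇑γ = Cyc.c1CapFun δ L ⇑α v) : Cyc.RatEquivZero δ k γ := by
  classical
  obtain ⟨ι, η, f, hη, hf, hlf, hsum⟩ := h0
  have hO := isInvertible_structureModule X
  choose t ht htc using fun i => exists_coef_eq (isStalkBasis_oneSec (η i)) (hf i)
  let Φ : (i : ι) → (x : X) → X.residueField x := fun i x =>
    commFun hX hL hO (η i) (v (η i)) (t i) (oneFib X) v x
  have hΦ : ∀ i x, Φ i x ≠ 0 := fun i x =>
    commFun_ne_zero hX hL hO (hv _) (ht i) oneFib_ne_zero hv x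
  have hΦd : ∀ i x, Φ i x ≠ 1 → IsDivPt δ (η i) x := fun i x h => by_contra fun hn => h (dif_neg hn)
  refine ratEquivZero_of_family hX (ι × X) (fun p => p.2) (fun p => (Φ p.1 p.2)⁻¹)
    (fun p => inv_ne_zero (hΦ _ _)) (fun p hp => ?_) (fun V hV => ?_) fun z => ?_
  · have := (hΦd p.1 p.2 fun h => hp (by simp only [h, inv_one])).2
    have := hη p.1
    omega
  · have h1 := finite_of_isCompact η hlf hV.isCompact
    refine ((h1.biUnion fun i _ =>
      ((finite_commFun hX hL hO (u := oneFib X) (v := v) (hv (η i)) (ht i) hV).image (Prod.mk i)))).subset ?_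
    rintro ⟨i, x⟩ ⟨hp, hxV⟩
    have hne : Φ i x ≠ 1 := fun h => hp (by simp only [h, inv_one])
    exact Set.mem_biUnion (x := i) ⟨x, (hΦd i x hne).1.mem_closure, hxV⟩ ⟨x, ⟨hxV, hne⟩, rfl⟩
  · obtain ⟨_, ⟨V, hV, rfl⟩, hzV, -⟩ :=
      X.isBasis_affineOpens.exists_subset_of_mem_open (Set.mem_univ z) isOpen_univ
    set T := (finite_of_isCompact η hlf hV.isCompact).toFinset
    choose D hD using fun i => exists_cycle_divFun hX (η i) (f i) (hf i)
    have hTfin : ∀ i x, x ⤳ z → Cyc.divFun δ (η i) (f i) x ≠ 0 → i ∈ T := fun i x hxz hne =>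
      (Set.Finite.mem_toFinset _).mpr ⟨x, by_contra fun h => hne (divFun_eq_zero_of_notMem _ h),
        hxz.mem_open V.2 hzV⟩
    set S := (T.finite_toSet.biUnion fun i _ =>
      (D i).locallyFiniteSupport.finite_inter_support_of_isCompact hV.isCompact).toFinset
    rw [hγ, c1CapFun_sum (fun _ => (1 : ℤ)) (fun i => Cyc.divFun δ (η i) (f i)) v _ z
      (fun x _ => (hsum x).trans (finsum_congr fun i => (one_mul _).symm)) T
      (fun i x hxz hne => hTfin i x hxz (by rwa [one_mul] at hne)) S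
      fun i hi x hxz hne => (Set.Finite.mem_toFinset _).mpr
        (Set.mem_biUnion hi ⟨hxz.mem_open V.2 hzV, by show D i x ≠ 0; rwa [hD i]⟩)]
    have hkey : ∀ i, ∑ᶠ x, Cyc.divFun δ x (Φ i x)⁻¹ z =
        Cyc.c1CapFun δ L (Cyc.divFun δ (η i) (f i)) v z := by
      intro i
      have h := c1_comm hX hL hO (u := oneFib X) (v := v) (hv (η i)) (ht i) oneFib_ne_zero hv z
      have h0 : Cyc.c1CapFun δ (Coh.structureModule X) (Cyc.secDivFun δ L (η i) (v (η i))) (oneFib X) z = 0 :=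
        finsum_eq_zero_of_forall_eq_zero fun x => mul_eq_zero_of_right _ (by
          rw [secDivFun_structure hX (oneFib_ne_zero x), oneFib, coef_fmk (isStalkBasis_oneSec x), divFun_one hX])
      have e : Cyc.secDivFun δ (Coh.structureModule X) (η i) (t i) = Cyc.divFun δ (η i) (f i) :=
        funext fun x => by rw [secDivFun_structure hX (ht i), htc i]
      rw [h0, e, zero_sub] at h
      rw [← neg_neg (Cyc.c1CapFun δ L (Cyc.divFun δ (η i) (f i)) v z), h, ← finsum_neg_distrib]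
      refine finsum_congr fun x => ?_
      rw [← zpow_neg_one, divFun_zpow hX (hΦ i x), neg_one_mul]
    have hsupp : ∀ i x, Cyc.divFun δ x (Φ i x)⁻¹ z ≠ 0 → i ∈ T ∧ x ∈ V ∧ Φ i x ≠ 1 := fun i x hne => by
      have hxz : x ⤳ z := by_contra fun h => hne (dif_neg fun h' => h h'.1)
      have hne1 : Φ i x ≠ 1 := fun h => hne (by rw [h, inv_one, divFun_one hX])
      exact ⟨(Set.Finite.mem_toFinset _).mpr ⟨x, (hΦd i x hne1).1.mem_closure, hxz.mem_open V.2 hzV⟩,
        hxz.mem_open V.2 hzV, hne1⟩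
    have hfin : (Function.support fun p : ι × X => Cyc.divFun δ p.2 (Φ p.1 p.2)⁻¹ z).Finite :=
      (T.finite_toSet.biUnion fun i _ =>
        (finite_commFun hX hL hO (u := oneFib X) (v := v) (hv (η i)) (ht i) hV).image (Prod.mk i)).subset
          fun p hp => Set.mem_biUnion (x := p.1) (hsupp _ _ hp).1 ⟨p.2, (hsupp _ _ hp).2, rfl⟩
    rw [finsum_curry _ hfin, finsum_eq_sum_of_support_subset _ (s := T) fun i hi => by
      obtain ⟨x, hx⟩ : ∃ x, Cyc.divFun δ x (Φ i x)⁻¹ z ≠ 0 := by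
        by_contra! hn
        exact hi (finsum_eq_zero_of_forall_eq_zero hn)
      exact (hsupp i x hx).1]
    exact Finset.sum_congr rfl fun i _ => by rw [one_mul, hkey i]

/-- The two orders of intersecting a cycle with two first Chern classes agree up to rational equivalence. -/
theorem c1_c1_comm (hX : Cyc.IsSetup X δ) {L N : X.Modules} (hL : PicF.IsInvertible L) (hN : PicF.IsInvertible N)
    {k : ℤ} {α : AlgebraicCycle X ℤ} (hα : α ∈ Cyc.Zk X δ (k + 2))
    {sL sL' : (x : X) → Cyc.secFibre L x} {sN sN' : (x : X) → Cyc.secFibre N x} (hsL : ∀ x, sL x ≠ 0)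
    (hsL' : ∀ x, sL' x ≠ 0) (hsN : ∀ x, sN x ≠ 0) (hsN' : ∀ x, sN' x ≠ 0) {γ₁ γ₂ : AlgebraicCycle X ℤ}
    (h₁ : ⇑γ₁ = Cyc.c1CapFun δ L (Cyc.c1CapFun δ N ⇑α sN) sL)
    (h₂ : ⇑γ₂ = Cyc.c1CapFun δ N (Cyc.c1CapFun δ L ⇑α sL') sN') : Cyc.RatEquiv δ k γ₁ γ₂ := by
  classical
  let Φ : X → (x : X) → X.residueField x := fun ξ x =>
    commFun hX hN hL ξ (sN ξ) (sL' ξ) sL sN' x
  have hΦ : ∀ ξ x, Φ ξ x ≠ 0 := fun ξ x => commFun_ne_zero hX hN hL (hsN _) (hsL' _) hsL hsN' x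
  have hΦd : ∀ ξ x, Φ ξ x ≠ 1 → IsDivPt δ ξ x := fun ξ x h => by_contra fun hn => h (dif_neg hn)
  have hprop : ∀ (p : X × X), Φ p.1 p.2 ^ α p.1 ≠ 1 → α p.1 ≠ 0 ∧ Φ p.1 p.2 ≠ 1 := fun p hp =>
    ⟨fun h => hp (by rw [h, zpow_zero]), fun h => hp (by rw [h, one_zpow])⟩
  refine ratEquivZero_of_family hX (X × X) (fun p => p.2) (fun p => Φ p.1 p.2 ^ α p.1)
    (fun p => zpow_ne_zero _ (hΦ _ _)) (fun p hp => ?_) (fun V hV => ?_) fun z => ?_
  · obtain ⟨h0, h1⟩ := hprop p hp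
    have := (hΦd _ _ h1).2
    have h3 : δ p.1 = k + 2 := by_contra fun h => h0 (hα _ h)
    omega
  · refine ((α.locallyFiniteSupport.finite_inter_support_of_isCompact hV.isCompact).biUnion fun ξ _ =>
      ((finite_commFun hX hN hL (u := sL) (v := sN') (hsN ξ) (hsL' ξ) hV).image (Prod.mk ξ))).subset ?_
    rintro ⟨ξ, x⟩ ⟨hp, hxV⟩
    obtain ⟨h0, h1⟩ := hprop _ hp
    exact Set.mem_biUnion (x := ξ) ⟨(hΦd _ _ h1).1.mem_open V.2 hxV, h0⟩ ⟨x, ⟨hxV, h1⟩, rfl⟩
  · obtain ⟨_, ⟨V, hV, rfl⟩, hzV, -⟩ :=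
      X.isBasis_affineOpens.exists_subset_of_mem_open (Set.mem_univ z) isOpen_univ
    set T := (α.locallyFiniteSupport.finite_inter_support_of_isCompact hV.isCompact).toFinset
    have hmemT : ∀ ξ x, x ⤳ z → ξ ⤳ x → α ξ ≠ 0 → ξ ∈ T := fun ξ x hxz hξx h0 =>
      (Set.Finite.mem_toFinset _).mpr ⟨(hξx.trans hxz).mem_open V.2 hzV, h0⟩
    have hlin : ∀ (P Q : X.Modules) (_ : PicF.IsInvertible Q) (w : (x : X) → Cyc.secFibre P x)
        (q : (x : X) → Cyc.secFibre Q x) (_ : ∀ x, q x ≠ 0),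
        Cyc.c1CapFun δ P (Cyc.c1CapFun δ Q ⇑α q) w z =
          ∑ ξ ∈ T, α ξ * Cyc.c1CapFun δ P (Cyc.secDivFun δ Q ξ (q ξ)) w z := by
      intro P Q hQ w q hq
      choose D hD using fun ξ => exists_cycle_secDivFun hX hQ ξ (hq ξ)
      refine c1CapFun_sum _ _ w _ z (fun x _ => rfl) T (fun ξ x hxz hne => ?_)
        (T.finite_toSet.biUnion fun ξ _ =>
          (D ξ).locallyFiniteSupport.finite_inter_support_of_isCompact hV.isCompact).toFinset
        fun ξ hξ x hxz hne => (Set.Finite.mem_toFinset _).mpr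
          (Set.mem_biUnion hξ ⟨hxz.mem_open V.2 hzV, by show D ξ x ≠ 0; rwa [hD ξ]⟩)
      refine hmemT ξ x hxz ?_ (left_ne_zero_of_mul hne)
      by_contra h
      exact right_ne_zero_of_mul hne (dif_neg fun h' => h h'.1)
    have hsupp : ∀ p : X × X, Cyc.divFun δ p.2 (Φ p.1 p.2 ^ α p.1) z ≠ 0 →
        p.1 ∈ T ∧ p.2 ∈ V ∧ Φ p.1 p.2 ≠ 1 := fun p hne => by
      have hxz : p.2 ⤳ z := by_contra fun h => hne (dif_neg fun h' => h h'.1)
      obtain ⟨h0, h1⟩ := hprop p fun h => hne (by rw [h, divFun_one hX])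
      exact ⟨hmemT _ _ hxz (hΦd _ _ h1).1 h0, hxz.mem_open V.2 hzV, h1⟩
    have hfin : (Function.support fun p : X × X => Cyc.divFun δ p.2 (Φ p.1 p.2 ^ α p.1) z).Finite :=
      (T.finite_toSet.biUnion fun ξ _ =>
        (finite_commFun hX hN hL (u := sL) (v := sN') (hsN ξ) (hsL' ξ) hV).image (Prod.mk ξ)).subset
          fun p hp => Set.mem_biUnion (x := p.1) (hsupp _ hp).1 ⟨p.2, (hsupp _ hp).2, rfl⟩
    rw [finsum_curry _ hfin, finsum_eq_sum_of_support_subset _ (s := T) fun ξ hξ => by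
      obtain ⟨x, hx⟩ : ∃ x, Cyc.divFun δ x (Φ ξ x ^ α ξ) z ≠ 0 := by
        by_contra! hn
        exact hξ (finsum_eq_zero_of_forall_eq_zero hn)
      exact (hsupp (ξ, x) hx).1]
    simp only [Function.locallyFinsuppWithin.coe_sub, Pi.sub_apply]
    rw [h₁, h₂, hlin L N hN sL sN hsN, hlin N L hL sN' sL' hsL', ← Finset.sum_sub_distrib]
    refine Finset.sum_congr rfl fun ξ _ => ?_
    rw [← mul_sub, c1_comm hX hN hL (u := sL) (v := sN') (hsN ξ) (hsL' ξ) hsL hsN' z, mul_finsum]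
    exact finsum_congr fun x => (divFun_zpow hX (hΦ ξ x) z _).symm

end Groth.Cycles
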