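import Groth.Agent.S14503
import Groth.Agent.S9136
import Groth.Agent.Calg4.LengthSum
import Groth.Agent.RefRank.Ord
import Mathlib.RingTheory.Localization.AtPrime.Basic
import Mathlib.RingTheory.QuasiFinite.Basic

/-!
The order of a norm as the weighted sum of the orders upstairs.
-/

universe u

set_option autoImplicit false

open IsLocalRing

namespace Groth.Cycles

theorem ord_localization_congr {B : Type u} [CommRing B] (n : Ideal B) [n.IsPrime] (S : Type u) [CommRing S]
    [Algebra B S] [IsLocalization.AtPrime S n] (r : B) :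
    Module.length (Localization.AtPrime n) (LocalizedModule n.primeCompl (B ⧸ Ideal.span {r})) =
      Ring.ord S (algebraMap B S r) := by
  rw [Groth.Agent.S9136.length_localized_quotient, Ideal.map_span, Set.image_singleton]
  unfold Ring.ord
  let e : Localization.AtPrime n ≃ₐ[B] S := IsLocalization.algEquiv n.primeCompl _ _
  let _ : Algebra (Localization.AtPrime n) S := e.toRingEquiv.toRingHom.toAlgebra
  rw [← Module.length_eq_of_surjective (R := S) (S := Localization.AtPrime n)
    (M := S ⧸ Ideal.span {algebraMap B S r}) e.surjective]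
  refine LinearEquiv.length_eq ((Submodule.Quotient.equiv _ _
    (AlgEquiv.ofBijective (Algebra.ofId (Localization.AtPrime n) S) e.bijective).toLinearEquiv ?_).trans
      (Submodule.Quotient.restrictScalarsEquiv (Localization.AtPrime n) (Ideal.span {algebraMap B S r})))
  refine SetLike.ext fun z => ?_
  rw [Submodule.mem_map, Submodule.restrictScalars_mem, Ideal.mem_span_singleton']
  constructor
  · rintro ⟨y, hy, rfl⟩
    obtain ⟨c, rfl⟩ := Ideal.mem_span_singleton'.mp hy
    refine ⟨e c, ?_⟩
    show e c * algebraMap B S r = e (c * algebraMap B _ r)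
    rw [map_mul, AlgEquiv.commutes]
  · rintro ⟨c, rfl⟩
    refine ⟨e.symm c * algebraMap B _ r, Ideal.mem_span_singleton'.mpr ⟨e.symm c, rfl⟩, ?_⟩
    show e _ = _
    rw [map_mul, AlgEquiv.commutes, e.apply_symm_apply]

theorem krullDimLE_one_localization {B : Type u} [CommRing B] [IsDomain B] (m : Ideal B) [m.IsMaximal]
    (hB : Ring.KrullDimLE 1 B) (S : Type u) [CommRing S] [Algebra B S] [IsLocalization.AtPrime S m] :
    Ring.KrullDimLE 1 S := by
  have : IsDomain S := IsLocalization.isDomain_of_le_nonZeroDivisors S m.primeCompl_le_nonZeroDivisors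
  have := IsLocalization.AtPrime.isLocalRing S m
  refine Ring.krullDimLE_one_iff_of_noZeroDivisors.mpr fun P hP0 hP => ?_
  have h0 : P.under B ≠ ⊥ := fun h => hP0 (by
    rw [← IsLocalization.map_under m.primeCompl S P, h, Ideal.map_bot])
  have hmax := Ring.krullDimLE_one_iff_of_noZeroDivisors.mp hB _ h0 inferInstance
  have hle : P.under B ≤ m :=
    (Ideal.comap_mono (f := algebraMap B S) (le_maximalIdeal hP.ne_top)).trans
      (IsLocalization.AtPrime.under_maximalIdeal S m).le
  rw [← IsLocalization.map_under m.primeCompl S P,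
    hmax.eq_of_le (Ideal.IsMaximal.ne_top ‹_›) hle, IsLocalization.AtPrime.map_eq_maximalIdeal]
  exact maximalIdeal.isMaximal _

section SemiLocal

variable (A : Type u) [CommRing A] [IsDomain A] [IsNoetherianRing A] [IsLocalRing A]
  (B : Type u) [CommRing B] [IsDomain B] [Algebra A B] [Module.Finite A B]
  (K L : Type u) [Field K] [Field L] [Algebra A K] [IsFractionRing A K] [Algebra B L]
  [IsFractionRing B L] [Algebra K L] [Algebra A L] [IsScalarTower A B L] [IsScalarTower A K L]
  [FiniteDimensional K L]

omit [IsNoetherianRing A] in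
theorem krullDimLE_one_of_finite (hA : ringKrullDim A = 1) :
    Ring.KrullDimLE 1 B := by
  have hA' : Ring.KrullDimLE 1 A := Ring.krullDimLE_iff.mpr hA.le
  refine Ring.krullDimLE_one_iff_of_noZeroDivisors.mpr fun P hP0 hP => ?_
  refine Ideal.isMaximal_of_isIntegral_of_isMaximal_comap (R := A) P ?_
  exact Ring.krullDimLE_one_iff_of_noZeroDivisors.mp hA' _
    (fun h => hP0 (Ideal.eq_bot_of_comap_eq_bot h)) inferInstance

/-- Additivity of the weighted sum of orders, with finite support. -/
theorem ordFrac_norm_eq_finsum (hA : ringKrullDim A = 1) (hinj : Function.Injective (algebraMap A B))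
    [Finite (MaximalSpectrum B)]
    (S : MaximalSpectrum B → Type u) [∀ n, CommRing (S n)] [∀ n, Algebra B (S n)]
    [∀ n, IsLocalization.AtPrime (S n) n.asIdeal] [∀ n, Algebra (S n) L] [∀ n, IsScalarTower B (S n) L]
    {f : L} (hf : f ≠ 0) :
    CycAlg.ordFrac A K (Algebra.norm K f) = ∑ᶠ n : MaximalSpectrum B,
      ((Module.length A (B ⧸ n.asIdeal)).toNat : ℤ) * CycAlg.ordFrac (S n) L f := by
  classical
  have : Fintype (MaximalSpectrum B) := Fintype.ofFinite _
  have : IsNoetherianRing B := IsNoetherianRing.of_finite A B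
  have : Ring.KrullDimLE 1 A := Ring.krullDimLE_iff.mpr hA.le
  have hB := krullDimLE_one_of_finite A B hA
  have hdom : ∀ n : MaximalSpectrum B, IsDomain (S n) := fun n =>
    IsLocalization.isDomain_of_le_nonZeroDivisors _ n.asIdeal.primeCompl_le_nonZeroDivisors
  have hnoe : ∀ n : MaximalSpectrum B, IsNoetherianRing (S n) := fun n =>
    IsLocalization.isNoetherianRing n.asIdeal.primeCompl (S n) inferInstance
  have hkd : ∀ n : MaximalSpectrum B, Ring.KrullDimLE 1 (S n) := fun n => krullDimLE_one_localization n.asIdeal hB (S n)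
  have hfrac : ∀ n : MaximalSpectrum B, IsFractionRing (S n) L := fun n =>
    IsFractionRing.isFractionRing_of_isDomain_of_isLocalization n.asIdeal.primeCompl (S n) L
  have key : ∀ r : B, r ≠ 0 → CycAlg.ordFrac A K (Algebra.norm K (algebraMap B L r)) =
      ∑ n : MaximalSpectrum B,
        ((Module.length A (B ⧸ n.asIdeal)).toNat : ℤ) * CycAlg.ordFrac (S n) L (algebraMap B L r) := by
    intro r hr
    obtain ⟨htop, h⟩ := Groth.Agent.S14503.result A hA B hinj K L r hr
    rw [← h]
    have hfl : IsFiniteLength B (B ⧸ Ideal.span {r}) :=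
      isFiniteLength_quotient_span_singleton B (mem_nonZeroDivisors_of_ne_zero hr)
    rw [Groth.Calg4.length_eq_finsum A B _ hfl, finsum_eq_sum_of_fintype] at htop ⊢
    rw [ENat.toNat_sum fun n hn => (WithTop.sum_lt_top.mp htop n hn).ne, Nat.cast_sum]
    refine Finset.sum_congr rfl fun n _ => ?_
    have hr' : algebraMap B (S n) r ≠ 0 := (map_ne_zero_iff _
      (IsLocalization.injective (S n) n.asIdeal.primeCompl_le_nonZeroDivisors)).mpr hr
    rw [ord_localization_congr n.asIdeal (S n) r, IsScalarTower.algebraMap_apply B (S n) L,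
      Groth.RefRank.ordFrac_algebraMap' hr', ENat.toNat_mul, Nat.cast_mul]
  rw [finsum_eq_sum_of_fintype]
  obtain ⟨r, s, hs, rfl⟩ := IsFractionRing.div_surjective (A := B) f
  have hr : r ≠ 0 := fun h => hf (by rw [h, map_zero, zero_div])
  have hs0 : s ≠ 0 := nonZeroDivisors.ne_zero hs
  have hi := IsFractionRing.injective B L
  have hr' : algebraMap B L r ≠ 0 := (map_ne_zero_iff _ hi).mpr hr
  have hs' : algebraMap B L s ≠ 0 := (map_ne_zero_iff _ hi).mpr hs0
  have hinv : Algebra.norm K (algebraMap B L s)⁻¹ = (Algebra.norm K (algebraMap B L s))⁻¹ :=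
    eq_inv_of_mul_eq_one_left (by rw [← map_mul, inv_mul_cancel₀ hs', map_one])
  rw [div_eq_mul_inv, map_mul, Groth.RefRank.ordFrac_mul' (Algebra.norm_ne_zero_iff.mpr hr')
    (Algebra.norm_ne_zero_iff.mpr (inv_ne_zero hs')), hinv,
    Groth.RefRank.ordFrac_inv' (Algebra.norm_ne_zero_iff.mpr hs'), key r hr, key s hs0,
    ← sub_eq_add_neg, ← Finset.sum_sub_distrib]
  refine Finset.sum_congr rfl fun n _ => ?_
  rw [Groth.RefRank.ordFrac_mul' hr' (inv_ne_zero hs'), Groth.RefRank.ordFrac_inv' hs']
  ring

end SemiLocal

section Prime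

variable (R : Type u) [CommRing R] [IsDomain R] [IsNoetherianRing R] (q : Ideal R) [q.IsPrime]
  (A : Type u) [CommRing A] [Algebra R A] [IsLocalization.AtPrime A q]
  (S : Type u) [CommRing S] [IsDomain S] [Algebra R S] [Module.Finite R S]
  (K L : Type u) [Field K] [Field L] [Algebra R K] [IsFractionRing R K] [Algebra A K]
  [IsScalarTower R A K] [Algebra S L] [IsFractionRing S L] [Algebra K L] [Algebra R L]
  [IsScalarTower R S L] [IsScalarTower R K L] [FiniteDimensional K L]

/-- The points over a prime. -/
abbrev OverPrime : Type u := {P : PrimeSpectrum S // P.asIdeal.comap (algebraMap R S) = q}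

theorem ordFrac_norm_eq_finsum_over (hq : ringKrullDim A = 1) (hinj : Function.Injective (algebraMap R S))
    (Sl : OverPrime R q S → Type u) [∀ P, CommRing (Sl P)] [∀ P, IsLocalRing (Sl P)] [∀ P, Algebra S (Sl P)]
    [∀ P, IsLocalization.AtPrime (Sl P) P.1.asIdeal] [∀ P, Algebra A (Sl P)] [∀ P, Algebra R (Sl P)]
    [∀ P, IsScalarTower R A (Sl P)] [∀ P, IsScalarTower R S (Sl P)]
    [∀ P, Algebra (Sl P) L] [∀ P, IsScalarTower S (Sl P) L]
    {f : L} (hf : f ≠ 0) :
    Finite (OverPrime R q S) ∧ (∀ P, Ring.KrullDimLE 1 (Sl P)) ∧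
    CycAlg.ordFrac A K (Algebra.norm K f) = ∑ᶠ P : OverPrime R q S,
      ((Module.length A (ResidueField (Sl P))).toNat : ℤ) * CycAlg.ordFrac (Sl P) L f := by
  classical
  have : IsDomain A := IsLocalization.isDomain_of_le_nonZeroDivisors A q.primeCompl_le_nonZeroDivisors
  have : IsLocalRing A := IsLocalization.AtPrime.isLocalRing A q
  have : IsNoetherianRing A := IsLocalization.isNoetherianRing q.primeCompl A inferInstance
  have : IsFractionRing A K := IsFractionRing.isFractionRing_of_isDomain_of_isLocalization q.primeCompl A K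
  set M : Submonoid S := Algebra.algebraMapSubmonoid S q.primeCompl
  have hM : M ≤ nonZeroDivisors S := by
    rintro _ ⟨t, ht, rfl⟩
    exact mem_nonZeroDivisors_of_ne_zero ((map_ne_zero_iff _ hinj).mpr fun h => ht (h ▸ q.zero_mem))
  let B := Localization M
  have : IsDomain B := IsLocalization.isDomain_of_le_nonZeroDivisors B hM
  have hu : ∀ t : q.primeCompl, IsUnit (algebraMap R B t) := fun t => by
    rw [IsScalarTower.algebraMap_apply R S B]
    exact IsLocalization.map_units B (⟨_, ⟨t, t.2, rfl⟩⟩ : M)
  let _ : Algebra A B := (IsLocalization.lift (S := A) hu).toAlgebra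
  have : IsScalarTower R A B := IsScalarTower.of_algebraMap_eq fun r =>
    (IsLocalization.lift_eq (S := A) hu r).symm
  have : IsLocalization (Algebra.algebraMapSubmonoid S q.primeCompl) B := Localization.isLocalization
  have : Module.Finite A B := Module.Finite.of_isLocalization R S q.primeCompl
  have hinjAB : Function.Injective (algebraMap A B) := by
    rw [injective_iff_map_eq_zero]
    intro a ha
    obtain ⟨r, t, rfl⟩ := IsLocalization.exists_mk'_eq q.primeCompl a
    have h1 : algebraMap R B r = 0 := by
      rw [IsScalarTower.algebraMap_apply R A B, ← IsLocalization.mk'_spec A r t, map_mul, ha, zero_mul]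
    rw [IsScalarTower.algebraMap_apply R S B] at h1
    rw [(map_eq_zero_iff _ hinj).mp ((map_eq_zero_iff _ (IsLocalization.injective B hM)).mp h1),
      IsLocalization.mk'_zero]
  have hSL : ∀ t : M, IsUnit (algebraMap S L t) := fun t =>
    IsUnit.mk0 _ ((map_ne_zero_iff _ (IsFractionRing.injective S L)).mpr (nonZeroDivisors.ne_zero (hM t.2)))
  let _ : Algebra B L := (IsLocalization.lift (S := B) hSL).toAlgebra
  have : IsScalarTower S B L := IsScalarTower.of_algebraMap_eq fun r =>
    (IsLocalization.lift_eq (S := B) hSL r).symm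
  have : IsFractionRing B L := IsFractionRing.isFractionRing_of_isDomain_of_isLocalization M B L
  let _ : Algebra A L := ((algebraMap K L).comp (algebraMap A K)).toAlgebra
  have : IsScalarTower A K L := IsScalarTower.of_algebraMap_eq fun _ => rfl
  have : IsScalarTower A B L := by
    refine IsScalarTower.of_algebraMap_eq' ?_
    refine IsLocalization.ringHom_ext q.primeCompl ?_
    ext r
    simp only [RingHom.comp_apply]
    rw [← IsScalarTower.algebraMap_apply R A B, IsScalarTower.algebraMap_apply R S B,
      ← IsScalarTower.algebraMap_apply S B L, ← IsScalarTower.algebraMap_apply R S L,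
      IsScalarTower.algebraMap_apply R K L, IsScalarTower.algebraMap_apply R A K]
    rfl
  -- maximal ideals of `B` are the primes over `q`
  have hover : ∀ n : MaximalSpectrum B, ((n.asIdeal.comap (algebraMap S B))).comap (algebraMap R S) = q := by
    intro n
    rw [Ideal.comap_comap, ← IsScalarTower.algebraMap_eq, IsScalarTower.algebraMap_eq R A B, ← Ideal.comap_comap]
    rw [show n.asIdeal.comap (algebraMap A B) = maximalIdeal A from
      eq_maximalIdeal (Ideal.isMaximal_comap_of_isIntegral_of_isMaximal (R := A) n.asIdeal)]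
    exact IsLocalization.AtPrime.under_maximalIdeal A q
  have hdisj : ∀ P : OverPrime R q S, Disjoint (M : Set S) P.1.asIdeal := fun P => by
    refine Set.disjoint_left.mpr ?_
    rintro _ ⟨t, ht, rfl⟩ hP
    exact ht (P.2 ▸ Ideal.mem_comap.mpr hP)
  have hmaxB : ∀ P : OverPrime R q S, (P.1.asIdeal.map (algebraMap S B)).IsMaximal := fun P => by
    have hp := IsLocalization.isPrime_of_isPrime_disjoint M B _ P.1.2 (hdisj P)
    refine Ideal.isMaximal_of_isIntegral_of_isMaximal_comap (R := A) _ ?_
    have h1 : ((P.1.asIdeal.map (algebraMap S B)).comap (algebraMap A B)).comap (algebraMap R A) = q := by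
      rw [Ideal.comap_comap, ← IsScalarTower.algebraMap_eq, IsScalarTower.algebraMap_eq R S B, ← Ideal.comap_comap,
        ← Ideal.under_def S, IsLocalization.under_map_of_isPrime_disjoint M B P.1.2 (hdisj P), P.2]
    rw [← IsLocalization.map_under q.primeCompl A ((P.1.asIdeal.map (algebraMap S B)).comap (algebraMap A B)), Ideal.under_def, h1,
      IsLocalization.AtPrime.map_eq_maximalIdeal]
    exact maximalIdeal.isMaximal A
  let e : MaximalSpectrum B ≃ OverPrime R q S :=
    { toFun := fun n => ⟨⟨n.asIdeal.comap (algebraMap S B), inferInstance⟩, hover n⟩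
      invFun := fun P => ⟨P.1.asIdeal.map (algebraMap S B), hmaxB P⟩
      left_inv := fun n => MaximalSpectrum.ext (IsLocalization.map_under M B _)
      right_inv := fun P => Subtype.ext (PrimeSpectrum.ext
        (IsLocalization.under_map_of_isPrime_disjoint M B P.1.2 (hdisj P))) }
  have hfinB : Finite (MaximalSpectrum B) := by
    let g : MaximalSpectrum B → (maximalIdeal A).primesOver B := fun n =>
      ⟨n.asIdeal, inferInstance,
        ⟨(eq_maximalIdeal (Ideal.isMaximal_comap_of_isIntegral_of_isMaximal (R := A) n.asIdeal)).symm⟩⟩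
    have : Algebra.QuasiFinite A B := inferInstance
    have : Finite ((maximalIdeal A).primesOver B) := (Algebra.QuasiFinite.finite_primesOver _).to_subtype
    exact Finite.of_injective g fun a b h => MaximalSpectrum.ext (congrArg Subtype.val h)
  refine ⟨Finite.of_equiv _ e, ?_⟩
  -- the local rings
  let _ : ∀ n : MaximalSpectrum B, Algebra B (Sl (e n)) := fun n =>
    (IsLocalization.lift (S := B) (M := M) (g := algebraMap S (Sl (e n))) (by
      rintro ⟨_, t, ht, rfl⟩
      exact IsLocalization.map_units (Sl (e n)) (⟨algebraMap R S t, fun hP => ht ((e n).2 ▸ Ideal.mem_comap.mpr hP)⟩ :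
        (e n).1.asIdeal.primeCompl))).toAlgebra
  have hSB : ∀ n : MaximalSpectrum B, IsScalarTower S B (Sl (e n)) := fun n =>
    IsScalarTower.of_algebraMap_eq fun r => (IsLocalization.lift_eq (S := B) _ r).symm
  have hloc : ∀ n : MaximalSpectrum B, IsLocalization.AtPrime (Sl (e n)) n.asIdeal := fun n => by
    have : IsLocalization.AtPrime (Sl (e n)) (n.asIdeal.comap (algebraMap S B)) :=
      inferInstanceAs (IsLocalization.AtPrime (Sl (e n)) (e n).1.asIdeal)
    have hMle : M ≤ (n.asIdeal.comap (algebraMap S B)).primeCompl := fun m hm hm' =>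
      n.2.ne_top (Ideal.eq_top_of_isUnit_mem _ hm' (IsLocalization.map_units B (⟨m, hm⟩ : M)))
    have h0 := IsLocalization.isLocalization_of_submonoid_le B (Sl (e n)) M
      (n.asIdeal.comap (algebraMap S B)).primeCompl hMle
    refine IsLocalization.of_le_of_exists_dvd (M := (n.asIdeal.comap (algebraMap S B)).primeCompl.map (algebraMap S B))
      _ ?_ ?_
    · rintro _ ⟨a, ha, rfl⟩
      exact ha
    · intro b hb
      obtain ⟨⟨a, m⟩, ham⟩ := IsLocalization.surj M b
      refine ⟨algebraMap S B a, ⟨a, ?_, rfl⟩, ⟨algebraMap S B m, ham.symm⟩⟩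
      intro ha
      rcases (inferInstance : n.asIdeal.IsPrime).mem_or_mem (show b * algebraMap S B m ∈ n.asIdeal from ham ▸ ha) with h | h
      · exact hb h
      · exact hMle m.2 h
  have hBL : ∀ n : MaximalSpectrum B, IsScalarTower B (Sl (e n)) L := fun n => by
    refine IsScalarTower.of_algebraMap_eq' ?_
    refine IsLocalization.ringHom_ext M ?_
    ext r
    simp only [RingHom.comp_apply]
    rw [← IsScalarTower.algebraMap_apply S B L, ← IsScalarTower.algebraMap_apply S B (Sl (e n)),
      ← IsScalarTower.algebraMap_apply S (Sl (e n)) L]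
  refine ⟨fun P => ?_, ?_⟩
  · obtain ⟨n, rfl⟩ := e.surjective P
    exact krullDimLE_one_localization n.asIdeal (krullDimLE_one_of_finite A B hq) (Sl (e n))
  rw [ordFrac_norm_eq_finsum A B K L hq hinjAB (fun n => Sl (e n)) hf, ← finsum_comp_equiv e]
  refine finsum_congr fun n => ?_
  congr 3
  have hAB : IsScalarTower A B (Sl (e n)) := by
    refine IsScalarTower.of_algebraMap_eq' ?_
    refine IsLocalization.ringHom_ext q.primeCompl ?_
    ext r
    simp only [RingHom.comp_apply]
    rw [← IsScalarTower.algebraMap_apply R A (Sl (e n)), ← IsScalarTower.algebraMap_apply R A B,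
      IsScalarTower.algebraMap_apply R S B, ← IsScalarTower.algebraMap_apply S B (Sl (e n)),
      ← IsScalarTower.algebraMap_apply R S (Sl (e n))]
  let g : B ⧸ n.asIdeal →ₗ[A] ResidueField (Sl (e n)) :=
    { toFun := IsLocalization.AtPrime.equivQuotMaximalIdeal n.asIdeal (Sl (e n))
      map_add' := map_add _
      map_smul' := fun a x => by
        obtain ⟨x, rfl⟩ := Ideal.Quotient.mk_surjective x
        rw [Algebra.smul_def a (Ideal.Quotient.mk n.asIdeal x), RingHom.id_apply, map_mul,
          IsScalarTower.algebraMap_apply A B (B ⧸ n.asIdeal), Ideal.Quotient.algebraMap_eq,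
          IsLocalization.AtPrime.equivQuotMaximalIdeal_apply_mk, ← IsScalarTower.algebraMap_apply A B (Sl (e n))]
        exact (Algebra.smul_def a (IsLocalization.AtPrime.equivQuotMaximalIdeal n.asIdeal (Sl (e n)) (Ideal.Quotient.mk n.asIdeal x) :
          ResidueField (Sl (e n)))).symm }
  exact (LinearEquiv.ofBijective g (RingEquiv.bijective _)).length_eq

end Prime

end Groth.Cycles
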