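import Groth.Agent.Cycles.CurveOrd
import Groth.Agent.Cycles.NormScheme
import Groth.Agent.S4454
import Groth.Agent.Ega2Proj.FieldNormalization
import Groth.Agent.CurveNorm.Main
import Groth.Agent.Variety2.DimScheme
import Groth.Agent.Cycles.DimJacobson
import Groth.Agent.Cycles.PushCyc
import Mathlib.AlgebraicGeometry.Morphisms.Finite
import Mathlib.AlgebraicGeometry.Morphisms.Proper

/-!
A principal divisor on a proper curve over a field has degree zero.
-/

universe u

set_option autoImplicit false
set_option linter.style.haveILetI false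

open CategoryTheory AlgebraicGeometry IsLocalRing
open scoped Groth.CurveBridge

namespace Groth.Cycles

variable {K : Type u} [Field K] {X : Scheme.{u}}

theorem evaluation_Spec_bijective (y : Spec (CommRingCat.of K)) :
    Function.Bijective fun a : K => (Spec (CommRingCat.of K)).evaluation ⊤ y trivial
      ((Scheme.ΓSpecIso (CommRingCat.of K)).inv a) := by
  let S := Spec (CommRingCat.of K)
  let φ : K →+* S.residueField y :=
    ((Scheme.ΓSpecIso (CommRingCat.of K)).inv ≫ S.evaluation ⊤ y trivial).hom
  suffices h : Function.Surjective φ from ⟨fun a b e => φ.injective e, h⟩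
  intro z
  obtain ⟨w, rfl⟩ := S.residue_surjective y z
  letI := TopCat.Presheaf.algebra_section_stalk S.presheaf (⟨y, trivial⟩ : (⊤ : S.Opens))
  have := (isAffineOpen_top S).isLocalization_stalk ⟨y, trivial⟩
  obtain ⟨⟨a, t⟩, hat⟩ := IsLocalization.surj
    ((isAffineOpen_top S).primeIdealOf ⟨y, trivial⟩).asIdeal.primeCompl w
  obtain ⟨a', ha⟩ := (ConcreteCategory.bijective_of_isIso (Scheme.ΓSpecIso (CommRingCat.of K)).inv).2 a
  obtain ⟨t', ht⟩ := (ConcreteCategory.bijective_of_isIso (Scheme.ΓSpecIso (CommRingCat.of K)).inv).2 t.1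
  refine ⟨a' / t', ?_⟩
  change φ (a' / t') = _
  have h1 := congrArg (S.residue y) hat
  rw [map_mul] at h1
  have hu : (S.residue y) (algebraMap Γ(S, ⊤) (S.presheaf.stalk y) t) ≠ 0 :=
    ((IsLocalization.map_units (S.presheaf.stalk y) t).map (S.residue y).hom).ne_zero
  rw [map_div₀, eq_comm, eq_div_iff (by
    show φ t' ≠ 0
    intro h0
    refine hu ?_
    rw [← ht]
    exact h0)]
  show S.residue y w * S.residue y (algebraMap Γ(S, ⊤) (S.presheaf.stalk y)
      ((Scheme.ΓSpecIso (CommRingCat.of K)).inv t')) =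
    S.residue y (algebraMap Γ(S, ⊤) (S.presheaf.stalk y) ((Scheme.ΓSpecIso (CommRingCat.of K)).inv a'))
  rw [ha, ht]
  exact h1

theorem residueDegree_eq_finrank_over [X.Over (Spec (CommRingCat.of K))] (x : X) :
    (X ↘ Spec (CommRingCat.of K)).residueDegree x =
      @Module.finrank K (X.residueField x) _ _
        ((X.residue x).hom.comp (Curv2.stalkMap K X x)).toAlgebra.toModule := by
  set c := X ↘ Spec (CommRingCat.of K)
  letI := (c.residueFieldMap x).hom.toAlgebra
  letI := ((X.residue x).hom.comp (Curv2.stalkMap K X x)).toAlgebra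
  refine (Algebra.finrank_eq_of_equiv_equiv
    (RingEquiv.ofBijective ((Scheme.ΓSpecIso (CommRingCat.of K)).inv ≫
      (Spec (CommRingCat.of K)).evaluation ⊤ (c x) trivial).hom (evaluation_Spec_bijective (c x)))
    (RingEquiv.refl _) ?_).symm
  ext a
  exact Scheme.evaluation_naturality_apply c (V := ⊤) x trivial _

theorem deg_placeAt' [X.Over (Spec (CommRingCat.of K))] [IsIntegral X]
    [LocallyOfFiniteType (X ↘ Spec (CommRingCat.of K))] (h : Groth.CurveBridge.IsRegCurve X)
    (x : Groth.CurveBridge.Pt X) :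
    (Groth.CurveBridge.placeAt (k := K) h x).deg = (X ↘ Spec (CommRingCat.of K)).residueDegree x.1 := by
  rw [residueDegree_eq_finrank_over]
  set P := Groth.CurveBridge.placeAt (k := K) h x
  let φ : X.presheaf.stalk x.1 →+* P.O :=
    (algebraMap (X.presheaf.stalk x.1) X.functionField).codRestrict P.O.toSubring
      fun a => (Groth.CurveBridge.placeAt_le_one_iff h x _).2 ⟨a, rfl⟩
  have hφ : Function.Bijective φ := by
    refine ⟨fun a b hab => ?_, fun z => ?_⟩
    · haveI := h.dvr (k := K) x
      exact IsFractionRing.injective (X.presheaf.stalk x.1) X.functionField (congrArg Subtype.val hab)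
    · obtain ⟨a, ha⟩ := (Groth.CurveBridge.placeAt_le_one_iff h x z.1).1 z.2
      exact ⟨a, Subtype.ext ha⟩
  let e : X.residueField x.1 ≃+* IsLocalRing.ResidueField P.O :=
    IsLocalRing.ResidueField.mapEquiv (RingEquiv.ofBijective φ hφ)
  letI := ((X.residue x.1).hom.comp (Curv2.stalkMap K X x.1)).toAlgebra
  have hcomm : ∀ c : K, e (algebraMap K (X.residueField x.1) c) =
      algebraMap K (IsLocalRing.ResidueField P.O) c := by
    intro c
    change IsLocalRing.residue P.O (φ (Curv2.stalkMap K X x.1 c)) = IsLocalRing.residue P.O _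
    exact congrArg _ (Subtype.ext (Groth.CurveBridge.algebraMap_functionField K X x.1 c))
  exact ((AlgEquiv.ofRingEquiv (f := e) hcomm).toLinearEquiv.finrank_eq).symm

/-- Degree zero on a regular proper curve. -/
theorem exists_finset_degree_zero [X.Over (Spec (CommRingCat.of K))] [IsIntegral X]
    [IsProper (X ↘ Spec (CommRingCat.of K))] (h : Groth.CurveBridge.IsRegCurve X) (g : X.functionField) :
    ∃ s : Finset X, (∀ x ∈ s, IsClosed ({x} : Set X)) ∧
      (∀ x : X, IsClosed ({x} : Set X) → Groth.RefRank.ordK x g ≠ 0 → x ∈ s) ∧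
      ∑ x ∈ s, ((X ↘ Spec (CommRingCat.of K)).residueDegree x : ℤ) * Groth.RefRank.ordK x g = 0 := by
  classical
  have hF := Groth.CurveBridge.isFF K X h.dim
  let e := Groth.CurveBridge.placeEquiv (k := K) h
  refine ⟨((FunFld.div K g).support.map e.symm.toEmbedding).map (Function.Embedding.subtype _), ?_, ?_, ?_⟩
  · intro x hx
    obtain ⟨y, -, rfl⟩ := Finset.mem_map.mp hx
    exact y.2
  · intro x hx hne
    refine Finset.mem_map.mpr ⟨⟨x, hx⟩, Finset.mem_map.mpr ⟨e ⟨x, hx⟩, ?_, e.symm_apply_apply _⟩, rfl⟩
    rw [Finsupp.mem_support_iff, hF.div_apply]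
    exact (ordFrac_eq_placeOrd (k := K) h ⟨x, hx⟩ g) ▸ hne
  · rw [Finset.sum_map, Finset.sum_map]
    have hd := hF.deg_div g
    rw [FunFld.Divisor.deg, Finsupp.sum] at hd
    rw [← hd]
    refine Finset.sum_congr rfl fun P _ => ?_
    simp only [Function.Embedding.coe_subtype, Equiv.toEmbedding_apply]
    have he : Groth.CurveBridge.placeAt (k := K) h (e.symm P) = P := e.apply_symm_apply P
    rw [hF.div_apply, ← deg_placeAt' h, Groth.RefRank.ordK, ordFrac_eq_placeOrd (k := K) h, he, mul_comm]

theorem ringKrullDim_stalk_closed [IsIntegral X] (c : X ⟶ Spec (CommRingCat.of K)) [LocallyOfFiniteType c]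
    (hdim : topologicalKrullDim X = 1) (x : X) (hx : IsClosed ({x} : Set X)) :
    ringKrullDim (X.presheaf.stalk x) = 1 := by
  have h := Groth.Variety2.Dim.ringKrullDim_stalk_add_height c x
  rw [hdim, show Order.height x = 0 from Order.height_eq_zero.mpr fun y hy => ?_] at h
  · simpa using h
  · have : y ∈ closure ({x} : Set X) := specializes_iff_mem_closure.mp hy
    rw [hx.closure_eq] at this
    exact (this : y = x).symm.le

theorem residueFieldMap_normalization_surjective [IsIntegral X] (g : Spec (CommRingCat.of X.functionField) ⟶ X)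
    (hg : g = Spec.map (CommRingCat.ofHom (RingHom.id X.functionField)) ≫ X.fromSpecStalk (genericPoint X))
    [QuasiCompact g] [QuasiSeparated g] :
    Function.Surjective (g.fromNormalization.residueFieldMap (genericPoint g.normalization)).hom := by
  obtain ⟨U, hU, hξ, -⟩ := exists_isAffineOpen_mem_and_subset (x := genericPoint X) (U := (⊤ : X.Opens)) trivial
  have : Nonempty U := ⟨⟨_, hξ⟩⟩
  have : Nonempty (U : Scheme.{u}) := ⟨⟨_, hξ⟩⟩
  have := functionField_isFractionRing_of_isAffineOpen X U hU
  set ν := g.fromNormalization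
  set ξ' := genericPoint g.normalization
  have hνξ : ν ξ' = genericPoint X :=
    Groth.Ega2Proj.fromNormalization_genericPoint X X.functionField (RingHom.id _) g hg
  have hξU : ν ξ' ∈ U := hνξ ▸ hξ
  have hV : IsAffineOpen (ν ⁻¹ᵁ U) := hU.preimage ν
  obtain ⟨e, he⟩ := Groth.CurveNorm.exists_equiv_integralClosure X X.functionField (RingHom.id _) g hg hU hξ
  letI : Algebra Γ(X, U) X.functionField :=
    ((RingHom.id X.functionField).comp (X.presheaf.germ U (genericPoint X) hξ).hom).toAlgebra
  have key : ∀ s : Γ(g.normalization, ν ⁻¹ᵁ U),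
      g.normalization.evaluation (ν ⁻¹ᵁ U) ξ' hξU s ∈ (ν.residueFieldMap ξ').hom.range := by
    intro s
    obtain ⟨a, b, hb, hab⟩ := IsFractionRing.div_surjective (A := Γ(X, U)) (e s : X.functionField)
    have hb0 : algebraMap Γ(X, U) X.functionField b ≠ 0 :=
      (map_ne_zero_iff _ (IsFractionRing.injective Γ(X, U) X.functionField)).mpr (nonZeroDivisors.ne_zero hb)
    have hsab : s * (ν.app U).hom b = (ν.app U).hom a := by
      apply e.injective
      rw [map_mul, he, he]
      exact Subtype.ext ((div_eq_iff hb0).mp hab).symm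
    have h1 := congrArg (g.normalization.evaluation (ν ⁻¹ᵁ U) ξ' hξU) hsab
    rw [map_mul, ← Scheme.evaluation_naturality_apply, ← Scheme.evaluation_naturality_apply] at h1
    have hb1 : X.evaluation U (ν ξ') hξU b ≠ 0 := by
      intro h0
      have : Function.Injective ((X.residue (ν ξ')).hom.comp (X.presheaf.germ U (ν ξ') hξU).hom) :=
        (residue_generic_bijective hνξ).1.comp (germ_injective_of_isIntegral X _ _)
      exact nonZeroDivisors.ne_zero hb (this (h0.trans (map_zero _).symm))
    refine ⟨X.evaluation U (ν ξ') hξU a / X.evaluation U (ν ξ') hξU b, ?_⟩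
    rw [map_div₀, div_eq_iff ((map_ne_zero_iff _ (ν.residueFieldMap ξ').hom.injective).mpr hb1)]
    exact h1.symm
  intro z
  letI := ((g.normalization.residue ξ').hom.comp (g.normalization.presheaf.germ (ν ⁻¹ᵁ U) ξ' hξU).hom).toAlgebra
  have := isFractionRing_residue_comp (rfl : ξ' = genericPoint g.normalization) (ν ⁻¹ᵁ U) hV hξU
  obtain ⟨s, t, -, rfl⟩ := IsFractionRing.div_surjective (A := Γ(g.normalization, ν ⁻¹ᵁ U)) z
  obtain ⟨a, ha⟩ := key s
  obtain ⟨b, hb⟩ := key t
  refine ⟨a / b, ?_⟩
  rw [map_div₀, ha, hb]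
  rfl

theorem finsum_eq_zero_of_birational [IsIntegral X] (c : X ⟶ Spec (CommRingCat.of K)) [IsProper c]
    (hdim : topologicalKrullDim X = 1) {X' : Scheme.{u}} [IsIntegral X'] (ν : X' ⟶ X) [IsFinite ν]
    (hnorm : Pi1.IsNormalScheme X')
    (hdim1 : ∀ x : X', IsClosed ({x} : Set X') → ringKrullDim (X'.presheaf.stalk x) = 1)
    (hgen : ν ⁻¹' {genericPoint X} = {genericPoint X'})
    (hsurj : Function.Surjective (ν.residueFieldMap (genericPoint X')).hom)
    (f : X.functionField) (hf : f ≠ 0) :
    ∑ᶠ (x : X) (_ : IsClosed ({x} : Set X)),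
      (c.residueDegree x : ℤ) * CycAlg.ordFrac (X.presheaf.stalk x) X.functionField f = 0 := by
  classical
  letI : X.Over (Spec (CommRingCat.of K)) := ⟨c⟩
  have : IsLocallyNoetherian X := LocallyOfFiniteType.isLocallyNoetherian c
  have : IsProper (X ↘ Spec (CommRingCat.of K)) := ‹IsProper c›
  letI : X'.Over (Spec (CommRingCat.of K)) := ⟨ν ≫ c⟩
  have : IsProper (X' ↘ Spec (CommRingCat.of K)) := (inferInstance : IsProper (ν ≫ c))
  have : IsLocallyNoetherian X' := LocallyOfFiniteType.isLocallyNoetherian (ν ≫ c)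
  have : CompactSpace X' := QuasiCompact.compactSpace_of_compactSpace (ν ≫ c)
  obtain ⟨x₀, -, hx₀⟩ : ∃ z : X', z ≤ genericPoint X' ∧ IsClosed ({z} : Set X') := by
    have : JacobsonSpace X' := LocallyOfFiniteType.jacobsonSpace (ν ≫ c)
    exact exists_closed_le _
  have hdim' : topologicalKrullDim X' = 1 := by
    rw [← Groth.Variety2.Dim.ringKrullDim_stalk_add_height (ν ≫ c) x₀, hdim1 x₀ hx₀,
      show Order.height x₀ = 0 from Order.height_eq_zero.mpr fun y hy => ?_]
    · rfl
    · have : y ∈ closure ({x₀} : Set X') := specializes_iff_mem_closure.mp hy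
      rw [hx₀.closure_eq] at this
      exact (this : y = x₀).symm.le
  have hreg : Groth.CurveBridge.IsRegCurve X' := by
    refine ⟨hdim', fun x => ?_⟩
    by_cases hx : IsClosed ({x} : Set X')
    · have := Groth.RefRank.isDiscreteValuationRing_stalk hnorm (hdim1 x hx)
      infer_instance
    · have hgen : x = genericPoint X' :=
        not_not.mp fun hne => hx ((Groth.CurveBridge.isClosed_singleton_iff X' hdim' x).mpr hne)
      subst hgen
      exact inferInstanceAs (IsRegularLocalRing X'.functionField)
  have hνξ : ν (genericPoint X') = genericPoint X :=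
    (Set.ext_iff.mp hgen _).mpr rfl
  have hclosed : ∀ x' : X', IsClosed ({ν x'} : Set X) ↔ IsClosed ({x'} : Set X') := by
    intro x'
    rw [Groth.CurveBridge.isClosed_singleton_iff X hdim, Groth.CurveBridge.isClosed_singleton_iff X' hdim']
    refine not_congr ⟨fun h => ?_, fun h => by rw [h]; exact hνξ⟩
    exact (Set.ext_iff.mp hgen _).mp h
  have hbij : Function.Bijective (ν.residueFieldMap (genericPoint X')).hom :=
    ⟨(ν.residueFieldMap (genericPoint X')).hom.injective, hsurj⟩
  have hnorm1 : ∀ F : X.residueField (ν (genericPoint X')), Cyc.normGen ν (genericPoint X') ((ν.residueFieldMap (genericPoint X')).hom F) = F := by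
    intro F
    letI := (ν.residueFieldMap (genericPoint X')).hom.toAlgebra
    have h1 : Module.finrank (X.residueField (ν (genericPoint X'))) (X'.residueField (genericPoint X')) = 1 :=
      (LinearEquiv.ofBijective (Algebra.linearMap _ _) hbij).finrank_eq.symm.trans (Module.finrank_self _)
    show Algebra.norm _ (algebraMap _ _ F) = F
    rw [Algebra.norm_algebraMap, h1, pow_one]
  -- the weighted sum for an arbitrary element at the image of the generic point
  have main : ∀ (F : X.residueField (ν (genericPoint X'))) (hsp : ∀ x : X, ν (genericPoint X') ⤳ x), F ≠ 0 →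
      ∑ᶠ (x : X) (_ : IsClosed ({x} : Set X)), (c.residueDegree x : ℤ) * Cyc.ordAt x (ν (genericPoint X')) (hsp x) F = 0 := by
    intro F hsp hF
    obtain ⟨g', hg'⟩ := residue_generic_bijective (rfl : (genericPoint X') = genericPoint X') |>.2 ((ν.residueFieldMap (genericPoint X')).hom F)
    have hF' : (ν.residueFieldMap (genericPoint X')).hom F ≠ 0 := (map_ne_zero_iff _ hbij.1).mpr hF
    obtain ⟨s, hs1, hs2, hs3⟩ := exists_finset_degree_zero (K := K) hreg g'
    have hord : ∀ x' : X', IsClosed ({x'} : Set X') →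
        Cyc.ordAt x' (genericPoint X') (genericPoint_specializes x') ((ν.residueFieldMap (genericPoint X')).hom F) = Groth.RefRank.ordK x' g' := by
      intro x' hx'
      rw [← hg']
      exact Groth.RefRank.ordAt_residue (hdim1 x' hx').le _ g'
    have hx : ∀ x : X, IsClosed ({x} : Set X) → Cyc.ordAt x (ν (genericPoint X')) (hsp x) F =
        ∑ x' ∈ s, if ν x' = x then (ν.residueDegree x' : ℤ) * Groth.RefRank.ordK x' g' else 0 := by
      intro x hx
      obtain ⟨_, ⟨V, hV, rfl⟩, hxV, -⟩ :=
        X.isBasis_affineOpens.exists_subset_of_mem_open (Set.mem_univ x) isOpen_univ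
      obtain ⟨hfinite, heq⟩ := ordAt_normGen_eq_finsum ν (genericPoint X') rfl hνξ V hV inferInstance
        (RingHom.Finite.of_surjective _ hbij.2) x hxV (ringKrullDim_stalk_closed c hdim x hx) (hsp x)
        (fun x => genericPoint_specializes x) _ hF'
      rw [hnorm1] at heq
      rw [heq, ← Finset.sum_filter, finsum_eq_sum_of_support_subset _ (s := s.subtype fun x' => ν x' = x),
        ← Finset.sum_subtype_eq_sum_filter]
      · refine Finset.sum_congr rfl fun x' _ => ?_
        rw [hord _ ((hclosed _).mp (x'.2.symm ▸ hx))]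
      · intro x' hx'
        have hcl : IsClosed ({x'.1} : Set X') := (hclosed _).mp (x'.2.symm ▸ hx)
        rw [Function.mem_support, hord _ hcl] at hx'
        exact Finset.mem_subtype.mpr (hs2 _ hcl (right_ne_zero_of_mul hx'))
    rw [finsum_cond_eq_sum_of_cond_iff (p := fun x : X => IsClosed ({x} : Set X)) _ (t := s.image ν)]
    · rw [← hs3, ← Finset.sum_fiberwise_of_maps_to (g := ν) (t := s.image ν)
        (fun x hx => Finset.mem_image_of_mem _ hx)]
      refine Finset.sum_congr rfl fun x hx' => ?_
      obtain ⟨x0, hx0, rfl⟩ := Finset.mem_image.mp hx'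
      rw [hx _ ((hclosed x0).mpr (hs1 x0 hx0)), Finset.mul_sum, Finset.sum_filter]
      refine Finset.sum_congr rfl fun x' _ => ?_
      split_ifs with he
      · rw [show (X' ↘ Spec (CommRingCat.of K)).residueDegree x' = (ν ≫ c).residueDegree x' from rfl,
          residueDegree_comp, he]
        push_cast
        ring
      · rw [mul_zero]
    · intro x hne
      refine ⟨fun hxc => ?_, fun hxi => ?_⟩
      · rw [hx x hxc] at hne
        obtain ⟨x', hx's, hne'⟩ := Finset.exists_ne_zero_of_sum_ne_zero (right_ne_zero_of_mul hne)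
        exact Finset.mem_image.mpr ⟨x', hx's, (ite_ne_right_iff.mp hne').1⟩
      · obtain ⟨x0, hx0, rfl⟩ := Finset.mem_image.mp hxi
        exact (hclosed x0).mpr (hs1 x0 hx0)
  have main' : ∀ (z : X), z = ν (genericPoint X') → ∀ (F : X.residueField z) (hsp : ∀ x : X, z ⤳ x), F ≠ 0 →
      ∑ᶠ (x : X) (_ : IsClosed ({x} : Set X)), (c.residueDegree x : ℤ) * Cyc.ordAt x z (hsp x) F = 0 := by
    rintro z rfl; exact main
  rw [← main' (genericPoint X) hνξ.symm (X.residue (genericPoint X) f) (fun x => genericPoint_specializes x)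
    ((map_ne_zero_iff _ Groth.RefRank.residue_gen_bijective.1).mpr hf)]
  refine finsum_congr fun x => finsum_congr fun hx => ?_
  rw [Groth.RefRank.ordAt_residue (ringKrullDim_stalk_closed c hdim x hx).le]
  rfl

theorem finsum_eq_zero_of_proper_curve [IsIntegral X] (c : X ⟶ Spec (CommRingCat.of K)) [IsProper c]
    (hdim : topologicalKrullDim X = 1) (f : X.functionField) (hf : f ≠ 0) :
    ∑ᶠ (x : X) (_ : IsClosed ({x} : Set X)),
      (c.residueDegree x : ℤ) * CycAlg.ordFrac (X.presheaf.stalk x) X.functionField f = 0 := by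
  have hXsep : X.IsSeparated := ⟨by
    rw [show Limits.terminal.from X = c ≫ Limits.terminal.from _ from Limits.terminal.hom_ext _ _]
    infer_instance⟩
  letI : X.Over (Spec (CommRingCat.of K)) := ⟨c⟩
  have : IsProper (X ↘ Spec (CommRingCat.of K)) := ‹IsProper c›
  let g : Spec (CommRingCat.of X.functionField) ⟶ X :=
    Spec.map (CommRingCat.ofHom (RingHom.id X.functionField)) ≫ X.fromSpecStalk (genericPoint X)
  have : QuasiCompact g := inferInstance
  have : QuasiSeparated g := inferInstance
  obtain ⟨hνfin, hnorm, hdim1⟩ := Groth.Agent.S4454.result K X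
    (fun x hx => ringKrullDim_stalk_closed c hdim x hx) X.functionField (RingHom.id _)
    (RingHom.Finite.id _) g rfl
  exact finsum_eq_zero_of_birational c hdim g.fromNormalization hnorm hdim1
    (Groth.Ega2Proj.preimage_genericPoint X X.functionField (RingHom.id _) g rfl)
    (residueFieldMap_normalization_surjective g rfl) f hf

end Groth.Cycles
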