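import Groth.Agent.Cycles.PullFib
import Groth.Agent.Cycles.PushDiv

/-!
The projection formula for `c₁(L) ∩ -` and proper pushforward.
-/

universe u

set_option autoImplicit false

open CategoryTheory AlgebraicGeometry
open Groth.RefRank Groth.QCohMod

namespace Groth.Cycles

variable {X Y : Scheme.{u}}

theorem secDivFun_eq_zero_of_not {δ : X → ℤ} {L : X.Modules} {ξ x : X} (s : Cyc.secFibre L ξ)
    (h : ¬ ξ ⤳ x) : Cyc.secDivFun δ L ξ s x = 0 := dif_neg fun h' => h h'.1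

/-- `c₁(L) ∩ α` is a cycle. -/
theorem exists_cycle_c1CapFun {δ : X → ℤ} (hX : Cyc.IsSetup X δ) {L : X.Modules}
    (hL : PicF.IsInvertible L) (α : AlgebraicCycle X ℤ) {s : (ξ : X) → Cyc.secFibre L ξ} (hs : ∀ ξ, s ξ ≠ 0) :
    ∃ γ : AlgebraicCycle X ℤ, ⇑γ = Cyc.c1CapFun δ L ⇑α s := by
  choose β hβ using fun ξ => exists_cycle_secDivFun hX hL ξ (hs ξ)
  refine ⟨⟨Cyc.c1CapFun δ L ⇑α s, Set.subset_univ _, fun y _ => ?_⟩, rfl⟩
  obtain ⟨_, ⟨V, hV, rfl⟩, hyV, -⟩ :=
    X.isBasis_affineOpens.exists_subset_of_mem_open (Set.mem_univ y) isOpen_univ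
  refine ⟨V, V.isOpen.mem_nhds hyV, ?_⟩
  refine ((α.locallyFiniteSupport.finite_inter_support_of_isCompact hV.isCompact).biUnion fun ξ _ =>
    (β ξ).locallyFiniteSupport.finite_inter_support_of_isCompact hV.isCompact).subset ?_
  rintro x ⟨hxV, hx⟩
  obtain ⟨ξ, hξ⟩ : ∃ ξ, α ξ * Cyc.secDivFun δ L ξ (s ξ) x ≠ 0 := by
    by_contra! h
    exact hx (finsum_eq_zero_of_forall_eq_zero h)
  have hsp : ξ ⤳ x := by_contra fun h => right_ne_zero_of_mul hξ (secDivFun_eq_zero_of_not _ h)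
  exact Set.mem_biUnion (x := ξ) ⟨hsp.mem_open V.2 hxV, left_ne_zero_of_mul hξ⟩
    ⟨hxV, (congrFun (hβ ξ) x).trans_ne (right_ne_zero_of_mul hξ)⟩

theorem normGen_residueFieldMap (p : X ⟶ Y) (ξ : X) (g : Y.residueField (p ξ)) :
    Cyc.normGen p ξ (p.residueFieldMap ξ g) = g ^ p.residueDegree ξ := by
  letI := (p.residueFieldMap ξ).hom.toAlgebra
  exact Algebra.norm_algebraMap g

open Classical in
/-- The pushforward of the divisor of a pulled back rational section. -/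
theorem map_secDivFun_pullFib (δX : X → ℤ) (δY : Y → ℤ) (hX : Cyc.IsSetup X δX) (hY : Cyc.IsSetup Y δY)
    (p : X ⟶ Y) [IsProper p] (hδ : Cyc.DeltaCompat p δX δY) {L : Y.Modules} (hL : PicF.IsInvertible L)
    (ξ : X) {v : Cyc.secFibre L (p ξ)} (hv : v ≠ 0) (β : AlgebraicCycle X ℤ)
    (hβ : ⇑β = Cyc.secDivFun δX ((Scheme.Modules.pullback p).obj L) ξ (pullFib p hL v)) (y : Y) :
    AlgebraicCycle.map p δX δY β y =
      (AlgebraicCycle.mapCoeff p δX δY ξ : ℤ) * Cyc.secDivFun δY L (p ξ) v y := by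
  by_cases hy : p ξ ⤳ y
  swap
  · rw [secDivFun_eq_zero_of_not _ hy, mul_zero,
      map_apply_eq_sum p δX δY β y ∅ fun x hx h => ?_, Finset.sum_empty]
    have hsp : ξ ⤳ x := by_contra fun hn => h ((congrFun hβ x).trans (secDivFun_eq_zero_of_not _ hn))
    exact absurd (hx ▸ hsp.map p.continuous) hy
  have hL' := Groth.PicAux.isInvertible_pullback p hL
  obtain ⟨U, e, hyU, he⟩ := exists_gen_nhd hL y
  set g := coef L (p ξ) (germ L (p ξ) (hy.mem_open U.2 hyU) e) v with hgdef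
  have hg : g ≠ 0 := coef_ne_zero (isStalkBasis_germ_of_gen he _) hv
  have hf : p.residueFieldMap ξ g ≠ 0 := (map_ne_zero_iff _ (p.residueFieldMap ξ).hom.injective).mpr hg
  obtain ⟨α', hα', heq, hne⟩ := exists_push_divFun δX δY hX hY p hδ ξ _ hf
  have hpt : ∀ x, p x = y → β x = α' x := by
    intro x hx
    rw [congrFun hβ x, congrFun hα' x]
    by_cases hξ : ξ ⤳ x
    · have hxU : p x ∈ U := hx.symm ▸ hyU
      rw [secDivFun_eq hX hL' hξ (specializes_refl _) (isStalkBasis_germ_of_gen (he.pull p) (x := x) hxU)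
        (pullFib_ne_zero p hL hv), ratCoef, mspec_germ, coef_pullFib p hL he (hy.mem_open U.2 hyU)]
    · rw [secDivFun_eq_zero_of_not _ hξ, Cyc.divFun, dif_neg fun h => hξ h.1]
  have e1 : AlgebraicCycle.map p δX δY β y = AlgebraicCycle.map p δX δY α' y := by
    set s := (finite_preimage_inter_support p α' y).toFinset
    have hs : ∀ x, p x = y → α' x ≠ 0 → x ∈ s := fun x hx h => by simp [s, hx, h]
    rw [map_apply_eq_sum p δX δY β y s fun x hx h => hs x hx (hpt x hx ▸ h), map_apply_eq_sum p δX δY α' y s hs]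
    refine Finset.sum_congr rfl fun x _ => ?_
    split_ifs with hx
    · rw [hpt x hx]
    · rfl
  rw [e1, AlgebraicCycle.mapCoeff]
  by_cases hd : δX ξ = δY (p ξ)
  · rw [if_pos hd, (heq hd).2, normGen_residueFieldMap, divFun_pow δY _ _ hg,
      secDivFun_eq hY hL hy (specializes_refl _) (isStalkBasis_germ_of_gen he hyU) hv, ratCoef, mspec_germ]
  · rw [if_neg hd, hne hd, Nat.cast_zero, zero_mul]
    rfl

open Classical in
/-- Proper pushforward commutes with `c₁(L) ∩ -` on the level of cycles. -/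
theorem map_c1CapFun_pullFib (δX : X → ℤ) (δY : Y → ℤ) (hX : Cyc.IsSetup X δX) (hY : Cyc.IsSetup Y δY)
    (p : X ⟶ Y) [IsProper p] (hδ : Cyc.DeltaCompat p δX δY) {L : Y.Modules} (hL : PicF.IsInvertible L)
    (α : AlgebraicCycle X ℤ) {v : (η : Y) → Cyc.secFibre L η} (hv : ∀ η, v η ≠ 0) (γ : AlgebraicCycle X ℤ)
    (hγ : ⇑γ = Cyc.c1CapFun δX ((Scheme.Modules.pullback p).obj L) ⇑α fun ξ => pullFib p hL (v (p ξ)))
    (y : Y) :
    AlgebraicCycle.map p δX δY γ y = Cyc.c1CapFun δY L ⇑(AlgebraicCycle.map p δX δY α) v y := by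
  have hL' := Groth.PicAux.isInvertible_pullback p hL
  choose β hβ using fun ξ : X => exists_cycle_secDivFun hX hL' ξ (pullFib_ne_zero p hL (hv (p ξ)))
  obtain ⟨_, ⟨V, hV, rfl⟩, hyV, -⟩ :=
    Y.isBasis_affineOpens.exists_subset_of_mem_open (Set.mem_univ y) isOpen_univ
  have hI := α.locallyFiniteSupport.finite_inter_support_of_isCompact (p.isCompact_preimage hV.isCompact)
  set I := hI.toFinset
  have hmemI : ∀ ξ, p ξ ∈ V → α ξ ≠ 0 → ξ ∈ I := fun ξ h1 h2 => hI.mem_toFinset.mpr ⟨h1, h2⟩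
  have hγx : ∀ x, p x = y → γ x = ∑ ξ ∈ I, α ξ * β ξ x := fun x hx => by
    rw [congrFun hγ x, Cyc.c1CapFun]
    refine (finsum_eq_sum_of_support_subset _ (s := I) fun ξ hξ => ?_).trans
      (Finset.sum_congr rfl fun ξ _ => by rw [congrFun (hβ ξ) x])
    have hsp : ξ ⤳ x := by_contra fun h => right_ne_zero_of_mul hξ (secDivFun_eq_zero_of_not _ h)
    exact hmemI ξ ((hsp.map p.continuous).mem_open V.2 (hx.symm ▸ hyV)) (left_ne_zero_of_mul hξ)
  set s := (finite_preimage_inter_support p γ y).toFinset ∪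
    I.biUnion fun ξ => (finite_preimage_inter_support p (β ξ) y).toFinset
  have e1 : AlgebraicCycle.map p δX δY γ y = ∑ ξ ∈ I, α ξ * AlgebraicCycle.map p δX δY (β ξ) y := by
    rw [map_apply_eq_sum p δX δY γ y s fun x hx h => Finset.mem_union_left _ (by simp [hx, h]),
      Finset.sum_congr rfl fun i hi => congrArg (α i * ·) (map_apply_eq_sum p δX δY (β i) y s fun x hx h =>
        Finset.mem_union_right _ (Finset.mem_biUnion.mpr ⟨i, hi, by simp [hx, h]⟩))]
    simp only [Finset.mul_sum]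
    rw [Finset.sum_comm]
    refine Finset.sum_congr rfl fun x _ => ?_
    split_ifs with hx
    · rw [hγx x hx, Finset.sum_mul]
      exact Finset.sum_congr rfl fun i _ => mul_assoc _ _ _
    · simp
  rw [e1, Finset.sum_congr rfl fun ξ _ =>
    congrArg (α ξ * ·) (map_secDivFun_pullFib δX δY hX hY p hδ hL ξ (hv (p ξ)) (β ξ) (hβ ξ) y)]
  unfold Cyc.c1CapFun
  have hsub : (Function.support fun η => AlgebraicCycle.map p δX δY α η * Cyc.secDivFun δY L η (v η) y) ⊆
      (I.image p : Set Y) := by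
    intro η hη
    have hsp : η ⤳ y := by_contra fun h => right_ne_zero_of_mul hη (secDivFun_eq_zero_of_not _ h)
    have hηV := hsp.mem_open V.2 hyV
    by_contra hn
    refine left_ne_zero_of_mul hη ?_
    rw [map_apply_eq_sum p δX δY α η ∅ fun x hx h => (hn ?_).elim, Finset.sum_empty]
    exact Finset.mem_coe.mpr (Finset.mem_image.mpr ⟨x, hmemI x (hx.symm ▸ hηV) h, hx⟩)
  rw [finsum_eq_sum_of_support_subset _ hsub,
    ← Finset.sum_fiberwise_of_maps_to (g := fun ξ => p ξ) fun ξ hξ => Finset.mem_image_of_mem _ hξ]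
  refine Finset.sum_congr rfl fun η hη => ?_
  have hηV : η ∈ V := by
    obtain ⟨ξ, hξ, rfl⟩ := Finset.mem_image.mp hη
    exact (hI.mem_toFinset.mp hξ).1
  rw [map_apply_eq_sum p δX δY α η I fun x hx h => hmemI x (hx.symm ▸ hηV) h, ← Finset.sum_filter,
    Finset.sum_mul]
  refine Finset.sum_congr rfl fun ξ hξ => ?_
  obtain rfl := (Finset.mem_filter.mp hξ).2
  rw [mul_assoc]

/-- The projection formula for `c₁(L) ∩ -`. -/
theorem push_c1_ratEquiv (δX : X → ℤ) (δY : Y → ℤ) (hX : Cyc.IsSetup X δX) (hY : Cyc.IsSetup Y δY)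
    (p : X ⟶ Y) [IsProper p] (hδ : Cyc.DeltaCompat p δX δY) {L : Y.Modules} (hL : PicF.IsInvertible L)
    (k : ℤ) (α : AlgebraicCycle X ℤ) (hα : α ∈ Cyc.Zk X δX (k + 1))
    {u : (ξ : X) → Cyc.secFibre ((Scheme.Modules.pullback p).obj L) ξ} (hu : ∀ ξ, u ξ ≠ 0)
    {v : (η : Y) → Cyc.secFibre L η} (hv : ∀ η, v η ≠ 0) (γ : AlgebraicCycle X ℤ)
    (hγ : ⇑γ = Cyc.c1CapFun δX ((Scheme.Modules.pullback p).obj L) ⇑α u) (γ' : AlgebraicCycle Y ℤ)
    (hγ' : ⇑γ' = Cyc.c1CapFun δY L ⇑(AlgebraicCycle.map p δX δY α) v) :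
    Cyc.RatEquiv δY k (AlgebraicCycle.map p δX δY γ) γ' := by
  have hL' := Groth.PicAux.isInvertible_pullback p hL
  obtain ⟨γ₀, hγ₀⟩ := exists_cycle_c1CapFun hX hL' α (s := fun ξ => pullFib p hL (v (p ξ)))
    (fun ξ => pullFib_ne_zero p hL (hv (p ξ)))
  have h1 := ratEquivZero_map δX δY hX hY p hδ k _
    (c1_change hX hL' hα hu (fun ξ => pullFib_ne_zero p hL (hv (p ξ))) hγ hγ₀)
  rw [map_sub'] at h1
  have e : AlgebraicCycle.map p δX δY γ₀ = γ' := by
    ext y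
    rw [map_c1CapFun_pullFib δX δY hX hY p hδ hL α hv γ₀ hγ₀ y, hγ']
  rw [← e]
  exact h1

end Groth.Cycles
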