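import Groth.Agent.Cycles.C1Comm

/-!
Change of rational sections, and families of principal divisors supported on a closed subscheme.
-/

universe u

set_option autoImplicit false
set_option linter.style.haveILetI false

open CategoryTheory AlgebraicGeometry IsLocalRing
open Groth.RefRank Groth.QCohMod

namespace Groth.Cycles

variable {X : Scheme.{u}} {δ : X → ℤ}

/-- The quotient of two rational sections. -/
noncomputable def secRatio {L : X.Modules} (hL : PicF.IsInvertible L) (ξ : X) (s s' : Cyc.secFibre L ξ) :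
    X.residueField ξ :=
  coef L ξ (bas hL ξ) s / coef L ξ (bas hL ξ) s'

theorem secRatio_ne_zero {L : X.Modules} (hL : PicF.IsInvertible L) {ξ : X} {s s' : Cyc.secFibre L ξ}
    (hs : s ≠ 0) (hs' : s' ≠ 0) : secRatio hL ξ s s' ≠ 0 :=
  div_ne_zero (coef_ne_zero (bas_spec hL ξ) hs) (coef_ne_zero (bas_spec hL ξ) hs')

theorem secRatio_self {L : X.Modules} (hL : PicF.IsInvertible L) {ξ : X} {s : Cyc.secFibre L ξ} (hs : s ≠ 0) :
    secRatio hL ξ s s = 1 :=
  div_self (coef_ne_zero (bas_spec hL ξ) hs)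

theorem secRatio_eq {L : X.Modules} (hL : PicF.IsInvertible L) {ξ : X} {t : L.presheaf.stalk ξ}
    (ht : IsStalkBasis L ξ t) (s s' : Cyc.secFibre L ξ) :
    secRatio hL ξ s s' = coef L ξ t s / coef L ξ t s' := by
  obtain ⟨w, hw, hwt⟩ := exists_unit_of_basis ht (bas_spec hL ξ).span_eq_top
  rw [secRatio, hwt, coef_smul_left ht hw s, coef_smul_left ht hw s',
    mul_div_mul_right _ _ (hw.map (X.residue ξ).hom).ne_zero]

theorem secDivFun_sub (hX : Cyc.IsSetup X δ) {L : X.Modules} (hL : PicF.IsInvertible L) {ξ : X}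
    {s s' : Cyc.secFibre L ξ} (hs : s ≠ 0) (hs' : s' ≠ 0) (x : X) :
    Cyc.secDivFun δ L ξ s x = Cyc.secDivFun δ L ξ s' x + Cyc.divFun δ ξ (secRatio hL ξ s s') x := by
  by_cases h : ξ ⤳ x
  · have hb := bas_spec hL x
    rw [secDivFun_eq hX hL h (specializes_refl x) hb hs, secDivFun_eq hX hL h (specializes_refl x) hb hs',
      secRatio_eq hL (isStalkBasis_mspec hL (h.trans (specializes_refl x)) hb)]
    show _ = Cyc.divFun δ ξ (ratCoef _ (bas hL x) s') x +
      Cyc.divFun δ ξ (ratCoef _ (bas hL x) s / ratCoef _ (bas hL x) s') x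
    have h2 := ratCoef_ne_zero hL (h.trans (specializes_refl x)) hb hs'
    rw [← divFun_mul hX h2 (div_ne_zero (ratCoef_ne_zero hL _ hb hs) h2), mul_div_cancel₀ _ h2]
  · simp only [Cyc.secDivFun, Cyc.divFun, dif_neg (show ¬(ξ ⤳ x ∧ δ x + 1 = δ ξ) from fun h' => h h'.1), add_zero]

theorem finite_support_c1 (α : AlgebraicCycle X ℤ) (g : (ξ : X) → X → ℤ)
    (hg : ∀ ξ z, g ξ z ≠ 0 → ξ ⤳ z) (z : X) : (Function.support fun ξ => α ξ * g ξ z).Finite := by
  obtain ⟨_, ⟨V, hV, rfl⟩, hzV, -⟩ :=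
    X.isBasis_affineOpens.exists_subset_of_mem_open (Set.mem_univ z) isOpen_univ
  exact (α.locallyFiniteSupport.finite_inter_support_of_isCompact hV.isCompact).subset fun ξ hξ =>
    ⟨(hg ξ z (right_ne_zero_of_mul hξ)).mem_open V.2 hzV, left_ne_zero_of_mul hξ⟩

theorem c1CapFun_sub (hX : Cyc.IsSetup X δ) {L : X.Modules} (hL : PicF.IsInvertible L)
    (α : AlgebraicCycle X ℤ) {s s' : (ξ : X) → Cyc.secFibre L ξ} (hs : ∀ ξ, s ξ ≠ 0) (hs' : ∀ ξ, s' ξ ≠ 0)
    (z : X) : Cyc.c1CapFun δ L ⇑α s z - Cyc.c1CapFun δ L ⇑α s' z =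
      ∑ᶠ ξ, Cyc.divFun δ ξ (secRatio hL ξ (s ξ) (s' ξ) ^ α ξ) z := by
  unfold Cyc.c1CapFun
  rw [← finsum_sub_distrib
    (finite_support_c1 α (fun ξ => Cyc.secDivFun δ L ξ (s ξ))
      (fun ξ z h => by_contra fun hn => h (dif_neg fun h' => hn h'.1)) z)
    (finite_support_c1 α (fun ξ => Cyc.secDivFun δ L ξ (s' ξ))
      (fun ξ z h => by_contra fun hn => h (dif_neg fun h' => hn h'.1)) z)]
  refine finsum_congr fun ξ => ?_
  rw [divFun_zpow hX (secRatio_ne_zero hL (hs ξ) (hs' ξ)), secDivFun_sub hX hL (hs ξ) (hs' ξ) z]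
  ring

theorem finite_c1_change {L : X.Modules} (hL : PicF.IsInvertible L) (α : AlgebraicCycle X ℤ)
    (s s' : (ξ : X) → Cyc.secFibre L ξ) {V : X.Opens} (hV : IsAffineOpen V) :
    {ξ | secRatio hL ξ (s ξ) (s' ξ) ^ α ξ ≠ 1 ∧ ξ ∈ V}.Finite :=
  (α.locallyFiniteSupport.finite_inter_support_of_isCompact hV.isCompact).subset fun ξ hξ =>
    ⟨hξ.2, fun h => hξ.1 (by rw [show α ξ = 0 from h, zpow_zero])⟩

/-- The class of `c₁(L) ∩ α` does not depend on the rational sections. -/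
theorem c1_change (hX : Cyc.IsSetup X δ) {L : X.Modules} (hL : PicF.IsInvertible L) {k : ℤ}
    {α : AlgebraicCycle X ℤ} (hα : α ∈ Cyc.Zk X δ (k + 1)) {s s' : (ξ : X) → Cyc.secFibre L ξ}
    (hs : ∀ ξ, s ξ ≠ 0) (hs' : ∀ ξ, s' ξ ≠ 0) {γ₁ γ₂ : AlgebraicCycle X ℤ}
    (h₁ : ⇑γ₁ = Cyc.c1CapFun δ L ⇑α s) (h₂ : ⇑γ₂ = Cyc.c1CapFun δ L ⇑α s') : Cyc.RatEquiv δ k γ₁ γ₂ := by
  refine ratEquivZero_of_family hX X (fun ξ => ξ) (fun ξ => secRatio hL ξ (s ξ) (s' ξ) ^ α ξ)
    (fun ξ => zpow_ne_zero _ (secRatio_ne_zero hL (hs ξ) (hs' ξ)))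
    (fun ξ hξ => by_contra fun h => hξ (by rw [hα ξ h, zpow_zero])) (fun V hV => finite_c1_change hL α s s' hV)
    fun z => ?_
  simp only [Function.locallyFinsuppWithin.coe_sub, Pi.sub_apply, h₁, h₂]
  exact c1CapFun_sub hX hL α hs hs' z

theorem residueFieldMap_closed_bijective {D : Scheme.{u}} (i : D ⟶ X) [IsClosedImmersion i] (d : D) :
    Function.Bijective (i.residueFieldMap d).hom :=
  ⟨(i.residueFieldMap d).hom.injective, Groth.Variety2.Dim.residueFieldMap_surjective i d⟩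

/-- A family of principal divisors on `X` supported on a closed subscheme gives rational equivalence on it. -/
theorem ratEquivZero_of_family_closed {D : Scheme.{u}} (i : D ⟶ X) [IsClosedImmersion i]
    (hX : Cyc.IsSetup X δ) {k : ℤ} {γ : AlgebraicCycle D ℤ} (ι : Type u) (ξ : ι → X)
    (f : (a : ι) → X.residueField (ξ a)) (hf : ∀ a, f a ≠ 0) (hδ : ∀ a, f a ≠ 1 → δ (ξ a) = k + 1)
    (hfin : ∀ V : X.Opens, IsAffineOpen V → {a | f a ≠ 1 ∧ ξ a ∈ V}.Finite)
    (hrange : ∀ a, f a ≠ 1 → ξ a ∈ Set.range i)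
    (hγ : ∀ d, γ d = ∑ᶠ a, Cyc.divFun δ (ξ a) (f a) (i d)) : Cyc.RatEquivZero (fun d => δ (i d)) k γ := by
  classical
  choose η hη using fun a : {a // f a ≠ 1} => hrange a.1 a.2
  let g : (a : {a // f a ≠ 1}) → D.residueField (η a) := fun a =>
    (i.residueFieldMap (η a)).hom ((X.residueFieldCongr (hη a).symm).hom (f a.1))
  have hg : ∀ a, g a ≠ 0 := fun a => (map_ne_zero_iff _ (i.residueFieldMap (η a)).hom.injective).mpr
    ((map_ne_zero_iff _ (X.residueFieldCongr (hη a).symm).hom.hom.injective).mpr (hf a.1))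
  have hdiv : ∀ (a : {a // f a ≠ 1}) (d : D), Cyc.divFun (fun d => δ (i d)) (η a) (g a) d =
      Cyc.divFun δ (ξ a.1) (f a.1) (i d) := by
    intro a d
    have key : ∀ (w : X) (e : i (η a) = w) (c : X.residueField w),
        Cyc.divFun (fun d => δ (i d)) (η a) ((i.residueFieldMap (η a)).hom ((X.residueFieldCongr e.symm).hom c)) d =
          Cyc.divFun δ w c (i d) := by
      rintro w rfl c
      by_cases h : η a ⤳ d ∧ δ (i d) + 1 = δ (i (η a))
      · rw [Cyc.divFun, dif_pos h, Cyc.divFun, dif_pos ⟨h.1.map i.continuous, h.2⟩]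
        exact ordAt_preimmersion i _ _ c
      · rw [Cyc.divFun, dif_neg h, Cyc.divFun, dif_neg]
        exact fun h' => h ⟨i.isEmbedding.isInducing.specializes_iff.mp h'.1, h'.2⟩
    exact key _ (hη a) _
  refine ⟨{a // f a ≠ 1}, η, g, fun a => (congrArg δ (hη a)).trans (hδ a.1 a.2), hg, fun d => ?_, fun d => ?_⟩
  · obtain ⟨_, ⟨V, hV, rfl⟩, hyV, -⟩ :=
      X.isBasis_affineOpens.exists_subset_of_mem_open (Set.mem_univ (i d)) isOpen_univ
    refine ⟨i ⁻¹ᵁ V, (i ⁻¹ᵁ V).2, hyV, ((hfin V hV).preimage Subtype.val_injective.injOn).subset ?_⟩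
    rintro a ⟨x, hx, hxV⟩
    refine ⟨a.2, ?_⟩
    rw [← hη a]
    exact ((specializes_iff_mem_closure.mpr hx).map i.continuous).mem_open V.2 hxV
  · rw [hγ, finsum_congr fun a => hdiv a d,
      finsum_subtype_eq_finsum_cond (f := fun a => Cyc.divFun δ (ξ a) (f a) (i d)) (p := fun a => f a ≠ 1)]
    refine finsum_congr fun a => ?_
    by_cases h : f a = 1
    · rw [finsum_eq_if, if_neg (not_not.mpr h), h, divFun_one hX]
    · rw [finsum_eq_if, if_pos h]

/-- The sections used by the Gysin map do not vanish. -/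
theorem gysinChoice_ne_zero {L : X.Modules} (s : L.presheaf.obj (Opposite.op ⊤))
    {t : (ξ : X) → Cyc.secFibre L ξ} (ht : ∀ ξ, t ξ ≠ 0) (ξ : X) : Cyc.gysinChoice L s t ξ ≠ 0 := by
  rw [Cyc.gysinChoice]
  split_ifs with h
  · exact h
  · exact ht ξ

theorem gysinChoice_of_not_mem {D : Scheme.{u}} {i : D ⟶ X} {L : X.Modules}
    {s : L.presheaf.obj (Opposite.op ⊤)} (hD : Cyc.IsZeroSchemeOf i L s) (t : (ξ : X) → Cyc.secFibre L ξ)
    {ξ : X} (h : ξ ∉ Set.range i) : Cyc.gysinChoice L s t ξ = fmk (germ L ξ (U := ⊤) trivial s) := by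
  rw [hD.1] at h
  exact if_pos h

theorem isStalkBasis_of_not_mem {D : Scheme.{u}} {i : D ⟶ X} {L : X.Modules} (hL : PicF.IsInvertible L)
    {s : L.presheaf.obj (Opposite.op ⊤)} (hD : Cyc.IsZeroSchemeOf i L s) {x : X} (h : x ∉ Set.range i) :
    IsStalkBasis L x (germ L x (U := ⊤) trivial s) := by
  rw [hD.1] at h
  obtain ⟨w, hw⟩ := (bas_spec hL x).2 (germ L x (U := ⊤) trivial s)
  rw [← show w • bas hL x = germ L x (U := ⊤) trivial s from hw]
  refine isStalkBasis_smul (bas_spec hL x) (by_contra fun hn => h ?_)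
  refine (Submodule.Quotient.mk_eq_zero _).mpr ?_
  rw [show (ConcreteCategory.hom (L.presheaf.germ ⊤ x trivial)) s = w • bas hL x from hw.symm]
  exact Submodule.smul_mem_smul ((mem_maximalIdeal _).mpr hn) Submodule.mem_top

/-- The Gysin map of a zero scheme is defined on cycles up to rational equivalence. -/
theorem gysin_ratEquivZero {D : Scheme.{u}} (hX : Cyc.IsSetup X δ) {L : X.Modules} (hL : PicF.IsInvertible L)
    {s : L.presheaf.obj (Opposite.op ⊤)} (i : D ⟶ X) [IsClosedImmersion i] (hD : Cyc.IsZeroSchemeOf i L s)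
    {k : ℤ} {α : AlgebraicCycle X ℤ} (h0 : Cyc.RatEquivZero δ (k + 1) α)
    {t : (ξ : X) → Cyc.secFibre L ξ} (ht : ∀ ξ, t ξ ≠ 0) {γ : AlgebraicCycle D ℤ}
    (hγ : ∀ d, γ d = Cyc.c1CapFun δ L ⇑α (Cyc.gysinChoice L s t) (i d)) :
    Cyc.RatEquivZero (fun d => δ (i d)) k γ := by
  classical
  obtain ⟨ι, η, f, hη, hf, hlf, hsum⟩ := h0
  set v := Cyc.gysinChoice L s t
  have hv : ∀ x, v x ≠ 0 := gysinChoice_ne_zero s ht
  have hO := isInvertible_structureModule X
  choose τ hτ hτc using fun a => exists_coef_eq (isStalkBasis_oneSec (η a)) (hf a)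
  let Φ : (a : ι) → (x : X) → X.residueField x := fun a x =>
    commFun hX hL hO (η a) (v (η a)) (τ a) (oneFib X) v x
  have hΦ : ∀ a x, Φ a x ≠ 0 := fun a x => commFun_ne_zero hX hL hO (hv _) (hτ a) oneFib_ne_zero hv x
  have hΦd : ∀ a x, Φ a x ≠ 1 → IsDivPt δ (η a) x := fun a x h => by_contra fun hn => h (dif_neg hn)
  have hΦD : ∀ a x, Φ a x ≠ 1 → x ∈ Set.range i := by
    intro a x hne
    by_contra hx
    have hd := hΦd a x hne
    refine hne ?_
    have hη' : η a ∉ Set.range i := fun h => hx (i.isClosedEmbedding.isClosed_range.closure_subset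
      (closure_mono (Set.singleton_subset_iff.mpr h) hd.1.mem_closure))
    have hbl := isStalkBasis_of_not_mem hL hD hx
    have hb1 := isStalkBasis_oneSec x
    show commFun hX hL hO (η a) (v (η a)) (τ a) (oneFib X) v x = 1
    rw [commFun_eq hX hL hO (hv _) (hτ a) hd hbl hb1]
    have ea : ratCoef hd.1 (germ L x (U := ⊤) trivial s) (v (η a)) = 1 := by
      rw [ratCoef, mspec_germ, show v (η a) = fmk (germ L (η a) (U := ⊤) trivial s) from
        gysinChoice_of_not_mem hD t hη', coef_fmk (isStalkBasis_of_not_mem hL hD hη')]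
    have ev : coef L x (germ L x (U := ⊤) trivial s) (v x) = 1 := by
      rw [show v x = fmk (germ L x (U := ⊤) trivial s) from gysinChoice_of_not_mem hD t hx, coef_fmk hbl]
    have e1 : (1 : X.residueField (η a)) = Cyc.specMap x (η a) hd.1 1 := (map_one _).symm
    rw [ea, ev, one_zpow, mul_one, ordAt_one hX hd, zpow_zero, mul_one, e1,
      symb_unit_left hX hd isUnit_one (ratCoef_ne_zero hO hd.1 hb1 (hτ a)), map_one, one_zpow]
  refine ratEquivZero_of_family_closed i hX (ι × X) (fun p => p.2) (fun p => (Φ p.1 p.2)⁻¹)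
    (fun p => inv_ne_zero (hΦ _ _)) (fun p hp => ?_) (fun V hV => ?_)
    (fun p hp => hΦD p.1 p.2 fun h => hp (by simp only [h, inv_one])) fun d => ?_
  · have := (hΦd p.1 p.2 fun h => hp (by simp only [h, inv_one])).2
    have := hη p.1
    omega
  · have h1 := finite_of_isCompact η hlf hV.isCompact
    refine ((h1.biUnion fun a _ =>
      ((finite_commFun hX hL hO (u := oneFib X) (v := v) (hv (η a)) (hτ a) hV).image (Prod.mk a)))).subset ?_
    rintro ⟨a, x⟩ ⟨hp, hxV⟩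
    have hne : Φ a x ≠ 1 := fun h => hp (by simp only [h, inv_one])
    exact Set.mem_biUnion (x := a) ⟨x, (hΦd a x hne).1.mem_closure, hxV⟩ ⟨x, ⟨hxV, hne⟩, rfl⟩
  · rw [hγ]
    exact c1_eq_sum hX hL hη hf hlf hsum hτ hτc hv (i d)
where
  c1_eq_sum {X : Scheme.{u}} {δ : X → ℤ} (hX : Cyc.IsSetup X δ) {L : X.Modules} (hL : PicF.IsInvertible L)
      {k : ℤ} {α : AlgebraicCycle X ℤ} {ι : Type u} {η : ι → X} {f : (a : ι) → X.residueField (η a)}
      (hη : ∀ a, δ (η a) = k + 1 + 1) (hf : ∀ a, f a ≠ 0)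
      (hlf : ∀ x : X, ∃ U : Set X, IsOpen U ∧ x ∈ U ∧ {a | (closure {η a} ∩ U).Nonempty}.Finite)
      (hsum : ∀ x, α x = ∑ᶠ a, Cyc.divFun δ (η a) (f a) x)
      {τ : (a : ι) → Cyc.secFibre (Coh.structureModule X) (η a)} (hτ : ∀ a, τ a ≠ 0)
      (hτc : ∀ a, coef (Coh.structureModule X) (η a)
        (germ (Coh.structureModule X) (η a) (U := ⊤) trivial (Groth.PicAux.oneSec X ⊤)) (τ a) = f a)
      {v : (x : X) → Cyc.secFibre L x} (hv : ∀ x, v x ≠ 0) (z : X) :
      Cyc.c1CapFun δ L ⇑α v z = ∑ᶠ p : ι × X, Cyc.divFun δ p.2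
        (commFun hX hL (isInvertible_structureModule X) (η p.1) (v (η p.1)) (τ p.1) (oneFib X) v p.2)⁻¹ z := by
    classical
    have hO := isInvertible_structureModule X
    obtain ⟨_, ⟨V, hV, rfl⟩, hzV, -⟩ :=
      X.isBasis_affineOpens.exists_subset_of_mem_open (Set.mem_univ z) isOpen_univ
    set T := (finite_of_isCompact η hlf hV.isCompact).toFinset
    choose D hD using fun a => exists_cycle_divFun hX (η a) (f a) (hf a)
    have hTfin : ∀ a x, x ⤳ z → η a ⤳ x → a ∈ T := fun a x hxz h =>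
      (Set.Finite.mem_toFinset _).mpr ⟨x, h.mem_closure, hxz.mem_open V.2 hzV⟩
    set S := (T.finite_toSet.biUnion fun a _ =>
      (D a).locallyFiniteSupport.finite_inter_support_of_isCompact hV.isCompact).toFinset
    rw [c1CapFun_sum (fun _ => (1 : ℤ)) (fun a => Cyc.divFun δ (η a) (f a)) v _ z
      (fun x _ => (hsum x).trans (finsum_congr fun a => (one_mul _).symm)) T
      (fun a x hxz hne => hTfin a x hxz (by_contra fun h => hne (by
        rw [one_mul]; exact dif_neg fun h' => h h'.1))) S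
      fun a ha x hxz hne => (Set.Finite.mem_toFinset _).mpr
        (Set.mem_biUnion ha ⟨hxz.mem_open V.2 hzV, by show D a x ≠ 0; rwa [hD a]⟩)]
    let Φ : (a : ι) → (x : X) → X.residueField x := fun a x =>
      commFun hX hL hO (η a) (v (η a)) (τ a) (oneFib X) v x
    have hΦ : ∀ a x, Φ a x ≠ 0 := fun a x => commFun_ne_zero hX hL hO (hv _) (hτ a) oneFib_ne_zero hv x
    have hkey : ∀ a, ∑ᶠ x, Cyc.divFun δ x (Φ a x)⁻¹ z =
        Cyc.c1CapFun δ L (Cyc.divFun δ (η a) (f a)) v z := by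
      intro a
      have h := c1_comm hX hL hO (u := oneFib X) (v := v) (hv (η a)) (hτ a) oneFib_ne_zero hv z
      have h0 : Cyc.c1CapFun δ (Coh.structureModule X) (Cyc.secDivFun δ L (η a) (v (η a))) (oneFib X) z = 0 :=
        finsum_eq_zero_of_forall_eq_zero fun x => mul_eq_zero_of_right _ (by
          rw [secDivFun_structure hX (oneFib_ne_zero x), oneFib, coef_fmk (isStalkBasis_oneSec x), divFun_one hX])
      have e : Cyc.secDivFun δ (Coh.structureModule X) (η a) (τ a) = Cyc.divFun δ (η a) (f a) :=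
        funext fun x => by rw [secDivFun_structure hX (hτ a), hτc a]
      rw [h0, e, zero_sub] at h
      rw [← neg_neg (Cyc.c1CapFun δ L (Cyc.divFun δ (η a) (f a)) v z), h, ← finsum_neg_distrib]
      refine finsum_congr fun x => ?_
      rw [← zpow_neg_one, divFun_zpow hX (hΦ a x), neg_one_mul]
    have hsupp : ∀ a x, Cyc.divFun δ x (Φ a x)⁻¹ z ≠ 0 → a ∈ T ∧ x ∈ V ∧ Φ a x ≠ 1 := fun a x hne => by
      have hxz : x ⤳ z := by_contra fun h => hne (dif_neg fun h' => h h'.1)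
      have hne1 : Φ a x ≠ 1 := fun h => hne (by rw [h, inv_one, divFun_one hX])
      have hd : IsDivPt δ (η a) x := by_contra fun h => hne1 (dif_neg h)
      exact ⟨hTfin a x hxz hd.1, hxz.mem_open V.2 hzV, hne1⟩
    have hfin : (Function.support fun p : ι × X => Cyc.divFun δ p.2 (Φ p.1 p.2)⁻¹ z).Finite :=
      (T.finite_toSet.biUnion fun a _ =>
        (finite_commFun hX hL hO (u := oneFib X) (v := v) (hv (η a)) (hτ a) hV).image (Prod.mk a)).subset
          fun p hp => Set.mem_biUnion (x := p.1) (hsupp _ _ hp).1 ⟨p.2, (hsupp _ _ hp).2, rfl⟩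
    rw [finsum_curry _ hfin, finsum_eq_sum_of_support_subset _ (s := T) fun a ha => by
      obtain ⟨x, hx⟩ : ∃ x, Cyc.divFun δ x (Φ a x)⁻¹ z ≠ 0 := by
        by_contra! hn
        exact ha (finsum_eq_zero_of_forall_eq_zero hn)
      exact (hsupp a x hx).1]
    exact Finset.sum_congr rfl fun a _ => by rw [one_mul, hkey a]

end Groth.Cycles
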