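import Groth.Agent.Cycles.C1Basic
import Groth.Agent.Cycles.FlatFam
import Groth.Agent.PicAux.Pullback

/-!
Pullback of rational sections of an invertible module, and the flat pullback of
`c₁(L) ∩ α` as an exact identity of coefficient functions.
-/

universe u

set_option autoImplicit false

open CategoryTheory CategoryTheory.Limits AlgebraicGeometry IsLocalRing
open Groth.RefRank Groth.QCohMod Groth.CycleLimits

namespace Groth.Cycles

variable {X Y : Scheme.{u}}

theorem coef_pullFib_change (f : X ⟶ Y) {L : Y.Modules} {U U' : Y.Opens} {e : Γ(L, U)} {e' : Γ(L, U')}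
    (he : Groth.PicAux.Gen L U e) (he' : Groth.PicAux.Gen L U' e') {ξ : X} (h : f ξ ∈ U) (h' : f ξ ∈ U')
    (s : Cyc.secFibre L (f ξ)) {φ : X.presheaf.stalk ξ}
    (hφ : X.residue ξ φ = f.residueFieldMap ξ (coef L (f ξ) (germ L (f ξ) h e) s)) :
    coef ((Scheme.Modules.pullback f).obj L) ξ (germ _ ξ (U := f ⁻¹ᵁ U') h' (Groth.PicAux.pullSec f L e'))
        (φ • fmk (germ _ ξ (U := f ⁻¹ᵁ U) h (Groth.PicAux.pullSec f L e))) =
      f.residueFieldMap ξ (coef L (f ξ) (germ L (f ξ) h' e') s) := by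
  obtain ⟨r, hr⟩ := (he' (U ⊓ U') inf_le_right).2 (Groth.PicAux.res L inf_le_left e)
  dsimp only at hr
  have hW : f ξ ∈ U ⊓ U' := ⟨h, h'⟩
  have hb := isStalkBasis_germ_of_gen he h
  have hb' := isStalkBasis_germ_of_gen he' h'
  have e1 : germ L (f ξ) h e = Y.presheaf.germ (U ⊓ U') (f ξ) hW r • germ L (f ξ) h' e' := by
    have := congrArg (germ L (f ξ) (U := U ⊓ U') hW) hr
    rw [germ_smul] at this
    erw [germ_res, germ_res] at this
    exact this.symm
  have hwu : IsUnit (Y.presheaf.germ (U ⊓ U') (f ξ) hW r) := by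
    obtain ⟨w, hw, hwe⟩ := exists_unit_of_basis hb' hb.span_eq_top
    rwa [hb'.1 (e1.symm.trans hwe)]
  have e2 : germ _ ξ (U := f ⁻¹ᵁ U) h (Groth.PicAux.pullSec f L e) =
      f.stalkMap ξ (Y.presheaf.germ (U ⊓ U') (f ξ) hW r) •
        germ _ ξ (U := f ⁻¹ᵁ U') h' (Groth.PicAux.pullSec f L e') := by
    have := congrArg (fun m => germ _ ξ (U := f ⁻¹ᵁ (U ⊓ U')) hW (Groth.PicAux.pullSec f L m)) hr
    beta_reduce at this
    rw [Groth.PicAux.pullSec_smul, germ_smul, ← Groth.PicAux.res_pullSec f L inf_le_right,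
      ← Groth.PicAux.res_pullSec f L inf_le_left] at this
    erw [germ_res, germ_res] at this
    rw [Scheme.Hom.germ_stalkMap_apply]
    exact this.symm
  have hbp := isStalkBasis_germ_of_gen (he'.pull f) (x := ξ) h'
  rw [e2, show φ • fmk (f.stalkMap ξ (Y.presheaf.germ (U ⊓ U') (f ξ) hW r) •
        germ _ ξ (U := f ⁻¹ᵁ U') h' (Groth.PicAux.pullSec f L e')) =
      (φ * f.stalkMap ξ (Y.presheaf.germ (U ⊓ U') (f ξ) hW r)) •
        fmk (germ _ ξ (U := f ⁻¹ᵁ U') h' (Groth.PicAux.pullSec f L e')) by rw [mul_smul]; rfl,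
    coef_smul hbp, map_mul, hφ, coef_smul_left hb' hwu s, ← e1, map_mul]
  congr 1

/-- The pullback of an element of the fibre of an invertible module. -/
noncomputable def pullFib (f : X ⟶ Y) {L : Y.Modules} (hL : PicF.IsInvertible L) {ξ : X}
    (s : Cyc.secFibre L (f ξ)) : Cyc.secFibre ((Scheme.Modules.pullback f).obj L) ξ :=
  (X.residue_surjective ξ (f.residueFieldMap ξ (coef L (f ξ) (germ L (f ξ)
      (exists_gen_nhd hL (f ξ)).choose_spec.choose_spec.1 (exists_gen_nhd hL (f ξ)).choose_spec.choose) s))).choose •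
    fmk (germ _ ξ (U := f ⁻¹ᵁ (exists_gen_nhd hL (f ξ)).choose) (exists_gen_nhd hL (f ξ)).choose_spec.choose_spec.1
      (Groth.PicAux.pullSec f L (exists_gen_nhd hL (f ξ)).choose_spec.choose))

theorem coef_pullFib (f : X ⟶ Y) {L : Y.Modules} (hL : PicF.IsInvertible L) {U : Y.Opens} {e : Γ(L, U)}
    (he : Groth.PicAux.Gen L U e) {ξ : X} (h : f ξ ∈ U) (s : Cyc.secFibre L (f ξ)) :
    coef ((Scheme.Modules.pullback f).obj L) ξ (germ _ ξ (U := f ⁻¹ᵁ U) h (Groth.PicAux.pullSec f L e))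
      (pullFib f hL s) = f.residueFieldMap ξ (coef L (f ξ) (germ L (f ξ) h e) s) :=
  coef_pullFib_change f (exists_gen_nhd hL (f ξ)).choose_spec.choose_spec.2 he _ h s
    (X.residue_surjective ξ _).choose_spec

theorem pullFib_ne_zero (f : X ⟶ Y) {L : Y.Modules} (hL : PicF.IsInvertible L) {ξ : X}
    {s : Cyc.secFibre L (f ξ)} (hs : s ≠ 0) : pullFib f hL s ≠ 0 := by
  obtain ⟨U, e, hU, he⟩ := exists_gen_nhd hL (f ξ)
  intro h0
  have h1 := coef_pullFib f hL he hU s
  rw [h0] at h1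
  have h2 := coef_smul (isStalkBasis_germ_of_gen (he.pull f) (x := ξ) hU) 0
  rw [zero_smul, map_zero, h1] at h2
  exact coef_ne_zero (isStalkBasis_germ_of_gen he hU) hs
    ((map_eq_zero_iff _ (f.residueFieldMap ξ).hom.injective).mp h2)

/-- The multiplicity of a point in the flat pullback of the closure of its image. -/
noncomputable def pullMult (f : X ⟶ Y) (δX : X → ℤ) (δY : Y → ℤ) (c : ℤ) (ξ : X) : ℤ :=
  Cyc.pullFun f δX δY c (fun _ => 1) ξ

theorem pullFun_eq_mult (f : X ⟶ Y) (δX : X → ℤ) (δY : Y → ℤ) (c : ℤ) (α : Y → ℤ) (ξ : X) :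
    Cyc.pullFun f δX δY c α ξ = α (f ξ) * pullMult f δX δY c ξ := by
  unfold pullMult Cyc.pullFun
  split_ifs <;> ring

theorem delta_of_pullMult_ne {f : X ⟶ Y} {δX : X → ℤ} {δY : Y → ℤ} {c : ℤ} {ξ : X}
    (h : pullMult f δX δY c ξ ≠ 0) : δX ξ = δY (f ξ) + c := by
  by_contra hn
  exact h (if_neg hn)

theorem eq_of_specializes_over (f : X ⟶ Y) {δX : X → ℤ} {δY : Y → ℤ} (hX : Cyc.IsSetup X δX)
    (hY : Cyc.IsSetup Y δY) {c : ℤ} (hc : ∀ x, IsFibreGeneric f x → δX x = δY (f x) + c) {y ξ : X}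
    (hy : y ⤳ ξ) (hfy : f ξ ⤳ f y) (h : δX ξ = δY (f ξ) + c) : y = ξ := by
  have h1 := delta_le_add f hX hc y
  have h2 := delta_le_of_specializes hY.2.2 hfy
  have h3 := delta_le_of_specializes hX.2.2 hy
  exact eq_of_specializes_of_delta_le hX.2.2 hy (by omega)

theorem residueFieldMap_congr_apply {Z : Scheme.{u}} {φ ψ : Z ⟶ Y} (e : φ = ψ) (z : Z) {η : Y}
    (h : η = φ z) (h' : η = ψ z) (g : Y.residueField η) :
    φ.residueFieldMap z ((Y.residueFieldCongr h).hom g) = ψ.residueFieldMap z ((Y.residueFieldCongr h').hom g) := by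
  subst e; rfl

theorem residueFieldMap_comp_congr {Z : Scheme.{u}} (i : Z ⟶ X) (f : X ⟶ Y) (z : Z) {η : Y}
    (h : η = f (i z)) (h' : η = (i ≫ f) z) (g : Y.residueField η) :
    i.residueFieldMap z (f.residueFieldMap (i z) ((Y.residueFieldCongr h).hom g)) =
      (i ≫ f).residueFieldMap z ((Y.residueFieldCongr h').hom g) := by
  rw [Scheme.residueFieldMap_comp]; rfl

theorem residueFieldMap_congr_point (j : X ⟶ Y) {w₀ w : X} (e : w₀ = w) (h : j w₀ = j w)
    (g : Y.residueField (j w₀)) :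
    j.residueFieldMap w ((Y.residueFieldCongr h).hom g) = (X.residueFieldCongr e).hom (j.residueFieldMap w₀ g) := by
  subst e; rfl

/-- The pullback of a principal divisor as a sum over the points of the fibre. -/
theorem pullFun_divFun_fibre (δX : X → ℤ) (δY : Y → ℤ) (hX : Cyc.IsSetup X δX) (hY : Cyc.IsSetup Y δY)
    (f : X ⟶ Y) [Flat f] (c : ℤ) (hc : ∀ x, IsFibreGeneric f x → δX x = δY (f x) + c) (η : Y)
    (g : Y.residueField η) (hg : g ≠ 0) (x : X) :
    Cyc.pullFun f δX δY c (Cyc.divFun δY η g) x =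
      ∑ᶠ ξ : {ξ : X // f ξ = η}, pullMult f δX δY c ξ.1 *
        Cyc.divFun δX ξ.1 (f.residueFieldMap ξ.1 ((Y.residueFieldCongr ξ.2.symm).hom g)) x := by
  have := hX.1
  obtain ⟨W, j, _, _, _, hjr, rfl⟩ := closure_scheme η
  have : IsIntegral W := isIntegral_of_irreducibleSpace_of_isReduced W
  set f' := pullback.snd f j
  set i := pullback.fst f j
  have hsq : ∀ z, f (i z) = j (f' z) := fun z => by
    rw [← Scheme.Hom.comp_apply, pullback.condition, Scheme.Hom.comp_apply]
  by_cases hx : x ∈ Set.range i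
  swap
  · have hfx : f x ∉ closure {j (genericPoint W)} := by
      rintro h
      rw [← hjr] at h
      obtain ⟨w, hw⟩ := h
      obtain ⟨z, hz1, -⟩ := Scheme.Pullback.exists_preimage_pullback (f := f) (g := j) x w hw.symm
      exact hx ⟨z, hz1⟩
    rw [Cyc.pullFun]
    simp only [divFun_eq_zero_of_notMem g hfx, zero_mul, ite_self]
    refine (finsum_eq_zero_of_forall_eq_zero fun ξ => ?_).symm
    rw [divFun_eq_zero_of_notMem _ fun h => hfx ?_, mul_zero]
    have h2 := (specializes_iff_mem_closure.mpr h).map f.continuous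
    rw [ξ.2] at h2
    exact h2.mem_closure
  obtain ⟨z, rfl⟩ := hx
  set g' := (j.residueFieldMap (genericPoint W)).hom g with hg'def
  have hg' : g' ≠ 0 := (map_ne_zero_iff _ (j.residueFieldMap _).hom.injective).mpr hg
  have hZ := isSetup_closedImmersion i hX
  have hW := isSetup_closedImmersion j hY
  have hc' : ∀ z, IsFibreGeneric f' z → (δX ∘ i) z = (δY ∘ j) (f' z) + c := fun z hz => by
    refine (hc (i z) fun y hy hs => ?_).trans (by rw [hsq]; rfl)
    obtain ⟨z', rfl, hz'⟩ := Scheme.Pullback.exists_preimage_pullback (f := f) (g := j) y (f' z) (hy.trans (hsq z))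
    rw [hz z' hz' (i.isEmbedding.isInducing.specializes_iff.mp hs)]
  have key := pullFun_divFun (δX ∘ i) (δY ∘ j) hZ hW f' c hc' (genericPoint W) rfl g' hg' z
  -- the left hand sides agree
  have hL : Cyc.pullFun f δX δY c (Cyc.divFun δY (j (genericPoint W)) g) (i z) =
      Cyc.pullFun f' (δX ∘ i) (δY ∘ j) c (Cyc.divFun (δY ∘ j) (genericPoint W) g') z := by
    show (if _ then _ else _) = if _ then _ else _
    simp only [Function.comp_apply, hsq z, divFun_preimmersion j δY]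
    rw [show ((Module.length (X.presheaf.stalk (i z)) (X.presheaf.stalk (i z) ⧸ fibreIdeal f (i z)))) =
      Module.length ((pullback f j).presheaf.stalk z) ((pullback f j).presheaf.stalk z ⧸ fibreIdeal f' z)
      from (length_fibre_pullback f j z).symm]
  rw [hL, key]
  let κ := {ξ : ↥(pullback f j) // (∀ z : ↥(pullback f j), z ⤳ ξ → z = ξ) ∧ f' ξ = genericPoint W}
  let e : κ → {ξ : X // f ξ = j (genericPoint W)} := fun a => ⟨i a.1, by rw [hsq, a.2.2]⟩
  have hinj : Function.Injective e := fun a b hab =>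
    Subtype.ext (i.isEmbedding.injective (congrArg Subtype.val hab))
  -- the points outside the image of `e` do not contribute
  have hzero : ∀ ξ : {ξ : X // f ξ = j (genericPoint W)}, ξ ∉ Set.range e →
      pullMult f δX δY c ξ.1 = 0 := by
    intro ξ hξ
    by_contra hne
    obtain ⟨z', hz1, hz2⟩ := Scheme.Pullback.exists_preimage_pullback (f := f) (g := j) ξ.1 (genericPoint W) ξ.2
    refine hξ ⟨⟨z', fun z'' hs => i.isEmbedding.injective ?_, hz2⟩, Subtype.ext hz1⟩
    have hgen : f' z'' = genericPoint W :=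
      ((genericPoint_specializes (f' z'')).antisymm (hz2 ▸ hs.map f'.continuous)).symm.eq
    refine eq_of_specializes_over f hX hY hc (hs.map i.continuous) ?_ ?_
    · rw [hsq, hsq, hgen, hz2]
    · exact hz1 ▸ delta_of_pullMult_ne hne
  have hterm : ∀ a : κ, pullTerm f' (δX ∘ i) g' z a =
      pullMult f δX δY c (e a).1 *
        Cyc.divFun δX (e a).1 (f.residueFieldMap (e a).1 ((Y.residueFieldCongr (e a).2.symm).hom g)) (i z) := by
    intro a
    have hr : i.residueFieldMap a.1 (f.residueFieldMap (i a.1) ((Y.residueFieldCongr (e a).2.symm).hom g)) =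
        f'.residueFieldMap a.1 ((W.residueFieldCongr a.2.2.symm).hom g') := by
      rw [residueFieldMap_comp_congr i f a.1 _ ((e a).2.symm),
        residueFieldMap_congr_apply pullback.condition a.1 _
          (show j (genericPoint W) = (f' ≫ j) a.1 by rw [Scheme.Hom.comp_apply, a.2.2]),
        Scheme.residueFieldMap_comp]
      show f'.residueFieldMap a.1 (j.residueFieldMap (f' a.1) _) = _
      congr 1
      exact residueFieldMap_congr_point j a.2.2.symm _ g
    have hlen : pullMult f δX δY c (i a.1) =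
        ((Module.length ((pullback f j).presheaf.stalk a.1) ((pullback f j).presheaf.stalk a.1)).toNat : ℤ) := by
      have hd : δX (i a.1) = δY (f (i a.1)) + c := by
        rw [hsq, a.2.2]
        exact delta_eq_of_max f' hc' a.2.1
      rw [pullMult, Cyc.pullFun, if_pos hd, one_mul]
      have h0 : fibreIdeal f' a.1 = ⊥ := by
        have hf : IsField (W.presheaf.stalk (f' a.1)) := by
          rw [a.2.2]; exact Field.toIsField W.functionField
        rw [fibreIdeal, (IsLocalRing.isField_iff_maximalIdeal_eq.mp hf), Ideal.map_bot]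
      rw [show ((Module.length (X.presheaf.stalk (i a.1)) (X.presheaf.stalk (i a.1) ⧸ fibreIdeal f (i a.1)))) =
        Module.length ((pullback f j).presheaf.stalk a.1) ((pullback f j).presheaf.stalk a.1 ⧸ fibreIdeal f' a.1)
        from (length_fibre_pullback f j a.1).symm, (Submodule.quotEquivOfEqBot _ h0).length_eq]
    rw [pullTerm, ← hr, hlen, divFun_preimmersion i δX a.1 z]
  rw [finsum_congr hterm]
  refine finsum_comp_range_eq e hinj (fun ξ => pullMult f δX δY c ξ.1 *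
        Cyc.divFun δX ξ.1 (f.residueFieldMap ξ.1 ((Y.residueFieldCongr ξ.2.symm).hom g)) (i z)) fun ξ hξ => ?_
  exact mul_eq_zero_of_left (hzero ξ hξ) _
where
  finsum_comp_range_eq {α β : Type u} (e : α → β) (he : Function.Injective e) (φ : β → ℤ)
      (h : ∀ b, b ∉ Set.range e → φ b = 0) : ∑ᶠ a, φ (e a) = ∑ᶠ b, φ b := by
    rw [← finsum_mem_range he]
    exact (finsum_eq_finsum_mem_of_support φ _ fun b hb => by_contra fun hn => hb (h b hn)).symm
  finsum_eq_finsum_mem_of_support {β : Type u} (φ : β → ℤ) (s : Set β) (h : Function.support φ ⊆ s) :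
      ∑ᶠ b, φ b = ∑ᶠ b ∈ s, φ b := by
    rw [← finsum_mem_univ φ]
    exact finsum_mem_congr_support (Set.subset_univ s) h
  finsum_mem_congr_support {β : Type u} {φ : β → ℤ} {s t : Set β} (hst : s ⊆ t) (h : Function.support φ ⊆ s) :
      ∑ᶠ b ∈ t, φ b = ∑ᶠ b ∈ s, φ b := by
    refine finsum_mem_inter_support_eq φ t s ?_
    rw [Set.inter_eq_right.mpr (h.trans hst), Set.inter_eq_right.mpr h]

/-- Finitely many points of an affine open are generic in the preimage of the closure of a given point. -/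
theorem finite_pullMult_fibre (δX : X → ℤ) (δY : Y → ℤ) (hX : Cyc.IsSetup X δX) (hY : Cyc.IsSetup Y δY)
    (f : X ⟶ Y) (c : ℤ) (hc : ∀ x, IsFibreGeneric f x → δX x = δY (f x) + c) (η : Y)
    {V : X.Opens} (hV : IsAffineOpen V) :
    {ξ : X | f ξ = η ∧ pullMult f δX δY c ξ ≠ 0 ∧ ξ ∈ V}.Finite := by
  obtain ⟨W, j, _, _, _, hjr, rfl⟩ := closure_scheme η
  set i := pullback.fst f j
  set f' := pullback.snd f j
  have := (isSetup_closedImmersion i hX).1
  refine ((finite_maximal_inter (X := pullback f j) (hV.preimage i)).image i).subset ?_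
  rintro ξ ⟨hf, hne, hξV⟩
  obtain ⟨z', hz1, hz2⟩ := Scheme.Pullback.exists_preimage_pullback (f := f) (g := j) ξ (genericPoint W) hf
  refine ⟨z', ⟨fun z'' hs => i.isEmbedding.injective ?_, show i z' ∈ V from hz1.symm ▸ hξV⟩, hz1⟩
  have hgen : f' z'' = genericPoint W :=
    ((genericPoint_specializes (f' z'')).antisymm (hz2 ▸ hs.map f'.continuous)).symm.eq
  have hsq : ∀ z, f (i z) = j (f' z) := fun z => by
    rw [← Scheme.Hom.comp_apply, pullback.condition, Scheme.Hom.comp_apply]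
  refine eq_of_specializes_over f hX hY hc (hs.map i.continuous) ?_ ?_
  · rw [hsq, hsq, hgen, hz2]
  · exact hz1 ▸ delta_of_pullMult_ne hne

/-- The flat pullback of a cycle as a cycle. -/
theorem exists_pullCycle (δX : X → ℤ) (δY : Y → ℤ) (hX : Cyc.IsSetup X δX) (hY : Cyc.IsSetup Y δY)
    (f : X ⟶ Y) (c : ℤ) (hc : ∀ x, IsFibreGeneric f x → δX x = δY (f x) + c) (α : AlgebraicCycle Y ℤ) :
    ∃ β : AlgebraicCycle X ℤ, ⇑β = Cyc.pullFun f δX δY c ⇑α := by
  refine ⟨⟨Cyc.pullFun f δX δY c ⇑α, Set.subset_univ _, fun x _ => ?_⟩, rfl⟩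
  obtain ⟨_, ⟨V, hV, rfl⟩, hxV, -⟩ :=
    X.isBasis_affineOpens.exists_subset_of_mem_open (Set.mem_univ x) isOpen_univ
  refine ⟨V, V.isOpen.mem_nhds hxV, ?_⟩
  have hK := hV.isCompact.image f.continuous
  have hS : (f '' (V : Set X) ∩ Function.support ⇑α).Finite := by
    exact LocallyFiniteSupport.finite_inter_support_of_isCompact α.locallyFiniteSupport hK
  refine (hS.biUnion fun η _ => finite_pullMult_fibre δX δY hX hY f c hc η hV).subset ?_
  rintro ξ ⟨hξV, hne⟩
  rw [Function.mem_support, pullFun_eq_mult] at hne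
  exact Set.mem_biUnion (x := f ξ) ⟨⟨ξ, hξV, rfl⟩, left_ne_zero_of_mul hne⟩
    ⟨rfl, right_ne_zero_of_mul hne, hξV⟩

theorem finsum_fiberwise {A B : Type u} (p : A → B) (φ : A → ℤ) (h : (Function.support φ).Finite) :
    ∑ᶠ a, φ a = ∑ᶠ b, ∑ᶠ a : {a // p a = b}, φ a.1 := by
  classical
  set s := h.toFinset
  have hs : ∀ a, φ a ≠ 0 → a ∈ s := fun a ha => h.mem_toFinset.mpr ha
  rw [finsum_eq_sum_of_support_subset φ (s := s) fun a ha => hs a ha,
    finsum_eq_sum_of_support_subset _ (s := s.image p) fun b hb => ?_]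
  · rw [← Finset.sum_fiberwise_of_maps_to (g := p) (fun a ha => Finset.mem_image_of_mem p ha) φ]
    refine Finset.sum_congr rfl fun b _ => ?_
    rw [finsum_eq_sum_of_support_subset _ (s := s.subtype fun a => p a = b) fun a ha =>
        Finset.mem_subtype.mpr (hs a.1 ha),
      Finset.sum_subtype_eq_sum_filter]
  · obtain ⟨a, ha⟩ : ∃ a : {a // p a = b}, φ a.1 ≠ 0 := by
      by_contra! hn
      exact hb (finsum_eq_zero_of_forall_eq_zero hn)
    exact Finset.mem_image.mpr ⟨a.1, hs a.1 ha, a.2⟩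

/-- Flat pullback commutes with `c₁(L) ∩ -` on the level of coefficient functions. -/
theorem pullFun_c1CapFun (δX : X → ℤ) (δY : Y → ℤ) (hX : Cyc.IsSetup X δX) (hY : Cyc.IsSetup Y δY)
    (f : X ⟶ Y) [Flat f] (c : ℤ) (hc : ∀ x, IsFibreGeneric f x → δX x = δY (f x) + c) {L : Y.Modules}
    (hL : PicF.IsInvertible L) (α : AlgebraicCycle Y ℤ) {v : (η : Y) → Cyc.secFibre L η} (hv : ∀ η, v η ≠ 0)
    (x : X) :
    Cyc.pullFun f δX δY c (Cyc.c1CapFun δY L ⇑α v) x =
      Cyc.c1CapFun δX ((Scheme.Modules.pullback f).obj L) (Cyc.pullFun f δX δY c ⇑α)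
        (fun ξ => pullFib f hL (v (f ξ))) x := by
  have hL' := Groth.PicAux.isInvertible_pullback f hL
  obtain ⟨β, hβ⟩ := exists_pullCycle δX δY hX hY f c hc α
  rw [← hβ]
  unfold Cyc.c1CapFun
  rw [finsum_fiberwise (fun ξ => f ξ) _ (finite_support_c1 β
    (fun ξ => Cyc.secDivFun δX ((Scheme.Modules.pullback f).obj L) ξ (pullFib f hL (v (f ξ))))
      (fun ξ z h => by_contra fun hn => h (dif_neg fun h' => hn h'.1)) x)]
  have hlin : Cyc.pullFun f δX δY c (fun y => ∑ᶠ η, α η * Cyc.secDivFun δY L η (v η) y) x =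
      ∑ᶠ η, α η * Cyc.pullFun f δX δY c (Cyc.secDivFun δY L η (v η)) x := by
    rw [pullFun_eq_mult, finsum_mul]
    exact finsum_congr fun η => by rw [pullFun_eq_mult, mul_assoc]
  refine hlin.trans (finsum_congr fun η => ?_)
  by_cases hη : η ⤳ f x
  swap
  · rw [pullFun_eq_mult, Cyc.secDivFun, dif_neg fun h => hη h.1, zero_mul, mul_zero]
    refine (finsum_eq_zero_of_forall_eq_zero fun ξ => ?_).symm
    rw [Cyc.secDivFun, dif_neg fun h => hη (ξ.2 ▸ h.1.map f.continuous), mul_zero]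
  obtain ⟨U, e, hxU, he⟩ := exists_gen_nhd hL (f x)
  have hb := isStalkBasis_germ_of_gen he hxU
  set g := coef L η (germ L η (hη.mem_open U.2 hxU) e) (v η) with hgdef
  have hg : g ≠ 0 := coef_ne_zero (isStalkBasis_germ_of_gen he _) (hv η)
  have e1 : Cyc.secDivFun δY L η (v η) (f x) = Cyc.divFun δY η g (f x) := by
    rw [secDivFun_eq hY hL hη (specializes_refl _) hb (hv η), ratCoef, mspec_germ]
  rw [pullFun_eq_mult, e1, ← pullFun_eq_mult f δX δY c (Cyc.divFun δY η g),
    pullFun_divFun_fibre δX δY hX hY f c hc η g hg, mul_finsum]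
  refine finsum_congr fun ξ => ?_
  obtain ⟨ξ, rfl⟩ := ξ
  rw [hβ, pullFun_eq_mult f δX δY c ⇑α ξ, mul_assoc]
  congr 2
  by_cases hξ : ξ ⤳ x
  · rw [secDivFun_eq hX hL' hξ (specializes_refl _) (isStalkBasis_germ_of_gen (he.pull f) (x := x) hxU)
      (pullFib_ne_zero f hL (hv _)), ratCoef, mspec_germ, coef_pullFib f hL he (hη.mem_open U.2 hxU)]
    simp [hgdef]
  · rw [Cyc.divFun, dif_neg fun h => hξ h.1, Cyc.secDivFun, dif_neg fun h => hξ h.1]

/-- Flat pullback commutes with `c₁(L) ∩ -` up to rational equivalence. -/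
theorem pull_c1_ratEquiv (δX : X → ℤ) (δY : Y → ℤ) (hX : Cyc.IsSetup X δX) (hY : Cyc.IsSetup Y δY)
    (f : X ⟶ Y) [Flat f] (c : ℤ) (hc : ∀ x, IsFibreGeneric f x → δX x = δY (f x) + c) {L : Y.Modules}
    (hL : PicF.IsInvertible L) (k : ℤ) (α : AlgebraicCycle Y ℤ) (hα : α ∈ Cyc.Zk Y δY k)
    {v : (η : Y) → Cyc.secFibre L η} (hv : ∀ η, v η ≠ 0)
    {u : (ξ : X) → Cyc.secFibre ((Scheme.Modules.pullback f).obj L) ξ} (hu : ∀ ξ, u ξ ≠ 0)
    (γ₁ γ₂ : AlgebraicCycle X ℤ) (h₁ : ⇑γ₁ = Cyc.pullFun f δX δY c (Cyc.c1CapFun δY L ⇑α v))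
    (h₂ : ⇑γ₂ = Cyc.c1CapFun δX ((Scheme.Modules.pullback f).obj L) (Cyc.pullFun f δX δY c ⇑α) u) :
    Cyc.RatEquiv δX (k + c - 1) γ₁ γ₂ := by
  obtain ⟨β, hβ⟩ := exists_pullCycle δX δY hX hY f c hc α
  have hβk : β ∈ Cyc.Zk X δX (k + c - 1 + 1) := by
    intro ξ hξ
    rw [hβ, pullFun_eq_mult]
    by_cases hα0 : α (f ξ) = 0
    · rw [hα0, zero_mul]
    by_cases hm : pullMult f δX δY c ξ = 0
    · rw [hm, mul_zero]
    exact absurd (by rw [delta_of_pullMult_ne hm, by_contra fun h => hα0 (hα _ h)]; ring) hξ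
  rw [← hβ] at h₂
  refine c1_change hX (Groth.PicAux.isInvertible_pullback f hL) hβk
    (fun ξ => pullFib_ne_zero f hL (hv (f ξ))) hu ?_ h₂
  rw [h₁, hβ]
  exact funext (pullFun_c1CapFun δX δY hX hY f c hc hL α hv)

end Groth.Cycles
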