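import Mathlib.Algebra.Module.Submodule.Basic
import Mathlib.LinearAlgebra.Basis.VectorSpace
import Mathlib.SetTheory.Cardinal.Finite
import Mathlib.Tactic.Module
import Mathlib.Tactic.FieldSimp

/-!
A vector space over a field with at least `n` elements is not a union of `n` proper subspaces.
-/

namespace Groth.Cycles

open Submodule

theorem exists_notMem_of_card_le {K M ι : Type*} [Field K] [AddCommGroup M] [Module K M]
    (p : ι → Submodule K M) (s : Finset ι) (hp : ∀ i ∈ s, p i ≠ ⊤)
    (hcard : (s.card : Cardinal) ≤ Cardinal.mk K) :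
    ∃ x : M, ∀ i ∈ s, x ∉ p i := by
  classical
  induction s using Finset.strongInduction with
  | _ s ih =>
  rcases s.eq_empty_or_nonempty with rfl | ⟨j, hj⟩
  · exact ⟨0, by simp⟩
  obtain ⟨x, hx⟩ := ih (s.erase j) (Finset.erase_ssubset hj)
    (fun i hi => hp i (Finset.mem_of_mem_erase hi))
    (le_trans (by exact_mod_cast Finset.card_erase_le) hcard)
  by_contra hno
  push Not at hno
  have hxj : x ∈ p j := by
    obtain ⟨i, hi, hxi⟩ := hno x
    rcases eq_or_ne i j with rfl | hne
    · exact hxi
    · exact absurd hxi (hx i (Finset.mem_erase.mpr ⟨hne, hi⟩))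
  obtain ⟨y, -, hy⟩ := SetLike.exists_of_lt (lt_top_iff_ne_top.mpr (hp j hj))
  let g : K → M := fun t => if t = 0 then y else x + t • y
  have hg : ∀ t, g t ∉ p j := by
    intro t
    by_cases ht : t = 0
    · simpa [g, ht] using hy
    · simp only [g, ht, if_false, (p j).add_mem_iff_right hxj, (p j).smul_mem_iff ht]
      exact hy
  have hmem : ∀ t, ∃ i : {i // i ∈ s.erase j}, g t ∈ p i.1 := fun t => by
    obtain ⟨i, hi, hti⟩ := hno (g t)
    exact ⟨⟨i, Finset.mem_erase.mpr ⟨fun e => hg t (e ▸ hti), hi⟩⟩, hti⟩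
  choose F hF using hmem
  have hinj : Function.Injective F := by
    intro t₁ t₂ h12
    by_contra hne
    obtain ⟨i, hi⟩ := F t₁
    have h1 := hF t₁
    have h2 := hF t₂
    rw [← h12] at h2
    apply hx (F t₁).1 (F t₁).2
    by_cases ht₁ : t₁ = 0
    · subst ht₁
      have ht₂ : t₂ ≠ 0 := fun e => hne e.symm
      simp only [g, ↓reduceIte] at h1
      simp only [g, ht₂, if_false] at h2
      simpa using sub_mem h2 ((p (F 0).1).smul_mem t₂ h1)
    · simp only [g, ht₁, if_false] at h1
      by_cases ht₂ : t₂ = 0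
      · simp only [g, ht₂, ↓reduceIte] at h2
        simpa using sub_mem h1 ((p (F t₁).1).smul_mem t₁ h2)
      · simp only [g, ht₂, if_false] at h2
        have hy' : y ∈ p (F t₁).1 := by
          refine ((p (F t₁).1).smul_mem_iff (sub_ne_zero.mpr hne)).mp ?_
          convert sub_mem h1 h2 using 1
          module
        simpa using sub_mem h1 ((p (F t₁).1).smul_mem t₁ hy')
  have hle : Cardinal.lift.{_, _} (Cardinal.mk K) ≤ Cardinal.lift (Cardinal.mk {i // i ∈ s.erase j}) :=
    Cardinal.lift_mk_le_lift_mk_of_injective hinj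
  rw [Cardinal.mk_coe_finset, Cardinal.lift_natCast] at hle
  have h1 := (Cardinal.lift_le.mpr hcard).trans hle
  rw [Cardinal.lift_natCast, Nat.cast_le] at h1
  have h2 := Finset.card_erase_lt_of_mem hj
  omega

end Groth.Cycles
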