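import Groth.Agent.Cycles.C1Basic
import Groth.Agent.RefRank.Divisor
import Groth.Agent.PicAux.Tensor

/-!
The first Chern class of a tensor product.
-/

universe u

set_option autoImplicit false

open CategoryTheory AlgebraicGeometry IsLocalRing
open Groth.RefRank Groth.QCohMod
open scoped TensorProduct

namespace Groth.Cycles

variable {X : Scheme.{u}} {δ : X → ℤ}

/-- The product of two rational sections. -/
noncomputable def secMul {L N : X.Modules} {ξ : X} (s : Cyc.secFibre L ξ) (r : Cyc.secFibre N ξ) :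
    Cyc.secFibre (CohB1.tensorMod L N) ξ :=
  fmk (stalkTensorEquiv L N ξ
    ((Submodule.Quotient.mk_surjective _ s).choose ⊗ₜ (Submodule.Quotient.mk_surjective _ r).choose))

theorem coef_secMul {L N : X.Modules} {ξ : X} {t : L.presheaf.stalk ξ} (ht : IsStalkBasis L ξ t)
    {u : N.presheaf.stalk ξ} (hu : IsStalkBasis N ξ u) (s : Cyc.secFibre L ξ) (r : Cyc.secFibre N ξ) :
    coef (CohB1.tensorMod L N) ξ (stalkTensorEquiv L N ξ (t ⊗ₜ u)) (secMul s r) =
      coef L ξ t s * coef N ξ u r := by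
  unfold secMul
  have hs := (Submodule.Quotient.mk_surjective _ s).choose_spec
  have hr := (Submodule.Quotient.mk_surjective _ r).choose_spec
  generalize (Submodule.Quotient.mk_surjective _ s).choose = v at hs ⊢
  generalize (Submodule.Quotient.mk_surjective _ r).choose = w at hr ⊢
  subst hs hr
  obtain ⟨φ, rfl⟩ := ht.2 v
  obtain ⟨ψ, rfl⟩ := hu.2 w
  have e : stalkTensorEquiv L N ξ ((φ • t) ⊗ₜ (ψ • u)) = (φ * ψ) • stalkTensorEquiv L N ξ (t ⊗ₜ u) := by
    rw [← map_smul, TensorProduct.smul_tmul', TensorProduct.tmul_smul, TensorProduct.smul_tmul', mul_smul,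
      smul_comm φ ψ]
  rw [e]
  simp only [fmk, Submodule.Quotient.mk_smul]
  rw [coef_smul ht, coef_smul hu, coef_smul (isStalkBasis_tensor ht hu), map_mul]

theorem secMul_ne_zero {L N : X.Modules} (hL : PicF.IsInvertible L) (hN : PicF.IsInvertible N) {ξ : X}
    {s : Cyc.secFibre L ξ} {r : Cyc.secFibre N ξ} (hs : s ≠ 0) (hr : r ≠ 0) : secMul s r ≠ 0 := by
  intro h
  have hb := bas_spec hL ξ
  have hb' := bas_spec hN ξ
  have h0 := coef_smul (isStalkBasis_tensor hb hb') (0 : X.presheaf.stalk ξ)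
  rw [zero_smul, ← h, coef_secMul hb hb', map_zero] at h0
  exact mul_ne_zero (coef_ne_zero hb hs) (coef_ne_zero hb' hr) h0

theorem secDivFun_secMul (hX : Cyc.IsSetup X δ) {L N : X.Modules} (hL : PicF.IsInvertible L)
    (hN : PicF.IsInvertible N) (hT : PicF.IsInvertible (CohB1.tensorMod L N)) {ξ : X}
    {s : Cyc.secFibre L ξ} {r : Cyc.secFibre N ξ} (hs : s ≠ 0) (hr : r ≠ 0) (x : X) :
    Cyc.secDivFun δ (CohB1.tensorMod L N) ξ (secMul s r) x =
      Cyc.secDivFun δ L ξ s x + Cyc.secDivFun δ N ξ r x := by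
  by_cases h : ξ ⤳ x
  · have hb := bas_spec hL x
    have hb' := bas_spec hN x
    have hbt := isStalkBasis_tensor hb hb'
    rw [secDivFun_eq hX hT h (specializes_refl x) hbt (secMul_ne_zero hL hN hs hr),
      secDivFun_eq hX hL h (specializes_refl x) hb hs, secDivFun_eq hX hN h (specializes_refl x) hb' hr,
      ← divFun_mul hX (ratCoef_ne_zero hL _ hb hs) (ratCoef_ne_zero hN _ hb' hr)]
    congr 1
    rw [ratCoef, mspec_stalkTensorEquiv, coef_secMul (isStalkBasis_mspec hL _ hb) (isStalkBasis_mspec hN _ hb')]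
    rfl
  · simp only [Cyc.secDivFun, dif_neg (show ¬(ξ ⤳ x ∧ δ x + 1 = δ ξ) from fun h' => h h'.1), add_zero]

theorem c1CapFun_secMul (hX : Cyc.IsSetup X δ) {L N : X.Modules} (hL : PicF.IsInvertible L)
    (hN : PicF.IsInvertible N) (hT : PicF.IsInvertible (CohB1.tensorMod L N)) (α : AlgebraicCycle X ℤ)
    {sL : (ξ : X) → Cyc.secFibre L ξ} {sN : (ξ : X) → Cyc.secFibre N ξ} (hsL : ∀ ξ, sL ξ ≠ 0)
    (hsN : ∀ ξ, sN ξ ≠ 0) (z : X) :
    Cyc.c1CapFun δ L ⇑α sL z + Cyc.c1CapFun δ N ⇑α sN z =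
      Cyc.c1CapFun δ (CohB1.tensorMod L N) ⇑α (fun ξ => secMul (sL ξ) (sN ξ)) z := by
  unfold Cyc.c1CapFun
  rw [← finsum_add_distrib
    (finite_support_c1 α (fun ξ => Cyc.secDivFun δ L ξ (sL ξ))
      (fun ξ z h => by_contra fun hn => h (dif_neg fun h' => hn h'.1)) z)
    (finite_support_c1 α (fun ξ => Cyc.secDivFun δ N ξ (sN ξ))
      (fun ξ z h => by_contra fun hn => h (dif_neg fun h' => hn h'.1)) z)]
  refine finsum_congr fun ξ => ?_
  rw [secDivFun_secMul hX hL hN hT (hsL ξ) (hsN ξ), mul_add]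

end Groth.Cycles
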