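import Groth.Agent.Cycles.NormPoints
import Mathlib.RingTheory.Flat.Localization
import Mathlib.RingTheory.LocalRing.Module
import Mathlib.RingTheory.Localization.Free
import Mathlib.RingTheory.Localization.Finiteness
import Mathlib.RingTheory.TensorProduct.Free

/-!
Algebra for correspondences: representations from finite free algebras with multiplicities, values at points.
-/

set_option autoImplicit false

universe u

open scoped TensorProduct

namespace Groth.Cycles.CorrAlg

/-- The representation on `∏ B_i ^ (m_i)`. -/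
theorem exists_rep {A : Type u} [CommRing A] {C : Type u} [CommRing C] {ι : Type u} [Fintype ι] (B : ι → Type u)
    [∀ i, CommRing (B i)] [∀ i, Algebra A (B i)] [∀ i, Module.Free A (B i)] [∀ i, Module.Finite A (B i)]
    (h : ∀ i, C →+* B i) (m : ι → ℕ) {d : ℕ} [Nontrivial A] (hd : ∑ i, m i * Module.finrank A (B i) = d) :
    ∃ ρ : C →+* Matrix (Fin d) (Fin d) A, (∀ c, (ρ c).det = ∏ i, Algebra.norm A (h i c) ^ m i) ∧
      ∀ c a, (∀ i, h i c = algebraMap A (B i) a) → ρ c = algebraMap A _ a := by
  classical
  let M := (j : Σ i : ι, Fin (m i)) → B j.1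
  have hrank : Fintype.card (Module.Free.ChooseBasisIndex A M) = d := by
    rw [← Module.finrank_eq_card_chooseBasisIndex, Module.finrank_pi_fintype, Fintype.sum_sigma, ← hd]
    refine Finset.sum_congr rfl fun i _ => ?_
    exact (Fin.sum_const (m i) (Module.finrank A (B i))).trans (smul_eq_mul _ _)
  let β : Module.Basis (Fin d) A M := (Module.Free.chooseBasis A M).reindex (Fintype.equivFinOfCardEq hrank)
  let H : C →+* M := RingHom.pi fun j => h j.1
  refine ⟨(Algebra.leftMulMatrix β).toRingHom.comp H, fun c => ?_, fun c a hca => ?_⟩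
  · show (Algebra.leftMulMatrix β (H c)).det = _
    rw [← Algebra.norm_eq_matrix_det β, NormPoints.norm_pi, Fintype.prod_sigma]
    refine Finset.prod_congr rfl fun i _ => ?_
    exact Fin.prod_const (m i) (Algebra.norm A (h i c))
  · show Algebra.leftMulMatrix β (H c) = _
    rw [← (Algebra.leftMulMatrix β).commutes a]
    exact congrArg _ (funext fun j => hca j.1)

/-- The norm after base change, evaluated at a point. -/
theorem map_norm {A : Type u} [CommRing A] {A' : Type u} [CommRing A'] [Algebra A A'] {k : Type u} [CommRing k]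
    [Algebra A k] {B : Type u} [CommRing B] [Algebra A B] [Module.Free A' (A' ⊗[A] B)] [Module.Finite A' (A' ⊗[A] B)]
    (χ : A' →ₐ[A] k) (b : B) :
    χ (Algebra.norm A' ((1 : A') ⊗ₜ[A] b)) = Algebra.norm k ((1 : k) ⊗ₜ[A] b) := by
  classical
  letI : Algebra A' k := χ.toRingHom.toAlgebra
  haveI : IsScalarTower A A' k := IsScalarTower.of_algebraMap_eq fun a => (χ.commutes a).symm
  let β := Module.Free.chooseBasis A' (A' ⊗[A] B)
  let β' := Algebra.TensorProduct.basis k β
  let e : k ⊗[A'] (A' ⊗[A] B) ≃ₐ[k] k ⊗[A] B := Algebra.TensorProduct.cancelBaseChange A A' k k B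
  have he : e ((1 : k) ⊗ₜ[A'] ((1 : A') ⊗ₜ[A] b)) = (1 : k) ⊗ₜ[A] b := by simp [e]
  rw [← he, Algebra.norm_eq_of_algEquiv e, Algebra.norm_eq_matrix_det β, Algebra.norm_eq_matrix_det β']
  show algebraMap A' k _ = _
  rw [RingHom.map_det]
  congr 1
  ext i j
  simp [Algebra.leftMulMatrix_eq_repr_mul, β', Algebra.TensorProduct.basis_apply,
    Algebra.TensorProduct.basis_repr_tmul, Algebra.smul_def]

/-- Finite flat modules become free near a prime. -/
theorem exists_away_free {A : Type u} [CommRing A] [IsNoetherianRing A] (p : Ideal A) [p.IsPrime]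
    {ι : Type u} [Fintype ι] (B : ι → Type u) [∀ i, AddCommGroup (B i)] [∀ i, Module A (B i)]
    [∀ i, Module.Finite A (B i)] [∀ i, Module.Flat A (B i)] :
    ∃ f ∉ p, ∀ (A' : Type u) [CommRing A'] [Algebra A A'] [IsLocalization.Away f A'], ∀ i,
      Module.Free A' (A' ⊗[A] B i) := by
  classical
  have hr : ∀ i, ∃ r ∉ p, Module.Free (Localization (Submonoid.powers r)) (LocalizedModule.Away r (B i)) := by
    intro i
    haveI : Module.FinitePresentation A (B i) := Module.finitePresentation_of_finite A (B i)
    haveI : Module.Free (Localization.AtPrime p) (LocalizedModule p.primeCompl (B i)) :=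
      Module.free_of_flat_of_isLocalRing
    obtain ⟨r, hr, hfree, -⟩ := Module.FinitePresentation.exists_free_localizedModule_powers p.primeCompl
      (LocalizedModule.mkLinearMap p.primeCompl (B i)) (Localization.AtPrime p)
    exact ⟨r, hr, hfree⟩
  choose r hrp hfree using hr
  refine ⟨∏ i, r i, fun hmem => ?_, fun A' _ _ _ i => ?_⟩
  · obtain ⟨i, _, hi⟩ := Ideal.IsPrime.prod_mem_iff.mp hmem
    exact hrp i hi
  · have hu : IsUnit (algebraMap A A' (r i)) := by
      refine isUnit_of_dvd_unit ?_ (IsLocalization.Away.algebraMap_isUnit (S := A') (∏ j, r j))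
      exact map_dvd _ (Finset.dvd_prod_of_mem r (Finset.mem_univ i))
    let φ : Localization.Away (r i) →+* A' := IsLocalization.Away.lift (r i) hu
    letI : Algebra (Localization.Away (r i)) A' := φ.toAlgebra
    haveI : IsScalarTower A (Localization.Away (r i)) A' := IsScalarTower.of_algebraMap_eq fun a =>
      (IsLocalization.Away.lift_eq (r i) hu a).symm
    haveI : Module.Free (Localization.Away (r i)) (Localization.Away (r i) ⊗[A] B i) :=
      haveI := hfree i
      Module.Free.of_equiv (LocalizedModule.equivTensorProduct (Submonoid.powers (r i)) (B i))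
    exact Module.Free.of_equiv
      (TensorProduct.AlgebraTensorModule.cancelBaseChange A (Localization.Away (r i)) A' A' (B i))

end Groth.Cycles.CorrAlg
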