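import Groth.Prelude.Def_CAlg
import Groth.Agent.Cycles.DimFunLft
import Groth.Agent.Cycles.PullPush
import Groth.Agent.EGA43Topo.JacobsonDim
import Groth.Agent.EtCd.DimClosure
import Groth.Agent.S0603
import Groth.Agent.Ega4Algebra1.CMTensor
import Groth.Agent.Ega2Proj2.BaseChange
import Mathlib.RingTheory.TensorProduct.MvPolynomial

/-!
Small foundations for families over the projective line.
-/

set_option autoImplicit false
set_option linter.style.haveILetI false

universe u

open CategoryTheory CategoryTheory.Limits AlgebraicGeometry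
open scoped HomogeneousIdeal

noncomputable section

namespace Groth.Cycles.CorrBase

variable {K : Type u} [Field K]

theorem isCohenMacaulayRing_field (K : Type u) [Field K] : LocCoh.IsCohenMacaulayRing K where
  isCohenMacaulayLocalRing_localization p _ := by
    haveI : IsNoetherianRing (Localization.AtPrime p) := IsLocalization.isNoetherianRing p.primeCompl _ inferInstance
    have hu : p.primeCompl ≤ IsUnit.submonoid K := fun x hx => by
      refine Ne.isUnit fun h => hx ?_
      rw [h]
      exact p.zero_mem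
    haveI : Ring.KrullDimLE 0 (Localization.AtPrime p) :=
      Ring.krullDimLE_iff.mpr ((ringKrullDim_eq_of_ringEquiv
        (IsLocalization.atUnits K p.primeCompl (S := Localization.AtPrime p) hu).toRingEquiv).symm.le.trans
        (Ring.krullDimLE_iff.mp inferInstance))
    exact Groth.Ega4Algebra1.isCohenMacaulayLocalRing_of_krullDimLE_zero _

/-- Schemes locally of finite type over a field carry a dimension function. -/
theorem isSetup_field {X : Scheme.{u}} (f : X ⟶ Spec (CommRingCat.of K)) [LocallyOfFiniteType f]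
    {δ : X → ℤ} (hδ : Cyc.DeltaCompat f δ fun _ => 0) : Cyc.IsSetup X δ := by
  have : LocCoh.IsCohenMacaulayRing K := isCohenMacaulayRing_field K
  have hK : CAlg.IsUniversallyCatenary K := Groth.Agent.S0603.result K
  have hst := fun p => Groth.EtCdDim.isUniversallyCatenary_stalk hK p
  have hS : Cyc.IsSetup (Spec (CommRingCat.of K)) fun _ => (0 : ℤ) :=
    ⟨inferInstance, hst, fun x y _ hne => (hne (Subsingleton.elim (α := PrimeSpectrum K) x y)).elim⟩
  exact ⟨LocallyOfFiniteType.isLocallyNoetherian f,
    fun x => Groth.EGA43Topo.JacobsonDim.isUnivCat_stalk f x (hst _),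
    Groth.Cycles.isDimFun_of_deltaCompat f hS hδ⟩

/-- A dimension function induced along a morphism locally of finite type. -/
theorem exists_deltaCompat {Y X : Scheme.{u}} (q : Y ⟶ X) [LocallyOfFiniteType q] (δ : X → ℤ) :
    ∃ δY : Y → ℤ, Cyc.DeltaCompat q δY δ := by
  choose n hn using fun y => Groth.FibreDim.exists_relTrdeg_eq_height q y
  exact ⟨fun y => δ (q y) + n y, fun y => ⟨n y, (hn y).1, rfl⟩⟩

/-- Dimension functions compose. -/
theorem deltaCompat_comp {A B C : Scheme.{u}} (h : A ⟶ B) (g : B ⟶ C) {δA : A → ℤ} {δB : B → ℤ} {δC : C → ℤ}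
    (h1 : Cyc.DeltaCompat h δA δB) (h2 : Cyc.DeltaCompat g δB δC) : Cyc.DeltaCompat (h ≫ g) δA δC := by
  intro x
  obtain ⟨a, ha, ha'⟩ := h1 x
  obtain ⟨b, hb, hb'⟩ := h2 (h x)
  refine ⟨b + a, ?_, ?_⟩
  · have e := Groth.Cycles.relTrdeg_comp_add h g x
    rw [show Groth.Variety2.Dim.relTrdeg g (h x) = b from hb,
      show Groth.Variety2.Dim.relTrdeg h x = a from ha] at e
    rw [Nat.cast_add, ← e]
    rfl
  · rw [Scheme.Hom.comp_apply, ha', hb']
    push_cast
    ring

section ProjSpace

variable (n : ℕ) (R : Type u) [CommRing R]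

attribute [local instance] MvPolynomial.algebraMvPolynomial

/-- Projective space over a ring is projective space over its spectrum. -/
theorem exists_overIso : ∃ e : CohB1.ProjSpace n R ≅ CohB1.ProjSpaceOver n (Spec (CommRingCat.of R)),
    e.hom ≫ CohB1.ProjSpaceOver.toBase n (Spec (CommRingCat.of R)) = CohB1.ProjSpace.toSpec n R := by
  let Z : Type u := ULift.{u} ℤ
  letI : Algebra Z R := ((Int.castRingHom R).comp (ULift.ringEquiv : ULift.{u} ℤ ≃+* ℤ).toRingHom).toAlgebra
  let φ : CohB1.polyGrading n Z →+*ᵍ CohB1.polyGrading n R :=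
    { toRingHom := MvPolynomial.map (algebraMap Z R)
      map_mem := fun h => MvPolynomial.IsHomogeneous.map h _ }
  have hφ : (CohB1.polyGrading n R)₊ ≤ ((CohB1.polyGrading n Z)₊).map φ :=
    Ega2P2.irrelevant_le_map_of_pushout φ (R := Z) (R' := R)
      (fun _ => rfl) (fun r => SetLike.algebraMap_mem_graded (CohB1.polyGrading n R) r) inferInstance
  have h := CommRingCat.isPushout_of_isPushout Z R
    (MvPolynomial (Fin (n + 1)) Z) (MvPolynomial (Fin (n + 1)) R)
  have sq := Ega2P2.isPullback_projMap φ (CommRingCat.ofHom (algebraMap Z R))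
    (CommRingCat.ofHom (algebraMap Z (MvPolynomial (Fin (n + 1)) Z)))
    (CommRingCat.ofHom (algebraMap R (MvPolynomial (Fin (n + 1)) R)))
    (CommRingCat.ofHom (algebraMap Z (CohB1.polyGrading n Z 0)))
    (CommRingCat.ofHom (algebraMap R (CohB1.polyGrading n R 0)))
    (fun _ => rfl) (fun _ => rfl) h hφ
  have sq' : IsPullback (Proj.map φ hφ) (CohB1.ProjSpace.toSpec n R) (CohB1.ProjSpace.toSpec n Z)
      (specULiftZIsTerminal.from (Spec (CommRingCat.of R))) := by
    rw [specULiftZIsTerminal.hom_ext (specULiftZIsTerminal.from (Spec (CommRingCat.of R)))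
      (Spec.map (CommRingCat.ofHom (algebraMap Z R)))]
    exact sq
  exact ⟨sq'.isoPullback, sq'.isoPullback_hom_snd⟩

end ProjSpace

end Groth.Cycles.CorrBase
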