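import Mathlib.RingTheory.Norm.Basic
import Mathlib.RingTheory.Spectrum.Prime.Noetherian
import Mathlib.RingTheory.Length
import Mathlib.RingTheory.KrullDimension.Zero
import Mathlib.LinearAlgebra.Matrix.Block
import Mathlib.LinearAlgebra.Eigenspace.Zero
import Mathlib.LinearAlgebra.Charpoly.Basic
import Mathlib.FieldTheory.IsAlgClosed.Basic

/-!
The norm of a finite algebra over an algebraically closed field as a product over its points.
-/

set_option autoImplicit false

universe u

open scoped TensorProduct

namespace Groth.Cycles.NormPoints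

variable {k : Type u} [Field k]

lemma det_blockDiag {R : Type*} [CommRing R] {o : Type*} [Fintype o] [DecidableEq o] {m : o → Type*}
    [∀ i, Fintype (m i)] [∀ i, DecidableEq (m i)] (M : ∀ i, Matrix (m i) (m i) R) :
    (Matrix.blockDiagonal' M).det = ∏ i, (M i).det := by
  let _ : LinearOrder o := LinearOrder.lift' (Fintype.equivFin o) (Fintype.equivFin o).injective
  rw [(Matrix.blockTriangular_blockDiagonal' M).det_fintype]
  refine Finset.prod_congr rfl fun k _ => ?_
  let e : m k ≃ { a : Σ i, m i // a.1 = k } :=
    { toFun := fun a => ⟨⟨k, a⟩, rfl⟩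
      invFun := fun a => a.2 ▸ a.1.2
      left_inv := fun a => rfl
      right_inv := fun ⟨⟨i, a⟩, h⟩ => by subst h; rfl }
  rw [← Matrix.det_reindex_self e (M k)]
  congr 1
  ext ⟨⟨i, a⟩, h⟩ ⟨⟨j, b⟩, h'⟩
  change i = k at h
  change j = k at h'
  subst h
  subst h'
  simp [e, Matrix.toSquareBlock_def, Matrix.blockDiagonal'_apply]

/-- Block diagonal multiplication. -/
lemma norm_pi {R : Type*} [CommRing R] {ι : Type*} [Fintype ι] [DecidableEq ι] (E : ι → Type*)
    [∀ i, CommRing (E i)] [∀ i, Algebra R (E i)] [∀ i, Module.Free R (E i)] [∀ i, Module.Finite R (E i)]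
    (x : ∀ i, E i) : Algebra.norm R x = ∏ i, Algebra.norm R (x i) := by
  classical
  let b := fun i => Module.Free.chooseBasis R (E i)
  rw [Algebra.norm_eq_matrix_det (Pi.basis b)]
  have : Algebra.leftMulMatrix (Pi.basis b) x = Matrix.blockDiagonal' fun i => Algebra.leftMulMatrix (b i) (x i) := by
    ext ⟨i, a⟩ ⟨j, c⟩
    rw [Algebra.leftMulMatrix_eq_repr_mul, Pi.basis_repr, Pi.basis_apply, Matrix.blockDiagonal'_apply]
    by_cases h : i = j
    · subst h
      simp [Algebra.leftMulMatrix_eq_repr_mul]
    · simp [h, Pi.single_eq_of_ne h]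
  rw [this, det_blockDiag]
  exact Finset.prod_congr rfl fun i _ => (Algebra.norm_eq_matrix_det (b i) (x i)).symm

/-- The norm when the difference with a scalar is nilpotent. -/
lemma norm_of_isNilpotent_sub {E : Type*} [CommRing E] [Algebra k E] [Module.Finite k E] {x : E} {c : k}
    (h : IsNilpotent (x - algebraMap k E c)) : Algebra.norm k x = c ^ Module.finrank k E := by
  have hN : IsNilpotent (Algebra.lmul k E (algebraMap k E c - x)) := by
    rw [← neg_sub x, map_neg]
    exact (h.map (Algebra.lmul k E)).neg
  have he := LinearMap.eval_charpoly (Algebra.lmul k E (algebraMap k E c - x)) c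
  rw [IsNilpotent.charpoly_eq_X_pow_finrank hN, Polynomial.eval_pow, Polynomial.eval_X] at he
  rw [he, Algebra.norm_apply]
  congr 1
  ext z
  simp [Algebra.smul_def, sub_mul]

/-- Over an algebraically closed field the length is the dimension. -/
lemma length_eq_finrank [IsAlgClosed k] {R : Type u} [CommRing R] [Algebra k R] [Module.Finite k R] :
    ∀ (M : Type u) [AddCommGroup M] [Module R M] [Module k M] [IsScalarTower k R M] [Module.Finite k M],
      Module.length R M = Module.finrank k M := by
  suffices H : ∀ n, ∀ (M : Type u) [AddCommGroup M] [Module R M] [Module k M] [IsScalarTower k R M]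
      [Module.Finite k M], Module.finrank k M = n → Module.length R M = n by
    intro M _ _ _ _ _
    exact H _ M rfl
  intro n
  induction n using Nat.strong_induction_on with
  | _ n ih =>
    intro M _ _ _ _ _ hn
    rcases subsingleton_or_nontrivial M with hM | hM
    · rw [Module.length_eq_zero, ← hn, Module.finrank_zero_of_subsingleton]
      rfl
    obtain ⟨m, hm⟩ := exists_ne (0 : M)
    have : IsArtinianRing R := IsArtinianRing.of_finite k R
    obtain ⟨P, hP, hPm⟩ := Ideal.exists_le_maximal (Submodule.colon (⊥ : Submodule R M) {m})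
      (by
        intro h
        have : (1 : R) ∈ Submodule.colon (⊥ : Submodule R M) {m} := h ▸ Submodule.mem_top
        simp [Submodule.mem_colon_singleton, hm] at this)
    by_cases hsimple : IsSimpleModule R M
    · rw [Module.length_eq_one (R := R) (M := M)]
      obtain ⟨I, hI, ⟨e⟩⟩ := isSimpleModule_iff_quot_maximal.mp hsimple
      let _ := Ideal.Quotient.field I
      have hb : Function.Bijective (algebraMap k (R ⧸ I)) := IsAlgClosed.algebraMap_bijective_of_isIntegral
      have h1 : Module.finrank k (R ⧸ I) = 1 := by
        rw [← (AlgEquiv.ofBijective (Algebra.ofId k (R ⧸ I)) hb).toLinearEquiv.finrank_eq, Module.finrank_self]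
      rw [(e.restrictScalars k).finrank_eq, h1] at hn
      rw [← hn]
      rfl
    · obtain ⟨N, hN0, hN1⟩ : ∃ N : Submodule R M, N ≠ ⊥ ∧ N ≠ ⊤ := by
        by_contra! hall
        exact hsimple ((isSimpleModule_iff R M).mpr { eq_bot_or_eq_top := fun N => or_iff_not_imp_left.mpr (hall N) })
      have hsum : Module.finrank k (M ⧸ N.restrictScalars k) + Module.finrank k (N.restrictScalars k) = n :=
        hn ▸ (N.restrictScalars k).finrank_quotient_add_finrank
      have hpos1 : 0 < Module.finrank k (N.restrictScalars k) :=
        Module.finrank_pos_iff.mpr ((Submodule.nontrivial_iff_ne_bot).mpr (by simpa using hN0))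
      have hpos2 : 0 < Module.finrank k (M ⧸ N.restrictScalars k) :=
        Module.finrank_pos_iff.mpr (Submodule.Quotient.nontrivial_iff.mpr (by simpa using hN1))
      have heq : Module.finrank k (M ⧸ N) = Module.finrank k (M ⧸ N.restrictScalars k) :=
        ((Submodule.Quotient.restrictScalarsEquiv k N).finrank_eq).symm
      have : Module.Finite k N := inferInstanceAs (Module.Finite k (N.restrictScalars k))
      rw [Module.length_eq_add_of_exact N.subtype N.mkQ N.injective_subtype N.mkQ_surjective
        (LinearMap.exact_subtype_mkQ N),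
        ih (Module.finrank k N) (by have : Module.finrank k N = Module.finrank k (N.restrictScalars k) := rfl; omega) N rfl,
        ih (Module.finrank k (M ⧸ N)) (by omega) (M ⧸ N) rfl]
      have : Module.finrank k N = Module.finrank k (N.restrictScalars k) := rfl
      rw [← Nat.cast_add]
      congr 1
      omega

variable [IsAlgClosed k] (E : Type u) [CommRing E] [Algebra k E] [Module.Finite k E]

/-- The norm is the product of the values at the points, with the local dimensions as exponents. -/
theorem norm_eq_prod [Fintype (PrimeSpectrum E)] (χ : PrimeSpectrum E → (E →ₐ[k] k))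
    (hχ : ∀ p, RingHom.ker (χ p) = p.asIdeal) (x : E) :
    Algebra.norm k x = ∏ p, χ p x ^ Module.finrank k (Localization.AtPrime p.asIdeal) := by
  classical
  have : IsArtinianRing E := IsArtinianRing.of_finite k E
  have hfin : ∀ p : PrimeSpectrum E, Module.Finite k (Localization.AtPrime p.asIdeal) := fun p =>
    Module.Finite.of_surjective (Algebra.algHom k E (Localization.AtPrime p.asIdeal)).toLinearMap
      (IsArtinianRing.localization_surjective p.asIdeal.primeCompl _)
  let e := (PrimeSpectrum.toPiLocalizationEquiv E).restrictScalars k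
  rw [← Algebra.norm_eq_of_algEquiv e, norm_pi]
  refine Finset.prod_congr rfl fun p _ => norm_of_isNilpotent_sub ?_
  rw [IsScalarTower.algebraMap_apply k E (Localization.AtPrime p.asIdeal)]
  have he : e x p = algebraMap E (Localization.AtPrime p.asIdeal) x := rfl
  rw [he, ← map_sub]
  have hmem : x - algebraMap k E (χ p x) ∈ p.asIdeal := by
    rw [← hχ p, RingHom.mem_ker]
    simp
  rw [← mem_nilradical]
  have hnil : nilradical (Localization.AtPrime p.asIdeal) = IsLocalRing.maximalIdeal _ := by
    have : IsArtinianRing (Localization.AtPrime p.asIdeal) :=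
      (IsArtinianRing.localization_surjective p.asIdeal.primeCompl _).isArtinianRing
    exact Ring.KrullDimLE.nilradical_eq_maximalIdeal _
  rw [hnil, IsLocalization.AtPrime.to_map_mem_maximal_iff _ p.asIdeal]
  exact hmem

end Groth.Cycles.NormPoints
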