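import Groth.Agent.Cycles.StalkPrimes
import Groth.Agent.Cycles.NormPoints
import Groth.Prelude.Def_AlgEqCyc
import Mathlib.RingTheory.Flat.Localization
import Mathlib.AlgebraicGeometry.Morphisms.Finite
import Mathlib.AlgebraicGeometry.Morphisms.Proper

/-!
Components of a family of cycles read in affine charts: finiteness, flatness, multiplicities of fibres.
-/

set_option autoImplicit false
set_option backward.isDefEq.respectTransparency false
set_option linter.style.haveILetI false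

universe u

open CategoryTheory CategoryTheory.Limits AlgebraicGeometry

namespace Groth.Cycles.CorrChart

/-- Localizing a surjection. -/
theorem exists_localization_surj {R Q : Type u} [CommRing R] [CommRing Q] (π : R →+* Q)
    (hπ : Function.Surjective π) (q : Ideal Q) [q.IsPrime] (Rn : Type u) [CommRing Rn] [Algebra R Rn]
    [IsLocalization.AtPrime Rn (q.comap π)] :
    ∃ f : Rn →+* Localization.AtPrime q, Function.Surjective f ∧ RingHom.ker f = (RingHom.ker π).map (algebraMap R Rn) ∧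
      ∀ r, f (algebraMap R Rn r) = algebraMap Q (Localization.AtPrime q) (π r) := by
  have hT : Submonoid.map π (q.comap π).primeCompl = q.primeCompl := by
    ext x
    constructor
    · rintro ⟨r, hr, rfl⟩; exact hr
    · intro hx
      obtain ⟨r, rfl⟩ := hπ x
      exact ⟨r, hx, rfl⟩
  refine ⟨IsLocalization.map (Localization.AtPrime q) π (M := (q.comap π).primeCompl) (T := q.primeCompl)
    (fun r hr => hr), ?_, IsLocalization.ker_map (Localization.AtPrime q) π hT, fun r => IsLocalization.map_eq _ r⟩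
  intro x
  obtain ⟨a, ⟨s, hs⟩, rfl⟩ := IsLocalization.exists_mk'_eq q.primeCompl x
  obtain ⟨a', rfl⟩ := hπ a
  obtain ⟨s', rfl⟩ := hπ s
  exact ⟨IsLocalization.mk' Rn a' ⟨s', hs⟩, IsLocalization.map_mk' _ _ _⟩

variable {P : Scheme.{u}} {E : P.Opens} (hE : IsAffineOpen E)

lemma primeIdealOf_fromSpec (n : PrimeSpectrum Γ(P, E)) (h : hE.fromSpec n ∈ E) :
    hE.primeIdealOf ⟨hE.fromSpec n, h⟩ = n :=
  hE.fromSpec.isOpenEmbedding.injective (hE.fromSpec_primeIdealOf _)

lemma specializes_iff {ξ z : P} (hξ : ξ ∈ E) (hz : z ∈ E) :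
    ξ ⤳ z ↔ (hE.primeIdealOf ⟨ξ, hξ⟩).asIdeal ≤ (hE.primeIdealOf ⟨z, hz⟩).asIdeal := by
  rw [PrimeSpectrum.asIdeal_le_asIdeal, PrimeSpectrum.le_iff_specializes,
    ← hE.fromSpec.isOpenEmbedding.isInducing.specializes_iff, hE.fromSpec_primeIdealOf, hE.fromSpec_primeIdealOf]

lemma ker_specMap {ξ z : P} (hξ : ξ ∈ E) (hz : z ∈ E) (h : ξ ⤳ z) :
    RingHom.ker (Cyc.specMap z ξ h) =
      (hE.primeIdealOf ⟨ξ, hξ⟩).asIdeal.map (P.presheaf.germ E z hz).hom := by
  letI : Algebra Γ(P, E) (P.presheaf.stalk z) := (P.presheaf.germ E z hz).hom.toAlgebra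
  haveI : IsLocalization.AtPrime (P.presheaf.stalk z) (hE.primeIdealOf ⟨z, hz⟩).asIdeal :=
    hE.isLocalization_stalk ⟨z, hz⟩
  rw [← Groth.Cycles.genPrime_asIdeal h]
  have hc : (genPrime h).asIdeal.comap (algebraMap Γ(P, E) (P.presheaf.stalk z)) =
      (hE.primeIdealOf ⟨ξ, hξ⟩).asIdeal := by
    ext a
    rw [IsAffineOpen.primeIdealOf_eq_map_closedPoint]
    show (P.presheaf.stalkSpecializes h).hom ((P.presheaf.germ E z hz).hom a) ∈ IsLocalRing.maximalIdeal _ ↔
      (P.presheaf.germ E ξ hξ).hom a ∈ IsLocalRing.maximalIdeal _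
    rw [P.presheaf.germ_stalkSpecializes_apply hz h a]
  exact ((IsLocalization.map_comap (hE.primeIdealOf ⟨z, hz⟩).asIdeal.primeCompl _ _).symm.trans
    (congrArg (Ideal.map _) hc))

variable {W : Scheme.{u}} (g : P ⟶ W) {V : W.Opens} (hV : IsAffineOpen V) (eV : E ≤ g ⁻¹ᵁ V)
  {ξ : P} (hξ : ξ ∈ E)

/-- The sections of the closure of `ξ` in the chart. -/
noncomputable abbrev comp : Γ(W, V) →+* Γ(P, E) ⧸ (hE.primeIdealOf ⟨ξ, hξ⟩).asIdeal :=
  (Ideal.Quotient.mk _).comp (g.appLE V E eV).hom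

include hV in
theorem finite_comp [IsProper g] (hcl : ∀ z, ξ ⤳ z → g z ∈ V → z ∈ E) : (comp hE g eV hξ).Finite := by
  set p := (hE.primeIdealOf ⟨ξ, hξ⟩).asIdeal
  let mp : CommRingCat.of Γ(P, E) ⟶ CommRingCat.of (Γ(P, E) ⧸ p) := CommRingCat.ofHom (Ideal.Quotient.mk p)
  let m : Spec (CommRingCat.of (Γ(P, E) ⧸ p)) ⟶ P := Spec.map mp ≫ hE.fromSpec
  haveI : IsClosedImmersion (Spec.map mp) := IsClosedImmersion.spec_of_surjective mp Ideal.Quotient.mk_surjective
  have hr : Set.range m.base = {z | ξ ⤳ z} ∩ (g ⁻¹ᵁ V : Set P) := by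
    ext z
    constructor
    · rintro ⟨n, rfl⟩
      have hz : m n ∈ E := hE.range_fromSpec.le ⟨Spec.map mp n, rfl⟩
      refine ⟨?_, eV hz⟩
      show ξ ⤳ m n
      rw [specializes_iff hE hξ hz]
      have : hE.primeIdealOf ⟨m n, hz⟩ = Spec.map mp n := primeIdealOf_fromSpec hE _ hz
      rw [this]
      intro a ha
      show Ideal.Quotient.mk p a ∈ n.asIdeal
      rw [Ideal.Quotient.eq_zero_iff_mem.mpr ha]
      exact zero_mem _
    · rintro ⟨hs, hzV⟩
      have hz : z ∈ E := hcl z hs hzV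
      have hle := (specializes_iff hE hξ hz).mp hs
      obtain ⟨n, hn⟩ : hE.primeIdealOf ⟨z, hz⟩ ∈ Set.range (Spec.map mp) := by
        show _ ∈ Set.range (PrimeSpectrum.comap (Ideal.Quotient.mk p))
        rw [range_comap_of_surjective _ _ Ideal.Quotient.mk_surjective]
        rw [Ideal.mk_ker, PrimeSpectrum.mem_zeroLocus]
        exact hle
      refine ⟨n, ?_⟩
      show hE.fromSpec (Spec.map mp n) = z
      rw [hn, hE.fromSpec_primeIdealOf]
  have hsub : Set.range m.base ⊆ Set.range (g ⁻¹ᵁ V).ι.base := by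
    rw [hr, Scheme.Opens.range_ι]
    exact Set.inter_subset_right
  let j := IsOpenImmersion.lift (g ⁻¹ᵁ V).ι m hsub
  have hj : j ≫ (g ⁻¹ᵁ V).ι = m := IsOpenImmersion.lift_fac _ _ _
  haveI : IsPreimmersion (j ≫ (g ⁻¹ᵁ V).ι) := by rw [hj]; infer_instance
  haveI : IsPreimmersion j := IsPreimmersion.of_comp j (g ⁻¹ᵁ V).ι
  haveI : IsClosedImmersion j := IsClosedImmersion.of_isPreimmersion j (by
    have e : Set.range j.base = (g ⁻¹ᵁ V).ι.base ⁻¹' {z | ξ ⤳ z} := by
      ext y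
      constructor
      · rintro ⟨n, rfl⟩
        show ξ ⤳ (g ⁻¹ᵁ V).ι (j n)
        rw [← Scheme.Hom.comp_apply, hj]
        exact ((hr.le ⟨n, rfl⟩ : _)).1
      · intro hy
        obtain ⟨n, hn⟩ := hr.ge ⟨hy, (y : (g ⁻¹ᵁ V : Set P)).2⟩
        refine ⟨n, (g ⁻¹ᵁ V).ι.isOpenEmbedding.injective ?_⟩
        rw [← Scheme.Hom.comp_apply, hj]
        exact hn
    rw [e]
    have : {z : P | ξ ⤳ z} = closure {ξ} := by
      ext z; exact specializes_iff_mem_closure
    rw [this]
    exact isClosed_closure.preimage (g ⁻¹ᵁ V).ι.continuous)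
  let φ : Γ(W, V) ⟶ CommRingCat.of (Γ(P, E) ⧸ p) := CommRingCat.ofHom (comp hE g eV hξ)
  have hfac : j ≫ (g ∣_ V) = Spec.map φ ≫ hV.isoSpec.inv := by
    rw [← cancel_mono V.ι, Category.assoc, Category.assoc, morphismRestrict_ι, reassoc_of% hj,
      IsAffineOpen.isoSpec_inv_ι]
    show (Spec.map mp ≫ hE.fromSpec) ≫ g = _
    rw [Category.assoc, ← IsAffineOpen.SpecMap_appLE_fromSpec g hV hE eV, ← Spec.map_comp_assoc]
    rfl
  haveI : IsProper (g ∣_ V) := IsZariskiLocalAtTarget.restrict ‹IsProper g› V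
  haveI : IsProper (Spec.map φ ≫ hV.isoSpec.inv) := hfac ▸ inferInstance
  haveI : IsProper (Spec.map φ) := by
    have : IsProper ((Spec.map φ ≫ hV.isoSpec.inv) ≫ hV.isoSpec.hom) := inferInstance
    simpa using this
  haveI : IsFinite (Spec.map φ) := (IsFinite.iff_isProper_and_isAffineHom).mpr ⟨inferInstance, inferInstance⟩
  exact (IsFinite.SpecMap_iff φ).mp (inferInstance : IsFinite (Spec.map φ))

include hV in
theorem flat_comp (hflat : ∀ (z : P) (_ : z ∈ E) (h : ξ ⤳ z),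
    ((Ideal.Quotient.mk (RingHom.ker (Cyc.specMap z ξ h))).comp (g.stalkMap z).hom).Flat) :
    (comp hE g eV hξ).Flat := by
  set p := (hE.primeIdealOf ⟨ξ, hξ⟩).asIdeal
  letI : Algebra Γ(W, V) (Γ(P, E) ⧸ p) := (comp hE g eV hξ).toAlgebra
  show Module.Flat Γ(W, V) (Γ(P, E) ⧸ p)
  refine Module.flat_of_isLocalized_maximal (R := Γ(W, V)) (S := Γ(P, E) ⧸ p) (M := Γ(P, E) ⧸ p)
    (fun Q _ => Localization.AtPrime Q) (fun Q _ => Algebra.linearMap _ _) fun Q _ => ?_
  let n : PrimeSpectrum Γ(P, E) := ⟨Q.comap (Ideal.Quotient.mk p), inferInstance⟩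
  let z := hE.fromSpec n
  have hz : z ∈ E := hE.range_fromSpec.le ⟨n, rfl⟩
  have hn : hE.primeIdealOf ⟨z, hz⟩ = n := primeIdealOf_fromSpec hE _ hz
  have hs : ξ ⤳ z := by
    rw [specializes_iff hE hξ hz, hn]
    intro a ha
    show Ideal.Quotient.mk p a ∈ Q
    rw [Ideal.Quotient.eq_zero_iff_mem.mpr ha]
    exact zero_mem _
  letI : Algebra Γ(P, E) (P.presheaf.stalk z) := (P.presheaf.germ E z hz).hom.toAlgebra
  haveI : IsLocalization.AtPrime (P.presheaf.stalk z) (Q.comap (Ideal.Quotient.mk p)) := by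
    have := hE.isLocalization_stalk ⟨z, hz⟩
    rw [hn] at this
    exact this
  obtain ⟨f, hf, hker, hfr⟩ := exists_localization_surj (Ideal.Quotient.mk p) Ideal.Quotient.mk_surjective Q
    (P.presheaf.stalk z)
  rw [Ideal.mk_ker] at hker
  have hk : RingHom.ker (Cyc.specMap z ξ hs) = RingHom.ker f := (ker_specMap hE hξ hz hs).trans hker.symm
  let e : Cyc.LocQuot z ξ hs ≃+* Localization.AtPrime Q :=
    (Ideal.quotEquivOfEq hk).trans (RingHom.quotientKerEquivOfSurjective hf)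
  let ψ₁ : Γ(W, V) →+* Cyc.LocQuot z ξ hs :=
    ((Ideal.Quotient.mk (RingHom.ker (Cyc.specMap z ξ hs))).comp (g.stalkMap z).hom).comp
      (W.presheaf.germ V (g z) (eV hz)).hom
  have hψ₁ : ψ₁.Flat := by
    refine RingHom.Flat.comp ?_ (hflat z hz hs)
    letI : Algebra Γ(W, V) (W.presheaf.stalk (g z)) := (W.presheaf.germ V (g z) (eV hz)).hom.toAlgebra
    haveI : IsLocalization.AtPrime (W.presheaf.stalk (g z)) (hV.primeIdealOf ⟨g z, eV hz⟩).asIdeal :=
      hV.isLocalization_stalk ⟨g z, eV hz⟩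
    exact IsLocalization.flat (W.presheaf.stalk (g z)) (hV.primeIdealOf ⟨g z, eV hz⟩).asIdeal.primeCompl
  letI : Algebra Γ(W, V) (Cyc.LocQuot z ξ hs) := ψ₁.toAlgebra
  haveI : Module.Flat Γ(W, V) (Cyc.LocQuot z ξ hs) := hψ₁
  refine Module.Flat.of_linearEquiv (AlgEquiv.ofRingEquiv (f := e) fun a => ?_).toLinearEquiv.symm
  rw [IsScalarTower.algebraMap_apply Γ(W, V) (Γ(P, E) ⧸ p) (Localization.AtPrime Q)]
  show f ((g.stalkMap z).hom ((W.presheaf.germ V (g z) (eV hz)).hom a)) =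
    algebraMap _ (Localization.AtPrime Q) (Ideal.Quotient.mk p (g.appLE V E eV a))
  rw [← hfr]
  congr 1
  show (W.presheaf.germ V (g z) (eV hz) ≫ g.stalkMap z) a = (g.appLE V E eV ≫ P.presheaf.germ E z hz) a
  rw [Scheme.Hom.germ_stalkMap, Scheme.Hom.appLE, Category.assoc, TopCat.Presheaf.germ_res]

include hV in
/-- The multiplicity of the fibre is a local dimension. -/
theorem fibreMult_eq {k : Type u} [Field k] [IsAlgClosed k] {Q : Type u} [CommRing Q] [Algebra k Q] [Module.Finite k Q]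
    (π : Γ(P, E) →+* Q) (hπ : Function.Surjective π) (z : P) (hz : z ∈ E) (h : ξ ⤳ z)
    (hker : RingHom.ker π = (hE.primeIdealOf ⟨ξ, hξ⟩).asIdeal ⊔
      (hV.primeIdealOf ⟨g z, eV hz⟩).asIdeal.map (g.appLE V E eV).hom)
    (q : Ideal Q) [q.IsPrime] (hq : q.comap π = (hE.primeIdealOf ⟨z, hz⟩).asIdeal) :
    AlgEqCyc.fibreMult g z ξ h = Module.finrank k (Localization.AtPrime q) := by
  letI : Algebra Γ(P, E) (P.presheaf.stalk z) := (P.presheaf.germ E z hz).hom.toAlgebra
  haveI : IsLocalization.AtPrime (P.presheaf.stalk z) (q.comap π) := by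
    have key : (q.comap π).primeCompl = (hE.primeIdealOf ⟨z, hz⟩).asIdeal.primeCompl :=
      Submonoid.ext fun x => by rw [Ideal.mem_primeCompl_iff, Ideal.mem_primeCompl_iff, hq]
    show IsLocalization _ _
    rw [key]
    exact hE.isLocalization_stalk ⟨z, hz⟩
  obtain ⟨f, hf, hfk, -⟩ := exists_localization_surj π hπ q (P.presheaf.stalk z)
  letI : Algebra Γ(W, V) (W.presheaf.stalk (g z)) := (W.presheaf.germ V (g z) (eV hz)).hom.toAlgebra
  haveI : IsLocalization.AtPrime (W.presheaf.stalk (g z)) (hV.primeIdealOf ⟨g z, eV hz⟩).asIdeal :=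
    hV.isLocalization_stalk ⟨g z, eV hz⟩
  have hmax : (IsLocalRing.maximalIdeal (W.presheaf.stalk (g z))).map (g.stalkMap z).hom =
      ((hV.primeIdealOf ⟨g z, eV hz⟩).asIdeal.map (g.appLE V E eV).hom).map (algebraMap Γ(P, E) (P.presheaf.stalk z)) := by
    rw [← IsLocalization.AtPrime.map_eq_maximalIdeal (hV.primeIdealOf ⟨g z, eV hz⟩).asIdeal (W.presheaf.stalk (g z)),
      Ideal.map_map, Ideal.map_map]
    congr 1
    show (W.presheaf.germ V (g z) (eV hz) ≫ g.stalkMap z).hom = (g.appLE V E eV ≫ P.presheaf.germ E z hz).hom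
    rw [Scheme.Hom.germ_stalkMap, Scheme.Hom.appLE, Category.assoc, TopCat.Presheaf.germ_res]
  set J := (IsLocalRing.maximalIdeal (W.presheaf.stalk (g z))).map
    ((Ideal.Quotient.mk (RingHom.ker (Cyc.specMap z ξ h))).comp (g.stalkMap z).hom) with hJ
  let π₁ : P.presheaf.stalk z →ₗ[P.presheaf.stalk z] (Cyc.LocQuot z ξ h ⧸ J) :=
    Algebra.linearMap (P.presheaf.stalk z) (Cyc.LocQuot z ξ h ⧸ J)
  have hπ₁ : Function.Surjective π₁ := Ideal.Quotient.mk_surjective.comp Ideal.Quotient.mk_surjective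
  letI : Algebra (P.presheaf.stalk z) (Localization.AtPrime q) := f.toAlgebra
  let π₂ : P.presheaf.stalk z →ₗ[P.presheaf.stalk z] Localization.AtPrime q :=
    Algebra.linearMap (P.presheaf.stalk z) (Localization.AtPrime q)
  have hsame : LinearMap.ker π₁ = LinearMap.ker π₂ := by
    ext a
    have e1 : a ∈ LinearMap.ker π₁ ↔ a ∈ RingHom.ker (Cyc.specMap z ξ h) ⊔
        (IsLocalRing.maximalIdeal (W.presheaf.stalk (g z))).map (g.stalkMap z).hom := by
      rw [LinearMap.mem_ker]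
      show Ideal.Quotient.mk J (Ideal.Quotient.mk _ a) = 0 ↔ _
      rw [Ideal.Quotient.eq_zero_iff_mem, hJ, ← Ideal.map_map, ← Ideal.mem_comap,
        Ideal.comap_map_of_surjective' _ Ideal.Quotient.mk_surjective, Ideal.mk_ker, sup_comm]
    rw [e1, hmax, ker_specMap hE hξ hz h]
    show a ∈ Ideal.map (algebraMap Γ(P, E) (P.presheaf.stalk z)) _ ⊔ _ ↔ f a = 0
    rw [← Ideal.map_sup, ← hker, ← hfk, RingHom.mem_ker]
  have hl : Module.length (P.presheaf.stalk z) (Cyc.LocQuot z ξ h ⧸ J) =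
      Module.length (P.presheaf.stalk z) (Localization.AtPrime q) :=
    (((LinearMap.quotKerEquivOfSurjective π₁ hπ₁).symm.trans (Submodule.quotEquivOfEq _ _ hsame)).trans
      (LinearMap.quotKerEquivOfSurjective π₂ hf)).length_eq
  have : IsArtinianRing Q := IsArtinianRing.of_finite k Q
  haveI : Module.Finite k (Localization.AtPrime q) :=
    Module.Finite.of_surjective (Algebra.algHom k Q (Localization.AtPrime q)).toLinearMap
      (IsArtinianRing.localization_surjective q.primeCompl _)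
  unfold AlgEqCyc.fibreMult
  rw [← hJ, hl, Module.length_eq_of_surjective (R := Localization.AtPrime q) (S := P.presheaf.stalk z)
    (M := Localization.AtPrime q) hf, NormPoints.length_eq_finrank (k := k) (Localization.AtPrime q)]
  exact ENat.toNat_natCast _

end Groth.Cycles.CorrChart
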