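import Groth.Agent.Cycles.CorrGraph

/-!
Constant components of families over the projective line, and the cycles of the fibres.
-/

set_option autoImplicit false
set_option backward.isDefEq.respectTransparency false
set_option linter.style.haveILetI false
set_option linter.unusedSectionVars false

universe u

open CategoryTheory CategoryTheory.Limits AlgebraicGeometry
open Groth.CycInter.P1C Groth.Cycles.CorrP1 Groth.Cycles.CorrFibreDiv Groth.Cycles.CorrGraph

namespace Groth.Cycles.CorrConst

/-- The image of a section has fibre multiplicity one. -/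
theorem fibreMult_section {P W : Scheme.{u}} [IsIntegral W] (g : P ⟶ W) (s : W ⟶ P) [IsPreimmersion s]
    (hs : s ≫ g = 𝟙 W) (c : W) {z ξ : P} (h : ξ ⤳ z) (hz : z = s c) (hξ : ξ = s (genericPoint W)) :
    AlgEqCyc.fibreMult g z ξ h = 1 := by
  subst hz hξ
  haveI : IsIso (s ≫ g) := hs ▸ inferInstance
  set R := P.presheaf.stalk (s c)
  let ψ := (s.stalkMap c).hom
  let γ := (g.stalkMap (s c)).hom
  have hψ : Function.Surjective ψ := s.stalkMap_surjective c
  have hbij : Function.Bijective ((s ≫ g).stalkMap c).hom := ConcreteCategory.bijective_of_isIso _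
  have hcomp : ∀ b, ψ (γ b) = ((s ≫ g).stalkMap c).hom b := fun b => by
    rw [Scheme.Hom.stalkMap_comp]; rfl
  have hker : ∀ a, Cyc.specMap (s c) (s (genericPoint W)) h a = 0 ↔ ψ a = 0 := by
    intro a
    show P.residue _ (P.presheaf.stalkSpecializes h a) = 0 ↔ _
    have key : (s.stalkMap (genericPoint W)).hom (P.presheaf.stalkSpecializes h a) =
        W.presheaf.stalkSpecializes (genericPoint_specializes c) (ψ a) := by
      rw [← CommRingCat.comp_apply, Scheme.Hom.stalkSpecializes_stalkMap s _ _ (genericPoint_specializes c)]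
      rfl
    refine (IsLocalRing.residue_eq_zero_iff _).trans ?_
    rw [IsLocalRing.mem_maximalIdeal, mem_nonunits_iff, ← isUnit_map_iff (s.stalkMap (genericPoint W)).hom, key]
    refine Iff.trans (?_ : _ ↔ W.presheaf.stalkSpecializes (genericPoint_specializes c) (ψ a) = 0) ?_
    · generalize W.presheaf.stalkSpecializes (genericPoint_specializes c) (ψ a) = e
      change ¬ IsUnit (e : W.functionField) ↔ _
      rw [isUnit_iff_ne_zero, not_not]
    · exact map_eq_zero_iff _ (IsFractionRing.injective (W.presheaf.stalk c) W.functionField)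
  unfold AlgEqCyc.fibreMult
  set mk := Ideal.Quotient.mk (RingHom.ker (Cyc.specMap (s c) (s (genericPoint W)) h))
  set I := (IsLocalRing.maximalIdeal (W.presheaf.stalk (g (s c)))).map (mk.comp γ)
  let L : R →ₗ[R] Cyc.LocQuot (s c) (s (genericPoint W)) h ⧸ I := LinearMap.toSpanSingleton R _ 1
  have hL : ∀ a, L a = Ideal.Quotient.mk I (mk a) := fun a => by
    show a • (1 : Cyc.LocQuot (s c) (s (genericPoint W)) h ⧸ I) = _
    exact (Algebra.algebraMap_eq_smul_one a).symm.trans rfl
  have hsurj : Function.Surjective L := fun y => by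
    obtain ⟨b, rfl⟩ := Ideal.Quotient.mk_surjective y
    obtain ⟨a, rfl⟩ := Ideal.Quotient.mk_surjective b
    exact ⟨a, hL a⟩
  have hle : ∀ a ∈ IsLocalRing.maximalIdeal R, mk a ∈ I := by
    intro a ha
    obtain ⟨b, hb⟩ := hbij.2 (ψ a)
    have hb' : b ∈ IsLocalRing.maximalIdeal (W.presheaf.stalk (g (s c))) := by
      intro hu
      apply ha
      have h1 := hu.map ((s ≫ g).stalkMap c).hom
      exact (isUnit_map_iff ψ a).mp (Eq.subst (motive := IsUnit) hb h1)
    have he : mk a = mk (γ b) := by
      refine Ideal.Quotient.eq.mpr (RingHom.mem_ker.mpr ((hker _).mpr ?_))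
      rw [map_sub, hcomp, hb, sub_self]
    rw [he]
    exact Ideal.mem_map_of_mem (mk.comp γ) hb'
  have hkerL : LinearMap.ker L = IsLocalRing.maximalIdeal R := by
    refine ((IsLocalRing.maximalIdeal.isMaximal R).eq_of_le ?_ fun a ha => ?_).symm
    · intro htop
      have h1 : (1 : R) ∈ LinearMap.ker L := htop ▸ Submodule.mem_top
      rw [LinearMap.mem_ker, hL, Ideal.Quotient.eq_zero_iff_mem, map_one] at h1
      have hI : I ≤ (IsLocalRing.maximalIdeal R).map mk := by
        rw [Ideal.map_le_iff_le_comap]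
        intro b hb
        exact Ideal.mem_map_of_mem mk (map_nonunit γ b hb)
      obtain ⟨a, ha, ha1⟩ := (Ideal.mem_map_iff_of_surjective mk Ideal.Quotient.mk_surjective).mp (hI h1)
      have h2 : ψ (a - 1) = 0 := (hker _).mp (RingHom.mem_ker.mp (Ideal.Quotient.eq.mp (ha1.trans (map_one mk).symm)))
      rw [map_sub, map_one, sub_eq_zero] at h2
      exact ha ((isUnit_map_iff ψ a).mp (h2.symm ▸ isUnit_one))
    · rw [LinearMap.mem_ker, hL, Ideal.Quotient.eq_zero_iff_mem]
      exact hle a ha
  have e := (L.quotKerEquivOfSurjective hsurj).length_eq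
  rw [hkerL] at e
  haveI : IsSimpleModule R (R ⧸ IsLocalRing.maximalIdeal R) :=
    isSimpleModule_iff_quot_maximal.mpr ⟨_, IsLocalRing.maximalIdeal.isMaximal R, ⟨LinearEquiv.refl _ _⟩⟩
  rw [← e, Module.length_eq_one_iff.mpr inferInstance]
  rfl

variable {k : Type u} [Field k] [IsAlgClosed k] {X : Scheme.{u}} (pX : X ⟶ Spec (CommRingCat.of k)) [IsProper pX]
  {δX : X → ℤ} {δP : ↥(pullback pX (pC k)) → ℤ}

/-- A point of weight zero is closed. -/
theorem isClosed_of_zero {Y : Scheme.{u}} {δ : Y → ℤ} (hd : Cyc.IsDimFun Y δ) (h0 : ∀ y, 0 ≤ δ y) {y : Y}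
    (hy : δ y = 0) : IsClosed ({y} : Set Y) := by
  rw [← closure_eq_iff_isClosed]
  refine Set.Subset.antisymm (fun w hw => ?_) subset_closure
  by_contra hne
  have := (hd y w (specializes_iff_mem_closure.mpr hw) (Ne.symm hne)).1
  have := h0 w
  omega

/-- The constant family at a closed point. -/
theorem exists_const (hX : Cyc.DeltaCompat pX δX fun _ => 0) (hP : Cyc.DeltaCompat (pullback.fst pX (pC k)) δP δX)
    (x : X) (hx : δX x = 0) :
    ∃ ξ : ↥(pullback pX (pC k)), δP ξ = 1 ∧ pullback.snd pX (pC k) ξ = genericPoint (Line k) ∧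
      ∀ (t : Spec (CommRingCat.of k) ⟶ Line k) (ht : t ≫ pC k = 𝟙 _) (y : X),
        fm pX t ht ξ y = open Classical in if y = x then 1 else 0 := by
  classical
  have hsX : Cyc.IsSetup X δX := Groth.Cycles.CorrBase.isSetup_field pX hX
  haveI : IsProper (pC k) := Groth.Variety2.isProper_projSpaceOver_toBase _ _
  set fs := pullback.fst pX (pC k) with hfs
  set pr := pullback.snd pX (pC k) with hpr
  haveI : IsProper fs := MorphismProperty.pullback_fst _ _ inferInstance
  haveI : IsProper pr := MorphismProperty.pullback_snd _ _ inferInstance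
  have hsP : Cyc.IsSetup (pullback pX (pC k)) δP := Groth.CycInter.P1C.isSetup_of_lft hsX fs hP
  have h0X : ∀ y, 0 ≤ δX y := fun y => by
    obtain ⟨n, -, hn⟩ := hX y
    simp only at hn
    omega
  have hxc : IsClosed ({x} : Set X) := isClosed_of_zero hsX.2.2 h0X hx
  let p := pointOfClosedPoint pX x hxc
  have hp : p ≫ pX = 𝟙 _ := pointOfClosedPoint_comp _ _ _
  have hpx : p (IsLocalRing.closedPoint k) = x := pointOfClosedPoint_apply _ _ _ _
  let σ : Line k ⟶ pullback pX (pC k) := pullback.lift (pC k ≫ p) (𝟙 _)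
    (by rw [Category.assoc, hp, Category.comp_id, Category.id_comp])
  have hσ : σ ≫ pr = 𝟙 _ := pullback.lift_snd _ _ _
  haveI : IsClosedImmersion (σ ≫ pr) := hσ ▸ inferInstance
  haveI : IsClosedImmersion σ := IsClosedImmersion.of_comp σ pr
  set η := genericPoint (Line k)
  have hprσ : ∀ c, pr (σ c) = c := fun c => by rw [← Scheme.Hom.comp_apply, hσ]; rfl
  have hfsσ : ∀ c, fs (σ c) = x := fun c => by
    rw [← Scheme.Hom.comp_apply, show σ ≫ fs = pC k ≫ p from pullback.lift_fst _ _ _, Scheme.Hom.comp_apply,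
      Subsingleton.elim (pC k c) (IsLocalRing.closedPoint k), hpx]
  have hsl : ∀ (t : Spec (CommRingCat.of k) ⟶ Line k) (ht : t ≫ pC k = 𝟙 _),
      AlgEqCyc.slice pX (pC k) t ht x = σ (t (IsLocalRing.closedPoint k)) := by
    intro t ht
    have e : p ≫ AlgEqCyc.slice pX (pC k) t ht = t ≫ σ := by
      apply pullback.hom_ext
      · rw [Category.assoc, Category.assoc,
          show AlgEqCyc.slice pX (pC k) t ht ≫ pullback.fst pX (pC k) = 𝟙 X from pullback.lift_fst _ _ _,
          show σ ≫ pullback.fst pX (pC k) = pC k ≫ p from pullback.lift_fst _ _ _, Category.comp_id, ← Category.assoc, ht,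
          Category.id_comp]
      · rw [Category.assoc, Category.assoc,
          show AlgEqCyc.slice pX (pC k) t ht ≫ pullback.snd pX (pC k) = pX ≫ t from pullback.lift_snd _ _ _,
          show σ ≫ pullback.snd pX (pC k) = 𝟙 _ from hσ, Category.comp_id, ← Category.assoc, hp, Category.id_comp]
    conv_lhs => rw [← hpx]
    rw [← Scheme.Hom.comp_apply, e, Scheme.Hom.comp_apply]
  refine ⟨σ η, ?_, hprσ η, fun t ht y => ?_⟩
  · set c₀ := (t0 (k := k)) (IsLocalRing.closedPoint k)
    have hc₀ : IsClosed ({c₀} : Set (Line k)) := isClosed_point t0 (sect_toBase (S k) 0)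
    have hd0 : δP (σ c₀) = 0 := by
      rw [← hsl t0 (sect_toBase (S k) 0), (delta_slice pX hP t0 (sect_toBase (S k) 0) x).1, hx]
    have hne : σ η ≠ σ c₀ := fun e => by
      have e' : η = c₀ := σ.isEmbedding.injective e
      have hd : Dense ({c₀} : Set (Line k)) := e' ▸ dense_iff_closure_eq.mpr (genericPoint_closure (Line k))
      have huniv : ({c₀} : Set (Line k)) = Set.univ := hc₀.closure_eq.symm.trans hd.closure_eq
      have h1 : (tI (k := k)) (IsLocalRing.closedPoint k) ∈ ({c₀} : Set (Line k)) := huniv ▸ Set.mem_univ _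
      exact tI_notMem (h1.symm ▸ (mem_C_or (S k) c₀ 0).resolve_right (CorrRat.sect_pt 0).2)
    have h := (hsP.2.2 (σ η) (σ c₀) ((genericPoint_specializes c₀).map σ.continuous) hne).2 fun w hw hw' => by
      obtain ⟨c, rfl⟩ := hw.mem_closed σ.isClosedEmbedding.isClosed_range ⟨η, rfl⟩
      rcases generic_or_closed c with rfl | hc
      · exact Or.inl rfl
      · refine Or.inr (congrArg σ ?_)
        have hs := σ.isEmbedding.isInducing.specializes_iff.mp hw'
        exact (Set.mem_singleton_iff.mp (hs.mem_closed hc rfl)).symm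
    omega
  · by_cases hy : y = x
    · subst hy
      have hsp : σ η ⤳ AlgEqCyc.slice pX (pC k) t ht y := by
        rw [hsl t ht]; exact (genericPoint_specializes _).map σ.continuous
      rw [if_pos rfl, fm, dif_pos hsp, fibreMult_section pr σ hσ _ hsp (hsl t ht) rfl]
      rfl
    · rw [if_neg hy, fm, dif_neg]
      intro hsp
      obtain ⟨c, hc⟩ := hsp.mem_closed σ.isClosedEmbedding.isClosed_range ⟨η, rfl⟩
      exact hy (by rw [← fst_slice pX t ht y, ← hc]; exact hfsσ c)

/-- Only finitely many points of a component lie over a point of the line. -/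
theorem finite_over (hX : Cyc.DeltaCompat pX δX fun _ => 0) (hP : Cyc.DeltaCompat (pullback.fst pX (pC k)) δP δX)
    (ξ : ↥(pullback pX (pC k))) (hξ : δP ξ = 1) (hη : pullback.snd pX (pC k) ξ = genericPoint (Line k))
    (c : Line k) : (closure {ξ} ∩ pullback.snd pX (pC k) ⁻¹' {c}).Finite := by
  have hsX : Cyc.IsSetup X δX := Groth.Cycles.CorrBase.isSetup_field pX hX
  haveI : IsProper (pC k) := Groth.Variety2.isProper_projSpaceOver_toBase _ _
  haveI : IsProper (pullback.fst pX (pC k)) := MorphismProperty.pullback_fst _ _ inferInstance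
  haveI : IsProper (pullback.snd pX (pC k)) := MorphismProperty.pullback_snd _ _ inferInstance
  have hsP : Cyc.IsSetup (pullback pX (pC k)) δP :=
    Groth.CycInter.P1C.isSetup_of_lft hsX (pullback.fst pX (pC k)) hP
  haveI := hsP.1
  haveI : CompactSpace ↥(pullback pX (pC k)) := QuasiCompact.compactSpace_of_compactSpace (pullback.fst pX (pC k) ≫ pX)
  haveI : IsNoetherian (pullback pX (pC k)) := {}
  have h0 : ∀ z, 0 ≤ δP z := fun z => by have := delta_nonneg pX hX hP z; omega
  have hcl : ∀ z, ξ ⤳ z → z ≠ ξ → IsClosed ({z} : Set ↥(pullback pX (pC k))) := fun z hz hne => by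
    refine isClosed_of_zero hsP.2.2 h0 ?_
    have := (hsP.2.2 ξ z hz hne.symm).1
    have := h0 z
    omega
  rcases generic_or_closed c with rfl | hc
  · refine (Set.finite_singleton ξ).subset ?_
    rintro z ⟨hz, hzc⟩
    by_contra hne
    have hzcl := (pullback.snd pX (pC k)).isClosedMap _ (hcl z (specializes_iff_mem_closure.mpr hz) hne)
    rw [Set.image_singleton, show pullback.snd pX (pC k) z = genericPoint (Line k) from hzc] at hzcl
    have huniv : ({genericPoint (Line k)} : Set (Line k)) = Set.univ :=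
      hzcl.closure_eq.symm.trans (genericPoint_closure (Line k))
    have e0 : (t0 (k := k)) (IsLocalRing.closedPoint k) = genericPoint (Line k) :=
      Set.mem_singleton_iff.mp (huniv.ge (Set.mem_univ _))
    have e1 : (tI (k := k)) (IsLocalRing.closedPoint k) = genericPoint (Line k) :=
      Set.mem_singleton_iff.mp (huniv.ge (Set.mem_univ _))
    exact tI_notMem (e1.trans e0.symm ▸ (mem_C_or (S k) _ 0).resolve_right (CorrRat.sect_pt 0).2)
  · obtain ⟨T, hT, hTc, hTi, hTeq⟩ := TopologicalSpace.NoetherianSpace.exists_finite_set_isClosed_irreducible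
      (isClosed_closure.inter (hc.preimage (pullback.snd pX (pC k)).continuous) :
        IsClosed (closure {ξ} ∩ pullback.snd pX (pC k) ⁻¹' {c}))
    rw [hTeq]
    refine hT.sUnion fun A hA => ?_
    have hg := (hTi A hA).isGenericPoint_genericPoint_closure
    rw [(hTc A hA).closure_eq] at hg
    have hmem : (hTi A hA).genericPoint ∈ closure {ξ} ∩ pullback.snd pX (pC k) ⁻¹' {c} := by
      rw [hTeq]; exact Set.mem_sUnion.mpr ⟨A, hA, hg.mem⟩
    by_cases hne : (hTi A hA).genericPoint = ξ
    · exfalso
      have := hmem.2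
      rw [hne, Set.mem_preimage, hη, Set.mem_singleton_iff] at this
      subst this
      have huniv : ({genericPoint (Line k)} : Set (Line k)) = Set.univ :=
        hc.closure_eq.symm.trans (genericPoint_closure (Line k))
      have e0 : (t0 (k := k)) (IsLocalRing.closedPoint k) = genericPoint (Line k) :=
        Set.mem_singleton_iff.mp (huniv.ge (Set.mem_univ _))
      have e1 : (tI (k := k)) (IsLocalRing.closedPoint k) = genericPoint (Line k) :=
        Set.mem_singleton_iff.mp (huniv.ge (Set.mem_univ _))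
      exact tI_notMem (e1.trans e0.symm ▸ (mem_C_or (S k) _ 0).resolve_right (CorrRat.sect_pt 0).2)
    · rw [← hg.def, (hcl _ (specializes_iff_mem_closure.mpr hmem.1) hne).closure_eq]
      exact Set.finite_singleton _

end Groth.Cycles.CorrConst
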