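import Groth.Agent.Cycles.CorrGeneric
import Groth.Agent.CycInter.PullDiagonal

/-!
Every morphism to a symmetric product is induced by an effective correspondence, finite over the source.
-/

set_option autoImplicit false
set_option backward.isDefEq.respectTransparency false
set_option linter.style.haveILetI false

universe u

open CategoryTheory CategoryTheory.Limits AlgebraicGeometry

namespace Groth.Cycles.CorrInduce

variable {k : Type u} [Field k] {X W Sy : Scheme.{u}} {pX : X ⟶ Spec (CommRingCat.of k)}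
  {pW : W ⟶ Spec (CommRingCat.of k)} {d : ℕ} {q : SymProd.fibPow pX d ⟶ Sy}

/-- The degree of the cycle of a point of the symmetric product. -/
theorem finsum_of_isCycle {y : Spec (CommRingCat.of k) ⟶ Sy} {α : X → ℤ}
    (h : ZCorr.IsCycleOfSymPt pX d q y α) : ∑ᶠ x, α x = (d : ℤ) := by
  classical
  obtain ⟨t, -, ht⟩ := h
  rw [finsum_congr ht]
  let φ := fun i : Fin d => (t ≫ WidePullback.π (fun _ => pX) i) (IsLocalRing.closedPoint k)
  rw [finsum_eq_sum_of_support_subset (s := Finset.univ.image φ)]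
  · rw [← Nat.cast_sum]
    norm_cast
    simp only [Nat.card_eq_fintype_card, Fintype.card_subtype]
    rw [← Finset.card_eq_sum_card_image φ Finset.univ, Finset.card_univ, Fintype.card_fin]
  · intro x hx
    rw [Function.mem_support, Nat.cast_ne_zero, Nat.card_ne_zero] at hx
    obtain ⟨⟨j, hj⟩⟩ := hx.1
    exact Finset.mem_coe.mpr (Finset.mem_image.mpr ⟨j, Finset.mem_univ _, hj⟩)

/-- The correspondence of a morphism to the symmetric product. -/
theorem exists_inducing [IsAlgClosed k] [CharZero k] [IsProper pX] [LocallyOfFiniteType pW] [IsIntegral W]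
    (hAF : ∀ T : Finset X, ∃ U : X.Opens, IsAffineOpen U ∧ ∀ x ∈ T, x ∈ U) {g : Sy ⟶ Spec (CommRingCat.of k)}
    (hS : SymProd.IsSymProd pX d q g) (F : W ⟶ Sy) (hF : F ≫ g = pW) (n : ℕ) (hdim : topologicalKrullDim W = n)
    (δ : ↥(pullback pX pW) → ℤ) (hδ : Cyc.DeltaCompat (pullback.fst pX pW ≫ pX) δ (fun _ => 0)) :
    ∃ Γc : AlgebraicCycle (pullback pX pW) ℤ, Γc ∈ Cyc.Zk (pullback pX pW) δ n ∧ (∀ ξ, 0 ≤ Γc ξ) ∧
      (∀ ξ, Γc ξ ≠ 0 → ∀ w : W, (closure {ξ} ∩ pullback.snd pX pW ⁻¹' {w}).Finite) ∧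
      ∀ (u : Spec (CommRingCat.of k) ⟶ W) (hu : u ≫ pW = 𝟙 _),
        (∀ ξ, Γc ξ ≠ 0 → ∀ (z : ↥(pullback pX pW)) (h : ξ ⤳ z),
          pullback.snd pX pW z = u (IsLocalRing.closedPoint k) →
            ((Ideal.Quotient.mk (RingHom.ker (Cyc.specMap z ξ h))).comp ((pullback.snd pX pW).stalkMap z).hom).Flat) →
        ZCorr.IsCycleOfSymPt pX d q (u ≫ F) (AlgEqCyc.fibreFun pX pW Γc u hu) := by
  classical
  obtain ⟨Γc, hΓ0, hgen, hfin, V1, hηV, hV1⟩ := CorrGeneric.exists_cycle pX pW hAF hS F hF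
  refine ⟨Γc, fun ξ hξ => ?_, hΓ0, hfin, fun u hu hflat => ?_⟩
  · by_contra hne
    apply hξ
    obtain ⟨m, hm, hδm⟩ := hδ ξ
    obtain ⟨hη, halg⟩ := hgen ξ hne
    obtain ⟨a, ha, ha'⟩ := Groth.Variety2.Dim.exists_trdegAt_eq_height pW (genericPoint W)
    have h1 : Groth.Variety2.Dim.relTrdeg (pullback.fst pX pW ≫ pX) ξ = (m : Cardinal.{u}) := hm
    rw [CycInter.relTrdeg_eq_trdegAt, Groth.Variety2.Dim.trdegAt_eq_add (pullback.fst pX pW ≫ pX) pW
      (pullback.snd pX pW) pullback.condition.symm ξ, hη, ha] at h1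
    have h2 : Groth.Variety2.Dim.relTrdeg (pullback.snd pX pW) ξ = 0 := by
      letI := ((pullback.snd pX pW).residueFieldMap ξ).hom.toAlgebra
      haveI := halg
      exact trdeg_eq_zero
    rw [h2, add_zero, Nat.cast_inj] at h1
    rw [Groth.Variety2.Dim.dim_eq_height_genericPoint, ha'] at hdim
    have h3 : a = n := by exact_mod_cast hdim
    rw [hδm, zero_add, ← h1, h3]
  haveI : IsImmersion (u ≫ pW) := hu ▸ inferInstance
  haveI : IsImmersion u := IsImmersion.of_comp u pW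
  haveI : JacobsonSpace W := LocallyOfFiniteType.jacobsonSpace pW
  set w := u (IsLocalRing.closedPoint k) with hwdef
  have hw : IsClosed ({w} : Set W) := by
    apply isClosed_singleton_of_isLocallyClosed_singleton
    have h := u.isLocallyClosed_range
    rwa [show Set.range u = {w} from Set.eq_singleton_iff_unique_mem.mpr
      ⟨⟨_, rfl⟩, by rintro _ ⟨y, rfl⟩; rw [Subsingleton.elim y (IsLocalRing.closedPoint k)]⟩] at h
  have hdeg : ∀ N : W.Opens, w ∈ N → ∃ (t : Spec (CommRingCat.of k) ⟶ W) (ht : t ≫ pW = 𝟙 _),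
      t (IsLocalRing.closedPoint k) ∈ N ∧ ∑ᶠ x, AlgEqCyc.fibreFun pX pW Γc t ht x = (d : ℤ) := by
    intro N hN
    obtain ⟨c, ⟨hcN, hcV⟩, hc⟩ := nonempty_inter_closedPoints (X := W) (Z := (N : Set W) ∩ V1)
      ⟨genericPoint W, (genericPoint_specializes w).mem_open N.2 hN, hηV⟩ (N.2.inter V1.2).isLocallyClosed
    refine ⟨pointOfClosedPoint pW c (mem_closedPoints_iff.mp hc), pointOfClosedPoint_comp _ _ _, ?_,
      finsum_of_isCycle (hV1 _ _ ?_)⟩
    · rw [pointOfClosedPoint_apply]; exact hcN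
    · rw [pointOfClosedPoint_apply]; exact hcV
  obtain ⟨T, ι, hι, FT, hwι, hFTg, hFT⟩ :=
    CorrMap.exists_local_at pX pW hAF hS Γc hΓ0 hfin w hw hflat hdeg
  haveI := hι
  haveI : IsSeparated (q ≫ g) := by
    rw [hS.over]
    exact CorrGlue.base_mem @IsSeparated pX inferInstance d
  haveI : IsSeparated g := Groth.Pi1Quot.isSeparated_of_comp hS.isQuot g
  haveI : LocallyOfFiniteType (q ≫ g) := by
    rw [hS.over]
    exact CorrGlue.base_mem @LocallyOfFiniteType pX inferInstance d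
  haveI : LocallyOfFiniteType g := Groth.Pi1Quot.locallyOfFiniteType_quot hS.isQuot g
  obtain ⟨z₀, hz₀⟩ := hwι
  haveI : Nonempty T := ⟨z₀⟩
  haveI : IsIntegral T := isIntegral_of_isOpenImmersion ι
  have hstr : FT ≫ g = (ι ≫ F) ≫ g := by rw [Category.assoc, hF, hFTg]
  have cong : ∀ (t t' : Spec (CommRingCat.of k) ⟶ W) (ht : t ≫ pW = 𝟙 _) (ht' : t' ≫ pW = 𝟙 _), t = t' →
      AlgEqCyc.fibreFun pX pW Γc t ht = AlgEqCyc.fibreFun pX pW Γc t' ht' := by
    rintro t _ ht ht' rfl; rfl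
  have heq : FT = ι ≫ F := by
    haveI : LocallyOfFiniteType (FT ≫ g) := by rw [hFTg]; infer_instance
    have hne : (ι ⁻¹ᵁ V1 : Set T).Nonempty := by
      obtain ⟨z, hz⟩ := (genericPoint_specializes (ι z₀)).mem_open ι.opensRange.2 ⟨z₀, rfl⟩
      exact ⟨z, show ι z ∈ V1 from hz.symm ▸ hηV⟩
    refine ext_of_apply_eq (K := k) g (ι ⁻¹ᵁ V1 : Set T) (ι ⁻¹ᵁ V1).2.isLocallyClosed
      ((ι ⁻¹ᵁ V1).2.dense hne) (fun y hyV hy => ?_) hstr
    let v := pointOfClosedPoint (FT ≫ g) y hy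
    have hv : (v ≫ ι) ≫ pW = 𝟙 _ := by
      rw [Category.assoc, ← hFTg]
      exact pointOfClosedPoint_comp _ _ _
    have hvy : v (IsLocalRing.closedPoint k) = y := pointOfClosedPoint_apply _ _ _ _
    have h1 := hFT v hv
    have h2 := hV1 (v ≫ ι) hv (by rw [Scheme.Hom.comp_apply, hvy]; exact hyV)
    have key := CorrGlue.eq_of_isCycle hS (y := v ≫ FT) (y' := (v ≫ ι) ≫ F)
      (by rw [Category.assoc]; exact pointOfClosedPoint_comp _ _ _)
      (by rw [Category.assoc, hF]; exact hv) h1 h2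
    have hk := congrArg (fun f : Spec (CommRingCat.of k) ⟶ Sy => f (IsLocalRing.closedPoint k)) key
    simpa [Scheme.Hom.comp_apply, hvy] using hk
  have hr : Set.range u ⊆ Set.range ι := by
    rintro _ ⟨y, rfl⟩
    rw [Subsingleton.elim y (IsLocalRing.closedPoint k)]
    exact ⟨z₀, hz₀⟩
  obtain ⟨u₁, rfl⟩ : ∃ u₁, u₁ ≫ ι = u := ⟨_, IsOpenImmersion.lift_fac ι u hr⟩
  have h := hFT u₁ hu
  rw [heq, ← Category.assoc] at h
  exact h

end Groth.Cycles.CorrInduce
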