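import Groth.Agent.Cycles.CorrConst
import Groth.Agent.Cycles.CorrInduce

/-!
Rational equivalence of effective zero-cycles by lines in symmetric products.
-/

set_option autoImplicit false
set_option backward.isDefEq.respectTransparency false
set_option linter.style.haveILetI false
set_option linter.unusedSectionVars false

universe u

open CategoryTheory CategoryTheory.Limits AlgebraicGeometry
open Groth.CycInter.P1C Groth.Cycles.CorrP1 Groth.Cycles.CorrFibreDiv Groth.Cycles.CorrGraph Groth.Cycles.CorrConst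

namespace Groth.Cycles.CorrEff

variable {k : Type u} [Field k] [IsAlgClosed k] {X : Scheme.{u}} (pX : X ⟶ Spec (CommRingCat.of k)) [IsProper pX]
  {δX : X → ℤ} {δP : ↥(pullback pX (pC k)) → ℤ}

/-- A finite family of components as a cycle. -/
theorem exists_family_cycle {J : Type u} [Fintype J] (pt : J → ↥(pullback pX (pC k))) (m : J → ℤ) :
    ∃ Γc : AlgebraicCycle (pullback pX (pC k)) ℤ, (∀ ξ, Γc ξ ≠ 0 → ∃ j, pt j = ξ) ∧
      ((∀ j, 0 ≤ m j) → ∀ ξ, 0 ≤ Γc ξ) ∧ (Function.support ⇑Γc).Finite ∧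
      ∀ (t : Spec (CommRingCat.of k) ⟶ Line k) (ht : t ≫ pC k = 𝟙 _) (x : X),
        AlgEqCyc.fibreFun pX (pC k) Γc t ht x = ∑ j, m j * fm pX t ht (pt j) x := by
  classical
  let F := fun ξ => ∑ j ∈ Finset.univ.filter (fun j => pt j = ξ), m j
  have hF : ∀ ξ, F ξ ≠ 0 → ∃ j, pt j = ξ := fun ξ h => by
    obtain ⟨j, hj, -⟩ := Finset.exists_ne_zero_of_sum_ne_zero h
    exact ⟨j, (Finset.mem_filter.mp hj).2⟩
  have hsupp : (Function.support F).Finite := (Set.finite_range pt).subset fun ξ h => hF ξ h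
  let Γc : AlgebraicCycle (pullback pX (pC k)) ℤ :=
    ⟨F, fun _ _ => trivial, fun z _ => ⟨Set.univ, Filter.univ_mem, by simpa [Set.univ_inter] using hsupp⟩⟩
  refine ⟨Γc, hF, fun hm ξ => Finset.sum_nonneg fun j _ => hm j, hsupp, fun t ht x => ?_⟩
  rw [CorrRat.fibreFun_eq pX Γc (Finset.univ.image pt)
    (fun ξ h => by obtain ⟨j, rfl⟩ := hF ξ h; exact Finset.mem_image_of_mem _ (Finset.mem_univ j)) t ht x,
    ← Finset.sum_fiberwise_of_maps_to (g := pt) (t := Finset.univ.image pt) (s := Finset.univ)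
      (fun j _ => Finset.mem_image_of_mem _ (Finset.mem_univ j)) (fun j => m j * fm pX t ht (pt j) x)]
  refine Finset.sum_congr rfl fun ξ _ => ?_
  show (∑ j ∈ Finset.univ.filter (fun j => pt j = ξ), m j) * _ = _
  rw [Finset.sum_mul]
  exact Finset.sum_congr rfl fun j hj => by rw [(Finset.mem_filter.mp hj).2]

/-- The member of a family at a point, as a zero-cycle. -/
theorem exists_fibre_cycle (hX : Cyc.DeltaCompat pX δX fun _ => 0) (hP : Cyc.DeltaCompat (pullback.fst pX (pC k)) δP δX)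
    (Γc : AlgebraicCycle (pullback pX (pC k)) ℤ) (hfinΓ : (Function.support ⇑Γc).Finite)
    (hgen : ∀ ξ, Γc ξ ≠ 0 → δP ξ = 1 ∧ pullback.snd pX (pC k) ξ = genericPoint (Line k))
    (t : Spec (CommRingCat.of k) ⟶ Line k) (ht : t ≫ pC k = 𝟙 _) :
    ∃ c : AlgebraicCycle X ℤ, ⇑c = AlgEqCyc.fibreFun pX (pC k) Γc t ht ∧ c ∈ Cyc.Zk X δX 0 ∧
      ((∀ ξ, 0 ≤ Γc ξ) → ∀ x, 0 ≤ c x) := by
  classical
  have hsX : Cyc.IsSetup X δX := Groth.Cycles.CorrBase.isSetup_field pX hX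
  haveI : IsProper (pC k) := Groth.Variety2.isProper_projSpaceOver_toBase _ _
  haveI : IsProper (pullback.fst pX (pC k)) := MorphismProperty.pullback_fst _ _ inferInstance
  have hsP : Cyc.IsSetup (pullback pX (pC k)) δP :=
    Groth.CycInter.P1C.isSetup_of_lft hsX (pullback.fst pX (pC k)) hP
  set sl := AlgEqCyc.slice pX (pC k) t ht with hsl
  set c₀ := t (IsLocalRing.closedPoint k)
  let s := hfinΓ.toFinset
  have hne : ∀ x, AlgEqCyc.fibreFun pX (pC k) Γc t ht x ≠ 0 → ∃ ξ, Γc ξ ≠ 0 ∧ ξ ⤳ sl x := by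
    intro x hx
    rw [CorrRat.fibreFun_eq pX Γc s (fun ξ h => hfinΓ.mem_toFinset.mpr h) t ht x] at hx
    obtain ⟨ξ, hξ, hne⟩ := Finset.exists_ne_zero_of_sum_ne_zero hx
    refine ⟨ξ, hfinΓ.mem_toFinset.mp hξ, ?_⟩
    by_contra hn
    exact right_ne_zero_of_mul hne (by rw [fm, dif_neg hn])
  have hinj : Function.Injective sl := fun x y h => by
    rw [← fst_slice pX t ht x, ← fst_slice pX t ht y, ← hsl, h]
  have hsupp : (Function.support (AlgEqCyc.fibreFun pX (pC k) Γc t ht)).Finite := by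
    refine (((hfinΓ.biUnion fun ξ hξ => finite_over pX hX hP ξ (hgen ξ hξ).1 (hgen ξ hξ).2 c₀)).preimage
      hinj.injOn).subset fun x hx => ?_
    obtain ⟨ξ, hξ, hs⟩ := hne x hx
    exact Set.mem_biUnion (show ξ ∈ Function.support ⇑Γc from hξ) ⟨hs.mem_closure, snd_slice pX t ht x⟩
  refine ⟨⟨AlgEqCyc.fibreFun pX (pC k) Γc t ht, fun _ _ => trivial,
    fun z _ => ⟨Set.univ, Filter.univ_mem, by simpa [Set.univ_inter] using hsupp⟩⟩, rfl, fun x hx => ?_,
    fun h0 x => ?_⟩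
  · by_contra hn
    obtain ⟨ξ, hξ, hs⟩ := hne x hn
    have hneq : ξ ≠ sl x := fun e => by
      have h1 := (hgen ξ hξ).2
      rw [e, snd_slice] at h1
      have hcl := isClosed_point t ht
      rw [h1] at hcl
      have huniv : ({genericPoint (Line k)} : Set (Line k)) = Set.univ :=
        hcl.closure_eq.symm.trans (genericPoint_closure (Line k))
      have e0 : (t0 (k := k)) (IsLocalRing.closedPoint k) = genericPoint (Line k) :=
        Set.mem_singleton_iff.mp (huniv.ge (Set.mem_univ _))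
      have e1 : (tI (k := k)) (IsLocalRing.closedPoint k) = genericPoint (Line k) :=
        Set.mem_singleton_iff.mp (huniv.ge (Set.mem_univ _))
      exact tI_notMem (e1.trans e0.symm ▸ (mem_C_or (S k) _ 0).resolve_right (CorrRat.sect_pt 0).2)
    have h1 := (hsP.2.2 ξ (sl x) hs hneq).1
    rw [(hgen ξ hξ).1, hsl, (delta_slice pX hP t ht x).1] at h1
    have h2 : 0 ≤ δX x := by
      obtain ⟨n, -, hn⟩ := hX x
      simp only at hn
      omega
    omega
  · show 0 ≤ AlgEqCyc.fibreFun pX (pC k) Γc t ht x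
    rw [CorrRat.fibreFun_eq pX Γc s (fun ξ h => hfinΓ.mem_toFinset.mpr h) t ht x]
    refine Finset.sum_nonneg fun ξ _ => mul_nonneg (h0 ξ) ?_
    rw [fm]
    split_ifs <;> simp

include pX in
/-- Finite supports of zero-cycles on a proper scheme. -/
theorem finite_support (c : AlgebraicCycle X ℤ) : (Function.support ⇑c).Finite := by
  haveI : CompactSpace X := QuasiCompact.compactSpace_of_compactSpace pX
  exact (c.locallyFiniteSupport.finite_inter_support_of_isCompact isCompact_univ).subset fun x hx => ⟨trivial, hx⟩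

variable [CharZero k]

include pX in
/-- The sum of the degree is additive. -/
theorem finsum_add (a b : AlgebraicCycle X ℤ) : ∑ᶠ x, (a + b) x = ∑ᶠ x, a x + ∑ᶠ x, b x := by
  rw [← finsum_add_distrib (finite_support pX a) (finite_support pX b)]
  rfl

variable {Sy : ℕ → Scheme.{u}} {q : (n : ℕ) → (SymProd.fibPow pX n ⟶ Sy n)}
  {g : (n : ℕ) → (Sy n ⟶ Spec (CommRingCat.of k))}

/-- Rationally equivalent effective zero-cycles are joined by a line after adding an effective cycle. -/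
theorem exists_line (hAF : ∀ T : Finset X, ∃ U : X.Opens, IsAffineOpen U ∧ ∀ x ∈ T, x ∈ U)
    (hS : ∀ n, SymProd.IsSymProd pX n (q n) (g n))
    (hX : Cyc.DeltaCompat pX δX fun _ => 0) (d : ℕ) (α β : AlgebraicCycle X ℤ)
    (hβ : β ∈ Cyc.Zk X δX 0) (hβ0 : ∀ x, 0 ≤ β x) (hβd : ∑ᶠ x, β x = (d : ℤ))
    (h : Cyc.RatEquiv δX 0 α β) :
    ∃ (m : ℕ) (γ : AlgebraicCycle X ℤ), γ ∈ Cyc.Zk X δX 0 ∧ (∀ x, 0 ≤ γ x) ∧ ∑ᶠ x, γ x = (m : ℤ) ∧
      ∃ (f : Line k ⟶ Sy (d + m)) (t₀ t₁ : Spec (CommRingCat.of k) ⟶ Line k),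
        f ≫ g (d + m) = pC k ∧ t₀ ≫ pC k = 𝟙 _ ∧ t₁ ≫ pC k = 𝟙 _ ∧
        ZCorr.IsCycleOfSymPt pX (d + m) (q (d + m)) (t₀ ≫ f) ⇑(α + γ) ∧
        ZCorr.IsCycleOfSymPt pX (d + m) (q (d + m)) (t₁ ≫ f) ⇑(β + γ) := by
  classical
  have hsX : Cyc.IsSetup X δX := Groth.Cycles.CorrBase.isSetup_field pX hX
  haveI : IsProper (pC k) := Groth.Variety2.isProper_projSpaceOver_toBase _ _
  haveI : IsProper (pullback.fst pX (pC k)) := MorphismProperty.pullback_fst _ _ inferInstance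
  obtain ⟨δP, hP⟩ := Groth.Cycles.CorrBase.exists_deltaCompat (pullback.fst pX (pC k)) δX
  obtain ⟨I, ξ, f, hξ, hf, hlf, hαβ⟩ := h
  haveI : CompactSpace X := QuasiCompact.compactSpace_of_compactSpace pX
  haveI : Finite I := by
    choose U hUo hxU hUfin using hlf
    obtain ⟨s, hs⟩ := (isCompact_univ (X := X)).elim_finite_subcover U hUo fun x _ => Set.mem_iUnion.mpr ⟨x, hxU x⟩
    refine Set.finite_univ_iff.mp ((s.finite_toSet.biUnion fun x _ => hUfin x).subset fun i _ => ?_)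
    obtain ⟨x, hxs, hzx⟩ := Set.mem_iUnion₂.mp (hs (Set.mem_univ (ξ i)))
    exact Set.mem_biUnion hxs ⟨ξ i, subset_closure rfl, hzx⟩
  letI : Fintype I := Fintype.ofFinite I
  have hg : ∀ i, ∃ (ξ' : ↥(pullback pX (pC k))) (e : ℤ), 0 ≤ e ∧ (e ≠ 0 → δP ξ' = 1 ∧
      pullback.snd pX (pC k) ξ' = genericPoint (Line k)) ∧
      ∀ x, e * fm pX t0 (sect_toBase (S k) 0) ξ' x - e * fm pX tI (sect_toBase (S k) (oth 0)) ξ' x =
        Cyc.divFun δX (ξ i) (f i) x := by
    intro i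
    rcases exists_graph pX hX hP (ξ i) (hξ i |>.trans (zero_add 1)) (f i) (hf i) with h0 | ⟨ξ', h1, h2, h3⟩
    · exact ⟨AlgEqCyc.slice pX (pC k) t0 (sect_toBase (S k) 0) (ξ i), 0, le_rfl, fun h => absurd rfl h,
        fun x => by simp [h0 x]⟩
    · exact ⟨ξ', 1, zero_le_one, fun _ => ⟨h1, h2⟩, fun x => by rw [one_mul, one_mul]; exact h3 x⟩
  choose ξ' e he0 hegen heq using hg
  let I' := {i // e i ≠ 0}
  let B := {x // x ∈ (finite_support pX β).toFinset}
  have hBc : ∀ b : B, δX b.1 = 0 := fun b => by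
    by_contra hb
    exact (finite_support pX β).mem_toFinset.mp b.2 (hβ b.1 hb)
  choose σ hσ1 hσ2 hσfm using fun b : B => exists_const pX hX hP b.1 (hBc b)
  obtain ⟨Γ1, hΓ1s, hΓ1n, hΓ1f, hΓ1⟩ := exists_family_cycle pX (fun i : I' => ξ' i.1) (fun i => e i.1)
  obtain ⟨Γ, hΓs, hΓn, hΓf, hΓ⟩ := exists_family_cycle pX (Sum.elim (fun i : I' => ξ' i.1) σ)
    (Sum.elim (fun i => e i.1) (fun b => β b.1))
  have hgen1 : ∀ z, Γ1 z ≠ 0 → δP z = 1 ∧ pullback.snd pX (pC k) z = genericPoint (Line k) := fun z hz => by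
    obtain ⟨i, rfl⟩ := hΓ1s z hz
    exact hegen i.1 i.2
  have hgen : ∀ z, Γ z ≠ 0 → δP z = 1 ∧ pullback.snd pX (pC k) z = genericPoint (Line k) := fun z hz => by
    obtain ⟨j | j, rfl⟩ := hΓs z hz
    · exact hegen j.1 j.2
    · exact ⟨hσ1 j, hσ2 j⟩
  have hnn : ∀ z, 0 ≤ Γ z := hΓn fun j => by
    rcases j with i | b
    · exact he0 i.1
    · exact hβ0 b.1
  obtain ⟨γ, hγ, hγZ, hγ0⟩ := exists_fibre_cycle pX hX hP Γ1 hΓ1f hgen1 tI (sect_toBase (S k) (oth 0))
  replace hγ0 := hγ0 (hΓ1n fun i => he0 i.1)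
  set m := (∑ᶠ x, γ x).toNat with hm
  have hγd : ∑ᶠ x, γ x = (m : ℤ) := (Int.toNat_of_nonneg (finsum_nonneg hγ0)).symm
  have hsum : ∀ (t : Spec (CommRingCat.of k) ⟶ Line k) (ht : t ≫ pC k = 𝟙 _) (x : X),
      AlgEqCyc.fibreFun pX (pC k) Γ t ht x = AlgEqCyc.fibreFun pX (pC k) Γ1 t ht x + β x := by
    intro t ht x
    rw [hΓ, hΓ1, Fintype.sum_sum_type]
    congr 1
    simp only [Sum.elim_inr, hσfm, mul_ite, mul_one, mul_zero]
    by_cases hx : x ∈ (finite_support pX β).toFinset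
    · rw [Finset.sum_eq_single (⟨x, hx⟩ : B) (fun b _ hb => if_neg fun e => hb (Subtype.ext e.symm))
        (fun h => absurd (Finset.mem_univ _) h), if_pos rfl]
    · rw [show β x = 0 from not_not.mp fun h => hx ((finite_support pX β).mem_toFinset.mpr h)]
      exact Finset.sum_eq_zero fun b _ => if_neg fun h => hx (by rw [h]; exact b.2)
  have hI : ∀ (t : Spec (CommRingCat.of k) ⟶ Line k) (ht : t ≫ pC k = 𝟙 _) (x : X),
      AlgEqCyc.fibreFun pX (pC k) Γ1 t ht x = ∑ i, e i * fm pX t ht (ξ' i) x := by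
    intro t ht x
    rw [hΓ1, ← Finset.sum_subtype (Finset.univ.filter fun i => e i ≠ 0) (fun i => by simp)
      (fun i => e i * fm pX t ht (ξ' i) x)]
    exact Finset.sum_filter_of_ne fun i _ h => left_ne_zero_of_mul h
  have hdiff : ∀ x, AlgEqCyc.fibreFun pX (pC k) Γ1 t0 (sect_toBase (S k) 0) x -
      AlgEqCyc.fibreFun pX (pC k) Γ1 tI (sect_toBase (S k) (oth 0)) x = α x - β x := by
    intro x
    rw [hI, hI, ← Finset.sum_sub_distrib, Finset.sum_congr rfl fun i _ => heq i x]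
    have := hαβ x
    rw [Function.locallyFinsuppWithin.coe_sub, Pi.sub_apply, finsum_eq_sum_of_fintype] at this
    exact this.symm
  have h0 : AlgEqCyc.fibreFun pX (pC k) Γ t0 (sect_toBase (S k) 0) = ⇑(α + γ) := funext fun x => by
    rw [hsum, Function.locallyFinsuppWithin.coe_add, Pi.add_apply, hγ]
    linarith [hdiff x]
  have h1 : AlgEqCyc.fibreFun pX (pC k) Γ tI (sect_toBase (S k) (oth 0)) = ⇑(β + γ) := funext fun x => by
    rw [hsum, Function.locallyFinsuppWithin.coe_add, Pi.add_apply, hγ]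
    ring
  have hdeg : ∀ (t : Spec (CommRingCat.of k) ⟶ Line k) (ht : t ≫ pC k = 𝟙 _),
      ∑ᶠ x, AlgEqCyc.fibreFun pX (pC k) Γ t ht x = ((d + m : ℕ) : ℤ) := by
    intro t ht
    obtain ⟨a, ha, haZ, -⟩ := exists_fibre_cycle pX hX hP Γ hΓf hgen t ht
    obtain ⟨b, hb, hbZ, -⟩ := exists_fibre_cycle pX hX hP Γ hΓf hgen tI (sect_toBase (S k) (oth 0))
    have hab := CorrRat.ratEquiv_fibres pX hX hP Γ hΓf hgen t tI ht (sect_toBase (S k) (oth 0)) a b
      (fun x => by rw [ha, hb])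
    rw [← ha, CorrRat.finsum_eq_of_ratEquiv pX hX a b haZ hbZ hab, hb, h1, finsum_add pX β γ, hβd, hγd]
    push_cast; rfl
  obtain ⟨F, hFg, hF⟩ := CorrGlue.exists_morphism (pW := pC k) hAF (hS (d + m)) Γ hnn
    (fun z hz c => finite_over pX hX hP z (hgen z hz).1 (hgen z hz).2 c) ⊤
    (fun z hz w hw _ => CorrRat.flat_locQuot pX z w hw (hgen z hz).2) (fun t ht _ => hdeg t ht)
  have hcyc : ∀ (t : Spec (CommRingCat.of k) ⟶ Line k) (ht : t ≫ pC k = 𝟙 _),
      ZCorr.IsCycleOfSymPt pX (d + m) (q (d + m)) (t ≫ (Line k).topIso.inv ≫ F)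
        (AlgEqCyc.fibreFun pX (pC k) Γ t ht) := by
    intro t ht
    have e : (t ≫ (Line k).topIso.inv) ≫ (⊤ : (Line k).Opens).ι = t := by
      rw [Category.assoc, ← Scheme.topIso_hom, Iso.inv_hom_id, Category.comp_id]
    have cong : ∀ (t' : Spec (CommRingCat.of k) ⟶ Line k) (ht' : t' ≫ pC k = 𝟙 _), t' = t →
        AlgEqCyc.fibreFun pX (pC k) Γ t' ht' = AlgEqCyc.fibreFun pX (pC k) Γ t ht := by
      rintro t' ht' rfl; rfl
    rw [← cong _ (e.symm ▸ ht) e, ← Category.assoc]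
    exact hF _ (e.symm ▸ ht)
  refine ⟨m, γ, hγZ, hγ0, hγd, (Line k).topIso.inv ≫ F, t0, tI, ?_, sect_toBase (S k) 0,
    sect_toBase (S k) (oth 0), h0 ▸ hcyc t0 _, h1 ▸ hcyc tI _⟩
  rw [Category.assoc, hFg, ← Category.assoc, ← Scheme.topIso_hom, Iso.inv_hom_id, Category.id_comp]

/-- Cycles joined by a line in a symmetric product are rationally equivalent. -/
theorem ratEquiv_of_line (hAF : ∀ T : Finset X, ∃ U : X.Opens, IsAffineOpen U ∧ ∀ x ∈ T, x ∈ U)
    (hX : Cyc.DeltaCompat pX δX fun _ => 0) (hdim : topologicalKrullDim (Line k) = (1 : ℕ))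
    {n : ℕ} (hS : SymProd.IsSymProd pX n (q n) (g n)) (α β : AlgebraicCycle X ℤ)
    (f : Line k ⟶ Sy n) (t₀ t₁ : Spec (CommRingCat.of k) ⟶ Line k) (hf : f ≫ g n = pC k)
    (ht₀ : t₀ ≫ pC k = 𝟙 _) (ht₁ : t₁ ≫ pC k = 𝟙 _)
    (h₀ : ZCorr.IsCycleOfSymPt pX n (q n) (t₀ ≫ f) ⇑α) (h₁ : ZCorr.IsCycleOfSymPt pX n (q n) (t₁ ≫ f) ⇑β) :
    Cyc.RatEquiv δX 0 α β := by
  classical
  haveI : IsProper (pC k) := Groth.Variety2.isProper_projSpaceOver_toBase _ _
  haveI : IsProper (pullback.fst pX (pC k)) := MorphismProperty.pullback_fst _ _ inferInstance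
  haveI : IsProper (pullback.snd pX (pC k)) := MorphismProperty.pullback_snd _ _ inferInstance
  obtain ⟨δP, hP⟩ := Groth.Cycles.CorrBase.exists_deltaCompat (pullback.fst pX (pC k)) δX
  have hP' := Groth.Cycles.CorrBase.deltaCompat_comp (pullback.fst pX (pC k)) pX hP hX
  obtain ⟨Γ, hΓZ, hΓ0, hfin, hind⟩ := CorrInduce.exists_inducing (pW := pC k) hAF hS f hf 1 hdim δP hP'
  haveI : CompactSpace ↥(pullback pX (pC k)) :=
    QuasiCompact.compactSpace_of_compactSpace (pullback.fst pX (pC k) ≫ pX)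
  have hΓf : (Function.support ⇑Γ).Finite :=
    (Γ.locallyFiniteSupport.finite_inter_support_of_isCompact isCompact_univ).subset fun x hx => ⟨trivial, hx⟩
  have hgen : ∀ z, Γ z ≠ 0 → δP z = 1 ∧ pullback.snd pX (pC k) z = genericPoint (Line k) := by
    intro z hz
    have hd : δP z = 1 := by
      by_contra hne
      exact hz (hΓZ z (by exact_mod_cast hne))
    refine ⟨hd, (generic_or_closed _).resolve_right fun hc => ?_⟩
    haveI : JacobsonSpace ↥(pullback pX (pC k)) :=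
      LocallyOfFiniteType.jacobsonSpace (pullback.fst pX (pC k) ≫ pX)
    have hsub : closure ({z} : Set ↥(pullback pX (pC k))) ⊆
        pullback.snd pX (pC k) ⁻¹' {pullback.snd pX (pC k) z} :=
      closure_minimal (by simp) (hc.preimage (pullback.snd pX (pC k)).continuous)
    have hCfin : (closure ({z} : Set ↥(pullback pX (pC k)))).Finite :=
      (hfin z hz (pullback.snd pX (pC k) z)).subset fun y hy => ⟨hy, hsub hy⟩
    have hD : IsClosed (closure ({z} : Set ↥(pullback pX (pC k))) ∩ closedPoints ↥(pullback pX (pC k))) := by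
      rw [← Set.biUnion_of_singleton (closure ({z} : Set ↥(pullback pX (pC k))) ∩ closedPoints ↥(pullback pX (pC k)))]
      exact (hCfin.inter_of_left _).isClosed_biUnion fun y hy => hy.2
    have h2 := closure_inter_closedPoints (X := ↥(pullback pX (pC k)))
      (isClosed_closure : IsClosed (closure ({z} : Set ↥(pullback pX (pC k)))))
    rw [hD.closure_eq] at h2
    have hzc : IsClosed ({z} : Set ↥(pullback pX (pC k))) := (h2.ge (subset_closure rfl)).2
    let p := pointOfClosedPoint (pullback.fst pX (pC k) ≫ pX) z hzc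
    haveI : IsPreimmersion (p ≫ pullback.fst pX (pC k) ≫ pX) := by
      rw [pointOfClosedPoint_comp]; infer_instance
    obtain ⟨hd0, -⟩ := delta_eq_of_closedImm_comp (pullback.fst pX (pC k) ≫ pX) hP' p (IsLocalRing.closedPoint k)
    rw [pointOfClosedPoint_apply] at hd0
    exact absurd (hd0.symm.trans hd) zero_ne_one
  have hcyc : ∀ (t : Spec (CommRingCat.of k) ⟶ Line k) (ht : t ≫ pC k = 𝟙 _) (c : AlgebraicCycle X ℤ),
      ZCorr.IsCycleOfSymPt pX n (q n) (t ≫ f) ⇑c → ∀ x, c x = AlgEqCyc.fibreFun pX (pC k) Γ t ht x := by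
    intro t ht c hc x
    obtain ⟨l, hl, hlc⟩ := hc
    obtain ⟨l', hl', hlc'⟩ := hind t ht fun z hz w hw _ => CorrRat.flat_locQuot pX z w hw (hgen z hz).2
    have hq := hS.isQuot
    obtain ⟨σ, hσ⟩ := Groth.Pi1Quot.exists_smul_eq hq (x := l (IsLocalRing.closedPoint k))
      (x' := l' (IsLocalRing.closedPoint k)) (by
        show q n (l _) = q n (l' _)
        rw [← Scheme.Hom.comp_apply, ← Scheme.Hom.comp_apply, hl, hl'])
    rw [hlc x, hlc' x, Nat.cast_inj]
    have hπ : ∀ i, (l' ≫ WidePullback.π (fun _ : Fin n => pX) i) (IsLocalRing.closedPoint k) =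
        (l ≫ WidePullback.π (fun _ : Fin n => pX) (σ.down.symm i)) (IsLocalRing.closedPoint k) := by
      intro i
      rw [Scheme.Hom.comp_apply, Scheme.Hom.comp_apply, ← hσ]
      show WidePullback.π (fun _ : Fin n => pX) i (SymProd.permHom pX n σ.down (l _)) = _
      rw [← Scheme.Hom.comp_apply, SymProd.permHom_π]
    refine (Nat.card_congr (Equiv.subtypeEquiv σ.down.symm (fun i => ?_))).symm
    rw [hπ i]
  refine CorrRat.ratEquiv_fibres pX hX hP Γ hΓf hgen t₀ t₁ ht₀ ht₁ α β fun x => ?_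
  rw [hcyc t₀ ht₀ α h₀ x, hcyc t₁ ht₁ β h₁ x]

end Groth.Cycles.CorrEff
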