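import Groth.Agent.Cycles.CorrAlg
import Groth.Agent.Cycles.CorrChart

/-!
The fibre of a component over a rational point: its points and their multiplicities.
-/

set_option autoImplicit false
set_option backward.isDefEq.respectTransparency false
set_option linter.style.haveILetI false

universe u

open CategoryTheory CategoryTheory.Limits AlgebraicGeometry
open scoped TensorProduct

namespace Groth.Cycles.CorrFibre

lemma ker_one_tmul {A k : Type u} [CommRing A] [CommRing k] [Algebra A k] (hχ : Function.Surjective (algebraMap A k))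
    (B : Type u) [CommRing B] [Algebra A B] :
    RingHom.ker (Algebra.TensorProduct.includeRight : B →ₐ[A] k ⊗[A] B) =
      (RingHom.ker (algebraMap A k)).map (algebraMap A B) := by
  apply le_antisymm
  · intro b hb
    let m := (RingHom.ker (algebraMap A k)).map (algebraMap A B)
    let e : A →ₐ[A] k := Algebra.ofId A k
    have h1 := Algebra.TensorProduct.rTensor_ker (R := A) (S := A) (C := B) e hχ
    have hz : (1 : A) ⊗ₜ[A] b ∈ RingHom.ker (Algebra.TensorProduct.map e (AlgHom.id A B)) := by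
      rw [RingHom.mem_ker, Algebra.TensorProduct.map_tmul, map_one]
      exact hb
    rw [h1] at hz
    have hle : Ideal.map (Algebra.TensorProduct.includeLeft (R := A) (S := A) (A := A) (B := B)) (RingHom.ker e) ≤
        Ideal.comap (Algebra.TensorProduct.lid A B).toAlgHom.toRingHom m := by
      rw [Ideal.map_le_iff_le_comap]
      intro a ha
      rw [Ideal.mem_comap, Ideal.mem_comap]
      have : (Algebra.TensorProduct.lid A B).toAlgHom.toRingHom
          (Algebra.TensorProduct.includeLeft (R := A) (S := A) (A := A) (B := B) a) = algebraMap A B a := by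
        simp [Algebra.algebraMap_eq_smul_one]
      rw [this]
      exact Ideal.mem_map_of_mem _ ha
    have h2 := hle hz
    rw [Ideal.mem_comap, show (Algebra.TensorProduct.lid A B).toAlgHom.toRingHom ((1 : A) ⊗ₜ[A] b) = b by simp] at h2
    exact h2
  · rw [Ideal.map_le_iff_le_comap]
    intro a ha
    rw [Ideal.mem_comap, RingHom.mem_ker, AlgHom.commutes, Algebra.TensorProduct.algebraMap_apply]
    rw [RingHom.mem_ker] at ha
    simp [ha]

variable {X W S : Scheme.{u}} (pX : X ⟶ S) (pW : W ⟶ S) {U : X.Opens} (hU : IsAffineOpen U) {V : W.Opens}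
  (hV : IsAffineOpen V) {E : (pullback pX pW).Opens} (hE : IsAffineOpen E)
  (eU : E ≤ pullback.fst pX pW ⁻¹ᵁ U) (eV : E ≤ pullback.snd pX pW ⁻¹ᵁ V)

include hU hV in
/-- A point of the fibre read in the chart lies on the slice. -/
theorem slice_eq {k : Type u} [Field k] {pX : X ⟶ Spec (CommRingCat.of k)} {pW : W ⟶ Spec (CommRingCat.of k)}
    {E : (pullback pX pW).Opens} (hE : IsAffineOpen E) (eU : E ≤ pullback.fst pX pW ⁻¹ᵁ U)
    (eV : E ≤ pullback.snd pX pW ⁻¹ᵁ V) (σ : Γ(pullback pX pW, E) ⟶ CommRingCat.of k)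
    (t : Spec (CommRingCat.of k) ⟶ W) (ht : t ≫ pW = 𝟙 _)
    (hσW : Spec.map ((pullback.snd pX pW).appLE V E eV ≫ σ) ≫ hV.fromSpec = t) :
    (Spec.map ((pullback.fst pX pW).appLE U E eU ≫ σ) ≫ hU.fromSpec) ≫ pX = 𝟙 _ ∧
      (Spec.map ((pullback.fst pX pW).appLE U E eU ≫ σ) ≫ hU.fromSpec) ≫ AlgEqCyc.slice pX pW t ht =
        Spec.map σ ≫ hE.fromSpec := by
  have h1 : Spec.map ((pullback.fst pX pW).appLE U E eU ≫ σ) ≫ hU.fromSpec =
      (Spec.map σ ≫ hE.fromSpec) ≫ pullback.fst pX pW := by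
    rw [Spec.map_comp, Category.assoc, IsAffineOpen.SpecMap_appLE_fromSpec _ hU hE eU, Category.assoc]
  have h2 : t = (Spec.map σ ≫ hE.fromSpec) ≫ pullback.snd pX pW := by
    rw [← hσW, Spec.map_comp, Category.assoc, IsAffineOpen.SpecMap_appLE_fromSpec _ hV hE eV, Category.assoc]
  have hp : (Spec.map ((pullback.fst pX pW).appLE U E eU ≫ σ) ≫ hU.fromSpec) ≫ pX = 𝟙 _ := by
    rw [h1, Category.assoc, pullback.condition, ← Category.assoc, ← h2, ht]
  refine ⟨hp, ?_⟩
  unfold AlgEqCyc.slice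
  apply pullback.hom_ext
  · rw [Category.assoc, pullback.lift_fst, Category.comp_id, h1]
  · rw [Category.assoc, pullback.lift_snd, ← Category.assoc, hp, Category.id_comp]
    exact h2

include hU hV in
/-- The points over `t` of one component, with multiplicities. -/
theorem exists_points {k : Type u} [Field k] [IsAlgClosed k] {pX : X ⟶ Spec (CommRingCat.of k)}
    {pW : W ⟶ Spec (CommRingCat.of k)} {E : (pullback pX pW).Opens} (hE : IsAffineOpen E)
    (eU : E ≤ pullback.fst pX pW ⁻¹ᵁ U) (eV : E ≤ pullback.snd pX pW ⁻¹ᵁ V) {ξ : ↥(pullback pX pW)} (hξ : ξ ∈ E)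
    (hcl : ∀ z, ξ ⤳ z → pullback.snd pX pW z ∈ V → z ∈ E) (hfin : (CorrChart.comp hE (pullback.snd pX pW) eV hξ).Finite)
    (t : Spec (CommRingCat.of k) ⟶ W) (ht : t ≫ pW = 𝟙 _) (χ : Γ(W, V) ⟶ CommRingCat.of k)
    (hχ : Spec.map χ ≫ hV.fromSpec = t) :
    letI := (CorrChart.comp hE (pullback.snd pX pW) eV hξ).toAlgebra
    letI := χ.hom.toAlgebra
    ∃ (J : Type u) (_ : Fintype J) (n : J → ℕ) (χs : J → (Γ(X, U) ⟶ CommRingCat.of k)),
      ∑ j, n j = Module.finrank k (k ⊗[Γ(W, V)] (Γ(pullback pX pW, E) ⧸ (hE.primeIdealOf ⟨ξ, hξ⟩).asIdeal)) ∧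
      (∀ c, Algebra.norm k ((1 : k) ⊗ₜ[Γ(W, V)]
          Ideal.Quotient.mk (hE.primeIdealOf ⟨ξ, hξ⟩).asIdeal ((pullback.fst pX pW).appLE U E eU c)) =
        ∏ j, χs j c ^ n j) ∧
      (∀ j, (Spec.map (χs j) ≫ hU.fromSpec) ≫ pX = 𝟙 _) ∧
      ∀ x : X, (∀ (h : ξ ⤳ AlgEqCyc.slice pX pW t ht x), ∃ j₀, ∀ j,
          ((Spec.map (χs j) ≫ hU.fromSpec) (IsLocalRing.closedPoint k) = x ↔ j = j₀) ∧
          n j₀ = AlgEqCyc.fibreMult (pullback.snd pX pW) (AlgEqCyc.slice pX pW t ht x) ξ h) ∧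
        (¬ ξ ⤳ AlgEqCyc.slice pX pW t ht x →
          ∀ j, (Spec.map (χs j) ≫ hU.fromSpec) (IsLocalRing.closedPoint k) ≠ x) := by
  classical
  letI := (CorrChart.comp hE (pullback.snd pX pW) eV hξ).toAlgebra
  letI := χ.hom.toAlgebra
  haveI : Module.Finite Γ(W, V) (Γ(pullback pX pW, E) ⧸ (hE.primeIdealOf ⟨ξ, hξ⟩).asIdeal) := hfin
  let Q := k ⊗[Γ(W, V)] (Γ(pullback pX pW, E) ⧸ (hE.primeIdealOf ⟨ξ, hξ⟩).asIdeal)
  let s : Spec (CommRingCat.of k) := IsLocalRing.closedPoint k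
  have hχs : Function.Surjective (algebraMap Γ(W, V) k) := by
    have h1 : Spec.map χ ≫ (hV.fromSpec ≫ pW) = 𝟙 _ := by rw [← Category.assoc, hχ, ht]
    obtain ⟨σ, hσ⟩ := Spec.homEquiv.symm.surjective (hV.fromSpec ≫ pW)
    intro a
    rw [← hσ] at h1
    have h2 : σ ≫ χ = 𝟙 _ := Spec.map_injective (by rw [Spec.map_comp, Spec.map_id]; exact h1)
    exact ⟨σ a, RingHom.congr_fun (congrArg CommRingCat.Hom.hom h2) a⟩
  let π : Γ(pullback pX pW, E) →+* Q :=
    (Algebra.TensorProduct.includeRight : (Γ(pullback pX pW, E) ⧸ (hE.primeIdealOf ⟨ξ, hξ⟩).asIdeal) →ₐ[Γ(W, V)] Q).toRingHom.comp (Ideal.Quotient.mk (hE.primeIdealOf ⟨ξ, hξ⟩).asIdeal)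
  have hsurj : Function.Surjective (Algebra.TensorProduct.includeRight :
      (Γ(pullback pX pW, E) ⧸ (hE.primeIdealOf ⟨ξ, hξ⟩).asIdeal) →ₐ[Γ(W, V)] Q) := by
    intro z
    induction z using TensorProduct.induction_on with
    | zero => exact ⟨0, map_zero _⟩
    | tmul a b =>
      obtain ⟨a', rfl⟩ := hχs a
      exact ⟨a' • b, by
        rw [Algebra.TensorProduct.includeRight_apply, ← TensorProduct.smul_tmul, ← Algebra.algebraMap_eq_smul_one]⟩
    | add u v hu hv =>
      obtain ⟨a, rfl⟩ := hu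
      obtain ⟨b, rfl⟩ := hv
      exact ⟨a + b, map_add _ _ _⟩
  have hπ : Function.Surjective π := hsurj.comp Ideal.Quotient.mk_surjective
  have hmax : ∀ hs : t s ∈ V, RingHom.ker χ.hom = (hV.primeIdealOf ⟨t s, hs⟩).asIdeal := by
    intro hs
    have : hV.primeIdealOf ⟨t s, hs⟩ = Spec.map χ s := by
      apply hV.fromSpec.isOpenEmbedding.injective
      rw [hV.fromSpec_primeIdealOf, ← Scheme.Hom.comp_apply, hχ]
    rw [this]
    ext a
    show χ a = 0 ↔ χ a ∈ IsLocalRing.maximalIdeal k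
    rw [IsLocalRing.maximalIdeal_eq_bot, Ideal.mem_bot]
  have hker : RingHom.ker π = (hE.primeIdealOf ⟨ξ, hξ⟩).asIdeal ⊔ (RingHom.ker χ.hom).map ((pullback.snd pX pW).appLE V E eV).hom := by
    show RingHom.ker ((Algebra.TensorProduct.includeRight : (Γ(pullback pX pW, E) ⧸ (hE.primeIdealOf ⟨ξ, hξ⟩).asIdeal) →ₐ[Γ(W, V)] Q).toRingHom.comp _) = _
    rw [← RingHom.comap_ker]
    change Ideal.comap _ (RingHom.ker (Algebra.TensorProduct.includeRight : (Γ(pullback pX pW, E) ⧸ (hE.primeIdealOf ⟨ξ, hξ⟩).asIdeal) →ₐ[Γ(W, V)] Q)) = _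
    rw [ker_one_tmul hχs]
    show Ideal.comap _ (Ideal.map (CorrChart.comp hE (pullback.snd pX pW) eV hξ) (RingHom.ker χ.hom)) = _
    rw [← Ideal.map_map, Ideal.comap_map_of_surjective' _ Ideal.Quotient.mk_surjective, Ideal.mk_ker, sup_comm]
  haveI : Module.Finite k Q := Module.Finite.base_change _ _ _
  haveI : IsArtinianRing Q := IsArtinianRing.of_finite k Q
  haveI : Fintype (PrimeSpectrum Q) := Fintype.ofFinite _
  have hbij : ∀ q : PrimeSpectrum Q, Function.Bijective (algebraMap k (Q ⧸ q.asIdeal)) := fun q => by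
    haveI := IsArtinianRing.isMaximal_of_isPrime q.asIdeal
    let _ := Ideal.Quotient.field q.asIdeal
    exact IsAlgClosed.algebraMap_bijective_of_isIntegral
  let χQ : PrimeSpectrum Q → (Q →ₐ[k] k) := fun q =>
    (AlgEquiv.ofBijective (Algebra.ofId k (Q ⧸ q.asIdeal)) (hbij q)).symm.toAlgHom.comp (Ideal.Quotient.mkₐ k _)
  have hχQ : ∀ q, RingHom.ker (χQ q) = q.asIdeal := fun q => by
    ext a
    rw [RingHom.mem_ker]
    show (AlgEquiv.ofBijective (Algebra.ofId k (Q ⧸ q.asIdeal)) (hbij q)).symm (Ideal.Quotient.mk _ a) = 0 ↔ _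
    rw [map_eq_zero_iff _ (AlgEquiv.injective _), Ideal.Quotient.eq_zero_iff_mem]
  let σ : PrimeSpectrum Q → (Γ(pullback pX pW, E) ⟶ CommRingCat.of k) := fun q => CommRingCat.ofHom ((χQ q).toRingHom.comp π)
  have hσW : ∀ q, Spec.map ((pullback.snd pX pW).appLE V E eV ≫ σ q) ≫ hV.fromSpec = t := by
    intro q
    rw [← hχ]
    congr 2
    refine CommRingCat.hom_ext (RingHom.ext fun a => ?_)
    show χQ q ((1 : k) ⊗ₜ[Γ(W, V)] (algebraMap Γ(W, V) (Γ(pullback pX pW, E) ⧸ (hE.primeIdealOf ⟨ξ, hξ⟩).asIdeal) a)) = χ a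
    rw [Algebra.algebraMap_eq_smul_one, ← TensorProduct.smul_tmul, ← Algebra.algebraMap_eq_smul_one]
    exact (χQ q).commutes (χ a)
  have hpt : ∀ q, (Spec.map (σ q) ≫ hE.fromSpec) s =
      hE.fromSpec ⟨Ideal.comap π q.asIdeal, inferInstance⟩ := by
    intro q
    rw [Scheme.Hom.comp_apply]
    congr 1
    apply PrimeSpectrum.ext
    ext a
    show χQ q (π a) ∈ IsLocalRing.maximalIdeal k ↔ π a ∈ q.asIdeal
    rw [IsLocalRing.maximalIdeal_eq_bot, Ideal.mem_bot, ← RingHom.mem_ker, hχQ]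
  refine ⟨PrimeSpectrum Q, inferInstance, fun q => Module.finrank k (Localization.AtPrime q.asIdeal),
    fun q => (pullback.fst pX pW).appLE U E eU ≫ σ q, (IsArtinianRing.finrank_eq_sum_primeSpectrum Q k).symm,
    fun c => NormPoints.norm_eq_prod Q χQ hχQ _, fun q => (slice_eq hU hV hE eU eV (σ q) t ht (hσW q)).1,
    fun x => ?_⟩
  have hsl : ∀ q, AlgEqCyc.slice pX pW t ht ((Spec.map ((pullback.fst pX pW).appLE U E eU ≫ σ q) ≫ hU.fromSpec) s) =
      hE.fromSpec ⟨Ideal.comap π q.asIdeal, inferInstance⟩ := fun q => by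
    rw [← Scheme.Hom.comp_apply, (slice_eq hU hV hE eU eV (σ q) t ht (hσW q)).2, hpt]
  have hinj : Function.Injective (AlgEqCyc.slice pX pW t ht) := by
    intro a b hab
    have h1 : AlgEqCyc.slice pX pW t ht ≫ pullback.fst pX pW = 𝟙 _ := pullback.lift_fst _ _ _
    have h := congrArg (pullback.fst pX pW) hab
    rwa [← Scheme.Hom.comp_apply, ← Scheme.Hom.comp_apply, h1] at h
  constructor
  · intro h
    let z := AlgEqCyc.slice pX pW t ht x
    have hzV' : pullback.snd pX pW z = t s := by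
      show pullback.snd pX pW (AlgEqCyc.slice pX pW t ht x) = t s
      rw [← Scheme.Hom.comp_apply, AlgEqCyc.slice, pullback.lift_snd, Scheme.Hom.comp_apply]
      exact congrArg _ (Subsingleton.elim _ _)
    have htV : t s ∈ V := by
      rw [← hχ, Scheme.Hom.comp_apply]
      exact hV.range_fromSpec.le ⟨_, rfl⟩
    have hzV : pullback.snd pX pW z ∈ V := hzV' ▸ htV
    have hz : z ∈ E := hcl z h hzV
    have hmax' : (hV.primeIdealOf ⟨pullback.snd pX pW z, eV hz⟩).asIdeal = RingHom.ker χ.hom := by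
      rw [hmax htV]
      congr 2
      exact Subtype.ext hzV'
    let n := (hE.primeIdealOf ⟨z, hz⟩).asIdeal
    have hle : RingHom.ker π ≤ n := by
      rw [hker]
      refine sup_le ((CorrChart.specializes_iff hE hξ hz).mp h) ?_
      rw [Ideal.map_le_iff_le_comap, ← hmax', IsAffineOpen.primeIdealOf_eq_map_closedPoint]
      intro a ha
      rw [Ideal.mem_comap]
      show _ ∈ (hE.primeIdealOf ⟨z, hz⟩).asIdeal
      rw [IsAffineOpen.primeIdealOf_eq_map_closedPoint]
      show ((pullback pX pW).presheaf.germ E z hz).hom ((pullback.snd pX pW).appLE V E eV a) ∈ IsLocalRing.maximalIdeal _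
      have e1 : ((pullback pX pW).presheaf.germ E z hz).hom ((pullback.snd pX pW).appLE V E eV a) =
          ((pullback.snd pX pW).stalkMap z).hom ((W.presheaf.germ V (pullback.snd pX pW z) (eV hz)).hom a) := by
        show ((pullback.snd pX pW).appLE V E eV ≫ (pullback pX pW).presheaf.germ E z hz) a =
          (W.presheaf.germ V (pullback.snd pX pW z) (eV hz) ≫ (pullback.snd pX pW).stalkMap z) a
        rw [Scheme.Hom.germ_stalkMap, Scheme.Hom.appLE, Category.assoc, TopCat.Presheaf.germ_res]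
      rw [e1]
      exact map_nonunit ((pullback.snd pX pW).stalkMap z).hom _ ha
    haveI : n.IsPrime := (hE.primeIdealOf ⟨z, hz⟩).isPrime
    let q₀ : PrimeSpectrum Q := ⟨n.map π, Ideal.map_isPrime_of_surjective hπ hle⟩
    have hq₀ : Ideal.comap π q₀.asIdeal = n := by
      show Ideal.comap π (n.map π) = n
      rw [Ideal.comap_map_of_surjective' _ hπ, sup_eq_left.mpr hle]
    refine ⟨q₀, fun q => ⟨⟨fun hx => ?_, fun hx => ?_⟩, ?_⟩⟩
    · have h1 := hsl q
      rw [hx] at h1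
      have h3 := CorrChart.primeIdealOf_fromSpec hE ⟨Ideal.comap π q.asIdeal, inferInstance⟩ (h1 ▸ hz)
      have h4 : hE.primeIdealOf ⟨z, hz⟩ = ⟨Ideal.comap π q.asIdeal, inferInstance⟩ := by
        rw [← h3]
        congr 1
        exact Subtype.ext h1
      apply PrimeSpectrum.ext
      apply Ideal.comap_injective_of_surjective π hπ
      rw [hq₀]
      exact (congrArg PrimeSpectrum.asIdeal h4).symm
    · subst hx
      apply hinj
      rw [hsl q₀]
      exact (congrArg hE.fromSpec (PrimeSpectrum.ext hq₀)).trans (hE.fromSpec_primeIdealOf ⟨z, hz⟩)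
    · haveI := q₀.isPrime
      exact (CorrChart.fibreMult_eq hE (pullback.snd pX pW) hV eV hξ π hπ z hz h (hker.trans (by rw [hmax'])) q₀.asIdeal hq₀).symm
  · intro hns q hx
    apply hns
    rw [← hx, hsl q]
    have hm : hE.fromSpec ⟨Ideal.comap π q.asIdeal, inferInstance⟩ ∈ E := hE.range_fromSpec.le ⟨_, rfl⟩
    rw [CorrChart.specializes_iff hE hξ hm, CorrChart.primeIdealOf_fromSpec]
    exact le_trans (le_trans le_sup_left hker.ge) (Ideal.comap_mono bot_le)

end Groth.Cycles.CorrFibre
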