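import Groth.Agent.Cycles.CorrP1
import Groth.Agent.Cycles.CorrBase
import Groth.Agent.Cycles.C1Comm
import Groth.Agent.Cycles.PushDiv
import Groth.Agent.CycInter.P1Fibre
import Groth.Prelude.Def_AlgEqCyc

/-!
A family of cycles over the projective line: the difference of two fibres is a sum of principal divisors.
-/

set_option autoImplicit false
set_option backward.isDefEq.respectTransparency false
set_option linter.style.haveILetI false

universe u

open CategoryTheory CategoryTheory.Limits AlgebraicGeometry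
open Groth.CycInter.P1C Groth.Cycles.CorrP1

namespace Groth.Cycles.CorrFibreDiv

/-- The order of a pulled back generator of the maximal ideal is the multiplicity of the fibre. -/
theorem ordAt_eq_fibreMult {P W : Scheme.{u}} (g : P ⟶ W) [IsLocallyNoetherian P] {δ : P → ℤ} (hδ : Cyc.IsDimFun P δ)
    {z ξ : P} (h : ξ ⤳ z) (hd : δ z + 1 = δ ξ) (π : W.presheaf.stalk (g z))
    (hπ : IsLocalRing.maximalIdeal (W.presheaf.stalk (g z)) = Ideal.span {π})
    (hne : Cyc.specMap z ξ h ((g.stalkMap z).hom π) ≠ 0) :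
    Cyc.ordAt z ξ h (Cyc.specMap z ξ h ((g.stalkMap z).hom π)) = (AlgEqCyc.fibreMult g z ξ h : ℤ) := by
  have := Groth.Cycles.isFractionRing_locQuot h
  have hp := Groth.Cycles.genPrime_asIdeal h
  haveI : (RingHom.ker (Cyc.specMap z ξ h)).IsPrime := hp ▸ (Groth.Cycles.genPrime h).isPrime
  haveI : IsDomain (Cyc.LocQuot z ξ h) := Ideal.Quotient.isDomain _
  haveI : Ring.KrullDimLE 1 (Cyc.LocQuot z ξ h) := by
    rw [Ring.krullDimLE_iff, Groth.Cycles.ringKrullDim_locQuot z ξ h, Groth.Cycles.krullDim_interval hδ (h : z ≤ ξ),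
      show δ ξ - δ z = 1 by omega]
    exact le_rfl
  set a := (g.stalkMap z).hom π
  have hne' : Ideal.Quotient.mk (RingHom.ker (Cyc.specMap z ξ h)) a ≠ 0 := fun h0 =>
    hne (RingHom.mem_ker.mp (Ideal.Quotient.eq_zero_iff_mem.mp h0))
  refine (Groth.RefRank.ordFrac_algebraMap' (A := Cyc.LocQuot z ξ h) (K := P.residueField ξ) hne').trans ?_
  rw [Ring.ord]
  unfold AlgEqCyc.fibreMult
  rw [hπ, Ideal.map_span, Set.image_singleton, RingHom.comp_apply,
    ← Module.length_eq_of_surjective (R := Cyc.LocQuot z ξ h) (S := P.presheaf.stalk z)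
    (M := Cyc.LocQuot z ξ h ⧸ Ideal.span {Ideal.Quotient.mk (RingHom.ker (Cyc.specMap z ξ h)) a})
    Ideal.Quotient.mk_surjective]

variable {k : Type u} [Field k] [IsAlgClosed k] {X : Scheme.{u}} (pX : X ⟶ Spec (CommRingCat.of k))

/-- The multiplicity of the fibre of one component at a point of a slice. -/
noncomputable def fm (t : Spec (CommRingCat.of k) ⟶ Line k) (ht : t ≫ pC k = 𝟙 _)
    (ξ : ↥(pullback pX (pC k))) (x : X) : ℤ :=
  open Classical in
  if h : ξ ⤳ AlgEqCyc.slice pX (pC k) t ht x then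
    (AlgEqCyc.fibreMult (pullback.snd pX (pC k)) (AlgEqCyc.slice pX (pC k) t ht x) ξ h : ℤ) else 0

theorem isPullback_slice (t : Spec (CommRingCat.of k) ⟶ Line k) (ht : t ≫ pC k = 𝟙 _) :
    IsPullback (AlgEqCyc.slice pX (pC k) t ht) pX (pullback.snd pX (pC k)) t := by
  refine IsPullback.of_right (h₁₂ := pullback.fst pX (pC k)) (v₁₃ := pX) (h₂₂ := pC k) ?_
    (pullback.lift_snd _ _ _) (IsPullback.of_hasPullback pX (pC k)).flip.flip
  rw [ht, show AlgEqCyc.slice pX (pC k) t ht ≫ pullback.fst pX (pC k) = 𝟙 X from pullback.lift_fst _ _ _]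
  exact IsPullback.of_horiz_isIso ⟨by simp⟩

theorem fst_slice (t : Spec (CommRingCat.of k) ⟶ Line k) (ht : t ≫ pC k = 𝟙 _) (x : X) :
    pullback.fst pX (pC k) (AlgEqCyc.slice pX (pC k) t ht x) = x := by
  rw [← Scheme.Hom.comp_apply, show AlgEqCyc.slice pX (pC k) t ht ≫ pullback.fst pX (pC k) = 𝟙 X from pullback.lift_fst _ _ _]
  rfl

theorem snd_slice (t : Spec (CommRingCat.of k) ⟶ Line k) (ht : t ≫ pC k = 𝟙 _) (x : X) :
    pullback.snd pX (pC k) (AlgEqCyc.slice pX (pC k) t ht x) = t (IsLocalRing.closedPoint k) := by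
  rw [← Scheme.Hom.comp_apply, show AlgEqCyc.slice pX (pC k) t ht ≫ pullback.snd pX (pC k) = pX ≫ t from pullback.lift_snd _ _ _,
    Scheme.Hom.comp_apply]
  exact congrArg t (Subsingleton.elim _ _)

theorem isClosed_point (t : Spec (CommRingCat.of k) ⟶ Line k) (ht : t ≫ pC k = 𝟙 _) :
    IsClosed ({t (IsLocalRing.closedPoint k)} : Set (Line k)) := by
  haveI : IsProper (pC k) := Groth.Variety2.isProper_projSpaceOver_toBase _ _
  haveI : IsClosedImmersion (t ≫ pC k) := ht ▸ inferInstance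
  haveI : IsClosedImmersion t := IsClosedImmersion.of_comp t (pC k)
  have h := t.isClosedEmbedding.isClosed_range
  rwa [show Set.range t = {t (IsLocalRing.closedPoint k)} from Set.eq_singleton_iff_unique_mem.mpr
    ⟨⟨_, rfl⟩, by rintro _ ⟨y, rfl⟩; rw [Subsingleton.elim y (IsLocalRing.closedPoint k)]⟩] at h

variable [LocallyOfFiniteType pX] {δX : X → ℤ} {δP : ↥(pullback pX (pC k)) → ℤ}

omit [IsAlgClosed k] [LocallyOfFiniteType pX] in
theorem delta_nonneg (hX : Cyc.DeltaCompat pX δX fun _ => 0) (hP : Cyc.DeltaCompat (pullback.fst pX (pC k)) δP δX)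
    (z : ↥(pullback pX (pC k))) : 0 ≤ δX (pullback.fst pX (pC k) z) ∧ δX (pullback.fst pX (pC k) z) ≤ δP z := by
  obtain ⟨a, -, ha⟩ := hX (pullback.fst pX (pC k) z)
  obtain ⟨b, -, hb⟩ := hP z
  simp only at ha hb
  exact ⟨by omega, by omega⟩

theorem delta_slice (hP : Cyc.DeltaCompat (pullback.fst pX (pC k)) δP δX) (t : Spec (CommRingCat.of k) ⟶ Line k)
    (ht : t ≫ pC k = 𝟙 _) (x : X) :
    δP (AlgEqCyc.slice pX (pC k) t ht x) = δX x ∧
      (pullback.fst pX (pC k)).residueDegree (AlgEqCyc.slice pX (pC k) t ht x) = 1 := by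
  haveI : IsPreimmersion (AlgEqCyc.slice pX (pC k) t ht ≫ pullback.fst pX (pC k)) := by
    rw [show AlgEqCyc.slice pX (pC k) t ht ≫ pullback.fst pX (pC k) = 𝟙 X from pullback.lift_fst _ _ _]
    infer_instance
  obtain ⟨h1, h2⟩ := Groth.CycInter.P1C.delta_eq_of_closedImm_comp _ hP (AlgEqCyc.slice pX (pC k) t ht) x
  rw [fst_slice] at h1
  exact ⟨h1, h2⟩

omit [LocallyOfFiniteType pX]
variable [IsProper pX]

/-- The pushforward of the divisor of the coordinate minus a constant. -/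
theorem exists_div (hX : Cyc.DeltaCompat pX δX fun _ => 0) (hP : Cyc.DeltaCompat (pullback.fst pX (pC k)) δP δX)
    (t₀ : Spec (CommRingCat.of k) ⟶ Line k) (ht₀ : t₀ ≫ pC k = 𝟙 _) (h₀ : t₀ (IsLocalRing.closedPoint k) ∈ C (S k) 0)
    (t₁ : Spec (CommRingCat.of k) ⟶ Line k) (ht₁ : t₁ ≫ pC k = 𝟙 _) (h₁ : t₁ (IsLocalRing.closedPoint k) ∉ C (S k) 0)
    (a : k) (ha : IsLocalRing.maximalIdeal ((Line k).presheaf.stalk (t₀ (IsLocalRing.closedPoint k))) =
      Ideal.span {(Line k).presheaf.germ (C (S k) 0) _ h₀ (tA k 0 a)})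
    (hau : ∀ (c' : Line k) (hi' : c' ∈ C (S k) 0), IsClosed ({c'} : Set (Line k)) → c' ≠ t₀ (IsLocalRing.closedPoint k) →
        IsUnit ((Line k).presheaf.germ (C (S k) 0) c' hi' (tA k 0 a)))
    (ξ : ↥(pullback pX (pC k))) (hξ : δP ξ = 1) (hξ0 : pullback.snd pX (pC k) ξ ∈ C (S k) 0)
    (hξ1 : pullback.snd pX (pC k) ξ ∈ C (S k) (oth 0)) :
    ∀ F : (pullback pX (pC k)).residueField ξ,
      F = (pullback pX (pC k)).residue ξ (((pullback.snd pX (pC k)).stalkMap ξ).hom
        ((Line k).presheaf.germ (C (S k) 0) _ hξ0 (tA k 0 a))) → F ≠ 0 →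
    ∃ G : AlgebraicCycle (pullback pX (pC k)) ℤ, ⇑G = Cyc.divFun δP ξ F ∧
      ∀ x, AlgebraicCycle.map (pullback.fst pX (pC k)) δP δX G x = fm pX t₀ ht₀ ξ x - fm pX t₁ ht₁ ξ x := by
  classical
  intro F hF hF0
  haveI : IsProper (pC k) := Groth.Variety2.isProper_projSpaceOver_toBase _ _
  set pr := pullback.snd pX (pC k) with hpr
  set fs := pullback.fst pX (pC k) with hfs
  haveI : IsProper fs := MorphismProperty.pullback_fst _ _ inferInstance
  haveI : IsProper pr := MorphismProperty.pullback_snd _ _ inferInstance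
  have hsX : Cyc.IsSetup X δX := Groth.Cycles.CorrBase.isSetup_field pX hX
  have hsP : Cyc.IsSetup (pullback pX (pC k)) δP := Groth.CycInter.P1C.isSetup_of_lft hsX fs hP
  haveI := hsP.1
  obtain ⟨G, hG, -, -⟩ := exists_push_divFun δP δX hsP hsX fs hP ξ F hF0
  refine ⟨G, hG, ?_⟩
  set c₀ := t₀ (IsLocalRing.closedPoint k)
  set c₁ := t₁ (IsLocalRing.closedPoint k)
  have hc01 : c₀ ≠ c₁ := fun h => h₁ (h ▸ h₀)
  have hc₁i : c₁ ∈ C (S k) (oth 0) := (mem_C_or (S k) c₁ 0).resolve_left h₁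
  have hc₁' : c₁ ∉ C (S k) (oth (oth 0)) := by rwa [oth_oth]
  obtain ⟨hmax₁, huniq₁⟩ := maximal_of_notMem (oth 0) c₁ (isClosed_point t₁ ht₁) hc₁' hc₁i
  -- points of the divisor
  have hclosed : ∀ z, δP z = 0 → IsClosed ({pr z} : Set (Line k)) := by
    intro z hz
    have hzc : IsClosed ({z} : Set ↥(pullback pX (pC k))) := by
      rw [← closure_eq_iff_isClosed]
      refine Set.Subset.antisymm (fun y hy => ?_) subset_closure
      by_contra hne
      have := (hsP.2.2 z y (specializes_iff_mem_closure.mpr hy) (Ne.symm hne)).1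
      have := delta_nonneg pX hX hP y
      omega
    rw [← Set.image_singleton]
    exact pr.isClosedMap _ hzc
  have hmax0 : ∀ (c : Line k) (hc : c ∈ C (S k) 0), c = c₀ →
      IsLocalRing.maximalIdeal ((Line k).presheaf.stalk c) =
        Ideal.span {(Line k).presheaf.germ (C (S k) 0) c hc (tA k 0 a)} := by
    rintro c hc rfl
    exact ha
  have hmax1 : ∀ (c : Line k) (hc : c ∈ C (S k) (oth 0)), c = c₁ →
      IsLocalRing.maximalIdeal ((Line k).presheaf.stalk c) =
        Ideal.span {(Line k).presheaf.germ (C (S k) (oth 0)) c hc (t (S k) (oth 0))} := by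
    rintro c hc rfl
    exact hmax₁
  have hξn1 : pr ξ ≠ c₁ := fun e => h₁ (e ▸ hξ0)
  have hξn0 : pr ξ ≠ c₀ := fun e => by
    apply hF0
    rw [hF]
    refine (IsLocalRing.residue_eq_zero_iff _).mpr (map_nonunit (pr.stalkMap ξ).hom _ ?_)
    rw [hmax0 _ hξ0 e]
    exact Ideal.mem_span_singleton_self _
  -- the order
  have hord : ∀ z (h : ξ ⤳ z), δP z = 0 →
      Cyc.ordAt z ξ h F = if pr z = c₀ then (AlgEqCyc.fibreMult pr z ξ h : ℤ)
        else if pr z = c₁ then -(AlgEqCyc.fibreMult pr z ξ h : ℤ) else 0 := by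
    intro z h hz
    have hdp : IsDivPt δP ξ z := ⟨h, by omega⟩
    have hspec : ∀ (i : Fin (1 + 1)) (s : Γ(Line k, C (S k) i)) (hz : pr z ∈ C (S k) i) (hξi : pr ξ ∈ C (S k) i),
        Cyc.specMap z ξ h ((pr.stalkMap z).hom ((Line k).presheaf.germ (C (S k) i) _ hz s)) =
          (pullback pX (pC k)).residue ξ ((pr.stalkMap ξ).hom ((Line k).presheaf.germ (C (S k) i) _ hξi s)) := by
      intro i s hz hξi
      show (pullback pX (pC k)).residue ξ (((pullback pX (pC k)).presheaf.stalkSpecializes h) _) = _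
      congr 1
      rw [← CommRingCat.comp_apply, ← Scheme.Hom.stalkSpecializes_stalkMap pr _ _ h, CommRingCat.comp_apply,
        TopCat.Presheaf.germ_stalkSpecializes_apply]
    by_cases hz0 : pr z ∈ C (S k) 0
    · have hFz : F = Cyc.specMap z ξ h ((pr.stalkMap z).hom ((Line k).presheaf.germ (C (S k) 0) _ hz0 (tA k 0 a))) := by
        rw [hspec 0 _ hz0 hξ0]; exact hF
      have hn1 : pr z ≠ c₁ := fun e => h₁ (e ▸ hz0)
      by_cases e0 : pr z = c₀
      · rw [if_pos e0, hFz]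
        refine ordAt_eq_fibreMult pr hsP.2.2 h hdp.2 _ ?_ (hFz ▸ hF0)
        exact hmax0 _ hz0 e0
      · rw [if_neg e0, if_neg hn1, hFz]
        exact ordAt_specMap_of_isUnit hsP hdp ((hau _ hz0 (hclosed z hz) e0).map _)
    · have hz1 : pr z ∈ C (S k) (oth 0) := (mem_C_or (S k) (pr z) 0).resolve_left hz0
      have e1 : pr z = c₁ := huniq₁ _ (hclosed z hz) (by rwa [oth_oth])
      have hn0 : pr z ≠ c₀ := fun e => hz0 (e ▸ h₀)
      rw [if_neg hn0, if_pos e1]
      -- near infinity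
      let cst : ∀ i, Γ(Line k, C (S k) i) := fun i =>
        (pC k).appLE ⊤ (C (S k) i) le_top ((Scheme.ΓSpecIso (CommRingCat.of k)).inv a)
      let res := fun (i : Fin (1 + 1)) (hi : pr ξ ∈ C (S k) i) (s : Γ(Line k, C (S k) i)) =>
        (pullback pX (pC k)).residue ξ ((pr.stalkMap ξ).hom ((Line k).presheaf.germ (C (S k) i) _ hi s))
      have hcst : (Line k).presheaf.germ (C (S k) 0) _ hξ0 (cst 0) =
          (Line k).presheaf.germ (C (S k) (oth 0)) _ hξ1 (cst (oth 0)) := by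
        simp only [cst, Scheme.Hom.appLE, CommRingCat.comp_apply, TopCat.Presheaf.germ_res_apply]
      set T' := res (oth 0) hξ1 (t (S k) (oth 0))
      have hFT : F * T' = res (oth 0) hξ1 (1 - cst (oth 0) * t (S k) (oth 0)) := by
        rw [hF]
        simp only [T', res, tA, map_sub, map_one, map_mul, sub_mul]
        rw [← map_mul, ← map_mul, germ_t_mul (S k) 0 _ hξ0 hξ1, map_one, map_one]
        congr 1
        rw [hcst]
      have hnt : ¬ IsUnit ((Line k).presheaf.germ (C (S k) (oth 0)) _ hz1 (t (S k) (oth 0))) := fun hu =>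
        hz0 (oth_oth 0 ▸ (isUnit_germ_t_iff (S k) (oth 0) _ hz1).mp hu)
      have hunit : IsUnit ((Line k).presheaf.germ (C (S k) (oth 0)) _ hz1 (1 - cst (oth 0) * t (S k) (oth 0))) := by
        rw [map_sub, map_one, map_mul]
        exact IsLocalRing.isUnit_one_sub_self_of_mem_nonunits _ (fun hu => hnt (isUnit_of_mul_isUnit_right hu))
      have hT0 : T' ≠ 0 := by
        intro h0
        have h1 : IsUnit ((Line k).presheaf.germ (C (S k) (oth 0)) _ hξ1 (t (S k) (oth 0))) :=
          (isUnit_germ_t_iff (S k) (oth 0) _ hξ1).mpr (by rwa [oth_oth])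
        exact not_isUnit_zero (M₀ := (pullback pX (pC k)).residueField ξ)
          (h0 ▸ ((h1.map (pr.stalkMap ξ).hom).map ((pullback pX (pC k)).residue ξ).hom))
      have hsum := ordAt_mul hsP hdp hF0 hT0
      rw [hFT] at hsum
      have e3 : Cyc.ordAt z ξ h (res (oth 0) hξ1 (1 - cst (oth 0) * t (S k) (oth 0))) = 0 := by
        show Cyc.ordAt z ξ h ((pullback pX (pC k)).residue ξ _) = 0
        rw [← hspec (oth 0) _ hz1 hξ1]
        exact ordAt_specMap_of_isUnit hsP hdp (hunit.map _)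
      have e4 : Cyc.ordAt z ξ h T' = (AlgEqCyc.fibreMult pr z ξ h : ℤ) := by
        show Cyc.ordAt z ξ h ((pullback pX (pC k)).residue ξ _) = _
        rw [← hspec (oth 0) _ hz1 hξ1]
        refine ordAt_eq_fibreMult pr hsP.2.2 h hdp.2 _ ?_ ?_
        · exact hmax1 _ hz1 e1
        · rw [hspec (oth 0) _ hz1 hξ1]; exact hT0
      rw [e3, e4] at hsum
      change Cyc.ordAt z ξ h F = _
      linarith
  -- the pushforward
  intro x
  set z₀ := AlgEqCyc.slice pX (pC k) t₀ ht₀ x
  set z₁ := AlgEqCyc.slice pX (pC k) t₁ ht₁ x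
  have hs0 : pr z₀ = c₀ := snd_slice pX t₀ ht₀ x
  have hs1 : pr z₁ = c₁ := snd_slice pX t₁ ht₁ x
  have hz01 : z₀ ≠ z₁ := fun e => hc01 (hs0 ▸ hs1 ▸ congrArg pr e)
  have hval : ∀ z, fs z = x → (G z * (AlgebraicCycle.mapCoeff fs δP δX z : ℤ) ≠ 0) → z = z₀ ∨ z = z₁ := by
    intro z hzx hne
    have hGz : Cyc.divFun δP ξ F z ≠ 0 := by rw [← hG]; exact left_ne_zero_of_mul hne
    unfold Cyc.divFun at hGz
    split_ifs at hGz with hh
    · have hz : δP z = 0 := by omega
      rw [hord z hh.1 hz] at hGz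
      have hcase : ∀ (t : Spec (CommRingCat.of k) ⟶ Line k) (ht : t ≫ pC k = 𝟙 _),
          pr z = t (IsLocalRing.closedPoint k) → z = AlgEqCyc.slice pX (pC k) t ht x := by
        intro t ht e
        obtain ⟨o, ho, -⟩ := Scheme.exists_preimage_of_isPullback (isPullback_slice pX t ht) z (IsLocalRing.closedPoint k) e
        have : o = x := by rw [← hzx, ← ho]; exact (fst_slice pX t ht o).symm
        rw [← ho, this]
      split_ifs at hGz with e0 e1
      · exact Or.inl (hcase t₀ ht₀ e0)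
      · exact Or.inr (hcase t₁ ht₁ e1)
      · exact absurd rfl hGz
    · exact absurd rfl hGz
  rw [map_apply_eq_sum fs δP δX G x
    ({z₀, z₁} ∪ (finite_preimage_inter_support fs G x).toFinset) (fun z hz h => Finset.mem_union_right _ (by simp [hz, h])),
    ← Finset.sum_subset (Finset.subset_union_left (s₁ := ({z₀, z₁} : Finset _))) (fun z _ hz => ?_),
    Finset.sum_pair hz01]
  · have hone : ∀ (t : Spec (CommRingCat.of k) ⟶ Line k) (ht : t ≫ pC k = 𝟙 _),
        (if fs (AlgEqCyc.slice pX (pC k) t ht x) = x then G (AlgEqCyc.slice pX (pC k) t ht x) *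
          (AlgebraicCycle.mapCoeff fs δP δX (AlgEqCyc.slice pX (pC k) t ht x) : ℤ) else 0) =
        Cyc.divFun δP ξ F (AlgEqCyc.slice pX (pC k) t ht x) := by
      intro t ht
      obtain ⟨hd, hr⟩ := delta_slice pX hP t ht x
      rw [if_pos (fst_slice pX t ht x), AlgebraicCycle.mapCoeff, if_pos (by rw [fst_slice]; exact hd), hr,
        Nat.cast_one, mul_one, hG]
    rw [hone, hone]
    have hdiv : ∀ (t : Spec (CommRingCat.of k) ⟶ Line k) (ht : t ≫ pC k = 𝟙 _),
        pr ξ ≠ t (IsLocalRing.closedPoint k) →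
        Cyc.divFun δP ξ F (AlgEqCyc.slice pX (pC k) t ht x) =
          if h : ξ ⤳ AlgEqCyc.slice pX (pC k) t ht x then
            (if t (IsLocalRing.closedPoint k) = c₀ then fm pX t ht ξ x
              else if t (IsLocalRing.closedPoint k) = c₁ then -fm pX t ht ξ x else 0) else 0 := by
      intro t ht hne
      by_cases h : ξ ⤳ AlgEqCyc.slice pX (pC k) t ht x
      · rw [dif_pos h]
        have hz : δP (AlgEqCyc.slice pX (pC k) t ht x) + 1 = δP ξ := by
          have e : ξ ≠ AlgEqCyc.slice pX (pC k) t ht x := fun e => hne (e ▸ snd_slice pX t ht x)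
          have := (hsP.2.2 ξ _ h e).1
          have := delta_nonneg pX hX hP (AlgEqCyc.slice pX (pC k) t ht x)
          omega
        rw [Cyc.divFun, dif_pos ⟨h, hz⟩, hord _ h (by omega), fm, dif_pos h, snd_slice]
      · rw [dif_neg h, Cyc.divFun, dif_neg (fun hh => h hh.1)]
    rw [hdiv t₀ ht₀ hξn0, hdiv t₁ ht₁ hξn1, if_pos rfl, if_neg hc01.symm, if_pos rfl]
    simp only [fm]
    split_ifs <;> ring
  · split_ifs with hzx
    · by_contra hne
      rcases hval z hzx hne with e | e <;> exact hz (by simp [e])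
    · rfl

end Groth.Cycles.CorrFibreDiv
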