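import Groth.Agent.Cycles.CorrChart
import Groth.Agent.Cycles.CorrAlg
import Mathlib.RingTheory.Localization.LocalizationLocalization
import Mathlib.RingTheory.Localization.BaseChange

/-!
Freeness of a component over the base near a point over which it is flat.
-/

set_option autoImplicit false
set_option backward.isDefEq.respectTransparency false
set_option linter.style.haveILetI false

universe u

open CategoryTheory CategoryTheory.Limits AlgebraicGeometry
open scoped TensorProduct

namespace Groth.Cycles.CorrFree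

variable {P W : Scheme.{u}} {E : P.Opens} (hE : IsAffineOpen E) (g : P ⟶ W) {V : W.Opens} (hV : IsAffineOpen V)
  (eV : E ≤ g ⁻¹ᵁ V) {ξ : P} (hξ : ξ ∈ E)

include hV in
lemma apply_fromSpec (n : PrimeSpectrum Γ(P, E)) :
    g (hE.fromSpec n) = hV.fromSpec ⟨n.asIdeal.comap (g.appLE V E eV).hom, inferInstance⟩ := by
  rw [← Scheme.Hom.comp_apply, ← IsAffineOpen.SpecMap_appLE_fromSpec g hV hE eV, Scheme.Hom.comp_apply]
  rfl

include hV in
theorem free_at (hfin : (CorrChart.comp hE g eV hξ).Finite) [IsNoetherianRing Γ(W, V)] (p : PrimeSpectrum Γ(W, V))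
    (hflat : ∀ (z : P) (_ : z ∈ E) (h : ξ ⤳ z), g z = hV.fromSpec p →
      ((Ideal.Quotient.mk (RingHom.ker (Cyc.specMap z ξ h))).comp (g.stalkMap z).hom).Flat) :
    letI := (CorrChart.comp hE g eV hξ).toAlgebra
    Module.Free (Localization.AtPrime p.asIdeal)
      (Localization.AtPrime p.asIdeal ⊗[Γ(W, V)] (Γ(P, E) ⧸ (hE.primeIdealOf ⟨ξ, hξ⟩).asIdeal)) := by
  set I := (hE.primeIdealOf ⟨ξ, hξ⟩).asIdeal
  letI := (CorrChart.comp hE g eV hξ).toAlgebra
  haveI : Module.Finite Γ(W, V) (Γ(P, E) ⧸ I) := hfin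
  let Ap := Localization.AtPrime p.asIdeal
  let S := Ap ⊗[Γ(W, V)] (Γ(P, E) ⧸ I)
  letI : Algebra (Γ(P, E) ⧸ I) S := Algebra.TensorProduct.rightAlgebra
  haveI : IsLocalization (Algebra.algebraMapSubmonoid (Γ(P, E) ⧸ I) p.asIdeal.primeCompl) S := inferInstance
  haveI : IsScalarTower Γ(W, V) (Γ(P, E) ⧸ I) S := IsScalarTower.of_algebraMap_eq fun a => by
    show _ = (1 : Ap) ⊗ₜ[Γ(W, V)] algebraMap Γ(W, V) (Γ(P, E) ⧸ I) a
    rw [Algebra.algebraMap_eq_smul_one (A := Γ(P, E) ⧸ I), ← TensorProduct.smul_tmul, Algebra.TensorProduct.algebraMap_apply,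
      ← Algebra.algebraMap_eq_smul_one]
  haveI : Module.Finite Ap S := Module.Finite.base_change _ _ _
  suffices Module.Flat Γ(W, V) S by
    haveI : Module.Flat Ap S := (Module.flat_iff_of_isLocalization Ap p.asIdeal.primeCompl S).mpr this
    exact Module.free_of_flat_of_isLocalRing
  refine Module.flat_of_isLocalized_maximal (R := Γ(W, V)) (S := S) (M := S)
    (fun Q _ => Localization.AtPrime Q) (fun Q _ => Algebra.linearMap _ _) fun Q _ => ?_
  let q : Ideal (Γ(P, E) ⧸ I) := Q.comap (algebraMap (Γ(P, E) ⧸ I) S)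
  haveI : q.IsPrime := Ideal.comap_isPrime _ _
  haveI : IsLocalization.AtPrime (Localization.AtPrime Q) q :=
    IsLocalization.isLocalization_isLocalization_atPrime_isLocalization
      (Algebra.algebraMapSubmonoid (Γ(P, E) ⧸ I) p.asIdeal.primeCompl) (Localization.AtPrime Q) Q
  have hp : q.comap (algebraMap Γ(W, V) (Γ(P, E) ⧸ I)) = p.asIdeal := by
    haveI : Algebra.IsIntegral Ap S := Algebra.IsIntegral.of_finite Ap S
    have hm : (Q.comap (algebraMap Ap S)).IsMaximal := Ideal.isMaximal_comap_of_isIntegral_of_isMaximal Q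
    have := IsLocalRing.eq_maximalIdeal hm
    rw [show p.asIdeal = (IsLocalRing.maximalIdeal Ap).comap (algebraMap Γ(W, V) Ap) from
      (Localization.AtPrime.under_maximalIdeal (I := p.asIdeal)).symm, ← this, Ideal.comap_comap, Ideal.comap_comap,
      ← IsScalarTower.algebraMap_eq, ← IsScalarTower.algebraMap_eq]
  let n : PrimeSpectrum Γ(P, E) := ⟨q.comap (Ideal.Quotient.mk I), inferInstance⟩
  let z := hE.fromSpec n
  have hz : z ∈ E := hE.range_fromSpec.le ⟨n, rfl⟩
  have hn : hE.primeIdealOf ⟨z, hz⟩ = n := CorrChart.primeIdealOf_fromSpec hE _ hz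
  have hgz : g z = hV.fromSpec p := by
    rw [apply_fromSpec hE g hV eV n]
    congr 1
    apply PrimeSpectrum.ext
    exact hp
  have hs : ξ ⤳ z := by
    rw [CorrChart.specializes_iff hE hξ hz, hn]
    intro a ha
    show Ideal.Quotient.mk I a ∈ q
    rw [Ideal.Quotient.eq_zero_iff_mem.mpr ha]
    exact zero_mem _
  letI : Algebra Γ(P, E) (P.presheaf.stalk z) := (P.presheaf.germ E z hz).hom.toAlgebra
  haveI : IsLocalization.AtPrime (P.presheaf.stalk z) (q.comap (Ideal.Quotient.mk I)) := by
    have := hE.isLocalization_stalk ⟨z, hz⟩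
    rw [hn] at this
    exact this
  obtain ⟨f, hf, hker, hfr⟩ := CorrChart.exists_localization_surj (Ideal.Quotient.mk I) Ideal.Quotient.mk_surjective q
    (P.presheaf.stalk z)
  rw [Ideal.mk_ker] at hker
  have hk : RingHom.ker (Cyc.specMap z ξ hs) = RingHom.ker f := (CorrChart.ker_specMap hE hξ hz hs).trans hker.symm
  let e : Cyc.LocQuot z ξ hs ≃+* Localization.AtPrime q :=
    (Ideal.quotEquivOfEq hk).trans (RingHom.quotientKerEquivOfSurjective hf)
  let ψ₁ : Γ(W, V) →+* Cyc.LocQuot z ξ hs :=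
    ((Ideal.Quotient.mk (RingHom.ker (Cyc.specMap z ξ hs))).comp (g.stalkMap z).hom).comp
      (W.presheaf.germ V (g z) (eV hz)).hom
  have hψ₁ : ψ₁.Flat := by
    refine RingHom.Flat.comp ?_ (hflat z hz hs hgz)
    letI : Algebra Γ(W, V) (W.presheaf.stalk (g z)) := (W.presheaf.germ V (g z) (eV hz)).hom.toAlgebra
    haveI : IsLocalization.AtPrime (W.presheaf.stalk (g z)) (hV.primeIdealOf ⟨g z, eV hz⟩).asIdeal :=
      hV.isLocalization_stalk ⟨g z, eV hz⟩
    exact IsLocalization.flat (W.presheaf.stalk (g z)) (hV.primeIdealOf ⟨g z, eV hz⟩).asIdeal.primeCompl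
  letI : Algebra Γ(W, V) (Cyc.LocQuot z ξ hs) := ψ₁.toAlgebra
  haveI : Module.Flat Γ(W, V) (Cyc.LocQuot z ξ hs) := hψ₁
  have he : ∀ a : Γ(W, V), e (algebraMap Γ(W, V) (Cyc.LocQuot z ξ hs) a) = algebraMap Γ(W, V) (Localization.AtPrime q) a := by
    intro a
    rw [IsScalarTower.algebraMap_apply Γ(W, V) (Γ(P, E) ⧸ I) (Localization.AtPrime q)]
    show f ((g.stalkMap z).hom ((W.presheaf.germ V (g z) (eV hz)).hom a)) =
      algebraMap _ (Localization.AtPrime q) (Ideal.Quotient.mk I (g.appLE V E eV a))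
    rw [← hfr]
    congr 1
    show (W.presheaf.germ V (g z) (eV hz) ≫ g.stalkMap z) a = (g.appLE V E eV ≫ P.presheaf.germ E z hz) a
    rw [Scheme.Hom.germ_stalkMap, Scheme.Hom.appLE, Category.assoc, TopCat.Presheaf.germ_res]
  let e' : Cyc.LocQuot z ξ hs ≃ₗ[Γ(W, V)] Localization.AtPrime q := (AlgEquiv.ofRingEquiv (f := e) he).toLinearEquiv
  haveI : IsScalarTower Γ(W, V) (Γ(P, E) ⧸ I) (Localization.AtPrime Q) := inferInstance
  let e'' : Localization.AtPrime q ≃ₗ[Γ(W, V)] Localization.AtPrime Q :=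
    ((IsLocalization.algEquiv q.primeCompl (Localization.AtPrime q) (Localization.AtPrime Q)).restrictScalars Γ(W, V)).toLinearEquiv
  exact Module.Flat.of_linearEquiv (e'.trans e'').symm

theorem exists_away_free {A : Type u} [CommRing A] [IsNoetherianRing A] (p : Ideal A) [p.IsPrime]
    {ι : Type u} [Fintype ι] (B : ι → Type u) [∀ i, AddCommGroup (B i)] [∀ i, Module A (B i)]
    [∀ i, Module.Finite A (B i)] (hB : ∀ i, Module.Free (Localization.AtPrime p) (Localization.AtPrime p ⊗[A] B i)) :
    ∃ f ∉ p, ∀ (A' : Type u) [CommRing A'] [Algebra A A'] [IsLocalization.Away f A'], ∀ i,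
      Module.Free A' (A' ⊗[A] B i) := by
  classical
  have hr : ∀ i, ∃ r ∉ p, Module.Free (Localization (Submonoid.powers r)) (LocalizedModule.Away r (B i)) := by
    intro i
    haveI : Module.FinitePresentation A (B i) := Module.finitePresentation_of_finite A (B i)
    haveI : Module.Free (Localization.AtPrime p) (LocalizedModule p.primeCompl (B i)) :=
      haveI := hB i
      Module.Free.of_equiv (LocalizedModule.equivTensorProduct p.primeCompl (B i)).symm
    obtain ⟨r, hr, hfree, -⟩ := Module.FinitePresentation.exists_free_localizedModule_powers p.primeCompl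
      (LocalizedModule.mkLinearMap p.primeCompl (B i)) (Localization.AtPrime p)
    exact ⟨r, hr, hfree⟩
  choose r hrp hfree using hr
  refine ⟨∏ i, r i, fun hmem => ?_, fun A' _ _ _ i => ?_⟩
  · obtain ⟨i, _, hi⟩ := Ideal.IsPrime.prod_mem_iff.mp hmem
    exact hrp i hi
  · have hu : IsUnit (algebraMap A A' (r i)) := by
      refine isUnit_of_dvd_unit ?_ (IsLocalization.Away.algebraMap_isUnit (S := A') (∏ j, r j))
      exact map_dvd _ (Finset.dvd_prod_of_mem r (Finset.mem_univ i))
    let φ : Localization.Away (r i) →+* A' := IsLocalization.Away.lift (r i) hu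
    letI : Algebra (Localization.Away (r i)) A' := φ.toAlgebra
    haveI : IsScalarTower A (Localization.Away (r i)) A' := IsScalarTower.of_algebraMap_eq fun a =>
      (IsLocalization.Away.lift_eq (r i) hu a).symm
    haveI : Module.Free (Localization.Away (r i)) (Localization.Away (r i) ⊗[A] B i) :=
      haveI := hfree i
      Module.Free.of_equiv (LocalizedModule.equivTensorProduct (Submonoid.powers (r i)) (B i))
    exact Module.Free.of_equiv
      (TensorProduct.AlgebraTensorModule.cancelBaseChange A (Localization.Away (r i)) A' A' (B i))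

end Groth.Cycles.CorrFree
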