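import Groth.Agent.Cycles.CorrMap
import Groth.Agent.Pi1Quot.Descend
import Groth.Agent.S7388
import Groth.Agent.Chow.Projective
import Mathlib.AlgebraicGeometry.AlgClosed.Basic

/-!
Gluing the local morphisms to the symmetric product.
-/

set_option autoImplicit false
set_option backward.isDefEq.respectTransparency false
set_option linter.style.haveILetI false

universe u

open CategoryTheory CategoryTheory.Limits AlgebraicGeometry

namespace Groth.Cycles.CorrGlue

variable {k : Type u} [Field k] [IsAlgClosed k] {X Sy : Scheme.{u}} {pX : X ⟶ Spec (CommRingCat.of k)} {d : ℕ}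
  {q : SymProd.fibPow pX d ⟶ Sy} {g : Sy ⟶ Spec (CommRingCat.of k)}

/-- A point of the symmetric product is determined by its cycle. -/
theorem eq_of_isCycle [LocallyOfFiniteType pX] (hS : SymProd.IsSymProd pX d q g)
    {y y' : Spec (CommRingCat.of k) ⟶ Sy} (hy : y ≫ g = 𝟙 _) (hy' : y' ≫ g = 𝟙 _) {α : X → ℤ}
    (h : ZCorr.IsCycleOfSymPt pX d q y α) (h' : ZCorr.IsCycleOfSymPt pX d q y' α) : y = y' := by
  classical
  obtain ⟨t, rfl, ht⟩ := h
  obtain ⟨t', rfl, ht'⟩ := h'
  have hb : ∀ (r : Spec (CommRingCat.of k) ⟶ SymProd.fibPow pX d), (r ≫ q) ≫ g = 𝟙 _ →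
      r ≫ WidePullback.base (fun _ : Fin d => pX) = 𝟙 _ ∧
      ∀ i, (r ≫ WidePullback.π (fun _ : Fin d => pX) i) ≫ pX = 𝟙 _ := by
    intro r hr
    rw [Category.assoc, hS.over] at hr
    exact ⟨hr, fun i => by rw [Category.assoc, WidePullback.π_arrow, hr]⟩
  obtain ⟨hb1, hs1⟩ := hb t hy
  obtain ⟨hb2, hs2⟩ := hb t' hy'
  let a := fun i : Fin d => (t ≫ WidePullback.π (fun _ : Fin d => pX) i) (IsLocalRing.closedPoint k)
  let b := fun i : Fin d => (t' ≫ WidePullback.π (fun _ : Fin d => pX) i) (IsLocalRing.closedPoint k)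
  have hcard : ∀ x, Fintype.card {i // a i = x} = Fintype.card {i // b i = x} := fun x => by
    have := (ht x).symm.trans (ht' x)
    rw [Nat.card_eq_fintype_card, Nat.card_eq_fintype_card] at this
    exact_mod_cast this
  let σ : Equiv.Perm (Fin d) := (Equiv.sigmaFiberEquiv a).symm.trans
    ((Equiv.sigmaCongrRight fun x => Fintype.equivOfCardEq (hcard x)).trans (Equiv.sigmaFiberEquiv b))
  have hσ : ∀ i, b (σ i) = a i := fun i => (Fintype.equivOfCardEq (hcard (a i)) ⟨i, rfl⟩).2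
  have hperm : t ≫ SymProd.permHom pX d σ = t' := by
    apply WidePullback.hom_ext
    · intro i
      rw [Category.assoc, SymProd.permHom_π]
      refine ext_of_apply_closedPoint_eq pX (hs1 _) (hs2 _) ?_
      have := hσ (σ.symm i)
      rw [Equiv.apply_symm_apply] at this
      exact this.symm
    · rw [Category.assoc, SymProd.permHom_base, hb1, hb2]
  rw [← hperm, Category.assoc, show SymProd.permHom pX d σ ≫ q = q from hS.isQuot.inv (ULift.up σ)]

omit [IsAlgClosed k] in
/-- The structure map of a fibre power has the properties of the factor that are stable under base change and composition. -/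
theorem base_mem (P : MorphismProperty Scheme.{u}) [P.IsStableUnderBaseChange] [P.IsStableUnderComposition]
    [P.ContainsIdentities] [P.RespectsIso] {S X : Scheme.{u}} (f : X ⟶ S) (hf : P f) :
    ∀ d : ℕ, P (WidePullback.base (fun _ : Fin d => f)) := by
  intro d
  induction d with
  | zero =>
    haveI : IsIso (WidePullback.base (fun _ : Fin 0 => f)) := by
      refine ⟨WidePullback.lift (𝟙 _) (fun i => i.elim0) (fun i => i.elim0), ?_, WidePullback.lift_base _ _ _ _⟩
      apply WidePullback.hom_ext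
      · exact fun i => i.elim0
      · rw [Category.assoc, WidePullback.lift_base, Category.comp_id, Category.id_comp]
    exact P.of_isIso _
  | succ d ih =>
    let b : pullback f (WidePullback.base (fun _ : Fin d => f)) ⟶ SymProd.fibPow f (d + 1) :=
      WidePullback.lift (pullback.snd _ _ ≫ WidePullback.base _)
        (Fin.cases (pullback.fst _ _) (fun i => pullback.snd _ _ ≫ WidePullback.π (fun _ : Fin d => f) i))
        (by
          intro i
          refine Fin.cases ?_ ?_ i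
          · simp only [Fin.cases_zero]; exact pullback.condition
          · intro j; simp only [Fin.cases_succ, Category.assoc, WidePullback.π_arrow])
    let a : SymProd.fibPow f (d + 1) ⟶ pullback f (WidePullback.base (fun _ : Fin d => f)) :=
      pullback.lift (WidePullback.π (fun _ : Fin (d+1) => f) 0)
        (WidePullback.lift (WidePullback.base _) (fun i => WidePullback.π (fun _ : Fin (d+1) => f) i.succ)
          (fun i => WidePullback.π_arrow _ _))
        (by rw [WidePullback.lift_base, WidePullback.π_arrow])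
    haveI : IsIso a := by
      refine ⟨b, ?_, ?_⟩
      · apply WidePullback.hom_ext
        · intro i
          refine Fin.cases ?_ ?_ i
          · simp [a, b]
          · intro j; simp [a, b]
        · simp [a, b]
      · apply pullback.hom_ext
        · simp [a, b]
        · apply WidePullback.hom_ext
          · intro i; simp [a, b]
          · simp [a, b]
    have he : WidePullback.base (fun _ : Fin (d+1) => f) = a ≫ pullback.snd _ _ ≫ WidePullback.base _ := by
      simp [a]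
    rw [he, P.cancel_left_of_respectsIso]
    exact P.comp_mem _ _ (P.pullback_snd _ _ hf) ih

/-- Finitely many points of an H-projective scheme lie in an affine open. -/
theorem exists_affine_finset {R : Type u} [CommRing R] {pX : X ⟶ Spec (CommRingCat.of R)}
    (hX : RelProj.IsHProjective pX) (T : Finset X) : ∃ U : X.Opens, IsAffineOpen U ∧ ∀ x ∈ T, x ∈ U := by
  classical
  obtain ⟨n, i, hi, -⟩ := hX
  haveI := hi
  let φ := pullback.fst (CohB1.ProjSpace.toSpec n (ULift.{u} ℤ)) (specULiftZIsTerminal.from (Spec (CommRingCat.of R)))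
  haveI : IsAffineHom φ := MorphismProperty.pullback_fst _ _ inferInstance
  obtain ⟨U, hU, hUT⟩ := Groth.Agent.S7388.result (CohB1.polyGrading n (ULift.{u} ℤ))
    (𝟙 (Proj (CohB1.polyGrading n (ULift.{u} ℤ)))) ((fun x => φ (i x)) '' (T : Set X)) (T.finite_toSet.image _)
  let ψ : X ⟶ Proj (CohB1.polyGrading n (ULift.{u} ℤ)) := i ≫ φ
  haveI : IsAffineHom ψ := inferInstanceAs (IsAffineHom (i ≫ φ))
  exact ⟨ψ ⁻¹ᵁ U, hU.preimage ψ, fun x hx => hUT ⟨x, Finset.mem_coe.mpr hx, rfl⟩⟩

variable [CharZero k] {W : Scheme.{u}} {pW : W ⟶ Spec (CommRingCat.of k)}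

/-- A family of effective zero-cycles, finite flat over an open, gives a morphism on that open. -/
theorem exists_morphism [IsProper pX] [LocallyOfFiniteType pW] [IsReduced W]
    (hAF : ∀ T : Finset X, ∃ U : X.Opens, IsAffineOpen U ∧ ∀ x ∈ T, x ∈ U)
    (hS : SymProd.IsSymProd pX d q g)
    (Γc : AlgebraicCycle (pullback pX pW) ℤ) (hΓ0 : ∀ ξ, 0 ≤ Γc ξ)
    (hfin : ∀ ξ, Γc ξ ≠ 0 → ∀ w : W, (closure {ξ} ∩ pullback.snd pX pW ⁻¹' {w}).Finite)
    (O : W.Opens)
    (hflat : ∀ ξ, Γc ξ ≠ 0 → ∀ (z : ↥(pullback pX pW)) (h : ξ ⤳ z), pullback.snd pX pW z ∈ O →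
      ((Ideal.Quotient.mk (RingHom.ker (Cyc.specMap z ξ h))).comp ((pullback.snd pX pW).stalkMap z).hom).Flat)
    (hdeg : ∀ (t : Spec (CommRingCat.of k) ⟶ W) (ht : t ≫ pW = 𝟙 _), t (IsLocalRing.closedPoint k) ∈ O →
      ∑ᶠ x, AlgEqCyc.fibreFun pX pW Γc t ht x = (d : ℤ)) :
    ∃ F : O.toScheme ⟶ Sy, F ≫ g = O.ι ≫ pW ∧
      ∀ (u : Spec (CommRingCat.of k) ⟶ O.toScheme) (hu : (u ≫ O.ι) ≫ pW = 𝟙 _),
        ZCorr.IsCycleOfSymPt pX d q (u ≫ F) (AlgEqCyc.fibreFun pX pW Γc (u ≫ O.ι) hu) := by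
  classical
  haveI : IsSeparated (q ≫ g) := by
    rw [hS.over]
    exact base_mem @IsSeparated pX inferInstance d
  haveI : IsSeparated g := Groth.Pi1Quot.isSeparated_of_comp hS.isQuot g
  haveI : LocallyOfFiniteType (q ≫ g) := by
    rw [hS.over]
    exact base_mem @LocallyOfFiniteType pX inferInstance d
  haveI : LocallyOfFiniteType g := Groth.Pi1Quot.locallyOfFiniteType_quot hS.isQuot g
  haveI : JacobsonSpace W := LocallyOfFiniteType.jacobsonSpace pW
  let I := {w : W // w ∈ O ∧ IsClosed ({w} : Set W)}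
  choose T ι hι F hwι hFg hF using fun w : I =>
    CorrMap.exists_local pX pW hAF hS Γc hΓ0 hfin O w.1 w.2.1 w.2.2 hflat hdeg
  haveI := hι
  let T' := fun w : I => (ι w ⁻¹ᵁ O).toScheme
  let ι' : ∀ w : I, T' w ⟶ O.toScheme := fun w => ι w ∣_ O
  have hι' : ∀ w, ι' w ≫ O.ι = (ι w ⁻¹ᵁ O).ι ≫ ι w := fun w => morphismRestrict_ι _ _
  haveI : ∀ w, IsOpenImmersion (ι' w) := fun w => inferInstanceAs (IsOpenImmersion (ι w ∣_ O))
  have hcov : ∀ y : O.toScheme, ∃ w : I, y ∈ Set.range (ι' w) := by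
    intro y
    have hall : (O : Set W) ⊆ ⋃ w : I, Set.range (ι w) := by
      intro z hz
      by_contra hzn
      obtain ⟨c, hc, hcl⟩ := nonempty_inter_closedPoints (X := W)
        (Z := (O : Set W) ∩ (⋃ w : I, Set.range (ι w))ᶜ)
        ⟨z, hz, hzn⟩ (O.2.isLocallyClosed.inter (isOpen_iUnion fun w => (ι w).isOpenEmbedding.isOpen_range).isClosed_compl.isLocallyClosed)
      exact hc.2 (Set.mem_iUnion.mpr ⟨⟨c, hc.1, mem_closedPoints_iff.mp hcl⟩, hwι _⟩)
    obtain ⟨w, z, hz⟩ := Set.mem_iUnion.mp (hall y.2)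
    refine ⟨w, ⟨z, by show ι w z ∈ O; rw [hz]; exact y.2⟩, O.ι.isOpenEmbedding.injective ?_⟩
    rw [← Scheme.Hom.comp_apply, hι', Scheme.Hom.comp_apply]
    exact hz
  let 𝒰 : O.toScheme.OpenCover := Scheme.Cover.mkOfCovers I T' ι' hcov (fun w => inferInstanceAs (IsOpenImmersion (ι' w)))
  let G : ∀ w : I, T' w ⟶ Sy := fun w => (ι w ⁻¹ᵁ O).ι ≫ F w
  have hGg : ∀ w, G w ≫ g = ι' w ≫ O.ι ≫ pW := fun w => by
    rw [Category.assoc, hFg, ← Category.assoc, ← hι', Category.assoc]
  have hGpt : ∀ w (u : Spec (CommRingCat.of k) ⟶ T' w) (hu : ((u ≫ ι' w) ≫ O.ι) ≫ pW = 𝟙 _),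
      ZCorr.IsCycleOfSymPt pX d q (u ≫ G w) (AlgEqCyc.fibreFun pX pW Γc ((u ≫ ι' w) ≫ O.ι) hu) := by
    intro w u hu
    have e : (u ≫ ι' w) ≫ O.ι = (u ≫ (ι w ⁻¹ᵁ O).ι) ≫ ι w := by simp only [Category.assoc, hι']
    have := hF w (u ≫ (ι w ⁻¹ᵁ O).ι) (e ▸ hu)
    simp only [G, ← Category.assoc]
    convert this using 2
  have hagree : ∀ v w : I, pullback.fst (ι' v) (ι' w) ≫ G v = pullback.snd (ι' v) (ι' w) ≫ G w := by
    intro v w
    have hst : (pullback.fst (ι' v) (ι' w) ≫ G v) ≫ g = (pullback.snd (ι' v) (ι' w) ≫ G w) ≫ g := by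
      simp only [Category.assoc]
      rw [hGg v, hGg w, ← Category.assoc, pullback.condition, Category.assoc]
    haveI : LocallyOfFiniteType ((pullback.fst (ι' v) (ι' w) ≫ G v) ≫ g) := by
      rw [Category.assoc, hGg]
      infer_instance
    haveI : IsReduced (pullback (ι' v) (ι' w)) := isReduced_of_isOpenImmersion (pullback.fst (ι' v) (ι' w) ≫ ι' v)
    refine ext_of_apply_eq (K := k) g Set.univ isOpen_univ.isLocallyClosed dense_univ (fun y _ hy => ?_) hst
    let st := (pullback.fst (ι' v) (ι' w) ≫ G v) ≫ g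
    let u := pointOfClosedPoint st y hy
    have hu := pointOfClosedPoint_comp st y hy
    have hu1 : ((u ≫ pullback.fst (ι' v) (ι' w)) ≫ ι' v) ≫ O.ι ≫ pW = 𝟙 _ := by
      refine Eq.trans ?_ hu
      show _ = u ≫ _
      simp only [st, Category.assoc]
      rw [hGg v]
    have hu2 : ((u ≫ pullback.snd (ι' v) (ι' w)) ≫ ι' w) ≫ O.ι ≫ pW = 𝟙 _ := by
      rw [← hu1]
      simp only [Category.assoc, pullback.condition_assoc]
    have e : ((u ≫ pullback.fst (ι' v) (ι' w)) ≫ ι' v) ≫ O.ι = ((u ≫ pullback.snd (ι' v) (ι' w)) ≫ ι' w) ≫ O.ι := by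
      simp only [Category.assoc, pullback.condition_assoc]
    have h1 := hGpt v (u ≫ pullback.fst (ι' v) (ι' w)) (by rw [Category.assoc]; exact hu1)
    have h2 := hGpt w (u ≫ pullback.snd (ι' v) (ι' w)) (by rw [Category.assoc]; exact hu2)
    have cong : ∀ (t t' : Spec (CommRingCat.of k) ⟶ W) (ht : t ≫ pW = 𝟙 _) (ht' : t' ≫ pW = 𝟙 _), t = t' →
        AlgEqCyc.fibreFun pX pW Γc t ht = AlgEqCyc.fibreFun pX pW Γc t' ht' := by
      rintro t _ ht ht' rfl; rfl
    rw [← cong _ _ (by rw [Category.assoc]; exact hu1) _ e] at h2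
    have hy1 : ((u ≫ pullback.fst (ι' v) (ι' w)) ≫ G v) ≫ g = 𝟙 _ := by
      simp only [Category.assoc, hGg]; simpa only [Category.assoc] using hu1
    have hy2 : ((u ≫ pullback.snd (ι' v) (ι' w)) ≫ G w) ≫ g = 𝟙 _ := by
      simp only [Category.assoc, hGg]; simpa only [Category.assoc] using hu2
    have key := eq_of_isCycle hS hy1 hy2 h1 h2
    have hk := congrArg (fun f : Spec (CommRingCat.of k) ⟶ Sy => f (IsLocalRing.closedPoint k)) key
    simpa [u, Category.assoc] using hk
  refine ⟨𝒰.glueMorphisms G hagree, ?_, fun u hu => ?_⟩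
  · refine 𝒰.hom_ext _ _ fun w => ?_
    show 𝒰.f w ≫ 𝒰.glueMorphisms G hagree ≫ g = 𝒰.f w ≫ O.ι ≫ pW
    rw [Scheme.Cover.ι_glueMorphisms_assoc]
    exact hGg w
  · obtain ⟨w, z, hz⟩ := hcov (u (IsLocalRing.closedPoint k))
    have hr : Set.range u ⊆ Set.range (ι' w) := by
      rintro _ ⟨y, rfl⟩
      rw [Subsingleton.elim y (IsLocalRing.closedPoint k)]
      exact ⟨z, hz⟩
    obtain ⟨u', rfl⟩ : ∃ u', u' ≫ ι' w = u := ⟨_, IsOpenImmersion.lift_fac (ι' w) u hr⟩
    have e : (u' ≫ ι' w) ≫ 𝒰.glueMorphisms G hagree = u' ≫ G w := by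
      rw [Category.assoc]
      exact congrArg (u' ≫ ·) (Scheme.Cover.ι_glueMorphisms 𝒰 G hagree w)
    rw [e]
    exact hGpt w u' hu

end Groth.Cycles.CorrGlue
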