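import Groth.Prelude.Def_SymProd
import Groth.Agent.Pi1Quot.Residue
import Groth.Agent.Pi1Quot.Descend
import Mathlib.AlgebraicGeometry.AlgClosed.Basic
import Mathlib.FieldTheory.Normal.Basic
import Mathlib.FieldTheory.IsAlgClosed.AlgebraicClosure

/-!
Geometric generic lifts to a fibre power and their conjugates.
-/

set_option autoImplicit false
set_option backward.isDefEq.respectTransparency false
set_option linter.style.haveILetI false

universe u

open CategoryTheory CategoryTheory.Limits AlgebraicGeometry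

namespace Groth.Cycles.CorrLift

/-- Two geometric points over the same point, algebraic over the base point, are conjugate. -/
theorem exists_conj {P W : Scheme.{u}} (g : P ⟶ W) {Ω : Type u} [Field Ω] [IsAlgClosed Ω] {w : W}
    (ψ : W.residueField w ⟶ CommRingCat.of Ω) (hψ : letI := ψ.hom.toAlgebra; Algebra.IsAlgebraic (W.residueField w) Ω)
    (ζ ζ' : Spec (CommRingCat.of Ω) ⟶ P) (h : ζ ≫ g = Spec.map ψ ≫ W.fromSpecResidueField w)
    (h' : ζ' ≫ g = Spec.map ψ ≫ W.fromSpecResidueField w)
    (hpt : ζ (IsLocalRing.closedPoint Ω) = ζ' (IsLocalRing.closedPoint Ω)) :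
    ∃ σ : Ω ≃+* Ω, Spec.map σ.toCommRingCatIso.hom ≫ ζ = ζ' ∧
      Spec.map σ.toCommRingCatIso.hom ≫ (Spec.map ψ ≫ W.fromSpecResidueField w) =
        Spec.map ψ ≫ W.fromSpecResidueField w := by
  obtain ⟨⟨ξ, φ⟩, rfl⟩ := (Scheme.SpecToEquivOfField Ω P).symm.surjective ζ
  obtain ⟨⟨ξ', φ'⟩, rfl⟩ := (Scheme.SpecToEquivOfField Ω P).symm.surjective ζ'
  simp only [Scheme.SpecToEquivOfField, Equiv.coe_fn_symm_mk] at h h' hpt ⊢
  rw [Scheme.Hom.comp_apply, Scheme.fromSpecResidueField_apply, Scheme.Hom.comp_apply,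
    Scheme.fromSpecResidueField_apply] at hpt
  subst hpt
  obtain rfl : g ξ = w := by
    have := congrArg (fun f : Spec (CommRingCat.of Ω) ⟶ W => f (IsLocalRing.closedPoint Ω)) h
    simp only [Scheme.Hom.comp_apply, Scheme.fromSpecResidueField_apply] at this
    exact this
  have e : ∀ φ : P.residueField ξ ⟶ CommRingCat.of Ω, (Spec.map φ ≫ P.fromSpecResidueField ξ) ≫ g =
      Spec.map ψ ≫ W.fromSpecResidueField (g ξ) → g.residueFieldMap ξ ≫ φ = ψ := by
    intro φ hφ
    rw [Category.assoc, ← Scheme.Hom.SpecMap_residueFieldMap_fromSpecResidueField, ← Category.assoc, ← Spec.map_comp,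
      cancel_mono] at hφ
    exact Spec.map_injective hφ
  have hc := e φ h
  have hc' := e φ' h'
  letI : Algebra (W.residueField (g ξ)) Ω := ψ.hom.toAlgebra
  haveI : Algebra.IsAlgebraic (W.residueField (g ξ)) Ω := hψ
  letI : Algebra (W.residueField (g ξ)) (P.residueField ξ) := (g.residueFieldMap ξ).hom.toAlgebra
  let a : P.residueField ξ →ₐ[W.residueField (g ξ)] Ω :=
    { φ.hom with commutes' := fun r => RingHom.congr_fun (congrArg CommRingCat.Hom.hom hc) r }
  let a' : P.residueField ξ →ₐ[W.residueField (g ξ)] Ω :=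
    { φ'.hom with commutes' := fun r => RingHom.congr_fun (congrArg CommRingCat.Hom.hom hc') r }
  haveI : IsAlgClosure (W.residueField (g ξ)) Ω := ⟨inferInstance, inferInstance⟩
  haveI : Normal (W.residueField (g ξ)) Ω := IsAlgClosure.normal _ _
  let j : a.fieldRange →ₐ[W.residueField (g ξ)] Ω := a'.comp (AlgEquiv.ofInjectiveField a).symm.toAlgHom
  let l : Ω →ₐ[W.residueField (g ξ)] Ω := j.liftNormal Ω
  let σ : Ω ≃ₐ[W.residueField (g ξ)] Ω := AlgEquiv.ofBijective l (Algebra.IsAlgebraic.algHom_bijective l)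
  have hσ : ∀ x, σ (φ x) = φ' x := fun x => by
    show l (algebraMap a.fieldRange Ω (AlgEquiv.ofInjectiveField a x)) = _
    rw [AlgHom.liftNormal_commutes]
    show a' ((AlgEquiv.ofInjectiveField a).symm (AlgEquiv.ofInjectiveField a x)) = _
    rw [AlgEquiv.symm_apply_apply]
    rfl
  refine ⟨σ.toRingEquiv, ?_, ?_⟩
  · rw [← Category.assoc, ← Spec.map_comp]
    congr 2
    exact CommRingCat.hom_ext (RingHom.ext hσ)
  · rw [← Category.assoc, ← Spec.map_comp]
    congr 2
    exact CommRingCat.hom_ext (RingHom.ext σ.commutes)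

/-- A point with an algebraic geometric point over the base point has algebraic residue field. -/
theorem isAlgebraic_residue {P W : Scheme.{u}} (g : P ⟶ W) {Ω : Type u} [Field Ω] {w : W}
    (ψ : W.residueField w ⟶ CommRingCat.of Ω) (hψ : letI := ψ.hom.toAlgebra; Algebra.IsAlgebraic (W.residueField w) Ω)
    (ζ : Spec (CommRingCat.of Ω) ⟶ P) (h : ζ ≫ g = Spec.map ψ ≫ W.fromSpecResidueField w) :
    letI := (g.residueFieldMap (ζ (IsLocalRing.closedPoint Ω))).hom.toAlgebra
    Algebra.IsAlgebraic (W.residueField (g (ζ (IsLocalRing.closedPoint Ω))))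
      (P.residueField (ζ (IsLocalRing.closedPoint Ω))) := by
  obtain ⟨⟨ξ, φ⟩, rfl⟩ := (Scheme.SpecToEquivOfField Ω P).symm.surjective ζ
  simp only [Scheme.SpecToEquivOfField, Equiv.coe_fn_symm_mk] at h ⊢
  suffices key : ∀ x, x = ξ → (letI := (g.residueFieldMap x).hom.toAlgebra
      Algebra.IsAlgebraic (W.residueField (g x)) (P.residueField x)) from
    key _ (by rw [Scheme.Hom.comp_apply, Scheme.fromSpecResidueField_apply])
  rintro x rfl
  obtain rfl : g x = w := by
    have := congrArg (fun f : Spec (CommRingCat.of Ω) ⟶ W => f (IsLocalRing.closedPoint Ω)) h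
    simp only [Scheme.Hom.comp_apply, Scheme.fromSpecResidueField_apply] at this
    exact this
  rw [Category.assoc, ← Scheme.Hom.SpecMap_residueFieldMap_fromSpecResidueField, ← Category.assoc, ← Spec.map_comp,
    cancel_mono] at h
  have hc := Spec.map_injective h
  letI : Algebra (W.residueField (g x)) Ω := ψ.hom.toAlgebra
  haveI : Algebra.IsAlgebraic (W.residueField (g x)) Ω := hψ
  letI : Algebra (W.residueField (g x)) (P.residueField x) := (g.residueFieldMap x).hom.toAlgebra
  exact Algebra.IsAlgebraic.of_injective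
    ({ φ.hom with commutes' := fun r => RingHom.congr_fun (congrArg CommRingCat.Hom.hom hc) r } :
      P.residueField x →ₐ[W.residueField (g x)] Ω) φ.hom.injective

variable {k : Type u} [Field k] {X Sy : Scheme.{u}} {pX : X ⟶ Spec (CommRingCat.of k)} {d : ℕ}
  {q : SymProd.fibPow pX d ⟶ Sy} {g : Sy ⟶ Spec (CommRingCat.of k)}

/-- A point of the symmetric product with values in an algebraically closed field lifts. -/
theorem exists_lift [LocallyOfFiniteType pX] (hS : SymProd.IsSymProd pX d q g) (hq : IsFinite q) {Ω : Type u} [Field Ω]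
    [IsAlgClosed Ω] (y : Spec (CommRingCat.of Ω) ⟶ Sy) :
    ∃ τ : Spec (CommRingCat.of Ω) ⟶ SymProd.fibPow pX d, τ ≫ q = y := by
  haveI := hq
  haveI := Groth.Pi1Quot.surjective hS.isQuot
  let sn := pullback.snd q y
  haveI : IsFinite sn := MorphismProperty.pullback_snd q y inferInstance
  haveI : Surjective sn := MorphismProperty.pullback_snd q y inferInstance
  haveI : JacobsonSpace ↥(pullback q y) := LocallyOfFiniteType.jacobsonSpace sn
  obtain ⟨z, -⟩ := sn.surjective (IsLocalRing.closedPoint Ω)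
  obtain ⟨c, -, hc⟩ := nonempty_inter_closedPoints (X := ↥(pullback q y)) (Z := Set.univ) ⟨z, trivial⟩
    isOpen_univ.isLocallyClosed
  refine ⟨pointOfClosedPoint sn c (mem_closedPoints_iff.mp hc) ≫ pullback.fst q y, ?_⟩
  rw [Category.assoc, pullback.condition, ← Category.assoc, pointOfClosedPoint_comp, Category.id_comp]

/-- The multiplicities of the coordinates of a lift are invariant under conjugation. -/
theorem natCard_conj (hS : SymProd.IsSymProd pX d q g) {Ω : Type u} [Field Ω]
    (τ : Spec (CommRingCat.of Ω) ⟶ SymProd.fibPow pX d) (σ : Ω ≃+* Ω)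
    (hσ : Spec.map σ.toCommRingCatIso.hom ≫ τ ≫ q = τ ≫ q) (y : Spec (CommRingCat.of Ω) ⟶ X) :
    Nat.card {i : Fin d // τ ≫ WidePullback.π (fun _ => pX) i = y} =
      Nat.card {i : Fin d // τ ≫ WidePullback.π (fun _ => pX) i = Spec.map σ.toCommRingCatIso.hom ≫ y} := by
  classical
  obtain ⟨e, he⟩ := Groth.Pi1Quot.exists_fieldPoint_smul hS.isQuot τ (Spec.map σ.toCommRingCatIso.hom ≫ τ)
    (by rw [Category.assoc]; exact hσ.symm)
  have he' : τ ≫ SymProd.permHom pX d e.down = Spec.map σ.toCommRingCatIso.hom ≫ τ := he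
  refine Nat.card_congr (Equiv.subtypeEquiv e.down.symm fun i => ?_)
  rw [← cancel_epi (Spec.map σ.toCommRingCatIso.hom), ← Category.assoc, ← he', Category.assoc, SymProd.permHom_π]

end Groth.Cycles.CorrLift
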