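import Groth.Agent.Cycles.CorrAlg
import Mathlib.RingTheory.Norm.Transitivity
import Mathlib.RingTheory.Localization.BaseChange
import Mathlib.FieldTheory.Perfect
import Mathlib.RingTheory.IntegralClosure.IsIntegralClosure.Basic

/-!
Norms as products over embeddings; tuples of ring maps determined by their products.
-/

set_option autoImplicit false

universe u v w

open scoped TensorProduct

namespace Groth.Cycles.CorrNorm

/-- A finite set of ring maps is separated by one element. -/
theorem exists_separating {C : Type u} [CommRing C] {L : Type v} [Field L] [CharZero L] (S : Finset (C →+* L)) :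
    ∃ c, Set.InjOn (fun h : C →+* L => h c) S := by
  classical
  let D := S.offDiag
  have hne : ∀ p : D, ∃ c, p.1.1 c ≠ p.1.2 c := fun p => by
    by_contra h
    push Not at h
    exact (Finset.mem_offDiag.mp p.2).2.2 (RingHom.ext h)
  choose c hc using hne
  let e := Fintype.equivFin D
  let Q : D → Polynomial L := fun p => ∑ i : D, Polynomial.C (p.1.1 (c i) - p.1.2 (c i)) * Polynomial.X ^ (e i : ℕ)
  have hQ : ∀ p, Q p ≠ 0 := fun p h => by
    have he : (Q p).coeff (e p : ℕ) = p.1.1 (c p) - p.1.2 (c p) := by
      show (∑ i : D, Polynomial.C (p.1.1 (c i) - p.1.2 (c i)) * Polynomial.X ^ (e i : ℕ)).coeff _ = _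
      rw [Polynomial.finsetSum_coeff, Finset.sum_eq_single p]
      · rw [Polynomial.coeff_C_mul, Polynomial.coeff_X_pow, if_pos rfl, mul_one]
      · intro i _ hi
        rw [Polynomial.coeff_C_mul, Polynomial.coeff_X_pow, if_neg, mul_zero]
        exact fun h => hi (e.injective (Fin.ext h)).symm
      · exact fun h => absurd (Finset.mem_univ p) h
    rw [h, Polynomial.coeff_zero] at he
    exact hc p (sub_eq_zero.mp he.symm)
  obtain ⟨n, hn⟩ : ∃ n : ℕ, (∏ p : D, Q p).eval (n : L) ≠ 0 := by
    by_contra h
    push Not at h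
    refine (Finset.prod_ne_zero_iff (s := (Finset.univ : Finset D)) (f := Q)).mpr (fun p _ => hQ p)
      (Polynomial.eq_zero_of_infinite_isRoot _
        ((Set.infinite_range_of_injective (Nat.cast_injective (R := L))).mono ?_))
    rintro _ ⟨m, rfl⟩
    exact h m
  refine ⟨∑ i : D, c i * (n : C) ^ (e i : ℕ), fun a ha b hb hab => ?_⟩
  by_contra hne
  let p : D := ⟨(a, b), Finset.mem_offDiag.mpr ⟨ha, hb, hne⟩⟩
  rw [Polynomial.eval_prod, Finset.prod_ne_zero_iff] at hn
  apply hn p (Finset.mem_univ _)
  simp only [map_sum, map_mul, map_pow, map_natCast] at hab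
  show (∑ i : D, Polynomial.C (a (c i) - b (c i)) * Polynomial.X ^ (e i : ℕ)).eval (n : L) = 0
  simp only [Polynomial.eval_finsetSum, Polynomial.eval_mul, Polynomial.eval_C, Polynomial.eval_pow, Polynomial.eval_X,
    sub_mul, Finset.sum_sub_distrib, sub_eq_zero]
  exact hab

/-- Tuples of ring maps with equal products are equal up to order. -/
theorem natCard_eq_of_prod_eq {C : Type u} [CommRing C] {L : Type v} [Field L] [CharZero L] {ι ι' : Type w} [Fintype ι]
    [Fintype ι'] (x : ι → C →+* L) (y : ι' → C →+* L) (h : ∀ c, ∏ i, x i c = ∏ j, y j c) (φ : C →+* L) :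
    Nat.card {i // x i = φ} = Nat.card {j // y j = φ} := by
  classical
  let S : Finset (C →+* L) := insert φ (Finset.univ.image x ∪ Finset.univ.image y)
  obtain ⟨c, hc⟩ := exists_separating S
  let Px : Polynomial L := ∏ i, (Polynomial.X - Polynomial.C (-x i c))
  let Py : Polynomial L := ∏ j, (Polynomial.X - Polynomial.C (-y j c))
  have hP : Px = Py := by
    refine Polynomial.eq_of_infinite_eval_eq _ _ ((Set.infinite_range_of_injective (Nat.cast_injective (R := L))).mono ?_)
    rintro _ ⟨n, rfl⟩
    have := h ((n : C) + c)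
    simp only [map_add, map_natCast] at this
    simpa [Px, Py, Polynomial.eval_prod, sub_neg_eq_add] using this
  have hroots := congrArg Polynomial.roots hP
  simp only [Px, Py, Finset.prod_eq_multiset_prod] at hroots
  rw [show (Finset.univ.val.map fun i => Polynomial.X - Polynomial.C (-x i c)) =
      ((Finset.univ.val.map fun i => -x i c).map fun a => Polynomial.X - Polynomial.C a) by rw [Multiset.map_map]; rfl,
    show (Finset.univ.val.map fun i => Polynomial.X - Polynomial.C (-y i c)) =
      ((Finset.univ.val.map fun i => -y i c).map fun a => Polynomial.X - Polynomial.C a) by rw [Multiset.map_map]; rfl,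
    Polynomial.roots_multiset_prod_X_sub_C, Polynomial.roots_multiset_prod_X_sub_C] at hroots
  have key := congrArg (Multiset.count (-φ c)) hroots
  have e : ∀ {κ : Type w} [Fintype κ] (z : κ → C →+* L), (∀ i, z i ∈ S) →
      Multiset.count (-φ c) (Finset.univ.val.map fun i => -z i c) = Nat.card {i // z i = φ} := by
    intro κ _ z hz
    rw [Multiset.count_map, Nat.card_eq_fintype_card, Fintype.card_subtype, Finset.card_def, Finset.filter_val]
    congr 1
    refine Multiset.filter_congr fun i _ => ?_
    constructor
    · intro hh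
      exact hc (hz i) (by simp [S]) (neg_injective hh.symm)
    · intro hh
      rw [hh]
  rw [e x (fun i => by simp [S]), e y (fun i => by simp [S])] at key
  exact key

/-- The norm of a finite domain over a domain is the product over its embeddings. -/
theorem norm_prod {A : Type u} [CommRing A] [IsDomain A] {Ω : Type u} [Field Ω] [IsAlgClosed Ω] [CharZero Ω]
    [Algebra A Ω] [FaithfulSMul A Ω] {B : Type u} [CommRing B] [IsDomain B] [Algebra A B] [Module.Finite A B]
    [FaithfulSMul A B] {A' : Type u} [CommRing A'] [Algebra A A'] [Module.Free A' (A' ⊗[A] B)]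
    [Fintype (B →ₐ[A] Ω)] (χ : A' →ₐ[A] Ω) (b : B) :
    χ (Algebra.norm A' ((1 : A') ⊗ₜ[A] b)) = ∏ φ : B →ₐ[A] Ω, φ b := by
  classical
  haveI : Module.Finite A' (A' ⊗[A] B) := Module.Finite.base_change _ _ _
  let K := FractionRing A
  letI : Algebra K Ω := FractionRing.liftAlgebra A Ω
  let ψ : K →ₐ[A] Ω := IsScalarTower.toAlgHom A K Ω
  rw [CorrAlg.map_norm χ b, ← CorrAlg.map_norm ψ b]
  let L := K ⊗[A] B
  letI : Algebra B L := Algebra.TensorProduct.rightAlgebra
  haveI : IsDomain L := IsLocalization.isDomain_of_le_nonZeroDivisors (R := B) L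
    (M := Algebra.algebraMapSubmonoid B (nonZeroDivisors A)) (by
      rintro _ ⟨a, ha, rfl⟩
      exact mem_nonZeroDivisors_of_ne_zero ((map_ne_zero_iff _ (FaithfulSMul.algebraMap_injective A B)).mpr
        (nonZeroDivisors.ne_zero ha)))
  haveI : FiniteDimensional K L := Module.Finite.base_change _ _ _
  letI : Field L := (isField_of_isIntegral_of_isField' (Field.toIsField K)).toField
  haveI : CharZero K := (algebraMap K Ω).charZero
  show algebraMap K Ω (Algebra.norm K ((1 : K) ⊗ₜ[A] b)) = _
  rw [Algebra.norm_eq_prod_embeddings K Ω]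
  let e : (L →ₐ[K] Ω) ≃ (B →ₐ[A] Ω) :=
    { toFun := fun σ => (σ.restrictScalars A).comp Algebra.TensorProduct.includeRight
      invFun := fun φ => Algebra.TensorProduct.lift (Algebra.ofId K Ω) φ fun _ _ => Commute.all _ _
      left_inv := fun σ => by
        ext b
        simp
        rfl
      right_inv := fun φ => by
        ext b
        show Algebra.TensorProduct.lift (Algebra.ofId K Ω) φ (fun _ _ => Commute.all _ _) ((1 : K) ⊗ₜ[A] b) = φ b
        simp }
  exact Fintype.prod_equiv e _ _ fun σ => rfl

end Groth.Cycles.CorrNorm
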