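import Groth.Agent.Cycles.CorrMap
import Groth.Agent.Cycles.CorrGlue
import Groth.Agent.Cycles.CorrNorm
import Groth.Agent.Cycles.CorrLift

/-!
The effective cycle of a morphism to a symmetric product.
-/

set_option autoImplicit false
set_option backward.isDefEq.respectTransparency false
set_option linter.style.haveILetI false

universe u

open CategoryTheory CategoryTheory.Limits AlgebraicGeometry
open scoped TensorProduct

namespace Groth.Cycles.CorrGeneric

section Eval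

variable {L : Type u} [Field L] {Y Z : Scheme.{u}}

/-- Evaluation of sections at a point with values in a field. -/
noncomputable def ev (t : Spec (CommRingCat.of L) ⟶ Y) (U : Y.Opens) (h : t (IsLocalRing.closedPoint L) ∈ U) :
    Γ(Y, U) ⟶ CommRingCat.of L :=
  t.appLE U ⊤ (fun y _ => (Subsingleton.elim (IsLocalRing.closedPoint L) y) ▸ h) ≫
    (Scheme.ΓSpecIso (CommRingCat.of L)).hom

theorem ev_fromSpec (t : Spec (CommRingCat.of L) ⟶ Y) {U : Y.Opens} (hU : IsAffineOpen U)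
    (h : t (IsLocalRing.closedPoint L) ∈ U) : Spec.map (ev t U h) ≫ hU.fromSpec = t := by
  rw [ev, Spec.map_comp, Category.assoc, IsAffineOpen.SpecMap_appLE_fromSpec t hU (isAffineOpen_top _),
    IsAffineOpen.fromSpec_top, SpecMap_ΓSpecIso_hom, Scheme.toSpecΓ_isoSpec_inv_assoc]

theorem ev_congr {t t' : Spec (CommRingCat.of L) ⟶ Y} (e : t = t') (U : Y.Opens)
    (h : t (IsLocalRing.closedPoint L) ∈ U) (h' : t' (IsLocalRing.closedPoint L) ∈ U) : ev t U h = ev t' U h' := by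
  subst e; rfl

theorem ev_comp (t : Spec (CommRingCat.of L) ⟶ Y) (f : Y ⟶ Z) {U : Z.Opens} {V : Y.Opens} (e : V ≤ f ⁻¹ᵁ U)
    (h : t (IsLocalRing.closedPoint L) ∈ V) (h' : (t ≫ f) (IsLocalRing.closedPoint L) ∈ U) :
    f.appLE U V e ≫ ev t V h = ev (t ≫ f) U h' := by
  rw [ev, ev, ← Category.assoc, Scheme.Hom.appLE_comp_appLE]

theorem ker_eq (t : Spec (CommRingCat.of L) ⟶ Y) {U : Y.Opens} (hU : IsAffineOpen U) (χ : Γ(Y, U) ⟶ CommRingCat.of L)
    (hχ : Spec.map χ ≫ hU.fromSpec = t) (h : t (IsLocalRing.closedPoint L) ∈ U) :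
    RingHom.ker χ.hom = (hU.primeIdealOf ⟨t (IsLocalRing.closedPoint L), h⟩).asIdeal := by
  have : hU.primeIdealOf ⟨t (IsLocalRing.closedPoint L), h⟩ = Spec.map χ (IsLocalRing.closedPoint L) := by
    apply hU.fromSpec.isOpenEmbedding.injective
    rw [hU.fromSpec_primeIdealOf, ← Scheme.Hom.comp_apply, hχ]
  rw [this]
  ext a
  show χ a = 0 ↔ χ a ∈ IsLocalRing.maximalIdeal L
  rw [IsLocalRing.maximalIdeal_eq_bot, Ideal.mem_bot]

end Eval

set_option maxHeartbeats 4000000 in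
/-- A morphism to the symmetric product is induced, on a dense open, by an effective cycle finite over the base:
version with a chosen algebraic closure of the function field. -/
theorem exists_cycle_aux {k : Type u} [Field k] [IsAlgClosed k] [CharZero k] {X W Sy : Scheme.{u}}
    (pX : X ⟶ Spec (CommRingCat.of k)) (pW : W ⟶ Spec (CommRingCat.of k)) [IsProper pX] [LocallyOfFiniteType pW]
    [IsIntegral W] (hAF : ∀ T : Finset X, ∃ U : X.Opens, IsAffineOpen U ∧ ∀ x ∈ T, x ∈ U) {d : ℕ}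
    {q : SymProd.fibPow pX d ⟶ Sy} {g : Sy ⟶ Spec (CommRingCat.of k)} (hS : SymProd.IsSymProd pX d q g)
    (F : W ⟶ Sy) (hF : F ≫ g = pW) {Ω : Type u} [Field Ω] [IsAlgClosed Ω]
    (ψ : W.residueField (genericPoint W) ⟶ CommRingCat.of Ω)
    (hψ : letI := ψ.hom.toAlgebra; Algebra.IsAlgebraic (W.residueField (genericPoint W)) Ω) :
    ∃ Γc : AlgebraicCycle (pullback pX pW) ℤ, (∀ ξ, 0 ≤ Γc ξ) ∧
      (∀ ξ, Γc ξ ≠ 0 → pullback.snd pX pW ξ = genericPoint W ∧
        (letI := ((pullback.snd pX pW).residueFieldMap ξ).hom.toAlgebra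
         Algebra.IsAlgebraic (W.residueField (pullback.snd pX pW ξ)) ((pullback pX pW).residueField ξ))) ∧
      (∀ ξ, Γc ξ ≠ 0 → ∀ w : W, (closure {ξ} ∩ pullback.snd pX pW ⁻¹' {w}).Finite) ∧
      ∃ V1 : W.Opens, genericPoint W ∈ V1 ∧
        ∀ (u : Spec (CommRingCat.of k) ⟶ W) (hu : u ≫ pW = 𝟙 _), u (IsLocalRing.closedPoint k) ∈ V1 →
          ZCorr.IsCycleOfSymPt pX d q (u ≫ F) (AlgEqCyc.fibreFun pX pW Γc u hu) := by
  classical
  set pr := pullback.snd pX pW with hpr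
  set fs := pullback.fst pX pW with hfs
  let π := fun i : Fin d => WidePullback.π (fun _ : Fin d => pX) i
  haveI : IsProper pr := MorphismProperty.pullback_snd pX pW inferInstance
  haveI : LocallyOfFiniteType (q ≫ g) := by
    rw [hS.over]
    exact CorrGlue.base_mem @LocallyOfFiniteType pX inferInstance d
  have hq : IsFinite q := Groth.Pi1Quot.isFinite_of_comp hS.isQuot g
  let gW : Spec (CommRingCat.of Ω) ⟶ W := Spec.map ψ ≫ W.fromSpecResidueField (genericPoint W)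
  have hgW : gW (IsLocalRing.closedPoint Ω) = (genericPoint W) := by
    show (Spec.map ψ ≫ W.fromSpecResidueField (genericPoint W)) _ = (genericPoint W)
    rw [Scheme.Hom.comp_apply, Scheme.fromSpecResidueField_apply]
  obtain ⟨τ, hτ⟩ := CorrLift.exists_lift hS hq (gW ≫ F)
  haveI := hq
  haveI : IsFinite (pullback.snd q F) := MorphismProperty.pullback_snd q F inferInstance
  have hcond : ∀ i, (pullback.fst q F ≫ π i) ≫ pX = pullback.snd q F ≫ pW := fun i => by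
    rw [Category.assoc, WidePullback.π_arrow, ← hS.over, ← Category.assoc, pullback.condition, Category.assoc, hF]
  let Φ := fun i => pullback.lift (pullback.fst q F ≫ π i) (pullback.snd q F) (hcond i)
  let τP := pullback.lift τ gW hτ
  let ζ := fun i => τP ≫ Φ i
  have hζ2 : ∀ i, ζ i ≫ pr = gW := fun i => by
    show (τP ≫ Φ i) ≫ pullback.snd pX pW = gW
    rw [Category.assoc, pullback.lift_snd]
    exact pullback.lift_snd _ _ _
  have hζ1 : ∀ i, ζ i ≫ fs = τ ≫ π i := fun i => by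
    show (τP ≫ Φ i) ≫ pullback.fst pX pW = τ ≫ π i
    rw [Category.assoc, pullback.lift_fst, ← Category.assoc]
    exact congrArg (· ≫ π i) (pullback.lift_fst _ _ _)
  let pt := fun i => ζ i (IsLocalRing.closedPoint Ω)
  have hext : ∀ (z : Spec (CommRingCat.of Ω) ⟶ pullback pX pW) (i : Fin d), z ≫ pr = gW →
      (z = ζ i ↔ z ≫ fs = τ ≫ π i) := fun z i hz => by
    refine ⟨fun h => h ▸ hζ1 i, fun h => pullback.hom_ext ?_ ?_⟩
    · rw [h]; exact (hζ1 i).symm
    · rw [hz]; exact (hζ2 i).symm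
  -- conjugate points have the same multiplicity
  have hconj : ∀ (z : Spec (CommRingCat.of Ω) ⟶ pullback pX pW), z ≫ pr = gW → ∀ i,
      z (IsLocalRing.closedPoint Ω) = pt i → Nat.card {j // ζ j = z} = Nat.card {j // ζ j = ζ i} := by
    intro z hz i hzi
    obtain ⟨σ, hσ, hσg⟩ := CorrLift.exists_conj pr ψ hψ (ζ i) z (hζ2 i) hz hzi.symm
    have hσq : Spec.map σ.toCommRingCatIso.hom ≫ τ ≫ q = τ ≫ q := by
      rw [hτ, ← Category.assoc]
      exact congrArg (· ≫ F) hσg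
    have h := CorrLift.natCard_conj hS τ σ hσq (τ ≫ π i)
    have h1 : ∀ j, ζ j = ζ i ↔ τ ≫ π j = τ ≫ π i := fun j => by
      rw [hext (ζ j) i (hζ2 j), hζ1]
    have h2 : ∀ j, ζ j = z ↔ τ ≫ π j = Spec.map σ.toCommRingCatIso.hom ≫ τ ≫ π i := fun j => by
      rw [eq_comm, hext z j hz, ← hσ, Category.assoc, hζ1, eq_comm]
    rw [Nat.card_congr (Equiv.subtypeEquivRight h2), ← h, Nat.card_congr (Equiv.subtypeEquivRight h1)]
  -- the cycle
  let m := fun ξ : ↥(pullback pX pW) =>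
    if h : ∃ i, pt i = ξ then Nat.card {j // ζ j = ζ h.choose} else 0
  have hm : ∀ i, m (pt i) = Nat.card {j // ζ j = ζ i} := fun i => by
    have h : ∃ j, pt j = pt i := ⟨i, rfl⟩
    show (if h : ∃ j, pt j = pt i then Nat.card {j // ζ j = ζ h.choose} else 0) = _
    rw [dif_pos h]
    exact hconj (ζ h.choose) (hζ2 _) i h.choose_spec
  have hm0 : ∀ ξ, m ξ ≠ 0 → ∃ i, pt i = ξ := fun ξ h => by
    by_contra hn
    exact h (dif_neg hn)
  have hsupp : (Function.support fun ξ => (m ξ : ℤ)).Finite :=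
    (Set.finite_range pt).subset fun ξ h => hm0 ξ (by simpa [Nat.cast_eq_zero] using h)
  let Γc : AlgebraicCycle (pullback pX pW) ℤ :=
    ⟨fun ξ => (m ξ : ℤ), fun _ _ => trivial, fun z _ => ⟨Set.univ, Filter.univ_mem, by
      simpa [Set.univ_inter] using hsupp⟩⟩
  have hΓm : ∀ ξ, Γc ξ = (m ξ : ℤ) := fun _ => rfl
  have hΓne : ∀ ξ, Γc ξ ≠ 0 → ∃ i, pt i = ξ := fun ξ h => hm0 ξ (by simpa [hΓm] using h)
  have hptη : ∀ i, pr (pt i) = (genericPoint W) := fun i => by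
    show pr (ζ i (IsLocalRing.closedPoint Ω)) = (genericPoint W)
    rw [← Scheme.Hom.comp_apply, hζ2, hgW]
  have hrange : ∀ i z, pt i ⤳ z → ∃ p, Φ i p = z := by
    intro i z hz
    haveI : IsProper (Φ i ≫ pr) := by
      rw [show Φ i ≫ pr = pullback.snd q F from pullback.lift_snd _ _ _]; infer_instance
    haveI : IsProper (Φ i) := IsProper.of_comp (Φ i) pr
    exact hz.mem_closed (Φ i).isClosedMap.isClosed_range ⟨τP (IsLocalRing.closedPoint Ω), rfl⟩
  refine ⟨Γc, fun ξ => by rw [hΓm]; exact Int.natCast_nonneg _, fun ξ hξ => ?_, fun ξ hξ w => ?_, ?_⟩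
  · obtain ⟨i, rfl⟩ := hΓne ξ hξ
    exact ⟨hptη i, CorrLift.isAlgebraic_residue pr ψ hψ (ζ i) (hζ2 i)⟩
  · obtain ⟨i, rfl⟩ := hΓne ξ hξ
    refine (((pullback.snd q F).finite_preimage_singleton w).image (Φ i)).subset ?_
    rintro z ⟨hz, hzw⟩
    obtain ⟨p, rfl⟩ := hrange i z (specializes_iff_mem_closure.mpr hz)
    refine ⟨p, ?_, rfl⟩
    have : Φ i ≫ pr = pullback.snd q F := pullback.lift_snd _ _ _
    rw [Set.mem_preimage, Set.mem_singleton_iff, ← this]
    exact hzw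
  -- the chart
  obtain ⟨U, hU, hxU⟩ := hAF (Finset.univ.image fun i => (τ ≫ π i) (IsLocalRing.closedPoint Ω))
  let C := Groth.Misc5Sym.chartOpen pX d U ⊤
  have hp := hS.isQuot
  have hsat : q.base ⁻¹' (q.base '' (C : Set ↥(SymProd.fibPow pX d))) = C := by
    refine Set.Subset.antisymm ?_ (Set.subset_preimage_image _ _)
    rintro z ⟨w, hw, hwz⟩
    obtain ⟨σ, rfl⟩ := Groth.Pi1Quot.exists_smul_eq hp hwz
    change (SymProd.permHom pX d σ.down).base w ∈ C
    have h : w ∈ SymProd.permHom pX d σ.down ⁻¹ᵁ C := by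
      rw [Groth.Misc5Sym.perm_preimage_chartOpen]; exact hw
    exact h
  let W' : Sy.Opens := ⟨q.base '' (C : Set ↥(SymProd.fibPow pX d)), by
    rw [← (Groth.Pi1Quot.isQuotientMap hp).isOpen_preimage, hsat]
    exact C.2⟩
  have hqW : q ⁻¹ᵁ W' = C := TopologicalSpace.Opens.ext hsat
  have hπU : ∀ i, q ⁻¹ᵁ W' ≤ π i ⁻¹ᵁ U := fun i x hx => by
    rw [hqW] at hx
    exact ((Groth.Misc5Sym.mem_chartOpen pX d U ⊤).1 hx).1 i
  have hτC : τ (IsLocalRing.closedPoint Ω) ∈ C := (Groth.Misc5Sym.mem_chartOpen pX d U ⊤).2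
    ⟨fun i => hxU _ (Finset.mem_image.mpr ⟨i, Finset.mem_univ _, rfl⟩), trivial⟩
  have hηW : (genericPoint W) ∈ F ⁻¹ᵁ W' := by
    refine ⟨τ (IsLocalRing.closedPoint Ω), hτC, ?_⟩
    exact ((Scheme.Hom.comp_apply τ q _).symm.trans (congrArg (fun f : Spec (CommRingCat.of Ω) ⟶ Sy =>
      f (IsLocalRing.closedPoint Ω)) hτ)).trans ((Scheme.Hom.comp_apply gW F _).trans (congrArg F hgW))
  obtain ⟨V, hV, hηV, hVle⟩ := exists_isAffineOpen_mem_and_subset (X := W) (x := (genericPoint W)) (U := F ⁻¹ᵁ W') hηW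
  set E := fs ⁻¹ᵁ U ⊓ pr ⁻¹ᵁ V with hEdef
  have hE : IsAffineOpen E :=
    Groth.Misc10.SymZeta.isAffineOpen_pullback_inf hU hV (isAffineOpen_top _) le_top le_top
  have eU : E ≤ fs ⁻¹ᵁ U := inf_le_left
  have eV : E ≤ pr ⁻¹ᵁ V := inf_le_right
  haveI : Nonempty V := ⟨⟨(genericPoint W), hηV⟩⟩
  haveI : IsDomain Γ(W, V) := inferInstance
  haveI : IsLocallyNoetherian W := LocallyOfFiniteType.isLocallyNoetherian pW
  haveI : IsNoetherianRing Γ(W, V) := IsLocallyNoetherian.component_noetherian ⟨V, hV⟩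
  have hclE : ∀ i z, pt i ⤳ z → pr z ∈ V → z ∈ E := by
    intro i z hz hzV
    refine ⟨?_, hzV⟩
    obtain ⟨p, rfl⟩ := hrange i z hz
    show fs (Φ i p) ∈ U
    rw [hfs, ← Scheme.Hom.comp_apply, pullback.lift_fst, Scheme.Hom.comp_apply]
    apply hπU i
    show q (pullback.fst q F p) ∈ W'
    rw [← Scheme.Hom.comp_apply, pullback.condition, Scheme.Hom.comp_apply]
    apply hVle
    have h : Φ i ≫ pr = pullback.snd q F := pullback.lift_snd _ _ _
    rw [← h]
    exact hzV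
  let I := {ξ : ↥(pullback pX pW) // Γc ξ ≠ 0 ∧ pr ξ ∈ V}
  haveI : Finite I := (hsupp.subset fun ξ (hξ : Γc ξ ≠ 0 ∧ pr ξ ∈ V) => hξ.1).to_subtype
  letI : Fintype I := Fintype.ofFinite I
  have hcl : ∀ (ξ : I) z, ξ.1 ⤳ z → pr z ∈ V → z ∈ E := fun ξ z => by
    obtain ⟨i, hi⟩ := hΓne ξ.1 ξ.2.1
    rw [← hi]
    exact hclE i z
  have hξE : ∀ ξ : I, ξ.1 ∈ E := fun ξ => hcl ξ _ specializes_rfl ξ.2.2
  let B : I → Type u := fun ξ => Γ(pullback pX pW, E) ⧸ (hE.primeIdealOf ⟨ξ.1, hξE ξ⟩).asIdeal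
  letI : ∀ ξ : I, Algebra Γ(W, V) (B ξ) := fun ξ => (CorrChart.comp hE pr eV (hξE ξ)).toAlgebra
  have hfinB : ∀ ξ : I, (CorrChart.comp hE pr eV (hξE ξ)).Finite := fun ξ =>
    CorrChart.finite_comp hE pr hV eV (hξE ξ) (hcl ξ)
  haveI : ∀ ξ, Module.Finite Γ(W, V) (B ξ) := hfinB
  have hgWV : gW (IsLocalRing.closedPoint Ω) ∈ V := hgW.symm ▸ hηV
  let χΩ := ev gW V hgWV
  letI : Algebra Γ(W, V) Ω := χΩ.hom.toAlgebra
  have hinj : Function.Injective χΩ.hom := by
    rw [RingHom.injective_iff_ker_eq_bot, ker_eq gW hV χΩ (ev_fromSpec gW hV hgWV) hgWV]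
    have : hV.primeIdealOf ⟨gW (IsLocalRing.closedPoint Ω), hgWV⟩ = genericPoint (Spec Γ(W, V)) := by
      rw [← hV.primeIdealOf_genericPoint]
      congr 1
      exact Subtype.ext hgW
    rw [this, genericPoint_eq_bot_of_affine]
    rfl
  haveI : FaithfulSMul Γ(W, V) Ω := (faithfulSMul_iff_algebraMap_injective _ _).mpr hinj
  haveI : CharZero Ω := charZero_of_injective_ringHom (show k →+* Ω from (χΩ.hom.comp (pW.appLE ⊤ V le_top).hom).comp (Scheme.ΓSpecIso (CommRingCat.of k)).inv.hom).injective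
  -- points of the components
  let Z : (Σ ξ : I, B ξ →ₐ[Γ(W, V)] Ω) → (Spec (CommRingCat.of Ω) ⟶ pullback pX pW) := fun s =>
    Spec.map (CommRingCat.ofHom (s.2.toRingHom.comp (Ideal.Quotient.mk (hE.primeIdealOf ⟨s.1.1, hξE s.1⟩).asIdeal))) ≫
      hE.fromSpec
  have hZpr : ∀ s, Z s ≫ pr = gW := fun s => by
    show (Spec.map _ ≫ hE.fromSpec) ≫ pr = gW
    rw [Category.assoc, ← IsAffineOpen.SpecMap_appLE_fromSpec pr hV hE eV, ← Spec.map_comp_assoc]
    refine Eq.trans ?_ (ev_fromSpec gW hV hgWV)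
    congr 2
    exact CommRingCat.hom_ext (RingHom.ext fun a => s.2.commutes a)
  have hZker : ∀ s : (Σ ξ : I, B ξ →ₐ[Γ(W, V)] Ω), Function.Injective s.2 := fun s => by
    haveI : Algebra.IsIntegral Γ(W, V) (B s.1) := Algebra.IsIntegral.of_finite _ _
    have h : RingHom.ker s.2.toRingHom = ⊥ := by
      refine Ideal.eq_bot_of_comap_eq_bot (R := Γ(W, V)) ?_
      rw [RingHom.comap_ker, AlgHom.toRingHom_eq_coe, AlgHom.comp_algebraMap]
      exact (RingHom.injective_iff_ker_eq_bot _).mp hinj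
    exact (RingHom.injective_iff_ker_eq_bot s.2.toRingHom).mpr h
  have hZpt : ∀ s, Z s (IsLocalRing.closedPoint Ω) = s.1.1 := fun s => by
    simp only [Z, Scheme.Hom.comp_apply]
    refine Eq.trans (congrArg hE.fromSpec ?_) (hE.fromSpec_primeIdealOf ⟨s.1.1, hξE s.1⟩)
    apply PrimeSpectrum.ext
    ext a
    show s.2 (Ideal.Quotient.mk _ a) ∈ IsLocalRing.maximalIdeal Ω ↔ _
    rw [IsLocalRing.maximalIdeal_eq_bot, Ideal.mem_bot, map_eq_zero_iff _ (hZker s), Ideal.Quotient.eq_zero_iff_mem]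
  have hZinj : Function.Injective Z := by
    rintro ⟨ξ, φ⟩ ⟨ξ', φ'⟩ h
    obtain rfl : ξ = ξ' := Subtype.ext (by
      have := hZpt ⟨ξ, φ⟩
      rw [h, hZpt ⟨ξ', φ'⟩] at this
      exact this.symm)
    have h2 := CommRingCat.hom_ext_iff.mp (Spec.map_injective ((cancel_mono hE.fromSpec).mp h))
    congr 1
    refine AlgHom.ext fun b => ?_
    obtain ⟨a, rfl⟩ := Ideal.Quotient.mk_surjective b
    exact RingHom.congr_fun h2 a
  have hptV : ∀ i, pr (pt i) ∈ V := fun i => by rw [hptη]; exact hηV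
  have hmpos : ∀ i, Γc (pt i) ≠ 0 := fun i => by
    rw [hΓm, Nat.cast_ne_zero, hm, Nat.card_ne_zero]
    exact ⟨⟨⟨i, rfl⟩⟩, inferInstance⟩
  let ξI := fun i => (⟨pt i, hmpos i, hptV i⟩ : I)
  have hφ : ∀ i, ∃ φ : B (ξI i) →ₐ[Γ(W, V)] Ω, Z ⟨ξI i, φ⟩ = ζ i := by
    intro i
    have hiE : ζ i (IsLocalRing.closedPoint Ω) ∈ E := hξE (ξI i)
    let e := ev (ζ i) E hiE
    have hk : (hE.primeIdealOf ⟨(ξI i).1, hξE (ξI i)⟩).asIdeal = RingHom.ker e.hom :=
      (ker_eq (ζ i) hE e (ev_fromSpec _ hE hiE) hiE).symm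
    refine ⟨{ toRingHom := Ideal.Quotient.lift _ e.hom (fun a ha => hk.le ha), commutes' := fun a => ?_ }, ?_⟩
    · show (pr.appLE V E eV ≫ ev (ζ i) E hiE) a = χΩ a
      rw [ev_comp (ζ i) pr eV hiE (by rw [hζ2]; exact hgWV), ev_congr (hζ2 i) V _ hgWV]
    · refine Eq.trans ?_ (ev_fromSpec (ζ i) hE hiE)
      show Spec.map _ ≫ _ = _
      congr 2
  choose φ hφ using hφ
  let f : Fin d → (Σ ξ : I, B ξ →ₐ[Γ(W, V)] Ω) := fun i => ⟨ξI i, φ i⟩
  have hfib : ∀ s, Nat.card {i // f i = s} = m s.1.1 := by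
    intro s
    obtain ⟨i, hi⟩ := hΓne s.1.1 s.1.2.1
    rw [← hi, hm, ← hconj (Z s) (hZpr s) i ((hZpt s).trans hi.symm)]
    refine Nat.card_congr (Equiv.subtypeEquivRight fun j => ?_)
    rw [← hφ j]
    exact hZinj.eq_iff.symm
  have hfsurj : Function.Surjective f := fun s => by
    have h1 : m s.1.1 ≠ 0 := by
      have := s.1.2.1
      rwa [hΓm, Nat.cast_ne_zero] at this
    rw [← hfib s, Nat.card_ne_zero] at h1
    obtain ⟨⟨i, hi⟩⟩ := h1.1
    exact ⟨i, hi⟩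
  haveI : Finite (Σ ξ : I, B ξ →ₐ[Γ(W, V)] Ω) := Finite.of_surjective f hfsurj
  haveI : ∀ ξ : I, Finite (B ξ →ₐ[Γ(W, V)] Ω) := fun ξ =>
    Finite.of_injective (fun a => (⟨ξ, a⟩ : Σ ξ : I, B ξ →ₐ[Γ(W, V)] Ω)) (fun a b h => eq_of_heq (Sigma.mk.inj_iff.mp h).2)
  letI : ∀ ξ : I, Fintype (B ξ →ₐ[Γ(W, V)] Ω) := fun ξ => Fintype.ofFinite _
  -- an open where everything is free
  let K0 := Localization.AtPrime (⊥ : Ideal Γ(W, V))
  obtain ⟨a, ha, hfree⟩ := CorrFree.exists_away_free (⊥ : Ideal Γ(W, V)) B fun ξ => by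
    haveI : IsFractionRing Γ(W, V) K0 := by
      show IsLocalization _ _
      rw [← Ideal.primeCompl_bot]
      exact Localization.isLocalization
    letI : Field K0 := IsFractionRing.toField Γ(W, V)
    exact Module.Free.of_divisionRing K0 _
  rw [Ideal.mem_bot] at ha
  let A' := Localization.Away a
  haveI : ∀ ξ, Module.Free A' (A' ⊗[Γ(W, V)] B ξ) := hfree A'
  have hua : IsUnit (χΩ.hom a) := isUnit_iff_ne_zero.mpr ((map_ne_zero_iff _ hinj).mpr ha)
  let χA' : A' →ₐ[Γ(W, V)] Ω :=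
    { IsLocalization.Away.lift a hua with commutes' := fun r => IsLocalization.Away.lift_eq a hua r }
  have hχA' : Function.Injective χA' := by
    show Function.Injective (IsLocalization.Away.lift (S := A') a hua)
    rw [IsLocalization.Away.lift, IsLocalization.lift_injective_iff]
    intro x y
    constructor
    · intro h
      have := congrArg (IsLocalization.Away.lift (S := A') a hua) h
      rwa [IsLocalization.Away.lift_eq, IsLocalization.Away.lift_eq] at this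
    · intro h
      rw [hinj h]
  haveI : Nontrivial A' := χA'.toRingHom.domain_nontrivial
  refine ⟨W.basicOpen a, ?_, fun u hu huV => ?_⟩
  · exact (genericPoint_spec W).mem_open_set_iff (W.basicOpen a).2 |>.mpr <| by
      rw [Set.univ_inter, Set.nonempty_iff_ne_empty]
      intro h
      exact ha ((AlgebraicGeometry.basicOpen_eq_bot_iff a).mp (TopologicalSpace.Opens.ext h))
  have huV' : u (IsLocalRing.closedPoint k) ∈ V := W.basicOpen_le a huV
  let χu := ev u V huV'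
  have hua' : IsUnit (χu.hom a) := by
    rw [isUnit_iff_ne_zero]
    intro h0
    have h1 : Spec.map χu (IsLocalRing.closedPoint k) ∈ hV.fromSpec ⁻¹ᵁ W.basicOpen a := by
      show hV.fromSpec (Spec.map χu _) ∈ W.basicOpen a
      rw [← Scheme.Hom.comp_apply, ev_fromSpec]
      exact huV
    rw [hV.fromSpec_preimage_basicOpen] at h1
    have h2 : χu.hom a ∉ IsLocalRing.maximalIdeal k := h1
    exact h2 (h0 ▸ zero_mem _)
  let χ' : A' →+* k := IsLocalization.Away.lift a hua'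
  have hχ' : χ'.comp (algebraMap Γ(W, V) A') = χu.hom := RingHom.ext fun r => IsLocalization.Away.lift_eq a hua' r
  obtain ⟨p, χs, hp', hpX, hval, hcount⟩ := CorrMap.exists_pts pX pW hU hV hE eU eV Γc
    (fun ξ => by rw [hΓm]; exact Int.natCast_nonneg _) hξE hcl hfinB A' (hfree A') χ' u hu
    (by rw [hχ']; exact ev_fromSpec u hV huV') _ rfl
  -- the norm identity
  obtain ⟨l, hl⟩ := CorrLift.exists_lift hS hq (u ≫ F)
  have hlW : l (IsLocalRing.closedPoint k) ∈ q ⁻¹ᵁ W' := by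
    show q (l _) ∈ W'
    rw [← Scheme.Hom.comp_apply, hl, Scheme.Hom.comp_apply]
    exact hVle huV'
  have hlU : ∀ i, (l ≫ π i) (IsLocalRing.closedPoint k) ∈ U := fun i => hπU i hlW
  have hinv : ∀ c, ∃ b, q.app W' b = ∏ i, (π i).appLE U (q ⁻¹ᵁ W') (hπU i) c := fun c => by
    refine (hp.range_iff W' _).2 fun σ => ?_
    change (SymProd.permHom pX d σ.down).appLE (q ⁻¹ᵁ W') (q ⁻¹ᵁ W') _ (∏ i, (π i).appLE U (q ⁻¹ᵁ W') (hπU i) c) = _
    rw [map_prod]
    refine Fintype.prod_equiv σ.down.symm _ _ fun i => ?_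
    rw [← CommRingCat.comp_apply, Scheme.Hom.appLE_comp_appLE,
      Groth.Pi1Quot.appLE_congr_hom (SymProd.permHom_π pX d σ.down i) U (q ⁻¹ᵁ W') _ (hπU _)]
  choose b hb using hinv
  have hN : ∀ {L : Type u} [Field L] (t : Spec (CommRingCat.of L) ⟶ W) (ht : t (IsLocalRing.closedPoint L) ∈ V)
      (l : Spec (CommRingCat.of L) ⟶ SymProd.fibPow pX d) (_ : l ≫ q = t ≫ F)
      (hlU : ∀ i, (l ≫ π i) (IsLocalRing.closedPoint L) ∈ U) (c : Γ(X, U)),
      ev t V ht (F.appLE W' V hVle (b c)) = ∏ i, ev (l ≫ π i) U (hlU i) c := by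
    intro L _ t ht l hl hlU c
    have hlq : (l ≫ q) (IsLocalRing.closedPoint L) ∈ W' := by rw [hl, Scheme.Hom.comp_apply]; exact hVle ht
    rw [← CommRingCat.comp_apply, ev_comp t F hVle ht (hl ▸ hlq), ← ev_congr hl W' hlq (hl ▸ hlq),
      ← ev_comp l q (le_refl (q ⁻¹ᵁ W')) hlq hlq, CommRingCat.comp_apply, Scheme.Hom.appLE_eq_app, hb, map_prod]
    refine Finset.prod_congr rfl fun i _ => ?_
    rw [← CommRingCat.comp_apply, ev_comp]
  have hid : ∀ c : Γ(X, U), (∏ ξ : I, Algebra.norm A' ((1 : A') ⊗ₜ[Γ(W, V)]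
      (Ideal.Quotient.mk _ (fs.appLE U E eU c) : B ξ)) ^ (Γc ξ.1).toNat) =
        algebraMap Γ(W, V) A' (F.appLE W' V hVle (b c)) := by
    intro c
    apply hχA'
    have hiU : ∀ i, (τ ≫ π i) (IsLocalRing.closedPoint Ω) ∈ U := fun i =>
      hxU _ (Finset.mem_image.mpr ⟨i, Finset.mem_univ _, rfl⟩)
    rw [AlgHom.commutes, show algebraMap Γ(W, V) Ω (F.appLE W' V hVle (b c)) = ∏ i, ev (τ ≫ π i) U (hiU i) c from
      hN gW hgWV τ hτ hiU c, map_prod]
    haveI : ∀ ξ : I, FaithfulSMul Γ(W, V) (B ξ) := fun ξ => by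
      obtain ⟨i, hi⟩ := hΓne ξ.1 ξ.2.1
      obtain rfl : ξI i = ξ := Subtype.ext hi
      refine (faithfulSMul_iff_algebraMap_injective _ _).mpr fun x y h => hinj ?_
      have := congrArg (φ i) h
      rwa [AlgHom.commutes, AlgHom.commutes] at this
    haveI : ∀ ξ : I, IsDomain (B ξ) := fun ξ => inferInstanceAs (IsDomain (_ ⧸ _))
    simp only [map_pow, CorrNorm.norm_prod χA', ← Finset.prod_pow, hΓm, Int.toNat_natCast]
    rw [← Fintype.prod_sigma (f := fun s : (Σ ξ : I, B ξ →ₐ[Γ(W, V)] Ω) =>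
      s.2 (Ideal.Quotient.mk _ (fs.appLE U E eU c)) ^ m s.1.1)]
    refine Eq.trans (b := ∏ i, (f i).2 (Ideal.Quotient.mk _ (fs.appLE U E eU c))) ?_
      (Finset.prod_congr rfl fun i _ => ?_)
    rotate_left
    · have hiE : ζ i (IsLocalRing.closedPoint Ω) ∈ E := hξE (ξI i)
      have h2 := hφ i
      have h3 : CommRingCat.ofHom ((φ i).toRingHom.comp (Ideal.Quotient.mk _)) = ev (ζ i) E hiE :=
        Spec.map_injective ((cancel_mono hE.fromSpec).mp (h2.trans (ev_fromSpec _ hE hiE).symm))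
      rw [← ev_congr (hζ1 i) U (by rw [hζ1]; exact hiU i) (hiU i), ← ev_comp (ζ i) fs eU hiE, ← h3]
      rfl
    rw [← Finset.prod_fiberwise' Finset.univ f (fun s => s.2 (Ideal.Quotient.mk _ (fs.appLE U E eU c)))]
    refine Finset.prod_congr rfl fun s _ => ?_
    rw [Finset.prod_const, ← Fintype.card_subtype, ← Nat.card_eq_fintype_card, hfib s]
  have hprod : ∀ c, ∏ j, (χs j).hom c = ∏ i, (ev (l ≫ π i) U (hlU i)).hom c := fun c => by
    rw [← hval c, hid c, ← hN u huV' l hl hlU c]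
    exact RingHom.congr_fun hχ' _
  have hsec : ∀ i, (l ≫ π i) ≫ pX = 𝟙 _ := fun i => by
    rw [Category.assoc, WidePullback.π_arrow, ← hS.over, ← Category.assoc, hl, Category.assoc, hF, hu]
  refine ⟨l, hl, fun x => ?_⟩
  rw [← hcount x]
  norm_cast
  have key := fun φ : Γ(X, U) →+* k => CorrNorm.natCard_eq_of_prod_eq (fun j => (χs j).hom)
    (fun i => (ev (l ≫ π i) U (hlU i)).hom) hprod φ
  have hiff : ∀ (h : Γ(X, U) ⟶ CommRingCat.of k) (h' : Γ(X, U) ⟶ CommRingCat.of k),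
      (Spec.map h ≫ hU.fromSpec) ≫ pX = 𝟙 _ → (Spec.map h' ≫ hU.fromSpec) ≫ pX = 𝟙 _ →
      ((Spec.map h ≫ hU.fromSpec) (IsLocalRing.closedPoint k) = (Spec.map h' ≫ hU.fromSpec) (IsLocalRing.closedPoint k)
        ↔ h.hom = h'.hom) := fun h h' e e' => by
    refine ⟨fun hh => ?_, fun hh => by rw [CommRingCat.hom_ext hh]⟩
    have := ext_of_apply_closedPoint_eq pX e e' hh
    rw [cancel_mono] at this
    rw [Spec.map_injective this]
  have hlp : ∀ i, Spec.map (ev (l ≫ π i) U (hlU i)) ≫ hU.fromSpec = l ≫ π i := fun i => ev_fromSpec _ hU _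
  have hone : ∀ (h : Γ(X, U) ⟶ CommRingCat.of k), (Spec.map h ≫ hU.fromSpec) ≫ pX = 𝟙 _ →
      Nat.card {j // p j (IsLocalRing.closedPoint k) = (Spec.map h ≫ hU.fromSpec) (IsLocalRing.closedPoint k)} =
        Nat.card {i // (l ≫ π i) (IsLocalRing.closedPoint k) = (Spec.map h ≫ hU.fromSpec) (IsLocalRing.closedPoint k)} := by
    intro h he
    refine (Nat.card_congr (Equiv.subtypeEquivRight fun j => ?_)).trans ((key h.hom).trans
      (Nat.card_congr (Equiv.subtypeEquivRight fun i => ?_)).symm)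
    · rw [hp' j]
      exact hiff _ _ (hp' j ▸ hpX j) he
    · refine Iff.trans ?_ (hiff (ev (l ≫ π i) U (hlU i)) h (by rw [hlp i]; exact hsec i) he)
      rw [hlp i]
  by_cases hx : ∃ j, p j (IsLocalRing.closedPoint k) = x
  · obtain ⟨j, rfl⟩ := hx
    rw [hp' j]
    exact hone _ (hp' j ▸ hpX j)
  by_cases hx' : ∃ i, (l ≫ π i) (IsLocalRing.closedPoint k) = x
  · obtain ⟨i, rfl⟩ := hx'
    rw [← hlp i]
    exact hone _ (by rw [hlp i]; exact hsec i)
  push Not at hx hx'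
  haveI : IsEmpty {j // p j (IsLocalRing.closedPoint k) = x} := ⟨fun j => hx j.1 j.2⟩
  haveI : IsEmpty {i // (l ≫ π i) (IsLocalRing.closedPoint k) = x} := ⟨fun i => hx' i.1 i.2⟩
  rw [Nat.card_of_isEmpty, Nat.card_of_isEmpty]

/-- A morphism to the symmetric product is induced, on a dense open, by an effective cycle finite over the base. -/
theorem exists_cycle {k : Type u} [Field k] [IsAlgClosed k] [CharZero k] {X W Sy : Scheme.{u}}
    (pX : X ⟶ Spec (CommRingCat.of k)) (pW : W ⟶ Spec (CommRingCat.of k)) [IsProper pX] [LocallyOfFiniteType pW]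
    [IsIntegral W] (hAF : ∀ T : Finset X, ∃ U : X.Opens, IsAffineOpen U ∧ ∀ x ∈ T, x ∈ U) {d : ℕ}
    {q : SymProd.fibPow pX d ⟶ Sy} {g : Sy ⟶ Spec (CommRingCat.of k)} (hS : SymProd.IsSymProd pX d q g)
    (F : W ⟶ Sy) (hF : F ≫ g = pW) :
    ∃ Γc : AlgebraicCycle (pullback pX pW) ℤ, (∀ ξ, 0 ≤ Γc ξ) ∧
      (∀ ξ, Γc ξ ≠ 0 → pullback.snd pX pW ξ = genericPoint W ∧
        (letI := ((pullback.snd pX pW).residueFieldMap ξ).hom.toAlgebra
         Algebra.IsAlgebraic (W.residueField (pullback.snd pX pW ξ)) ((pullback pX pW).residueField ξ))) ∧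
      (∀ ξ, Γc ξ ≠ 0 → ∀ w : W, (closure {ξ} ∩ pullback.snd pX pW ⁻¹' {w}).Finite) ∧
      ∃ V1 : W.Opens, genericPoint W ∈ V1 ∧
        ∀ (u : Spec (CommRingCat.of k) ⟶ W) (hu : u ≫ pW = 𝟙 _), u (IsLocalRing.closedPoint k) ∈ V1 →
          ZCorr.IsCycleOfSymPt pX d q (u ≫ F) (AlgEqCyc.fibreFun pX pW Γc u hu) := by
  let K : Type u := W.residueField (genericPoint W)
  letI : Field K := inferInstanceAs (Field (W.residueField (genericPoint W)))
  refine exists_cycle_aux pX pW hAF hS F hF (Ω := AlgebraicClosure K)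
    (CommRingCat.ofHom (algebraMap K (AlgebraicClosure K))) ?_
  show @Algebra.IsAlgebraic K (AlgebraicClosure K) _ _ (algebraMap K (AlgebraicClosure K)).toAlgebra
  rw [show (algebraMap K (AlgebraicClosure K)).toAlgebra = (inferInstance : Algebra K (AlgebraicClosure K)) from
    Algebra.algebra_ext _ _ fun _ => rfl]
  exact AlgebraicClosure.isAlgebraic K

end Groth.Cycles.CorrGeneric
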