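import Groth.Agent.Cycles.CorrRat
import Groth.Agent.Cycles.CorrGeneric

/-!
Components of families over the projective line: graphs of rational functions and constant components.
-/

set_option autoImplicit false
set_option backward.isDefEq.respectTransparency false
set_option linter.style.haveILetI false
set_option linter.unusedSectionVars false

universe u

open CategoryTheory CategoryTheory.Limits AlgebraicGeometry
open Groth.CycInter.P1C Groth.Cycles.CorrP1 Groth.Cycles.CorrFibreDiv Groth.Cycles.CorrGeneric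
open Groth.Misc15.ProjPts (chart chart_toBase)

namespace Groth.Cycles.CorrGraph

section Eval

variable {L : Type u} [Field L] {Y : Scheme.{u}}

/-- The value along a point factors through the residue field. -/
theorem ev_eq_desc (t : Spec (CommRingCat.of L) ⟶ Y) (W : Y.Opens) (hW : t (IsLocalRing.closedPoint L) ∈ W)
    (c : Γ(Y, W)) : ev t W hW c = Y.descResidueField (Scheme.stalkClosedPointTo t) (Y.evaluation W _ hW c) := by
  show _ = (Y.residue _ ≫ Y.descResidueField (Scheme.stalkClosedPointTo t)) (Y.presheaf.germ W _ hW c)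
  rw [Scheme.residue_descResidueField, ← CommRingCat.comp_apply, Scheme.germ_stalkClosedPointTo]
  simp [ev, Scheme.Hom.appLE]
  rfl

/-- Sections with the same value along a point with values in a field agree in the residue field. -/
theorem evaluation_eq_of_ev (t : Spec (CommRingCat.of L) ⟶ Y) {U U' : Y.Opens}
    (h : t (IsLocalRing.closedPoint L) ∈ U) (h' : t (IsLocalRing.closedPoint L) ∈ U') (a : Γ(Y, U)) (b : Γ(Y, U'))
    (e : ev t U h a = ev t U' h' b) : Y.evaluation U _ h a = Y.evaluation U' _ h' b := by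
  rw [ev_eq_desc, ev_eq_desc] at e
  exact (Y.descResidueField (Scheme.stalkClosedPointTo t)).hom.injective e

/-- The value along the canonical point of a residue field is the evaluation. -/
theorem ev_fromSpecResidueField (x : Y) (U : Y.Opens)
    (h : Y.fromSpecResidueField x (IsLocalRing.closedPoint (Y.residueField x)) ∈ U) (hx : x ∈ U) :
    ev (L := Y.residueField x) (Y.fromSpecResidueField x) U h = Y.evaluation U x hx := by
  haveI : IsLocalHom (Y.residue x).hom := IsLocalHom.of_surjective _ (Y.residue_surjective x)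
  have e := Scheme.germ_stalkClosedPointTo_Spec_fromSpecStalk (Y.residue x) U h
  rw [Scheme.germ_stalkClosedPointTo] at e
  refine Eq.trans ?_ e
  simp [ev, Scheme.Hom.appLE, Scheme.fromSpecResidueField]
  rfl

/-- The value along a point of an affine scheme. -/
theorem ev_specMap {R : CommRingCat.{u}} (g : R ⟶ CommRingCat.of L) (r : R) :
    ev (Spec.map g) ⊤ trivial ((Scheme.ΓSpecIso R).inv r) = g r := by
  show ((Scheme.ΓSpecIso R).inv ≫ ev (Spec.map g) ⊤ trivial) r = g r
  congr 2
  rw [ev]
  simp [Scheme.Hom.appLE]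

/-- Divisors of equal functions at equal points. -/
theorem divFun_evaluation_congr {δ : Y → ℤ} {x y : Y} (e : x = y) (U : Y.Opens) (hx : x ∈ U) (hy : y ∈ U)
    (s : Γ(Y, U)) : Cyc.divFun δ x (Y.evaluation U x hx s) = Cyc.divFun δ y (Y.evaluation U y hy s) := by
  subst e; rfl

end Eval

variable {k : Type u} [Field k] [IsAlgClosed k]

/-- A point of the line is the generic point or closed. -/
theorem generic_or_closed (c : Line k) : c = genericPoint (Line k) ∨ IsClosed ({c} : Set (Line k)) := by
  have hC : ∃ i, c ∈ C (S k) i := by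
    rcases mem_C_or (S k) c 0 with h | h
    · exact ⟨_, h⟩
    · exact ⟨_, h⟩
  obtain ⟨i, hi⟩ := hC
  obtain ⟨p, rfl⟩ := (range_chart i).ge hi
  by_cases hp : p.asIdeal = ⊥
  · left
    have : p = genericPoint ↥(Spec (CommRingCat.of (MvPolynomial (Fin 1) k))) :=
      (PrimeSpectrum.ext hp).trans (genericPoint_eq_bot_of_affine _).symm
    rw [this, genericPoint_eq_of_isOpenImmersion]
  · right
    let e : Polynomial k ≃+* MvPolynomial (Fin 1) k := (MvPolynomial.uniqueAlgEquiv k (Fin 1)).symm.toRingEquiv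
    have hp' : p.asIdeal.comap e.toRingHom ≠ ⊥ := fun h => hp (by
      rw [← Ideal.map_comap_of_surjective e.toRingHom e.surjective p.asIdeal, h, Ideal.map_bot])
    haveI : (p.asIdeal.comap e.toRingHom).IsPrime := p.isPrime.comap _
    haveI : (p.asIdeal.comap e.toRingHom).IsMaximal := Ideal.IsPrime.isMaximal inferInstance hp'
    have hmax : p.asIdeal.IsMaximal := by
      have h := Ideal.map_isMaximal_of_equiv e (p := p.asIdeal.comap e.toRingHom)
      rwa [show (p.asIdeal.comap e.toRingHom).map e = p.asIdeal from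
        Ideal.map_comap_of_surjective e.toRingHom e.surjective p.asIdeal] at h
    have hcl := (PrimeSpectrum.isClosed_singleton_iff_isMaximal (x := p)).mpr hmax
    haveI : JacobsonSpace (Line k) := LocallyOfFiniteType.jacobsonSpace (pC k)
    refine isClosed_singleton_of_isLocallyClosed_singleton ?_
    rw [← Set.image_singleton]
    exact hcl.isLocallyClosed.image (chart i k).isOpenEmbedding.isInducing
      (chart i k).isOpenEmbedding.isOpen_range.isLocallyClosed

variable {X : Scheme.{u}} (pX : X ⟶ Spec (CommRingCat.of k)) [IsProper pX]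
  {δX : X → ℤ} {δP : ↥(pullback pX (pC k)) → ℤ}

/-- The point zero. -/
noncomputable abbrev t0 : Spec (CommRingCat.of k) ⟶ Line k := P1.sect (S k) 0

/-- The point infinity. -/
noncomputable abbrev tI : Spec (CommRingCat.of k) ⟶ Line k := P1.sect (S k) (oth 0)

theorem tI_notMem : (tI (k := k)) (IsLocalRing.closedPoint k) ∉ C (S k) 0 := by
  have h := (CorrRat.sect_pt (k := k) (oth 0)).2
  rwa [oth_oth] at h

/-- A rational function on a curve gives a component whose fibres differ by its divisor. -/
theorem exists_graph (hX : Cyc.DeltaCompat pX δX fun _ => 0) (hP : Cyc.DeltaCompat (pullback.fst pX (pC k)) δP δX)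
    (ξ : X) (hξ : δX ξ = 1) (f : X.residueField ξ) (hf : f ≠ 0) :
    (∀ x, Cyc.divFun δX ξ f x = 0) ∨ ∃ ξ' : ↥(pullback pX (pC k)), δP ξ' = 1 ∧
      pullback.snd pX (pC k) ξ' = genericPoint (Line k) ∧
      ∀ x, fm pX t0 (sect_toBase (S k) 0) ξ' x - fm pX tI (sect_toBase (S k) (oth 0)) ξ' x =
        Cyc.divFun δX ξ f x := by
  classical
  have hsX : Cyc.IsSetup X δX := Groth.Cycles.CorrBase.isSetup_field pX hX
  haveI : IsProper (pC k) := Groth.Variety2.isProper_projSpaceOver_toBase _ _
  haveI : IsProper (pullback.fst pX (pC k)) := MorphismProperty.pullback_fst _ _ inferInstance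
  have hsP : Cyc.IsSetup (pullback pX (pC k)) δP :=
    Groth.CycInter.P1C.isSetup_of_lft hsX (pullback.fst pX (pC k)) hP
  set fs := pullback.fst pX (pC k) with hfs
  set pr := pullback.snd pX (pC k) with hpr
  let K : Type u := X.residueField ξ
  let ι0 : CommRingCat.of k ⟶ X.residueField ξ := Spec.preimage (X.fromSpecResidueField ξ ≫ pX)
  have hι0 : Spec.map ι0 = X.fromSpecResidueField ξ ≫ pX := Spec.map_preimage _
  let φ : MvPolynomial (Fin 1) k →+* X.residueField ξ := MvPolynomial.eval₂Hom ι0.hom (fun _ => f)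
  let m : Spec (CommRingCat.of K) ⟶ Line k := Spec.map (CommRingCat.ofHom φ) ≫ chart 0 k
  have hφC : (CommRingCat.ofHom (MvPolynomial.C (σ := Fin 1) (R := k))) ≫ CommRingCat.ofHom φ = ι0 :=
    CommRingCat.hom_ext (RingHom.ext fun r => MvPolynomial.eval₂_C _ _ r)
  have hm : X.fromSpecResidueField ξ ≫ pX = m ≫ pC k := by
    show _ = (Spec.map _ ≫ chart 0 k) ≫ pC k
    rw [Category.assoc, chart_toBase, ← Spec.map_comp, hφC, hι0]
  let j : Spec (CommRingCat.of K) ⟶ pullback pX (pC k) := pullback.lift (X.fromSpecResidueField ξ) m hm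
  set z := j (IsLocalRing.closedPoint K) with hz
  have hjf : j ≫ fs = X.fromSpecResidueField ξ := pullback.lift_fst _ _ _
  have hjp : j ≫ pr = m := pullback.lift_snd _ _ _
  have hzf : fs z = ξ := by
    rw [hz, ← Scheme.Hom.comp_apply, hjf]
    exact Scheme.fromSpecResidueField_apply _ _
  haveI : IsPreimmersion (j ≫ fs) := by rw [hjf]; infer_instance
  obtain ⟨hd, hr⟩ := Groth.CycInter.P1C.delta_eq_of_closedImm_comp fs hP j (IsLocalRing.closedPoint K)
  rw [← hz] at hd hr
  have hdz : δP z = 1 := by rw [hd, hzf, hξ]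
  have hmC : ∀ y, m y ∈ C (S k) 0 := fun y => (range_chart 0).le ⟨_, (Scheme.Hom.comp_apply _ _ y).symm⟩
  have hz0 : pr z ∈ C (S k) 0 := by
    rw [hz, ← Scheme.Hom.comp_apply, hjp]
    exact hmC _
  have hle : ⊤ ≤ chart 0 k ⁻¹ᵁ C (S k) 0 := fun p _ => (range_chart 0).le ⟨p, rfl⟩
  have hm0 : (IsLocalRing.closedPoint K) ∈ m ⁻¹ᵁ C (S k) 0 := hmC _
  have hval : ∀ a : k, ev m (C (S k) 0) hm0 (tA k 0 a) = f - ι0 a := by
    intro a
    have h := ev_comp (Spec.map (CommRingCat.ofHom φ)) (chart 0 k) hle trivial hm0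
    rw [← h, CommRingCat.comp_apply, chart_tA, ev_specMap]
    show φ (MvPolynomial.X 0 - MvPolynomial.C a) = _
    simp [φ]
  rcases generic_or_closed (pr z) with hgen | hcl
  · right
    refine ⟨z, hdz, hgen, fun x => ?_⟩
    obtain ⟨b, hb⟩ := X.residue_surjective ξ f
    obtain ⟨U, hξU, s, hs⟩ := TopCat.Presheaf.germ_exist X.presheaf (x := ξ) b
    have hzU : fs z ∈ U := hzf.symm ▸ hξU
    have hfe : X.evaluation U ξ hξU s = f := by
      rw [← hb, ← hs]; rfl
    set g := X.evaluation U (fs z) hzU s with hg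
    let F := (fs.residueFieldMap z).hom g
    have hjz : j (IsLocalRing.closedPoint K) ∈ fs ⁻¹ᵁ U := hzU
    have hjz' : j (IsLocalRing.closedPoint K) ∈ pr ⁻¹ᵁ C (S k) 0 := hz0
    have hF : F = (pullback pX (pC k)).residue z ((pr.stalkMap z).hom
        ((Line k).presheaf.germ (C (S k) 0) _ hz0 (tA k 0 0))) := by
      have h1 : F = (pullback pX (pC k)).evaluation (fs ⁻¹ᵁ U) z hjz (fs.app U s) :=
        Scheme.evaluation_naturality_apply fs z hzU s
      rw [h1]
      refine Eq.trans (evaluation_eq_of_ev j hjz hjz' _ (pr.app (C (S k) 0) (tA k 0 0)) ?_) ?_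
      · have e1 := ev_comp j fs (le_refl (fs ⁻¹ᵁ U)) hjz (by rw [Scheme.Hom.comp_apply]; exact hjz)
        have e2 := ev_comp j pr (le_refl (pr ⁻¹ᵁ C (S k) 0)) hjz' (by rw [Scheme.Hom.comp_apply]; exact hjz')
        rw [Scheme.Hom.appLE_eq_app] at e1 e2
        rw [← CommRingCat.comp_apply, e1, ← CommRingCat.comp_apply, e2, ev_congr hjp (C (S k) 0) _ hm0, hval,
          ev_congr hjf U _ ((Scheme.fromSpecResidueField_apply ξ _).symm ▸ hξU),
          ev_fromSpecResidueField ξ U _ hξU]
        rw [map_zero, sub_zero]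
        exact hfe
      · show (pullback pX (pC k)).residue z _ = _
        congr 1
        exact (Scheme.Hom.germ_stalkMap_apply pr (C (S k) 0) z hz0 _).symm
    letI : Algebra (X.residueField (fs z)) ((pullback pX (pC k)).residueField z) :=
      (fs.residueFieldMap z).hom.toAlgebra
    have hnorm : Cyc.normGen fs z F = g := by
      show Algebra.norm (X.residueField (fs z)) ((fs.residueFieldMap z).hom g) = g
      refine (Algebra.norm_algebraMap g).trans ?_
      rw [show Module.finrank (X.residueField (fs z)) ((pullback pX (pC k)).residueField z) = 1 from hr, pow_one]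
    have hg0 : g ≠ 0 := by
      intro h
      apply hf
      rw [← hfe]
      have : ∀ (y : X) (hy : y ∈ U), y = ξ → X.evaluation U y hy s = 0 → X.evaluation U ξ hξU s = 0 := by
        rintro y hy rfl h; exact h
      exact this _ hzU hzf h
    have hF0 : F ≠ 0 := (map_ne_zero_iff _ (fs.residueFieldMap z).hom.injective).mpr hg0
    have hη1 : pr z ∈ C (S k) (oth 0) :=
      hgen.symm ▸ (genericPoint_specializes _).mem_open (C (S k) (oth 0)).2
        ((mem_C_or (S k) _ 0).resolve_left tI_notMem)
    have h0 : (t0 (k := k)) (IsLocalRing.closedPoint k) ∈ C (S k) 0 :=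
      (mem_C_or (S k) _ 0).resolve_right (CorrRat.sect_pt 0).2
    have hcl0 := isClosed_point (t0 (k := k)) (sect_toBase (S k) 0)
    obtain ⟨hmax, huniq⟩ := maximal_of_notMem 0 _ hcl0 (CorrRat.sect_pt 0).2 h0
    rw [← tA_zero] at hmax
    have hau : ∀ (c' : Line k) (hi' : c' ∈ C (S k) 0), IsClosed ({c'} : Set (Line k)) →
        c' ≠ t0 (IsLocalRing.closedPoint k) → IsUnit ((Line k).presheaf.germ (C (S k) 0) c' hi' (tA k 0 0)) := by
      intro c' hi' hc' hne
      rw [tA_zero, isUnit_germ_t_iff]
      by_contra hn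
      exact hne (huniq c' hc' hn)
    obtain ⟨G, hG, hmap⟩ := exists_div pX hX hP t0 (sect_toBase (S k) 0) h0 tI (sect_toBase (S k) (oth 0))
      tI_notMem 0 hmax hau z hdz hz0 hη1 F hF hF0
    obtain ⟨G', hG', hpos, -⟩ := exists_push_divFun δP δX hsP hsX fs hP z F hF0
    have hGG : G' = G := Function.locallyFinsuppWithin.ext fun x => by rw [hG', hG]
    rw [← hmap x, ← hGG, congrFun (hpos hd).2 x, hnorm, hg, divFun_evaluation_congr hzf U hzU hξU s, hfe]
  · left
    obtain ⟨a, ha, -⟩ := exists_value 0 (pr z) hcl hz0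
    have hfa : f = ι0 a := by
      rw [← sub_eq_zero, ← hval a]
      have h1 : (Line k).evaluation (C (S k) 0) (pr z) hz0 (tA k 0 a) = 0 :=
        (IsLocalRing.residue_eq_zero_iff _).mpr (by rw [ha]; exact Ideal.mem_span_singleton_self _)
      have h2 : (pullback pX (pC k)).evaluation (pr ⁻¹ᵁ C (S k) 0) z hz0 (pr.app (C (S k) 0) (tA k 0 a)) = 0 := by
        rw [← Scheme.evaluation_naturality_apply, h1, map_zero]
      have e2 := ev_comp j pr (le_refl (pr ⁻¹ᵁ C (S k) 0)) hz0 (by rw [Scheme.Hom.comp_apply]; exact hz0)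
      rw [Scheme.Hom.appLE_eq_app] at e2
      rw [← ev_congr hjp (C (S k) 0) (by rw [Scheme.Hom.comp_apply]; exact hz0) hm0, ← e2, CommRingCat.comp_apply]
      exact ((ev_eq_desc j _ _ _).trans (congrArg _ h2)).trans (map_zero _)
    intro x
    unfold Cyc.divFun
    split_ifs with h
    · have ha0 : a ≠ 0 := fun e => hf (by rw [hfa, e, map_zero])
      let cX : Γ(X, ⊤) := pX.appLE ⊤ ⊤ le_top ((Scheme.ΓSpecIso (CommRingCat.of k)).inv a)
      have hev : X.evaluation ⊤ ξ trivial cX = f := by
        rw [← ev_fromSpecResidueField ξ ⊤ trivial trivial, ← CommRingCat.comp_apply,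
          ev_comp (X.fromSpecResidueField ξ) pX (U := ⊤) (V := ⊤) le_top trivial trivial, ev_congr hι0.symm ⊤ _ trivial, hfa]
        exact ev_specMap (L := X.residueField ξ) ι0 a
      have hu : IsUnit (X.presheaf.germ ⊤ x trivial cX) :=
        ((((Ne.isUnit ha0).map (Scheme.ΓSpecIso (CommRingCat.of k)).inv.hom).map (pX.appLE ⊤ ⊤ le_top).hom).map
          (X.presheaf.germ ⊤ x trivial).hom)
      have hsp : f = Cyc.specMap x ξ h.1 (X.presheaf.germ ⊤ x trivial cX) := by
        rw [← hev]
        show _ = X.residue ξ (X.presheaf.stalkSpecializes h.1 _)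
        rw [TopCat.Presheaf.germ_stalkSpecializes_apply]
        rfl
      rw [hsp]
      exact ordAt_specMap_of_isUnit hsX h hu
    · rfl

end Groth.Cycles.CorrGraph
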