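import Groth.Agent.Cycles.DetForm
import Groth.Agent.Misc5Sym.Sections
import Groth.Agent.Misc5Sym.QuotAffine

/-!
Points of a symmetric product over an affine base from representations.
-/

set_option autoImplicit false
set_option backward.isDefEq.respectTransparency false
set_option linter.style.haveILetI false

universe u

open CategoryTheory CategoryTheory.Limits AlgebraicGeometry
open scoped TensorProduct
open Groth.Misc5Sym

namespace Groth.Cycles.SymPoint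

variable {X S Y : Scheme.{u}} [IsAffine S] (f : X ⟶ S) {d : ℕ} {q : SymProd.fibPow f d ⟶ Y} {g : Y ⟶ S}

/-- The algebra structure of sections of an open over the affine base. -/
@[implicit_reducible]
noncomputable def algT (T : Scheme.{u}) (sT : T ⟶ S) : Algebra Γ(S, ⊤) Γ(T, ⊤) := sT.appTop.hom.toAlgebra

variable (hS : SymProd.IsSymProd f d q g) {U : X.Opens} (hU : IsAffineOpen U)
include hS hU

theorem exists_map (hfact : IsUnit (Nat.factorial d : Γ(S, ⊤))) {T : Scheme.{u}} [IsAffine T] (sT : T ⟶ S) :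
    letI := algU f (U := U) (V := ⊤) le_top
    letI := algT T sT
    ∀ ρ : Γ(X, U) →ₐ[Γ(S, ⊤)] Matrix (Fin d) (Fin d) Γ(T, ⊤),
    ∃ F : T ⟶ Y, F ≫ g = sT ∧ ∀ (u : S ⟶ T) (_ : u ≫ sT = 𝟙 S) (p : Fin d → (S ⟶ X)) (_ : ∀ j, p j ≫ f = 𝟙 S)
      (hpU : ∀ j, ⊤ ≤ p j ⁻¹ᵁ U), (∀ c, u.appTop (ρ c).det = ∏ j, (p j).appLE U ⊤ (hpU j) c) →
        ∃ t : S ⟶ SymProd.fibPow f d, t ≫ q = u ≫ F ∧ ∀ j, t ≫ WidePullback.π (fun _ => f) j = p j := by
  classical
  letI := algU f (U := U) (V := ⊤) le_top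
  letI := algT T sT
  intro ρ
  let base := WidePullback.base (fun _ : Fin d => f)
  let W := chartOpen f d U ⊤
  have hW : IsAffineOpen W := isAffineOpen_chartOpen f d hU (isAffineOpen_top S) le_top
  have hWV : W ≤ base ⁻¹ᵁ ⊤ := le_top
  have hWU : ∀ i, W ≤ (WidePullback.π (fun _ : Fin d => f) i) ⁻¹ᵁ U := fun i x hx =>
    ((mem_chartOpen f d U ⊤).1 hx).1 i
  letI := algW f hWV
  obtain ⟨Φ, hΦ⟩ := exists_algEquiv_sections f (le_top) hWV hWU hU (isAffineOpen_top S) hW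
    fun x hx hx' => (mem_chartOpen f d U ⊤).2 ⟨hx, hx'⟩
  have hp := hS.isQuot
  have hsat : q.base ⁻¹' (q.base '' (W : Set ↥(SymProd.fibPow f d))) = W := by
    refine Set.Subset.antisymm ?_ (Set.subset_preimage_image _ _)
    rintro z ⟨w, hw, hwz⟩
    obtain ⟨σ, rfl⟩ := Groth.Pi1Quot.exists_smul_eq hp hwz
    change (SymProd.permHom f d σ.down).base w ∈ W
    have h : w ∈ SymProd.permHom f d σ.down ⁻¹ᵁ W := by rw [perm_preimage_chartOpen]; exact hw
    exact h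
  let W₀ : Y.Opens := ⟨q.base '' (W : Set ↥(SymProd.fibPow f d)), by
    rw [← (Groth.Pi1Quot.isQuotientMap hp).isOpen_preimage, hsat]
    exact W.2⟩
  have hqW : q ⁻¹ᵁ W₀ = W := TopologicalSpace.Opens.ext hsat
  have hW₀ : IsAffineOpen W₀ := Groth.Misc5Sym.isAffineOpen_of_preimage hp W₀ (hqW.symm ▸ hW)
  let res : Γ(Y, W₀) ⟶ Γ(SymProd.fibPow f d, W) := q.appLE W₀ W hqW.ge
  have hTS : ∀ b : Γ(Y, W₀), Φ.symm (res b) ∈ SymTen.TS Γ(S, ⊤) Γ(X, U) d := by
    intro b σ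
    apply Φ.injective
    rw [AlgEquiv.apply_symm_apply, ← σ.symm_symm, ← sections_perm f le_top hWV hWU hW σ.symm
      (perm_preimage_chartOpen f d U ⊤ σ.symm).ge Φ hΦ, AlgEquiv.apply_symm_apply]
    show (q.appLE W₀ W hqW.ge ≫ (SymProd.permHom f d σ.symm).appLE W W _) b = _
    rw [Scheme.Hom.appLE_comp_appLE,
      Groth.Pi1Quot.appLE_congr_hom (show SymProd.permHom f d σ.symm ≫ q = q from hp.inv (ULift.up σ.symm)) W₀ W _
        hqW.ge]
  let θ := DetForm.detHom ρ hfact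
  let γ₀ : Γ(Y, W₀) →+* SymTen.TS Γ(S, ⊤) Γ(X, U) d :=
    { toFun := fun b => ⟨Φ.symm (res b), hTS b⟩
      map_one' := Subtype.ext (by simp)
      map_mul' := fun a b => Subtype.ext (by simp)
      map_zero' := Subtype.ext (by simp)
      map_add' := fun a b => Subtype.ext (by simp) }
  let γ : Γ(Y, W₀) ⟶ Γ(T, ⊤) := CommRingCat.ofHom (θ.toRingHom.comp γ₀)
  refine ⟨T.isoSpec.hom ≫ Spec.map γ ≫ hW₀.fromSpec, ?_, fun u hu p hp' hpU hdet => ?_⟩
  · have e0 : W₀ ≤ g ⁻¹ᵁ ⊤ := le_top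
    suffices h : g.appLE ⊤ W₀ e0 ≫ γ = sT.appTop by
      simp only [Category.assoc]
      rw [← IsAffineOpen.SpecMap_appLE_fromSpec g (isAffineOpen_top S) hW₀ e0, ← Spec.map_comp_assoc, h,
        IsAffineOpen.fromSpec_top, Scheme.isoSpec_hom_naturality_assoc, Iso.hom_inv_id, Category.comp_id]
    apply CommRingCat.hom_ext
    refine RingHom.ext fun r => ?_
    have hres : res (g.appLE ⊤ W₀ e0 r) = algebraMap Γ(S, ⊤) Γ(SymProd.fibPow f d, W) r := by
      show (g.appLE ⊤ W₀ e0 ≫ q.appLE W₀ W hqW.ge) r = base.appLE ⊤ W hWV r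
      rw [Scheme.Hom.appLE_comp_appLE, Groth.Pi1Quot.appLE_congr_hom hS.over ⊤ W _ hWV]
    have hγ : γ (g.appLE ⊤ W₀ e0 r) = algebraMap Γ(S, ⊤) Γ(T, ⊤) r := by
      show θ (γ₀ (g.appLE ⊤ W₀ e0 r)) = _
      rw [← θ.commutes r]
      congr 1
      refine Subtype.ext ?_
      show Φ.symm (res (g.appLE ⊤ W₀ e0 r)) = _
      rw [hres, Φ.symm.commutes]
      rfl
    exact hγ
  · let t : S ⟶ SymProd.fibPow f d := WidePullback.lift (𝟙 S) p hp'
    have htπ : ∀ j, t ≫ WidePullback.π (fun _ => f) j = p j := WidePullback.lift_π _ _ _ _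
    have htb : t ≫ base = 𝟙 S := WidePullback.lift_base _ _ _ _
    refine ⟨t, ?_, htπ⟩
    have htW : ⊤ ≤ t ⁻¹ᵁ W := fun x _ => (mem_chartOpen f d U ⊤).2 ⟨fun i => by
      rw [← Scheme.Hom.comp_apply, htπ]
      exact hpU i trivial, trivial⟩
    let ev : (⨂[Γ(S, ⊤)] _ : Fin d, Γ(X, U)) →ₐ[Γ(S, ⊤)] Γ(S, ⊤) :=
      { (t.appLE W ⊤ htW).hom.comp Φ.toRingEquiv.toRingHom with
        commutes' := fun r => by
          show t.appLE W ⊤ htW (Φ (algebraMap _ _ r)) = r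
          rw [Φ.commutes]
          show (base.appLE ⊤ W hWV ≫ t.appLE W ⊤ htW) r = r
          rw [Scheme.Hom.appLE_comp_appLE, Groth.Pi1Quot.appLE_congr_hom htb ⊤ ⊤ _ (le_refl _)]
          rw [show (𝟙 S : S ⟶ S).appLE ⊤ ⊤ (le_refl _) = 𝟙 _ from by
            rw [Scheme.Hom.appLE]; simp]
          rfl }
    let uu : Γ(T, ⊤) →ₐ[Γ(S, ⊤)] Γ(S, ⊤) :=
      { u.appTop.hom with
        commutes' := fun r => by
          show (sT.appTop ≫ u.appTop) r = r
          rw [← Scheme.Hom.comp_appTop, hu]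
          simp }
    have heq : uu.comp θ = ev.comp (SymTen.TS Γ(S, ⊤) Γ(X, U) d).val := by
      refine Groth.Misc8.Polarisation.ext_of_tpow hfact _ _ fun c => ?_
      show u.appTop (θ (SymTen.tpow Γ(S, ⊤) Γ(X, U) d c)) = t.appLE W ⊤ htW (Φ _)
      rw [DetForm.detHom_tpow, hdet c]
      show _ = t.appLE W ⊤ htW (Φ (PiTensorProduct.tprod Γ(S, ⊤) fun _ => c))
      rw [hΦ, map_prod]
      refine Finset.prod_congr rfl fun j _ => ?_
      show _ = ((WidePullback.π (fun _ : Fin d => f) j).appLE U W (hWU j) ≫ t.appLE W ⊤ htW) c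
      rw [Scheme.Hom.appLE_comp_appLE, Groth.Pi1Quot.appLE_congr_hom (htπ j) U ⊤ _ (hpU j)]
    have e1 : (t.appLE W ⊤ htW).hom.comp res.hom = u.appTop.hom.comp γ.hom := by
      refine RingHom.ext fun b => ?_
      have h := AlgHom.congr_fun heq ⟨Φ.symm (res b), hTS b⟩
      refine Eq.trans ?_ h.symm
      show t.appLE W ⊤ htW (res b) = t.appLE W ⊤ htW (Φ (Φ.symm (res b)))
      rw [AlgEquiv.apply_symm_apply]
    rw [← cancel_epi S.isoSpec.inv]
    have h1 : S.isoSpec.inv = (isAffineOpen_top S).fromSpec := IsAffineOpen.fromSpec_top.symm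
    rw [h1, ← Category.assoc, ← IsAffineOpen.SpecMap_appLE_fromSpec t hW (isAffineOpen_top S) htW, Category.assoc,
      ← IsAffineOpen.SpecMap_appLE_fromSpec q hW₀ hW hqW.ge, ← Spec.map_comp_assoc]
    rw [show q.appLE W₀ W hqW.ge ≫ t.appLE W ⊤ htW = γ ≫ u.appTop from CommRingCat.hom_ext e1, Spec.map_comp,
      Category.assoc]
    rw [← h1, ← Scheme.isoSpec_hom_naturality_assoc, Iso.inv_hom_id_assoc]

end Groth.Cycles.SymPoint
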