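import Groth.Agent.Cycles.CorrFibre
import Groth.Agent.Cycles.CorrFree
import Groth.Agent.Cycles.SymPoint
import Groth.Agent.Misc10.SymZeta.ProdQuot
import Groth.Prelude.Def_W4c5zerocyclessurfSym

/-!
A family of effective zero-cycles, finite flat over the base, gives locally a morphism to the symmetric product.
-/

set_option autoImplicit false
set_option backward.isDefEq.respectTransparency false
set_option linter.style.haveILetI false

universe u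

open CategoryTheory CategoryTheory.Limits AlgebraicGeometry
open scoped TensorProduct

namespace Groth.Cycles.CorrMap

/-- The points over a rational point of the base of finitely many components, with multiplicities. -/
theorem exists_pts {k : Type u} [Field k] [IsAlgClosed k] {X W : Scheme.{u}}
    (pX : X ⟶ Spec (CommRingCat.of k)) (pW : W ⟶ Spec (CommRingCat.of k)) {U : X.Opens} (hU : IsAffineOpen U)
    {V : W.Opens} (hV : IsAffineOpen V) {E : (pullback pX pW).Opens} (hE : IsAffineOpen E)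
    (eU : E ≤ pullback.fst pX pW ⁻¹ᵁ U) (eV : E ≤ pullback.snd pX pW ⁻¹ᵁ V)
    (Γc : AlgebraicCycle (pullback pX pW) ℤ) (hΓ0 : ∀ ξ, 0 ≤ Γc ξ)
    [Fintype {ξ : ↥(pullback pX pW) // Γc ξ ≠ 0 ∧ pullback.snd pX pW ξ ∈ V}]
    (hξE : ∀ ξ : {ξ : ↥(pullback pX pW) // Γc ξ ≠ 0 ∧ pullback.snd pX pW ξ ∈ V}, ξ.1 ∈ E)
    (hcl : ∀ (ξ : {ξ : ↥(pullback pX pW) // Γc ξ ≠ 0 ∧ pullback.snd pX pW ξ ∈ V}) z,
      ξ.1 ⤳ z → pullback.snd pX pW z ∈ V → z ∈ E)
    (hfinB : ∀ ξ : {ξ : ↥(pullback pX pW) // Γc ξ ≠ 0 ∧ pullback.snd pX pW ξ ∈ V},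
      (CorrChart.comp hE (pullback.snd pX pW) eV (hξE ξ)).Finite)
    (A' : Type u) [CommRing A'] [Nontrivial A'] [Algebra Γ(W, V) A']
    (hfree : ∀ ξ : {ξ : ↥(pullback pX pW) // Γc ξ ≠ 0 ∧ pullback.snd pX pW ξ ∈ V},
      letI := (CorrChart.comp hE (pullback.snd pX pW) eV (hξE ξ)).toAlgebra
      Module.Free A' (A' ⊗[Γ(W, V)] (Γ(pullback pX pW, E) ⧸ (hE.primeIdealOf ⟨ξ.1, hξE ξ⟩).asIdeal)))
    (χ' : A' →+* k) (t : Spec (CommRingCat.of k) ⟶ W) (ht : t ≫ pW = 𝟙 _)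
    (hχ : Spec.map (CommRingCat.ofHom (χ'.comp (algebraMap Γ(W, V) A'))) ≫ hV.fromSpec = t) :
    letI := fun ξ : {ξ : ↥(pullback pX pW) // Γc ξ ≠ 0 ∧ pullback.snd pX pW ξ ∈ V} =>
      (CorrChart.comp hE (pullback.snd pX pW) eV (hξE ξ)).toAlgebra
    ∀ (N' : ℕ) (_ : N' = ∑ ξ : {ξ : ↥(pullback pX pW) // Γc ξ ≠ 0 ∧ pullback.snd pX pW ξ ∈ V},
      (Γc ξ.1).toNat * Module.finrank A'
        (A' ⊗[Γ(W, V)] (Γ(pullback pX pW, E) ⧸ (hE.primeIdealOf ⟨ξ.1, hξE ξ⟩).asIdeal))),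
    ∃ (p : Fin N' → (Spec (CommRingCat.of k) ⟶ X)) (χs : Fin N' → (Γ(X, U) ⟶ CommRingCat.of k)),
      (∀ j, p j = Spec.map (χs j) ≫ hU.fromSpec) ∧ (∀ j, p j ≫ pX = 𝟙 _) ∧
      (∀ c, χ' (∏ ξ : {ξ : ↥(pullback pX pW) // Γc ξ ≠ 0 ∧ pullback.snd pX pW ξ ∈ V},
          Algebra.norm A' ((1 : A') ⊗ₜ[Γ(W, V)] Ideal.Quotient.mk (hE.primeIdealOf ⟨ξ.1, hξE ξ⟩).asIdeal
            ((pullback.fst pX pW).appLE U E eU c)) ^ (Γc ξ.1).toNat) = ∏ j, χs j c) ∧
      ∀ x, (Nat.card {j // p j (IsLocalRing.closedPoint k) = x} : ℤ) = AlgEqCyc.fibreFun pX pW Γc t ht x := by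
  classical
  intro N' hN'
  set pr := pullback.snd pX pW with hpr
  set fs := pullback.fst pX pW with hfs
  let I := {ξ : ↥(pullback pX pW) // Γc ξ ≠ 0 ∧ pr ξ ∈ V}
  let B : I → Type u := fun ξ => Γ(pullback pX pW, E) ⧸ (hE.primeIdealOf ⟨ξ.1, hξE ξ⟩).asIdeal
  letI : ∀ ξ : I, Algebra Γ(W, V) (B ξ) := fun ξ => (CorrChart.comp hE pr eV (hξE ξ)).toAlgebra
  haveI : ∀ ξ, Module.Finite Γ(W, V) (B ξ) := hfinB
  haveI : ∀ ξ, Module.Free A' (A' ⊗[Γ(W, V)] B ξ) := hfree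
  let χ : Γ(W, V) ⟶ CommRingCat.of k := CommRingCat.ofHom (χ'.comp (algebraMap Γ(W, V) A'))
  letI : Algebra Γ(W, V) k := χ.hom.toAlgebra
  let χA : A' →ₐ[Γ(W, V)] k := { χ' with commutes' := fun _ => rfl }
  have key := fun ξ : I => CorrFibre.exists_points hU hV hE eU eV (hξE ξ) (hcl ξ) (hfinB ξ) t ht χ hχ
  choose J _ n χJ hsum hnorm hsec hcount using key
  let L := Σ ξ : I, Σ j : J ξ, Fin ((Γc ξ.1).toNat * n ξ j)
  have hL : Fintype.card L = N' := by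
    simp only [L, Fintype.card_sigma, Fintype.card_fin]
    rw [hN']
    refine Finset.sum_congr (by ext; simp) fun ξ _ => ?_
    rw [← Finset.mul_sum, hsum ξ]
    congr 1
    letI : Algebra A' k := χ'.toAlgebra
    haveI : IsScalarTower Γ(W, V) A' k := IsScalarTower.of_algebraMap_eq fun _ => rfl
    rw [← (Algebra.TensorProduct.cancelBaseChange Γ(W, V) A' k k (B ξ)).toLinearEquiv.finrank_eq,
      Module.finrank_baseChange]
  let e : L ≃ Fin N' := Fintype.equivFinOfCardEq hL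
  refine ⟨fun j => Spec.map (χJ (e.symm j).1 (e.symm j).2.1) ≫ hU.fromSpec, fun j => χJ (e.symm j).1 (e.symm j).2.1,
    fun j => rfl, fun j => hsec _ _, fun c => ?_, fun x => ?_⟩
  · rw [map_prod, Equiv.prod_comp e.symm (fun l : L => χJ l.1 l.2.1 c), Fintype.prod_sigma]
    refine Finset.prod_congr (by ext; simp) fun ξ _ => ?_
    rw [map_pow, show χ' _ = χA _ from rfl, CorrAlg.map_norm χA, hnorm ξ c, ← Finset.prod_pow, Fintype.prod_sigma]
    refine Finset.prod_congr rfl fun j _ => ?_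
    show _ = ∏ _y : Fin ((Γc ξ.1).toNat * n ξ j), χJ ξ j c
    rw [Fin.prod_const, ← pow_mul, mul_comm]
  · set s := IsLocalRing.closedPoint k
    set z := AlgEqCyc.slice pX pW t ht x
    have hcard : Nat.card {j // (Spec.map (χJ (e.symm j).1 (e.symm j).2.1) ≫ hU.fromSpec) s = x} =
        ∑ ξ : I, ∑ j : J ξ, if (Spec.map (χJ ξ j) ≫ hU.fromSpec) s = x then (Γc ξ.1).toNat * n ξ j else 0 := by
      rw [Nat.card_congr (Equiv.subtypeEquiv (q := fun l : L => (Spec.map (χJ l.1 l.2.1) ≫ hU.fromSpec) s = x)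
        e.symm fun _ => Iff.rfl), Nat.card_eq_fintype_card, Fintype.card_subtype, Finset.card_filter,
        Fintype.sum_sigma]
      refine Finset.sum_congr rfl fun ξ _ => ?_
      rw [Fintype.sum_sigma]
      refine Finset.sum_congr rfl fun j _ => ?_
      show (∑ _y : Fin ((Γc ξ.1).toNat * n ξ j), if (Spec.map (χJ ξ j) ≫ hU.fromSpec) s = x then 1 else 0) = _
      rw [Fin.sum_const, smul_eq_mul]
      split_ifs <;> simp
    rw [hcard]
    have hzV : pr z ∈ V := by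
      show pr (AlgEqCyc.slice pX pW t ht x) ∈ V
      rw [hpr, ← Scheme.Hom.comp_apply, AlgEqCyc.slice, pullback.lift_snd, Scheme.Hom.comp_apply, ← hχ,
        Scheme.Hom.comp_apply]
      exact hV.range_fromSpec.le ⟨_, rfl⟩
    have hterm : ∀ ξ : I, ((∑ j : J ξ, if (Spec.map (χJ ξ j) ≫ hU.fromSpec) s = x then (Γc ξ.1).toNat * n ξ j else 0 : ℕ) : ℤ) =
        if h : ξ.1 ⤳ z then Γc ξ.1 * (AlgEqCyc.fibreMult pr z ξ.1 h : ℤ) else 0 := by
      intro ξ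
      obtain ⟨h1, h2⟩ := hcount ξ x
      by_cases h : ξ.1 ⤳ z
      · obtain ⟨j₀, hj₀⟩ := h1 h
        rw [dif_pos h, Finset.sum_eq_single j₀]
        · rw [if_pos ((hj₀ j₀).1.mpr rfl), (hj₀ j₀).2, Nat.cast_mul, Int.toNat_of_nonneg (hΓ0 ξ.1)]
        · exact fun j _ hj => if_neg fun hx => hj ((hj₀ j).1.mp hx)
        · exact fun hh => absurd (Finset.mem_univ j₀) hh
      · rw [dif_neg h, Finset.sum_eq_zero fun j _ => if_neg (h2 h j), Nat.cast_zero]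
    rw [Nat.cast_sum, Finset.sum_congr rfl fun ξ _ => hterm ξ]
    unfold AlgEqCyc.fibreFun
    let e2 : {ξ : I // ξ.1 ⤳ z} ≃ {w : ↥(pullback pX pW) // Γc w ≠ 0 ∧ w ⤳ z} :=
      { toFun := fun ξ => ⟨ξ.1.1, ξ.1.2.1, ξ.2⟩
        invFun := fun ξ => ⟨⟨ξ.1, ξ.2.1, (ξ.2.2.map pr.continuous).mem_open V.2 hzV⟩, ξ.2.2⟩
        left_inv := fun _ => rfl
        right_inv := fun _ => rfl }
    rw [← finsum_comp_equiv e2, finsum_eq_sum_of_fintype, ← Finset.sum_filter_add_sum_filter_not Finset.univ (fun ξ : I => ξ.1 ⤳ z),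
      Finset.sum_eq_zero (s := Finset.univ.filter fun ξ : I => ¬ ξ.1 ⤳ z) (fun ξ hξ => dif_neg (Finset.mem_filter.mp hξ).2),
      add_zero, Finset.sum_subtype (p := fun ξ : I => ξ.1 ⤳ z) _ (fun ξ => by simp)]
    exact Finset.sum_congr rfl fun ξ _ => dif_pos ξ.2

theorem exists_local_at {k : Type u} [Field k] [IsAlgClosed k] [CharZero k] {X W Sy : Scheme.{u}}
    (pX : X ⟶ Spec (CommRingCat.of k)) (pW : W ⟶ Spec (CommRingCat.of k)) [IsProper pX] [LocallyOfFiniteType pW]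
    (hAF : ∀ T : Finset X, ∃ U : X.Opens, IsAffineOpen U ∧ ∀ x ∈ T, x ∈ U) {d : ℕ}
    {q : SymProd.fibPow pX d ⟶ Sy} {g : Sy ⟶ Spec (CommRingCat.of k)} (hS : SymProd.IsSymProd pX d q g)
    (Γc : AlgebraicCycle (pullback pX pW) ℤ) (hΓ0 : ∀ ξ, 0 ≤ Γc ξ)
    (hfin : ∀ ξ, Γc ξ ≠ 0 → ∀ w : W, (closure {ξ} ∩ pullback.snd pX pW ⁻¹' {w}).Finite)
    (w : W) (hw : IsClosed ({w} : Set W))
    (hflat : ∀ ξ, Γc ξ ≠ 0 → ∀ (z : ↥(pullback pX pW)) (h : ξ ⤳ z), pullback.snd pX pW z = w →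
      ((Ideal.Quotient.mk (RingHom.ker (Cyc.specMap z ξ h))).comp ((pullback.snd pX pW).stalkMap z).hom).Flat)
    (hdeg : ∀ N : W.Opens, w ∈ N → ∃ (t : Spec (CommRingCat.of k) ⟶ W) (ht : t ≫ pW = 𝟙 _),
      t (IsLocalRing.closedPoint k) ∈ N ∧ ∑ᶠ x, AlgEqCyc.fibreFun pX pW Γc t ht x = (d : ℤ)) :
    ∃ (T : Scheme.{u}) (ι : T ⟶ W) (_ : IsOpenImmersion ι) (F : T ⟶ Sy),
      w ∈ Set.range ι ∧ F ≫ g = ι ≫ pW ∧
      ∀ (u : Spec (CommRingCat.of k) ⟶ T) (hu : (u ≫ ι) ≫ pW = 𝟙 _),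
        ZCorr.IsCycleOfSymPt pX d q (u ≫ F) (AlgEqCyc.fibreFun pX pW Γc (u ≫ ι) hu) := by
  classical
  set pr := pullback.snd pX pW with hpr
  set fs := pullback.fst pX pW with hfs
  haveI : IsProper pr := MorphismProperty.pullback_snd pX pW inferInstance
  haveI : IsLocallyNoetherian W := LocallyOfFiniteType.isLocallyNoetherian pW
  obtain ⟨V0, hV0, hwV0, -⟩ := exists_isAffineOpen_mem_and_subset (X := W) (x := w) (U := ⊤) trivial
  have hI0 : {ξ : ↥(pullback pX pW) | Γc ξ ≠ 0 ∧ pr ξ ∈ V0}.Finite := by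
    refine (Γc.locallyFiniteSupport.finite_inter_support_of_isCompact
      (pr.isCompact_preimage (U := V0) hV0.isCompact)).subset ?_
    rintro ξ ⟨h1, h2⟩
    exact ⟨h2, h1⟩
  set I0 := {ξ : ↥(pullback pX pW) | Γc ξ ≠ 0 ∧ pr ξ ∈ V0} with hI0def
  have hT : (fs '' ⋃ ξ ∈ I0, (closure {ξ} ∩ pr ⁻¹' {w})).Finite :=
    (hI0.biUnion fun ξ hξ => hfin ξ hξ.1 w).image _
  obtain ⟨U, hU, hxU⟩ := hAF hT.toFinset
  set bad := ⋃ ξ ∈ I0, (closure {ξ} \ (fs ⁻¹ᵁ U : Set ↥(pullback pX pW))) with hbad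
  have hbadc : IsClosed bad := hI0.isClosed_biUnion fun ξ _ => isClosed_closure.sdiff (fs ⁻¹ᵁ U).2
  have hwbad : w ∉ pr '' bad := by
    rintro ⟨z, hz, hzw⟩
    simp only [hbad, Set.mem_iUnion] at hz
    obtain ⟨ξ, hξ, hzξ, hzU⟩ := hz
    exact hzU (hxU _ (hT.mem_toFinset.mpr ⟨z, Set.mem_biUnion hξ ⟨hzξ, hzw⟩, rfl⟩))
  let N : W.Opens := ⟨(pr '' bad)ᶜ, (pr.isClosedMap bad hbadc).isOpen_compl⟩
  obtain ⟨V, hV, hwV, hVle⟩ := exists_isAffineOpen_mem_and_subset (X := W) (x := w) (U := V0 ⊓ N) ⟨hwV0, hwbad⟩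
  set E := fs ⁻¹ᵁ U ⊓ pr ⁻¹ᵁ V with hEdef
  have hE : IsAffineOpen E :=
    Groth.Misc10.SymZeta.isAffineOpen_pullback_inf hU hV (isAffineOpen_top _) le_top le_top
  have eU : E ≤ fs ⁻¹ᵁ U := inf_le_left
  have eV : E ≤ pr ⁻¹ᵁ V := inf_le_right
  have hI : {ξ : ↥(pullback pX pW) | Γc ξ ≠ 0 ∧ pr ξ ∈ V}.Finite :=
    hI0.subset fun ξ hξ => ⟨hξ.1, (hVle hξ.2).1⟩
  let I := {ξ : ↥(pullback pX pW) // Γc ξ ≠ 0 ∧ pr ξ ∈ V}
  haveI : Finite I := hI.to_subtype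
  letI : Fintype I := Fintype.ofFinite I
  have hcl : ∀ (ξ : I) z, ξ.1 ⤳ z → pr z ∈ V → z ∈ E := by
    intro ξ z hz hzV
    refine ⟨?_, hzV⟩
    by_contra hzU
    exact (hVle hzV).2 ⟨z, Set.mem_biUnion (⟨ξ.2.1, (hVle ξ.2.2).1⟩ : ξ.1 ∈ I0)
      ⟨specializes_iff_mem_closure.mp hz, hzU⟩, rfl⟩
  have hξE : ∀ ξ : I, ξ.1 ∈ E := fun ξ => hcl ξ _ specializes_rfl ξ.2.2
  let B : I → Type u := fun ξ => Γ(pullback pX pW, E) ⧸ (hE.primeIdealOf ⟨ξ.1, hξE ξ⟩).asIdeal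
  letI : ∀ ξ : I, Algebra Γ(W, V) (B ξ) := fun ξ => (CorrChart.comp hE pr eV (hξE ξ)).toAlgebra
  have hfinB : ∀ ξ : I, (CorrChart.comp hE pr eV (hξE ξ)).Finite := fun ξ =>
    CorrChart.finite_comp hE pr hV eV (hξE ξ) (hcl ξ)
  haveI : ∀ ξ, Module.Finite Γ(W, V) (B ξ) := hfinB
  haveI : IsNoetherianRing Γ(W, V) := IsLocallyNoetherian.component_noetherian ⟨V, hV⟩
  obtain ⟨a, ha, hfree⟩ := CorrFree.exists_away_free (hV.primeIdealOf ⟨w, hwV⟩).asIdeal B fun ξ =>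
    CorrFree.free_at hE pr hV eV (hξE ξ) (hfinB ξ) _ fun z _ h hzw =>
      hflat ξ.1 ξ.2.1 z h (hzw.trans (hV.fromSpec_primeIdealOf _))
  let A' := Localization.Away a
  haveI : ∀ ξ, Module.Free A' (A' ⊗[Γ(W, V)] B ξ) := hfree A'
  let al : Γ(W, V) ⟶ CommRingCat.of A' := CommRingCat.ofHom (algebraMap Γ(W, V) A')
  haveI : IsOpenImmersion (Spec.map al) := IsOpenImmersion.of_isLocalization a
  let T := Spec (CommRingCat.of A')
  let ι : T ⟶ W := Spec.map al ≫ hV.fromSpec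
  have hwι : w ∈ Set.range ι := by
    obtain ⟨n, hn⟩ : hV.primeIdealOf ⟨w, hwV⟩ ∈ Set.range (Spec.map al) := by
      show _ ∈ Set.range (PrimeSpectrum.comap (algebraMap Γ(W, V) A'))
      rw [PrimeSpectrum.localization_away_comap_range A' a]
      exact ha
    exact ⟨n, by rw [Scheme.Hom.comp_apply, hn, hV.fromSpec_primeIdealOf]⟩
  -- the unique complex point over `w`
  haveI : IsClosedImmersion (W.fromSpecResidueField w) := isClosed_singleton_iff_isClosedImmersion.mp hw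
  let t₀ := pointOfClosedPoint pW w hw
  have ht₀ : Set.range t₀ ⊆ Set.range ι := by
    rintro _ ⟨y, rfl⟩
    rw [pointOfClosedPoint_apply]
    exact hwι
  let u₀ := IsOpenImmersion.lift ι t₀ ht₀
  have hu₀ : (u₀ ≫ ι) ≫ pW = 𝟙 _ := by
    rw [IsOpenImmersion.lift_fac]
    exact pointOfClosedPoint_comp pW w hw
  let χ₀ := Spec.preimage u₀
  haveI : Nontrivial A' := χ₀.hom.domain_nontrivial
  set N' := ∑ ξ : I, (Γc ξ.1).toNat * Module.finrank A' (A' ⊗[Γ(W, V)] B ξ) with hN'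
  -- points at a section
  have hpts : ∀ (u : Spec (CommRingCat.of k) ⟶ T) (hu : (u ≫ ι) ≫ pW = 𝟙 _),
      ∃ (p : Fin N' → (Spec (CommRingCat.of k) ⟶ X)) (χs : Fin N' → (Γ(X, U) ⟶ CommRingCat.of k)),
        (∀ j, p j = Spec.map (χs j) ≫ hU.fromSpec) ∧ (∀ j, p j ≫ pX = 𝟙 _) ∧
        (∀ c, (Spec.preimage u).hom (∏ ξ : I, Algebra.norm A' ((1 : A') ⊗ₜ[Γ(W, V)]
            (Ideal.Quotient.mk _ (fs.appLE U E eU c) : B ξ)) ^ (Γc ξ.1).toNat) = ∏ j, χs j c) ∧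
        ∀ x, (Nat.card {j // p j (IsLocalRing.closedPoint k) = x} : ℤ) =
          AlgEqCyc.fibreFun pX pW Γc (u ≫ ι) hu x := fun u hu => by
    refine exists_pts pX pW hU hV hE eU eV Γc hΓ0 hξE hcl hfinB A' (fun ξ => inferInstanceAs (Module.Free A' (A' ⊗[Γ(W, V)] B ξ)))
      (Spec.preimage u).hom (u ≫ ι) hu ?_ N' hN'
    show Spec.map (al ≫ Spec.preimage u) ≫ hV.fromSpec = _
    rw [Spec.map_comp, Category.assoc, Spec.map_preimage]
  -- the degree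
  have hNd : N' = d := by
    obtain ⟨t, ht, htι, h⟩ := hdeg ι.opensRange hwι
    have hr : Set.range t ⊆ Set.range ι := by
      rintro _ ⟨y, rfl⟩
      rw [Subsingleton.elim y (IsLocalRing.closedPoint k)]
      exact htι
    obtain ⟨u₁, rfl⟩ : ∃ u₁, u₁ ≫ ι = t := ⟨_, IsOpenImmersion.lift_fac ι t hr⟩
    obtain ⟨p, χs, -, -, -, hp⟩ := hpts u₁ ht
    rw [← finsum_congr hp] at h
    let φ := fun j => p j (IsLocalRing.closedPoint k)
    rw [finsum_eq_sum_of_support_subset (s := Finset.univ.image φ)] at h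
    · have h2 : ∑ x ∈ Finset.univ.image φ, Nat.card {j // φ j = x} = N' := by
        simp only [Nat.card_eq_fintype_card, Fintype.card_subtype]
        rw [← Finset.card_eq_sum_card_image φ Finset.univ, Finset.card_univ, Fintype.card_fin]
      rw [← Nat.cast_sum, h2] at h
      exact_mod_cast h
    · intro x hx
      rw [Function.mem_support, Nat.cast_ne_zero, Nat.card_ne_zero] at hx
      obtain ⟨⟨j, hj⟩⟩ := hx.1
      exact Finset.mem_coe.mpr (Finset.mem_image.mpr ⟨j, Finset.mem_univ _, hj⟩)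
  -- the representation
  obtain ⟨ρ₀, hρdet, hρsc⟩ := CorrAlg.exists_rep (A := A') (C := Γ(X, U)) (fun ξ : I => A' ⊗[Γ(W, V)] B ξ)
    (fun ξ => ((Algebra.TensorProduct.includeRight : B ξ →ₐ[Γ(W, V)] A' ⊗[Γ(W, V)] B ξ).toRingHom.comp
      (Ideal.Quotient.mk _)).comp (fs.appLE U E eU).hom)
    (fun ξ => (Γc ξ.1).toNat) (d := d) hNd
  let sT : T ⟶ Spec (CommRingCat.of k) := ι ≫ pW
  let eA : Γ(T, ⊤) ≅ CommRingCat.of A' := Scheme.ΓSpecIso _
  let ρ : Γ(X, U) →+* Matrix (Fin d) (Fin d) Γ(T, ⊤) := eA.inv.hom.mapMatrix.comp ρ₀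
  have htop : sT.appTop = pW.appLE ⊤ V le_top ≫ al ≫ eA.inv := by
    have h1 : sT = Spec.map ((Scheme.ΓSpecIso (CommRingCat.of k)).inv ≫ pW.appLE ⊤ V le_top ≫ al) := by
      show (Spec.map al ≫ hV.fromSpec) ≫ pW = _
      rw [Category.assoc, ← IsAffineOpen.SpecMap_appLE_fromSpec pW (isAffineOpen_top _) hV le_top,
        IsAffineOpen.fromSpec_top, Scheme.isoSpec_Spec_inv, ← Spec.map_comp, ← Spec.map_comp, Category.assoc]
    refine (cancel_epi (Scheme.ΓSpecIso (CommRingCat.of k)).inv).1 ?_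
    rw [h1, ← Scheme.ΓSpecIso_inv_naturality]
    simp only [Category.assoc]
    rfl
  letI := Groth.Misc5Sym.algU pX (U := U) (V := ⊤) le_top
  letI := SymPoint.algT T sT
  let ρA : Γ(X, U) →ₐ[Γ(Spec (CommRingCat.of k), ⊤)] Matrix (Fin d) (Fin d) Γ(T, ⊤) :=
    { ρ with
      commutes' := fun r => by
        show eA.inv.hom.mapMatrix (ρ₀ (pX.appLE ⊤ U le_top r)) = algebraMap _ _ r
        rw [hρsc (pX.appLE ⊤ U le_top r) (al (pW.appLE ⊤ V le_top r)) fun ξ => ?_]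
        · rw [Algebra.algebraMap_eq_smul_one, Algebra.algebraMap_eq_smul_one]
          ext i j
          simp only [RingHom.mapMatrix_apply, Matrix.map_apply, Matrix.smul_apply, Matrix.one_apply,
            Algebra.smul_def, apply_ite eA.inv.hom, map_one, map_zero, mul_ite, mul_one, mul_zero]
          rw [Matrix.algebraMap_matrix_apply]
          show eA.inv.hom (if i = j then al (pW.appLE ⊤ V le_top r) else 0) = if i = j then sT.appTop r else 0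
          rw [htop]
          split_ifs
          · rfl
          · exact map_zero _
        · show (1 : A') ⊗ₜ[Γ(W, V)] (Ideal.Quotient.mk _ (fs.appLE U E eU (pX.appLE ⊤ U le_top r))) = _
          have hcond : pX.appLE ⊤ U le_top ≫ fs.appLE U E eU = pW.appLE ⊤ V le_top ≫ pr.appLE V E eV := by
            rw [Scheme.Hom.appLE_comp_appLE, Scheme.Hom.appLE_comp_appLE]
            exact Groth.Pi1Quot.appLE_congr_hom pullback.condition _ _ _ _
          rw [show fs.appLE U E eU (pX.appLE ⊤ U le_top r) = pr.appLE V E eV (pW.appLE ⊤ V le_top r) from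
            RingHom.congr_fun (congrArg CommRingCat.Hom.hom hcond) r]
          show (1 : A') ⊗ₜ[Γ(W, V)] algebraMap Γ(W, V) (B ξ) (pW.appLE ⊤ V le_top r) = _
          rw [Algebra.algebraMap_eq_smul_one, ← TensorProduct.smul_tmul, ← Algebra.algebraMap_eq_smul_one]
          rfl }
  have hfact : IsUnit (Nat.factorial d : Γ(Spec (CommRingCat.of k), ⊤)) := by
    have h : IsUnit ((Nat.factorial d : ℕ) : k) := isUnit_iff_ne_zero.mpr (Nat.cast_ne_zero.mpr d.factorial_ne_zero)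
    have h2 := h.map (Scheme.ΓSpecIso (CommRingCat.of k)).inv.hom
    rwa [map_natCast] at h2
  obtain ⟨F, hFg, hF⟩ := SymPoint.exists_map pX hS hU hfact sT ρA
  refine ⟨T, ι, inferInstance, F, hwι, hFg, fun u hu => ?_⟩
  obtain ⟨p, χs, hp, hpX, hval, hcount⟩ := hpts u hu
  subst hNd
  have hpU : ∀ j, ⊤ ≤ p j ⁻¹ᵁ U := fun j y _ => by
    show p j y ∈ U
    rw [hp j, Scheme.Hom.comp_apply]
    exact hU.range_fromSpec.le ⟨_, rfl⟩
  have hu' : u ≫ sT = 𝟙 _ := by rw [← hu, Category.assoc]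
  obtain ⟨t, ht, htπ⟩ := hF u hu' p hpX hpU fun c => by
    show u.appTop (eA.inv.hom.mapMatrix (ρ₀ c)).det = _
    rw [← RingHom.map_det, hρdet]
    have hu1 : eA.inv ≫ u.appTop = Spec.preimage u ≫ (Scheme.ΓSpecIso (CommRingCat.of k)).inv := by
      conv_lhs => rw [← Spec.map_preimage u]
      exact (Scheme.ΓSpecIso_inv_naturality _).symm
    refine (RingHom.congr_fun (congrArg CommRingCat.Hom.hom hu1) _).trans ?_
    refine ((congrArg (Scheme.ΓSpecIso (CommRingCat.of k)).inv.hom (hval c)).trans (map_prod _ _ _)).trans ?_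
    refine Finset.prod_congr rfl fun j _ => ?_
    have hj : χs j ≫ (Scheme.ΓSpecIso (CommRingCat.of k)).inv = (p j).appLE U ⊤ (hpU j) := by
      rw [← cancel_mono (Scheme.ΓSpecIso (CommRingCat.of k)).hom, Category.assoc, Iso.inv_hom_id, Category.comp_id]
      refine Spec.map_injective ((cancel_mono hU.fromSpec).1 ?_)
      rw [← hp j, Spec.map_comp, Category.assoc,
        IsAffineOpen.SpecMap_appLE_fromSpec (p j) hU (isAffineOpen_top _) (hpU j), IsAffineOpen.fromSpec_top,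
        SpecMap_ΓSpecIso_hom, Scheme.toSpecΓ_isoSpec_inv_assoc]
    exact RingHom.congr_fun (congrArg CommRingCat.Hom.hom hj) c
  refine ⟨t, ht, fun x => ?_⟩
  rw [← hcount x]
  simp only [htπ]

/-- A family of cycles, finite flat over an open, gives locally a morphism to the symmetric product. -/
theorem exists_local {k : Type u} [Field k] [IsAlgClosed k] [CharZero k] {X W Sy : Scheme.{u}}
    (pX : X ⟶ Spec (CommRingCat.of k)) (pW : W ⟶ Spec (CommRingCat.of k)) [IsProper pX] [LocallyOfFiniteType pW]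
    (hAF : ∀ T : Finset X, ∃ U : X.Opens, IsAffineOpen U ∧ ∀ x ∈ T, x ∈ U) {d : ℕ}
    {q : SymProd.fibPow pX d ⟶ Sy} {g : Sy ⟶ Spec (CommRingCat.of k)} (hS : SymProd.IsSymProd pX d q g)
    (Γc : AlgebraicCycle (pullback pX pW) ℤ) (hΓ0 : ∀ ξ, 0 ≤ Γc ξ)
    (hfin : ∀ ξ, Γc ξ ≠ 0 → ∀ w : W, (closure {ξ} ∩ pullback.snd pX pW ⁻¹' {w}).Finite)
    (O : W.Opens) (w : W) (hwO : w ∈ O) (hw : IsClosed ({w} : Set W))
    (hflat : ∀ ξ, Γc ξ ≠ 0 → ∀ (z : ↥(pullback pX pW)) (h : ξ ⤳ z), pullback.snd pX pW z ∈ O →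
      ((Ideal.Quotient.mk (RingHom.ker (Cyc.specMap z ξ h))).comp ((pullback.snd pX pW).stalkMap z).hom).Flat)
    (hdeg : ∀ (t : Spec (CommRingCat.of k) ⟶ W) (ht : t ≫ pW = 𝟙 _), t (IsLocalRing.closedPoint k) ∈ O →
      ∑ᶠ x, AlgEqCyc.fibreFun pX pW Γc t ht x = (d : ℤ)) :
    ∃ (T : Scheme.{u}) (ι : T ⟶ W) (_ : IsOpenImmersion ι) (F : T ⟶ Sy),
      w ∈ Set.range ι ∧ F ≫ g = ι ≫ pW ∧
      ∀ (u : Spec (CommRingCat.of k) ⟶ T) (hu : (u ≫ ι) ≫ pW = 𝟙 _),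
        ZCorr.IsCycleOfSymPt pX d q (u ≫ F) (AlgEqCyc.fibreFun pX pW Γc (u ≫ ι) hu) := by
  refine exists_local_at pX pW hAF hS Γc hΓ0 hfin w hw (fun ξ hξ z h hz => hflat ξ hξ z h (hz ▸ hwO)) fun N hwN => ?_
  haveI : IsClosedImmersion (W.fromSpecResidueField w) := isClosed_singleton_iff_isClosedImmersion.mp hw
  exact ⟨pointOfClosedPoint pW w hw, pointOfClosedPoint_comp pW w hw,
    (pointOfClosedPoint_apply pW w hw _).symm ▸ hwN,
    hdeg _ _ ((pointOfClosedPoint_apply pW w hw _).symm ▸ hwO)⟩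

end Groth.Cycles.CorrMap
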