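import Groth.Agent.CycInter.P1Coord
import Groth.Agent.Pi1Quot.Basic
import Groth.Agent.Misc15.P1Stalk
import Mathlib.RingTheory.Nullstellensatz

/-!
Coordinates and closed points of the projective line over an algebraically closed field.
-/

set_option autoImplicit false
set_option backward.isDefEq.respectTransparency false
set_option linter.style.haveILetI false

universe u

open CategoryTheory CategoryTheory.Limits AlgebraicGeometry
open Groth.CycInter.P1C Groth.Misc15.ProjPts

namespace Groth.Cycles.CorrP1

variable (k : Type u) [Field k]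

/-- The base. -/
noncomputable abbrev S : Scheme.{u} := Spec (CommRingCat.of k)

/-- The projective line. -/
noncomputable abbrev Line : Scheme.{u} := CohB1.ProjSpaceOver 1 (S k)

/-- Its structure map. -/
noncomputable abbrev pC : Line k ⟶ S k := CohB1.ProjSpaceOver.toBase 1 (S k)

/-- The coordinate on a chart minus a constant. -/
noncomputable def tA (i : Fin (1 + 1)) (a : k) : Γ(Line k, C (S k) i) :=
  t (S k) i - (pC k).appLE ⊤ (C (S k) i) le_top ((Scheme.ΓSpecIso (CommRingCat.of k)).inv a)

variable {k}

theorem tA_zero (i : Fin (1 + 1)) : tA k i 0 = t (S k) i := by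
  rw [tA, map_zero, map_zero, sub_zero]

theorem range_chart (i : Fin (1 + 1)) : Set.range (chart i k) = (C (S k) i : Set (Line k)) := by
  ext x
  exact chart_mem_iff i k x

theorem chart_tA (i : Fin (1 + 1)) (a : k) (h : ⊤ ≤ chart i k ⁻¹ᵁ C (S k) i) :
    (chart i k).appLE (C (S k) i) ⊤ h (tA k i a) =
      (Scheme.ΓSpecIso _).inv (MvPolynomial.X 0 - MvPolynomial.C a) := by
  rw [tA, map_sub, map_sub]
  congr 1
  · show ((CycInter.P1C.pr (S k)).app (D i) ≫ (chart i k).appLE (C (S k) i) ⊤ h) (T i) = _
    rw [← Scheme.Hom.appLE_eq_app]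
    show ((CycInter.P1C.pr (S k)).appLE (D i) (C (S k) i) (le_refl _) ≫ (chart i k).appLE (C (S k) i) ⊤ h) (T i) = _
    rw [Scheme.Hom.appLE_comp_appLE]
    have hfac : chart i k ≫ CycInter.P1C.pr (S k) =
        Spec.map (CommRingCat.ofHom (MvPolynomial.map (θ k))) ≫ chartPt i Z.{u} :=
      (isPullback_chart i k).w
    rw [Groth.Pi1Quot.appLE_congr_hom hfac (D i) ⊤ _ (fun p _ => top_le_preimage i (Set.mem_univ _)),
      ← Scheme.Hom.appLE_comp_appLE _ _ (D i) ⊤ ⊤ (top_le_preimage i) le_top, CommRingCat.comp_apply, chartPt_T]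
    rw [Scheme.Hom.appLE, show ((Spec.map (CommRingCat.ofHom (MvPolynomial.map (θ k)))).app ⊤ ≫ _) =
      (Spec.map (CommRingCat.ofHom (MvPolynomial.map (θ k)))).appTop from by simp]
    refine (RingHom.congr_fun (congrArg CommRingCat.Hom.hom
      (Scheme.ΓSpecIso_inv_naturality (CommRingCat.ofHom (MvPolynomial.map (θ k)))).symm) _).trans ?_
    show (Scheme.ΓSpecIso (CommRingCat.of (MvPolynomial (Fin 1) k))).inv (MvPolynomial.map (θ k) (MvPolynomial.X (0 : Fin 1))) = _
    rw [MvPolynomial.map_X]
  · rw [← CommRingCat.comp_apply, Scheme.Hom.appLE_comp_appLE,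
      Groth.Pi1Quot.appLE_congr_hom (chart_toBase i k) ⊤ ⊤ _ le_top]
    rw [Scheme.Hom.appLE, show ((Spec.map (CommRingCat.ofHom (MvPolynomial.C (σ := Fin 1) (R := k)))).app ⊤ ≫ _) =
      (Spec.map (CommRingCat.ofHom (MvPolynomial.C (σ := Fin 1) (R := k)))).appTop from by simp]
    rw [← CommRingCat.comp_apply, ← Scheme.ΓSpecIso_inv_naturality]
    rfl

/-- A closed point of a chart is the zero of the coordinate minus a constant, and only that point. -/
theorem exists_value [IsAlgClosed k] (i : Fin (1 + 1)) (c : Line k) (hc : IsClosed ({c} : Set (Line k)))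
    (hi : c ∈ C (S k) i) :
    ∃ a : k, IsLocalRing.maximalIdeal ((Line k).presheaf.stalk c) =
        Ideal.span {(Line k).presheaf.germ (C (S k) i) c hi (tA k i a)} ∧
      ∀ (c' : Line k) (hi' : c' ∈ C (S k) i), IsClosed ({c'} : Set (Line k)) → c' ≠ c →
        IsUnit ((Line k).presheaf.germ (C (S k) i) c' hi' (tA k i a)) := by
  have hle : ⊤ ≤ chart i k ⁻¹ᵁ C (S k) i := fun p _ => (range_chart i).le ⟨p, rfl⟩
  have hpt : ∀ (c' : Line k), IsClosed ({c'} : Set (Line k)) → c' ∈ C (S k) i →
      ∃ (p : PrimeSpectrum (MvPolynomial (Fin 1) k)) (b : k), chart i k p = c' ∧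
        p.asIdeal = Ideal.span {MvPolynomial.X 0 - MvPolynomial.C b} := by
    intro c' hc' hi'
    obtain ⟨p, rfl⟩ := (range_chart i).ge hi'
    have hp : IsClosed ({p} : Set ↥(Spec (CommRingCat.of (MvPolynomial (Fin 1) k)))) := by
      have := hc'.preimage (chart i k).continuous
      rwa [← Set.image_singleton, Set.preimage_image_eq _ (chart i k).isOpenEmbedding.injective] at this
    obtain ⟨b, hb⟩ := MvPolynomial.isMaximal_iff_eq_vanishingIdeal_singleton.mp
      ((PrimeSpectrum.isClosed_singleton_iff_isMaximal (x := p)).mp hp)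
    refine ⟨p, b 0, rfl, ?_⟩
    rw [hb]
    refine le_antisymm (fun f hf => ?_) ?_
    · have hf' : MvPolynomial.eval b f = 0 := by simpa using hf
      have key : ∀ g : MvPolynomial (Fin 1) k, g - MvPolynomial.C (MvPolynomial.eval b g) ∈
          Ideal.span {MvPolynomial.X (0 : Fin 1) - MvPolynomial.C (b 0)} := by
        intro g
        induction g using MvPolynomial.induction_on with
        | C r => simp
        | add p q hp hq =>
          have := add_mem hp hq
          convert this using 1
          rw [map_add, map_add]; ring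
        | mul_X p j hp =>
          obtain rfl : j = 0 := Subsingleton.elim _ _
          have h1 := Ideal.mul_mem_right (MvPolynomial.X 0) _ hp
          have h2 := Ideal.mul_mem_left _ (MvPolynomial.C (MvPolynomial.eval b p))
            (Ideal.mem_span_singleton_self (MvPolynomial.X (0 : Fin 1) - MvPolynomial.C (b 0)))
          have := add_mem h1 h2
          convert this using 1
          rw [map_mul, MvPolynomial.eval_X, map_mul]; ring
      have := key f
      rwa [hf', map_zero, sub_zero] at this
    · rw [Ideal.span_le, Set.singleton_subset_iff]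
      simp
  have hgerm : ∀ (p : PrimeSpectrum (MvPolynomial (Fin 1) k)) (hp : chart i k p ∈ C (S k) i) (a : k),
      ((chart i k).stalkMap p).hom ((Line k).presheaf.germ (C (S k) i) _ hp (tA k i a)) =
        (StructureSheaf.toStalk (MvPolynomial (Fin 1) k) p).hom (MvPolynomial.X 0 - MvPolynomial.C a) := by
    intro p hp a
    rw [Scheme.Hom.germ_stalkMap_apply]
    rw [← TopCat.Presheaf.germ_res_apply (Spec (CommRingCat.of (MvPolynomial (Fin 1) k))).presheaf (homOfLE hle) p trivial]
    show (Spec (CommRingCat.of (MvPolynomial (Fin 1) k))).presheaf.germ ⊤ p trivial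
      ((chart i k).appLE (C (S k) i) ⊤ hle (tA k i a)) = _
    rw [chart_tA]
    exact StructureSheaf.algebraMap_germ_apply ⊤ p trivial _
  obtain ⟨p, a, rfl, hpa⟩ := hpt c hc hi
  refine ⟨a, ?_, fun c' hi' hc' hne => ?_⟩
  · letI : Algebra (MvPolynomial (Fin 1) k) ((Spec (CommRingCat.of (MvPolynomial (Fin 1) k))).presheaf.stalk p) :=
      (StructureSheaf.toStalk (MvPolynomial (Fin 1) k) p).hom.toAlgebra
    haveI : IsLocalization.AtPrime ((Spec (CommRingCat.of (MvPolynomial (Fin 1) k))).presheaf.stalk p) p.asIdeal :=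
      StructureSheaf.IsLocalization.to_stalk (MvPolynomial (Fin 1) k) p
    let e : (Line k).presheaf.stalk (chart i k p) ≃+* (Spec (CommRingCat.of (MvPolynomial (Fin 1) k))).presheaf.stalk p :=
      (asIso ((chart i k).stalkMap p)).commRingCatIsoToRingEquiv
    have h1 := IsLocalization.AtPrime.map_eq_maximalIdeal p.asIdeal
      ((Spec (CommRingCat.of (MvPolynomial (Fin 1) k))).presheaf.stalk p)
    have h2 : (Ideal.span {(Line k).presheaf.germ (C (S k) i) _ hi (tA k i a)}).map e.toRingHom =
        IsLocalRing.maximalIdeal _ := by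
      rw [← h1, hpa, Ideal.map_span, Ideal.map_span, Set.image_singleton, Set.image_singleton]
      congr 2
      exact hgerm p hi a
    refine (IsLocalRing.eq_maximalIdeal ?_).symm
    haveI : ((Ideal.span {(Line k).presheaf.germ (C (S k) i) _ hi (tA k i a)}).map e.toRingHom).IsMaximal :=
      h2 ▸ IsLocalRing.maximalIdeal.isMaximal _
    have := Ideal.comap_isMaximal_of_surjective (f := e.toRingHom) (K := (Ideal.span {(Line k).presheaf.germ (C (S k) i) _ hi (tA k i a)}).map e.toRingHom) e.surjective
    rwa [Ideal.comap_map_of_bijective e.toRingHom e.bijective] at this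
  · obtain ⟨p', b, rfl, hpb⟩ := hpt c' hc' hi'
    letI : Algebra (MvPolynomial (Fin 1) k) ((Spec (CommRingCat.of (MvPolynomial (Fin 1) k))).presheaf.stalk p') :=
      (StructureSheaf.toStalk (MvPolynomial (Fin 1) k) p').hom.toAlgebra
    haveI : IsLocalization.AtPrime ((Spec (CommRingCat.of (MvPolynomial (Fin 1) k))).presheaf.stalk p') p'.asIdeal :=
      StructureSheaf.IsLocalization.to_stalk (MvPolynomial (Fin 1) k) p'
    rw [← isUnit_map_iff ((chart i k).stalkMap p').hom, hgerm]
    refine (IsLocalization.AtPrime.isUnit_to_map_iff _ p'.asIdeal _).mpr ?_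
    intro hmem
    apply hne
    congr 1
    apply PrimeSpectrum.ext
    have hmax : p.asIdeal.IsMaximal := by
      have := hc.preimage (chart i k).continuous
      rw [← Set.image_singleton, Set.preimage_image_eq _ (chart i k).isOpenEmbedding.injective] at this
      exact (PrimeSpectrum.isClosed_singleton_iff_isMaximal (x := p)).mp this
    refine (hmax.eq_of_le p'.isPrime.ne_top ?_).symm
    rw [hpa, Ideal.span_le, Set.singleton_subset_iff]
    exact hmem

/-- The point missing from a chart is the zero of the other coordinate. -/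
theorem maximal_of_notMem [IsAlgClosed k] (i : Fin (1 + 1)) (c : Line k) (hc : IsClosed ({c} : Set (Line k)))
    (hni : c ∉ C (S k) (oth i)) (hi : c ∈ C (S k) i) :
    IsLocalRing.maximalIdeal ((Line k).presheaf.stalk c) =
        Ideal.span {(Line k).presheaf.germ (C (S k) i) c hi (t (S k) i)} ∧
      ∀ c' : Line k, IsClosed ({c'} : Set (Line k)) → c' ∉ C (S k) (oth i) → c' = c := by
  obtain ⟨a, ha, hu⟩ := exists_value i c hc hi
  have hnu : ¬ IsUnit ((Line k).presheaf.germ (C (S k) i) c hi (t (S k) i)) := fun h =>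
    hni ((isUnit_germ_t_iff (S k) i c hi).mp h)
  have ha0 : a = 0 := by
    by_contra h0
    apply hnu
    have e : t (S k) i = tA k i a + (pC k).appLE ⊤ (C (S k) i) le_top ((Scheme.ΓSpecIso (CommRingCat.of k)).inv a) := by
      rw [tA, sub_add_cancel]
    rw [e, map_add]
    refine IsLocalRing.notMem_maximalIdeal.mp fun hm => ?_
    have h1 : (Line k).presheaf.germ (C (S k) i) c hi (tA k i a) ∈ IsLocalRing.maximalIdeal ((Line k).presheaf.stalk c) := by
      rw [ha]; exact Ideal.mem_span_singleton_self _
    have h2 := (Ideal.add_mem_iff_right _ h1).mp hm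
    exact IsLocalRing.notMem_maximalIdeal.mpr (((((Ne.isUnit h0).map
      (Scheme.ΓSpecIso (CommRingCat.of k)).inv.hom).map ((pC k).appLE ⊤ (C (S k) i) le_top).hom).map _)) h2
  rw [ha0, tA_zero] at ha
  refine ⟨ha, fun c' hc' hni' => ?_⟩
  by_contra hne
  rcases mem_C_or (S k) c' i with hi' | hi'
  · have := hu c' hi' hc' hne
    rw [ha0, tA_zero] at this
    exact hni' ((isUnit_germ_t_iff (S k) i c' hi').mp this)
  · exact hni' hi'

/-- The local rings of the line are valuation rings. -/
theorem valuationRing_stalk (c : Line k) : ValuationRing ((Line k).presheaf.stalk c) :=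
  haveI := Groth.Misc15.P1Stalk.valuationRing_stalk_P1 k c
  {}

end Groth.Cycles.CorrP1
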