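import Groth.Agent.Cycles.CorrFibreDiv
import Groth.Agent.Variety2.ProjDim

/-!
Rational equivalence of zero-cycles and families over the projective line.
-/

set_option autoImplicit false
set_option backward.isDefEq.respectTransparency false
set_option linter.style.haveILetI false
set_option linter.unusedSectionVars false

universe u

open CategoryTheory CategoryTheory.Limits AlgebraicGeometry
open Groth.CycInter.P1C Groth.Cycles.CorrP1 Groth.Cycles.CorrFibreDiv Groth.Misc15.ProjPts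

namespace Groth.Cycles.CorrRat

variable {k : Type u} [Field k] [IsAlgClosed k] {X : Scheme.{u}} (pX : X ⟶ Spec (CommRingCat.of k)) [IsProper pX]
  {δX : X → ℤ} {δP : ↥(pullback pX (pC k)) → ℤ}

/-- The fibre of a family is the weighted sum over its components. -/
theorem fibreFun_eq (Γc : AlgebraicCycle (pullback pX (pC k)) ℤ) (s : Finset ↥(pullback pX (pC k)))
    (hs : ∀ ξ, Γc ξ ≠ 0 → ξ ∈ s) (t : Spec (CommRingCat.of k) ⟶ Line k) (ht : t ≫ pC k = 𝟙 _) (x : X) :
    AlgEqCyc.fibreFun pX (pC k) Γc t ht x = ∑ ξ ∈ s, Γc ξ * fm pX t ht ξ x := by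
  classical
  rw [AlgEqCyc.fibreFun]
  let T := s.filter fun ξ => Γc ξ ≠ 0 ∧ ξ ⤳ AlgEqCyc.slice pX (pC k) t ht x
  have hT : ∀ ξ, ξ ∈ T ↔ Γc ξ ≠ 0 ∧ ξ ⤳ AlgEqCyc.slice pX (pC k) t ht x := fun ξ => by
    simp only [T, Finset.mem_filter]
    exact ⟨fun h => h.2, fun h => ⟨hs ξ h.1, h⟩⟩
  let e : {ξ // ξ ∈ T} ≃ {w : ↥(pullback pX (pC k)) // Γc w ≠ 0 ∧ w ⤳ AlgEqCyc.slice pX (pC k) t ht x} :=
    Equiv.subtypeEquivRight hT
  rw [← finsum_comp_equiv e, finsum_eq_sum_of_fintype,
    ← Finset.sum_subset (s₁ := T) (Finset.filter_subset _ _) (fun ξ hξs hξ => ?_),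
    ← Finset.sum_coe_sort T]
  · refine Finset.sum_congr rfl fun ξ _ => ?_
    rw [fm, dif_pos ((hT ξ.1).mp ξ.2).2]
    rfl
  · by_cases h0 : Γc ξ = 0
    · rw [h0, zero_mul]
    · rw [fm, dif_neg (fun h => hξ ((hT ξ).mpr ⟨h0, h⟩)), mul_zero]

/-- The closed point at infinity is unique. -/
theorem eq_infty (t t' : Spec (CommRingCat.of k) ⟶ Line k) (ht : t ≫ pC k = 𝟙 _) (ht' : t' ≫ pC k = 𝟙 _)
    (h : t (IsLocalRing.closedPoint k) ∉ C (S k) 0) (h' : t' (IsLocalRing.closedPoint k) ∉ C (S k) 0) : t = t' := by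
  haveI : IsProper (pC k) := Groth.Variety2.isProper_projSpaceOver_toBase _ _
  have hi : t (IsLocalRing.closedPoint k) ∈ C (S k) (oth 0) :=
    (mem_C_or (S k) _ 0).resolve_left h
  obtain ⟨-, hu⟩ := maximal_of_notMem (oth 0) _ (isClosed_point t ht) (by rwa [oth_oth]) hi
  exact ext_of_apply_closedPoint_eq (pC k) ht ht' (hu _ (isClosed_point t' ht') (by rwa [oth_oth])).symm

/-- The point zero and the point infinity. -/
theorem sect_pt (i : Fin (1 + 1)) : P1.sect (S k) i ≫ pC k = 𝟙 _ ∧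
    P1.sect (S k) i (IsLocalRing.closedPoint k) ∉ C (S k) (oth i) :=
  ⟨sect_toBase (S k) i, (range_sect (S k) i).le ⟨_, rfl⟩⟩

/-- One fibre minus the fibre at infinity, as principal divisors. -/
theorem exists_functions (hX : Cyc.DeltaCompat pX δX fun _ => 0) (hP : Cyc.DeltaCompat (pullback.fst pX (pC k)) δP δX)
    (Γc : AlgebraicCycle (pullback pX (pC k)) ℤ) (s : Finset ↥(pullback pX (pC k))) (hs : ∀ ξ, Γc ξ ≠ 0 → ξ ∈ s)
    (hgen : ∀ ξ ∈ s, δP ξ = 1 ∧ pullback.snd pX (pC k) ξ = genericPoint (Line k))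
    (t t₁ : Spec (CommRingCat.of k) ⟶ Line k) (ht : t ≫ pC k = 𝟙 _) (ht₁ : t₁ ≫ pC k = 𝟙 _)
    (h₁ : t₁ (IsLocalRing.closedPoint k) ∉ C (S k) 0) :
    ∃ g : (ξ : ↥(pullback pX (pC k))) → X.residueField (pullback.fst pX (pC k) ξ),
      (∀ ξ, g ξ ≠ 0) ∧ (∀ ξ, g ξ ≠ 1 → δX (pullback.fst pX (pC k) ξ) = 1) ∧
      ∀ x, AlgEqCyc.fibreFun pX (pC k) Γc t ht x - AlgEqCyc.fibreFun pX (pC k) Γc t₁ ht₁ x =
        ∑ ξ ∈ s, Γc ξ * Cyc.divFun δX (pullback.fst pX (pC k) ξ) (g ξ) x := by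
  classical
  have hsX : Cyc.IsSetup X δX := Groth.Cycles.CorrBase.isSetup_field pX hX
  set fs := pullback.fst pX (pC k) with hfs
  haveI : IsProper (pC k) := Groth.Variety2.isProper_projSpaceOver_toBase _ _
  haveI : IsProper fs := MorphismProperty.pullback_fst _ _ inferInstance
  have hsP : Cyc.IsSetup (pullback pX (pC k)) δP := Groth.CycInter.P1C.isSetup_of_lft hsX fs hP
  by_cases h0 : t (IsLocalRing.closedPoint k) ∈ C (S k) 0
  · obtain ⟨a, ha, hau⟩ := exists_value 0 _ (isClosed_point t ht) h0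
    have hmem : ∀ (i : Fin (1 + 1)) (c : Line k), c ∈ C (S k) i → genericPoint (Line k) ∈ C (S k) i := fun i c hc =>
      (genericPoint_specializes c).mem_open (C (S k) i).2 hc
    have hη0 : genericPoint (Line k) ∈ C (S k) 0 := hmem _ _ h0
    have hη1 : genericPoint (Line k) ∈ C (S k) (oth 0) := hmem _ _ ((mem_C_or (S k) _ 0).resolve_left h₁)
    have key : ∀ ξ, ∃ g : X.residueField (fs ξ), g ≠ 0 ∧ (g ≠ 1 → δX (fs ξ) = 1) ∧
        (ξ ∈ s → ∀ x, fm pX t ht ξ x - fm pX t₁ ht₁ ξ x = Cyc.divFun δX (fs ξ) g x) := by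
      intro ξ
      by_cases hξ : ξ ∈ s
      · obtain ⟨hδ, hpr⟩ := hgen ξ hξ
        have hξ0 : pullback.snd pX (pC k) ξ ∈ C (S k) 0 := hpr.symm ▸ hη0
        have hξ1 : pullback.snd pX (pC k) ξ ∈ C (S k) (oth 0) := hpr.symm ▸ hη1
        have hne : (Line k).presheaf.germ (C (S k) 0) _ hξ0 (tA k 0 a) ≠ 0 := by
          intro h
          have hz : tA k 0 a = 0 := by
            haveI : Nonempty (C (S k) 0) := ⟨⟨_, h0⟩⟩
            exact (map_eq_zero_iff _ (germ_injective_of_isIntegral (Line k) _ hξ0)).mp h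
          have hle : ⊤ ≤ chart 0 k ⁻¹ᵁ C (S k) 0 := fun p _ => (range_chart 0).le ⟨p, rfl⟩
          have h2 := chart_tA 0 a hle
          rw [hz, map_zero] at h2
          have h3 := (map_eq_zero_iff _ (Scheme.ΓSpecIso (CommRingCat.of (MvPolynomial (Fin 1) k))).commRingCatIsoToRingEquiv.symm.injective).mp h2.symm
          have h4 := congrArg (MvPolynomial.eval (fun _ => a + 1)) h3
          simp at h4
        have hF0 : (pullback pX (pC k)).residue ξ (((pullback.snd pX (pC k)).stalkMap ξ).hom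
            ((Line k).presheaf.germ (C (S k) 0) _ hξ0 (tA k 0 a))) ≠ 0 := by
          intro h
          replace h := (IsLocalRing.residue_eq_zero_iff _).mp h
          have h2 : ¬ IsUnit ((Line k).presheaf.germ (C (S k) 0) _ hξ0 (tA k 0 a)) := fun hu => h (hu.map _)
          refine h2 ?_
          have hgen' : ∀ (c : Line k) (b : (Line k).presheaf.stalk c), c = genericPoint (Line k) → b ≠ 0 → IsUnit b := by
            rintro c b rfl hb
            exact (show IsUnit (b : (Line k).functionField) from isUnit_iff_ne_zero.mpr hb)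
          exact hgen' _ _ hpr hne
        obtain ⟨G, hG, hmap⟩ := exists_div pX hX hP t ht h0 t₁ ht₁ h₁ a ha hau ξ hδ hξ0 hξ1 _ rfl hF0
        obtain ⟨G', hG', hpos, hneg⟩ := exists_push_divFun δP δX hsP hsX fs hP ξ _ hF0
        have hGG : G' = G := Function.locallyFinsuppWithin.ext fun x => by rw [hG', hG]
        by_cases hd : δP ξ = δX (fs ξ)
        · obtain ⟨hn, hm⟩ := hpos hd
          refine ⟨_, hn, fun _ => hd.symm.trans hδ, fun _ x => ?_⟩
          rw [← hmap x, ← congrFun hm x, hGG]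
        · refine ⟨1, one_ne_zero, fun h => absurd rfl h, fun _ x => ?_⟩
          rw [← hmap x, ← hGG, hneg hd, divFun_one hsX]
          rfl
      · exact ⟨1, one_ne_zero, fun h => absurd rfl h, fun h => absurd h hξ⟩
    choose g hg0 hg1 hg using key
    refine ⟨g, hg0, hg1, fun x => ?_⟩
    rw [fibreFun_eq pX Γc s hs t ht, fibreFun_eq pX Γc s hs t₁ ht₁, ← Finset.sum_sub_distrib]
    exact Finset.sum_congr rfl fun ξ hξ => by rw [← hg ξ hξ x, mul_sub]
  · obtain rfl := eq_infty t t₁ ht ht₁ h0 h₁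
    exact ⟨fun _ => 1, fun _ => one_ne_zero, fun _ h => absurd rfl h, fun x => by
      simp only [sub_self, divFun_one hsX, mul_zero, Finset.sum_const_zero]⟩

/-- The fibres of a family over the projective line are rationally equivalent. -/
theorem ratEquiv_fibres (hX : Cyc.DeltaCompat pX δX fun _ => 0) (hP : Cyc.DeltaCompat (pullback.fst pX (pC k)) δP δX)
    (Γc : AlgebraicCycle (pullback pX (pC k)) ℤ) (hfinΓ : (Function.support ⇑Γc).Finite)
    (hgen : ∀ ξ, Γc ξ ≠ 0 → δP ξ = 1 ∧ pullback.snd pX (pC k) ξ = genericPoint (Line k))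
    (t t' : Spec (CommRingCat.of k) ⟶ Line k) (ht : t ≫ pC k = 𝟙 _) (ht' : t' ≫ pC k = 𝟙 _)
    (α β : AlgebraicCycle X ℤ)
    (hαβ : ∀ x, α x - β x = AlgEqCyc.fibreFun pX (pC k) Γc t ht x - AlgEqCyc.fibreFun pX (pC k) Γc t' ht' x) :
    Cyc.RatEquiv δX 0 α β := by
  classical
  have hsX : Cyc.IsSetup X δX := Groth.Cycles.CorrBase.isSetup_field pX hX
  let s := hfinΓ.toFinset
  have hs : ∀ ξ, Γc ξ ≠ 0 → ξ ∈ s := fun ξ h => hfinΓ.mem_toFinset.mpr h
  have hgs : ∀ ξ ∈ s, δP ξ = 1 ∧ pullback.snd pX (pC k) ξ = genericPoint (Line k) := fun ξ h =>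
    hgen ξ (hfinΓ.mem_toFinset.mp h)
  obtain ⟨t₁, ht₁, h₁⟩ : ∃ t₁ : Spec (CommRingCat.of k) ⟶ Line k, t₁ ≫ pC k = 𝟙 _ ∧
      t₁ (IsLocalRing.closedPoint k) ∉ C (S k) 0 :=
    ⟨P1.sect (S k) (oth 0), (sect_pt (oth 0)).1, by
      have h := (sect_pt (k := k) (oth 0)).2
      rwa [oth_oth] at h⟩
  obtain ⟨g, hg0, hg1, hg⟩ := exists_functions pX hX hP Γc s hs hgs t t₁ ht ht₁ h₁
  obtain ⟨g', hg0', hg1', hg'⟩ := exists_functions pX hX hP Γc s hs hgs t' t₁ ht' ht₁ h₁
  let F : (ξ : {ξ // ξ ∈ s}) → X.residueField (pullback.fst pX (pC k) ξ.1) :=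
    fun ξ => g ξ.1 ^ Γc ξ.1 * g' ξ.1 ^ (-Γc ξ.1)
  refine ratEquivZero_of_family hsX {ξ // ξ ∈ s} (fun ξ => pullback.fst pX (pC k) ξ.1) F
    (fun ξ => mul_ne_zero (zpow_ne_zero _ (hg0 _)) (zpow_ne_zero _ (hg0' _))) (fun ξ h => ?_)
    (fun V _ => Set.toFinite _) fun x => ?_
  · rw [zero_add]
    by_cases h1 : g ξ.1 = 1
    · refine hg1' _ fun h2 => h ?_
      simp only [F, h1, h2, one_zpow, one_mul]
    · exact hg1 _ h1
  · rw [Function.locallyFinsuppWithin.coe_sub, Pi.sub_apply, hαβ x, finsum_eq_sum_of_fintype]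
    have e : ∀ ξ : {ξ // ξ ∈ s}, Cyc.divFun δX (pullback.fst pX (pC k) ξ.1) (F ξ) x =
        Γc ξ.1 * Cyc.divFun δX (pullback.fst pX (pC k) ξ.1) (g ξ.1) x -
          Γc ξ.1 * Cyc.divFun δX (pullback.fst pX (pC k) ξ.1) (g' ξ.1) x := fun ξ => by
      rw [divFun_mul hsX (zpow_ne_zero _ (hg0 _)) (zpow_ne_zero _ (hg0' _)), divFun_zpow hsX (hg0 _),
        divFun_zpow hsX (hg0' _)]
      ring
    rw [Finset.sum_congr rfl fun ξ _ => e ξ, Finset.sum_coe_sort s (fun ξ =>
      Γc ξ * Cyc.divFun δX (pullback.fst pX (pC k) ξ) (g ξ) x - Γc ξ * Cyc.divFun δX (pullback.fst pX (pC k) ξ) (g' ξ) x),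
      Finset.sum_sub_distrib, ← hg, ← hg']
    ring

/-- Rationally equivalent zero-cycles on a proper scheme have the same degree. -/
theorem finsum_eq_of_ratEquiv (hX : Cyc.DeltaCompat pX δX fun _ => 0) (α β : AlgebraicCycle X ℤ)
    (hα : α ∈ Cyc.Zk X δX 0) (hβ : β ∈ Cyc.Zk X δX 0) (h : Cyc.RatEquiv δX 0 α β) :
    ∑ᶠ x, α x = ∑ᶠ x, β x := by
  classical
  have hsX : Cyc.IsSetup X δX := Groth.Cycles.CorrBase.isSetup_field pX hX
  haveI := hsX.1
  have hid : Cyc.DeltaCompat (𝟙 (Spec (CommRingCat.of k))) (fun _ => (0 : ℤ)) fun _ => 0 := by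
    have := Groth.Cycles.deltaCompat_preimmersion (𝟙 (Spec (CommRingCat.of k))) (fun _ => (0 : ℤ))
    exact this
  have hsk : Cyc.IsSetup (Spec (CommRingCat.of k)) fun _ => (0 : ℤ) := Groth.Cycles.CorrBase.isSetup_field _ hid
  have hm := ratEquivZero_map δX (fun _ => (0 : ℤ)) hsX hsk pX hX 0 (α - β) h
  obtain ⟨ι, ξ, f, hξ, -, -, hsum⟩ := hm
  haveI : IsEmpty ι := ⟨fun i => by simpa using hξ i⟩
  have hz : AlgebraicCycle.map pX δX (fun _ => (0 : ℤ)) (α - β) (IsLocalRing.closedPoint k) = 0 := by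
    rw [hsum, finsum_of_isEmpty]
  haveI : CompactSpace X := QuasiCompact.compactSpace_of_compactSpace pX
  have hfin : ∀ c : AlgebraicCycle X ℤ, (Function.support ⇑c).Finite := fun c =>
    (c.locallyFiniteSupport.finite_inter_support_of_isCompact isCompact_univ).subset fun x hx => ⟨trivial, hx⟩
  let T := (hfin α).toFinset ∪ (hfin β).toFinset
  rw [map_apply_eq_sum pX δX _ (α - β) _ T (fun x _ hx => ?_)] at hz
  · rw [finsum_eq_sum_of_support_subset (s := T) _ (fun x hx => by simp [T, hx]),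
      finsum_eq_sum_of_support_subset (s := T) _ (fun x hx => by simp [T, hx]), ← sub_eq_zero, ← Finset.sum_sub_distrib]
    refine Eq.trans (Finset.sum_congr rfl fun x _ => ?_) hz
    rw [if_pos (Subsingleton.elim _ _), Function.locallyFinsuppWithin.coe_sub, Pi.sub_apply]
    by_cases hx : δX x = 0
    · have hc : IsClosed ({x} : Set X) := by
        rw [← closure_eq_iff_isClosed]
        refine Set.Subset.antisymm (fun y hy => ?_) subset_closure
        by_contra hne
        have := (hsX.2.2 x y (specializes_iff_mem_closure.mpr hy) (Ne.symm hne)).1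
        obtain ⟨m, -, hm⟩ := hX y
        simp only at hm
        omega
      let j := pointOfClosedPoint pX x hc
      haveI : IsPreimmersion (j ≫ pX) := by rw [pointOfClosedPoint_comp]; infer_instance
      obtain ⟨h1, h2⟩ := Groth.CycInter.P1C.delta_eq_of_closedImm_comp pX hX j (IsLocalRing.closedPoint k)
      rw [pointOfClosedPoint_apply] at h1 h2
      rw [AlgebraicCycle.mapCoeff, if_pos h1, h2, Nat.cast_one, mul_one]
    · rw [hα x hx, hβ x hx, sub_self, zero_mul]
  · by_contra hn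
    simp only [T, Finset.mem_union, Set.Finite.mem_toFinset, Function.mem_support, not_or, not_not] at hn
    exact hx (by simp [hn.1, hn.2])

/-- The local ring of a point of the line injects into the function field. -/
theorem stalkSpecializes_injective_of_eq {η' c : Line k} (hs : η' ⤳ c) (he : η' = genericPoint (Line k)) :
    Function.Injective ((Line k).presheaf.stalkSpecializes hs).hom := by
  subst he
  exact IsFractionRing.injective ((Line k).presheaf.stalk c) (Line k).functionField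

/-- Over the generic point of the line the components are flat. -/
theorem flat_locQuot (ξ z : ↥(pullback pX (pC k))) (h : ξ ⤳ z)
    (hξ : pullback.snd pX (pC k) ξ = genericPoint (Line k)) :
    ((Ideal.Quotient.mk (RingHom.ker (Cyc.specMap z ξ h))).comp ((pullback.snd pX (pC k)).stalkMap z).hom).Flat := by
  set pr := pullback.snd pX (pC k)
  set R := (Line k).presheaf.stalk (pr z)
  haveI : ValuationRing R := valuationRing_stalk _
  let φ : R →+* Cyc.LocQuot z ξ h := (Ideal.Quotient.mk (RingHom.ker (Cyc.specMap z ξ h))).comp (pr.stalkMap z).hom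
  have hφ : Function.Injective φ := by
    rw [injective_iff_map_eq_zero]
    intro b hb
    have h1 : Cyc.specMap z ξ h ((pr.stalkMap z).hom b) = 0 :=
      RingHom.mem_ker.mp (Ideal.Quotient.eq_zero_iff_mem.mp hb)
    have h2 : (pullback pX (pC k)).residue ξ (((pullback pX (pC k)).presheaf.stalkSpecializes h) ((pr.stalkMap z).hom b)) = 0 := h1
    rw [← CommRingCat.comp_apply (pr.stalkMap z), ← Scheme.Hom.stalkSpecializes_stalkMap pr _ _ h, CommRingCat.comp_apply] at h2
    have hgen' : ∀ (c : Line k) (e : (Line k).presheaf.stalk c), c = genericPoint (Line k) → e ≠ 0 → IsUnit e := by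
      rintro c e rfl he
      exact (show IsUnit (e : (Line k).functionField) from isUnit_iff_ne_zero.mpr he)
    by_contra hb0
    have hne : (Line k).presheaf.stalkSpecializes (h.map pr.continuous) b ≠ 0 := fun h0 =>
      hb0 ((map_eq_zero_iff _ (stalkSpecializes_injective_of_eq _ hξ)).mp h0)
    exact IsLocalRing.notMem_maximalIdeal.mpr ((hgen' _ _ hξ hne).map _) ((IsLocalRing.residue_eq_zero_iff _).mp h2)
  letI : Algebra R (Cyc.LocQuot z ξ h) := φ.toAlgebra
  haveI : IsDomain (Cyc.LocQuot z ξ h) := isDomain_locQuot h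
  haveI : FaithfulSMul R (Cyc.LocQuot z ξ h) := (faithfulSMul_iff_algebraMap_injective _ _).mpr hφ
  show Module.Flat R (Cyc.LocQuot z ξ h)
  rw [Module.Flat.flat_iff_torsion_eq_bot_of_isBezout, ← Submodule.isTorsionFree_iff_torsion_eq_bot]
  exact FaithfulSMul.to_isTorsionFree R (Cyc.LocQuot z ξ h)

end Groth.Cycles.CorrRat
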