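import Groth.Agent.Misc8.Polarisation
import Mathlib.LinearAlgebra.Matrix.Determinant.Basic
import Mathlib.LinearAlgebra.PiTensorProduct

/-!
A representation `ρ : C → Mat_d(A)` gives a homomorphism out of the symmetric tensors, `x ⊗ ⋯ ⊗ x ↦ det (ρ x)`.
-/

set_option autoImplicit false

universe u

open scoped TensorProduct
open PiTensorProduct (tprod)

namespace Groth.Cycles.DetForm

variable {k : Type u} [CommRing k] {C : Type u} [CommRing C] [Algebra k C] {A : Type u} [CommRing A] [Algebra k A]
  {d : ℕ} (ρ : C →ₐ[k] Matrix (Fin d) (Fin d) A)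

/-- The entry `(i, j)` as a linear map. -/
noncomputable def entry (i j : Fin d) : C →ₗ[k] A where
  toFun c := ρ c i j
  map_add' a b := by simp
  map_smul' r a := by simp

/-- The multilinear determinant. -/
noncomputable def detForm : (⨂[k] _ : Fin d, C) →ₗ[k] A :=
  PiTensorProduct.lift (∑ σ : Equiv.Perm (Fin d), ((Equiv.Perm.sign σ : ℤˣ) : ℤ) •
    (MultilinearMap.mkPiAlgebra k (Fin d) A).compLinearMap fun j => entry ρ (σ j) j)

lemma detForm_diag (r : C) : detForm ρ (tprod k fun _ : Fin d => r) = (ρ r).det := by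
  rw [detForm, PiTensorProduct.lift.tprod, MultilinearMap.sum_apply, Matrix.det_apply']
  refine Finset.sum_congr rfl fun σ _ => ?_
  simp [entry, zsmul_eq_mul]

lemma detForm_mul (hfact : IsUnit (Nat.factorial d : k)) {s t : ⨂[k] _ : Fin d, C}
    (hs : s ∈ SymTen.TS k C d) (ht : t ∈ SymTen.TS k C d) :
    detForm ρ (s * t) = detForm ρ s * detForm ρ t := by
  have hspan : ∀ {z : ⨂[k] _ : Fin d, C}, z ∈ SymTen.TS k C d →
      z ∈ Submodule.span k (Set.range fun r : C => tprod k fun _ : Fin d => r) := by
    intro z hz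
    have hm := Submodule.smul_mem _ (↑hfact.unit⁻¹ : k) (Groth.Misc8.Polarisation.factorial_smul_mem hz)
    rwa [smul_smul, IsUnit.val_inv_mul, one_smul] at hm
  refine Submodule.span_induction (p := fun z _ => detForm ρ (z * t) = detForm ρ z * detForm ρ t)
    ?_ (by simp) (fun a b _ _ ha hb => by simp [add_mul, ha, hb])
    (fun c a _ ha => by rw [smul_mul_assoc, map_smul, map_smul, ha, smul_mul_assoc]) (hspan hs)
  rintro _ ⟨r, rfl⟩
  refine Submodule.span_induction (p := fun z _ => detForm ρ (tprod k (fun _ : Fin d => r) * z) =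
    detForm ρ (tprod k (fun _ : Fin d => r)) * detForm ρ z)
    ?_ (by simp) (fun a b _ _ ha hb => by simp [mul_add, ha, hb])
    (fun c a _ ha => by rw [mul_smul_comm, map_smul, map_smul, ha, mul_smul_comm]) (hspan ht)
  rintro _ ⟨r', rfl⟩
  have : (tprod k fun _ : Fin d => r) * (tprod k fun _ : Fin d => r') = tprod k fun _ : Fin d => r * r' := by
    rw [PiTensorProduct.tprod_mul_tprod]
    rfl
  simp only [this, detForm_diag, map_mul, Matrix.det_mul]

/-- The homomorphism of symmetric tensors attached to a representation. -/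
noncomputable def detHom (hfact : IsUnit (Nat.factorial d : k)) : SymTen.TS k C d →ₐ[k] A :=
  AlgHom.ofLinearMap ((detForm ρ).comp (SymTen.TS k C d).val.toLinearMap)
    (by
      show detForm ρ 1 = 1
      rw [PiTensorProduct.one_def]
      exact (detForm_diag ρ 1).trans (by simp))
    (fun s t => detForm_mul ρ hfact s.2 t.2)

lemma detHom_tpow (hfact : IsUnit (Nat.factorial d : k)) (r : C) :
    detHom ρ hfact (SymTen.tpow k C d r) = (ρ r).det :=
  detForm_diag ρ r

end Groth.Cycles.DetForm
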