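import Groth.Agent.Cycles.DimFunLft
import Groth.Agent.Cycles.StalkPrimes
import Groth.Agent.Ega4Algebra1.EquidimBasic
import Groth.Agent.Calg4.RegularStalk

/-!
`- dim 𝒪_{S,s}` is a dimension function on a scheme with regular local rings.
-/

universe u

set_option autoImplicit false

open CategoryTheory AlgebraicGeometry Order IsLocalRing

namespace Groth.Cycles

variable {S : Scheme.{u}}

theorem coheight_fromSpecStalk (y : S) (q : ↥(Spec (S.presheaf.stalk y))) :
    coheight q = coheight (S.fromSpecStalk y q) := by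
  have hemb := (S.fromSpecStalk y).isEmbedding
  refine coheight_eq_of_strictMono _ (fun a b h => ?_) (fun a b h => ?_) q
  · rw [lt_iff_specializes] at h ⊢
    exact ⟨h.1.map (S.fromSpecStalk y).continuous, fun e => h.2 (hemb.injective e)⟩
  · rw [lt_iff_specializes] at h
    have hby : b ∈ Set.range (S.fromSpecStalk y) := by
      rw [Scheme.range_fromSpecStalk]
      have ha : S.fromSpecStalk y a ∈ {z | z ⤳ y} := Scheme.range_fromSpecStalk.subset ⟨a, rfl⟩
      exact h.1.trans ha
    obtain ⟨a', rfl⟩ := hby
    refine ⟨a', ?_, rfl⟩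
    rw [lt_iff_specializes]
    exact ⟨hemb.isInducing.specializes_iff.mp h.1, fun e => h.2 (congrArg _ e)⟩

/-- In a regular local ring a prime just below the maximal ideal has height one less than the dimension. -/
theorem ringKrullDim_eq_height_add_one (R : Type u) [CommRing R] [IsRegularLocalRing R] (p : PrimeSpectrum R)
    (hp : p ≠ closedPoint R) (h : ∀ q : PrimeSpectrum R, p ≤ q → q = p ∨ q = closedPoint R) :
    ringKrullDim R = p.asIdeal.height + 1 := by
  have := Groth.Calg4.isRegularRing_of_local R
  have h1 := Groth.Ega4Algebra1.height_add_ringKrullDim_quotient R p.asIdeal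
  rw [← h1]
  congr 1
  rw [Groth.Ega4Algebra1.ringKrullDim_quotient_eq_coheight R p]
  have hle : p ≤ closedPoint R := IsLocalRing.le_maximalIdeal p.isPrime.ne_top
  have hlt : p < closedPoint R := lt_of_le_of_ne hle hp
  have hm : coheight (closedPoint R) = 0 :=
    coheight_eq_zero.mpr fun q _ => IsLocalRing.le_maximalIdeal q.isPrime.ne_top
  have e : coheight p = 1 := by
    refine le_antisymm ?_ (by simpa [hm] using coheight_add_one_le hlt)
    rw [coheight_eq_iSup_gt_coheight]
    refine iSup₂_le fun q hq => ?_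
    rcases h q hq.le with rfl | rfl
    · exact absurd hq (lt_irrefl _)
    · rw [hm, zero_add]
  rw [e]
  rfl

/-- `- dim 𝒪_{S,s}` is a dimension function. -/
theorem isDimFun_neg_stalkDim (hreg : ∀ s : S, IsRegularLocalRing (S.presheaf.stalk s)) (δS : S → ℤ)
    (hδS : ∀ s : S, ringKrullDim (S.presheaf.stalk s) = ((-δS s).toNat : WithBot ℕ∞) ∧ δS s ≤ 0) :
    Cyc.IsDimFun S δS := by
  have hco : ∀ s : S, coheight s = ((-δS s).toNat : ℕ∞) := fun s => by
    have := (ringKrullDim_stalk_eq_coheight s).symm.trans (hδS s).1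
    exact_mod_cast this
  intro x y hxy hne
  have hlt : y < x := lt_iff_specializes.mpr ⟨hxy, hne.symm⟩
  have h1 : coheight x + 1 ≤ coheight y := coheight_add_one_le hlt
  rw [hco, hco] at h1
  have h1' : (-δS x).toNat + 1 ≤ (-δS y).toNat := by exact_mod_cast h1
  have hx0 := (hδS x).2
  have hy0 := (hδS y).2
  refine ⟨by omega, fun himm => ?_⟩
  have := hreg y
  set q := genPrime hxy with hq
  have hfq : S.fromSpecStalk y q = x := fromSpecStalk_genPrime hxy
  have hclosed : S.fromSpecStalk y (closedPoint (S.presheaf.stalk y)) = y := Scheme.fromSpecStalk_closedPoint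
  have hkey : ringKrullDim (S.presheaf.stalk y) = q.asIdeal.height + 1 := by
    refine ringKrullDim_eq_height_add_one _ q (fun e => hne ?_) fun r hr => ?_
    · rw [← hfq, e, hclosed]
    · have hr' : q ⤳ r := (PrimeSpectrum.le_iff_specializes q r).mp hr
      have h2 : S.fromSpecStalk y r ⤳ y := Scheme.range_fromSpecStalk.subset ⟨r, rfl⟩
      rcases himm (S.fromSpecStalk y r) (hfq ▸ hr'.map (S.fromSpecStalk y).continuous) h2 with e | e
      · exact Or.inl ((S.fromSpecStalk y).isEmbedding.injective (e.trans hfq.symm))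
      · exact Or.inr ((S.fromSpecStalk y).isEmbedding.injective (e.trans hclosed.symm))
  have hqh : q.asIdeal.height = ((-δS x).toNat : ℕ∞) := by
    rw [← hco, ← hfq]
    exact (idealHeight_eq_coheight _ q).trans (coheight_fromSpecStalk y q)
  rw [(hδS y).1, hqh] at hkey
  have h3 : (-δS y).toNat = (-δS x).toNat + 1 := by exact_mod_cast hkey
  omega

end Groth.Cycles
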