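import Groth.Agent.Cycles.StalkPrimes
import Groth.Agent.Cycles.NormDiv
import Groth.Agent.Cycles.ClosureDiv
import Groth.Agent.Cycles.PullComp
import Groth.Agent.MilnorKLambda.Key.DimOne

/-!
Flat pullback of principal divisors.
-/

universe u

set_option autoImplicit false
set_option linter.style.haveILetI false

open CategoryTheory AlgebraicGeometry IsLocalRing Pointwise
open Groth.CycleLimits

namespace Groth.Cycles

variable {X Y : Scheme.{u}}

theorem delta_le_add (f : X ⟶ Y) {δX : X → ℤ} {δY : Y → ℤ} (hX : Cyc.IsSetup X δX) {c : ℤ}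
    (hc : ∀ x, IsFibreGeneric f x → δX x = δY (f x) + c) (x : X) : δX x ≤ δY (f x) + c := by
  have := hX.1
  obtain ⟨y, hyx, hfy, hy⟩ := exists_isFibreGeneric f x
  rw [← hfy, ← hc y hy]
  exact delta_le_of_specializes hX.2.2 hyx

theorem apply_eq_genericPoint_of_max [IsIntegral Y] (f : X ⟶ Y) [Flat f] {ξ : X}
    (h : ∀ z : X, z ⤳ ξ → z = ξ) : f ξ = genericPoint Y := by
  obtain ⟨z, hz, hfz⟩ := (AlgebraicGeometry.Flat.generalizingMap f) (genericPoint_specializes (f ξ))
  rw [← h z hz, hfz]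

theorem delta_eq_of_max [IsIntegral Y] (f : X ⟶ Y) [Flat f] {δX : X → ℤ} {δY : Y → ℤ} {c : ℤ}
    (hc : ∀ x, IsFibreGeneric f x → δX x = δY (f x) + c) {ξ : X}
    (h : ∀ z : X, z ⤳ ξ → z = ξ) : δX ξ = δY (genericPoint Y) + c := by
  rw [hc ξ (fun z _ hs => h z hs), apply_eq_genericPoint_of_max f h]

theorem residueFieldCongr_specMap {y η η' : Y} (e : η = η') (h : η ⤳ y) (h' : η' ⤳ y) (a : Y.presheaf.stalk y) :
    (Y.residueFieldCongr e).hom (Cyc.specMap y η h a) = Cyc.specMap y η' h' a := by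
  subst e; rfl

theorem residueFieldMap_specMap (f : X ⟶ Y) {x ξ : X} (h : ξ ⤳ x) (h' : f ξ ⤳ f x) (a : Y.presheaf.stalk (f x)) :
    f.residueFieldMap ξ (Cyc.specMap (f x) (f ξ) h' a) = Cyc.specMap x ξ h (f.stalkMap x a) := by
  show (Y.presheaf.stalkSpecializes h' ≫ Y.residue (f ξ) ≫ f.residueFieldMap ξ) a =
    (f.stalkMap x ≫ X.presheaf.stalkSpecializes h ≫ X.residue ξ) a
  rw [Scheme.residue_residueFieldMap, Scheme.Hom.stalkSpecializes_stalkMap_assoc]

theorem krullDimLE_one_locQuot {δ : X → ℤ} (hδ : Cyc.IsDimFun X δ) {x ξ : X} (h : ξ ⤳ x)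
    (hd : δ ξ ≤ δ x + 1) : Ring.KrullDimLE 1 (Cyc.LocQuot x ξ h) := by
  refine Ring.krullDimLE_iff.mpr ?_
  rw [ringKrullDim_locQuot, krullDim_interval hδ h]
  exact_mod_cast (show (δ ξ - δ x).toNat ≤ 1 by omega)

/-- The function on the generalizations which enters the pullback of a divisor. -/
noncomputable def pullTerm (f : X ⟶ Y) {η : Y} (δX : X → ℤ) (g : Y.residueField η) (x : X)
    (ξ : {ξ : X // (∀ x' : X, x' ⤳ ξ → x' = ξ) ∧ f ξ = η}) : ℤ :=
  ((Module.length (X.presheaf.stalk ξ.1) (X.presheaf.stalk ξ.1)).toNat : ℤ) *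
    Cyc.divFun δX ξ.1 (f.residueFieldMap ξ.1 ((Y.residueFieldCongr ξ.2.2.symm).hom g)) x

theorem pullTerm_specMap (f : X ⟶ Y) {η : Y} (δX : X → ℤ) {x : X} (hη : η ⤳ f x) (a : Y.presheaf.stalk (f x))
    (ξ : {ξ : X // (∀ x' : X, x' ⤳ ξ → x' = ξ) ∧ f ξ = η}) (h : ξ.1 ⤳ x) :
    f.residueFieldMap ξ.1 ((Y.residueFieldCongr ξ.2.2.symm).hom (Cyc.specMap (f x) η hη a)) =
      Cyc.specMap x ξ.1 h (f.stalkMap x a) := by
  rw [residueFieldCongr_specMap ξ.2.2.symm hη (ξ.2.2.symm ▸ hη), residueFieldMap_specMap f h]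

theorem finite_gen (f : X ⟶ Y) [IsLocallyNoetherian X] (η : Y) (x : X) :
    {ξ : {ξ : X // (∀ x' : X, x' ⤳ ξ → x' = ξ) ∧ f ξ = η} | ξ.1 ⤳ x}.Finite := by
  have hfin := ((minimalPrimes.finite_of_isNoetherianRing (X.presheaf.stalk x)).preimage
      (Function.Injective.injOn fun p q h => PrimeSpectrum.ext h :
        Set.InjOn PrimeSpectrum.asIdeal _)).image (X.fromSpecStalk x)
  refine (hfin.preimage Subtype.val_injective.injOn).subset fun ξ hξ => ?_
  exact ⟨genPrime hξ, (genPrime_mem_minimalPrimes_iff hξ).mpr ξ.2.1, fromSpecStalk_genPrime hξ⟩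

/-- The main case: a codimension one point and a generic point of the fibre over it. -/
theorem pull_ord_main [IsIntegral Y] (δX : X → ℤ) (δY : Y → ℤ) (hX : Cyc.IsSetup X δX) (hY : Cyc.IsSetup Y δY)
    (f : X ⟶ Y) [Flat f] (c : ℤ) (hc : ∀ x, IsFibreGeneric f x → δX x = δY (f x) + c) (η : Y) (hη : η = genericPoint Y) (g : Y.residueField η) (hg : g ≠ 0)
    (x : X) (hy : δY (f x) + 1 = δY η) (hx : δX x = δY (f x) + c) (hsp : η ⤳ f x) :
    Cyc.ordAt (f x) η hsp g * ((Module.length (X.presheaf.stalk x) (X.presheaf.stalk x ⧸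
        fibreIdeal f x)).toNat : ℤ) = ∑ᶠ ξ, pullTerm f δX g x ξ := by
  classical
  have := hX.1
  have := hY.1
  have hgen : ∀ ξ : {ξ : X // (∀ x' : X, x' ⤳ ξ → x' = ξ) ∧ f ξ = η}, δX ξ.1 = δY η + c := fun ξ => by
    rw [delta_eq_of_max f hc ξ.2.1, ← hη]
  have hA1 : ringKrullDim (Y.presheaf.stalk (f x)) = 1 := ringKrullDim_stalk_eq_one_of_delta hY.2.2 (hη ▸ hy)
  have hA1' : Ring.KrullDimLE 1 (Y.presheaf.stalk (f x)) := Ring.krullDimLE_iff.mpr hA1.le
  have hxmax : ¬ IsMax x := fun hm => by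
    have h1 := apply_eq_genericPoint_of_max f (isMax_iff.mp hm)
    rw [h1, ← hη] at hy
    omega
  have hbound : ∀ z : X, δX z ≤ δY η + c := fun z =>
    (delta_le_add f hX hc z).trans (by
      have := delta_le_of_specializes hY.2.2 (show η ⤳ f z from hη ▸ genericPoint_specializes (f z))
      omega)
  have hB1 : ringKrullDim (X.presheaf.stalk x) = 1 := by
    rw [ringKrullDim_stalk_eq_coheight]
    suffices Order.coheight x = 1 by rw [this]; rfl
    refine le_antisymm (Order.coheight_le fun p hp => ?_) (Order.one_le_iff_ne_zero.mpr fun h0 =>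
      hxmax (Order.coheight_eq_zero.mp h0))
    have h1 := length_le_delta_sub hX.2.2 p
    have h2 := hbound p.last
    have h3 : δX p.head = δX x := by rw [hp]
    exact_mod_cast (show (p.length : ℤ) ≤ 1 by omega)
  letI algAB : Algebra (Y.presheaf.stalk (f x)) (X.presheaf.stalk x) := (f.stalkMap x).hom.toAlgebra
  have : IsLocalHom (algebraMap (Y.presheaf.stalk (f x)) (X.presheaf.stalk x)) :=
    inferInstanceAs (IsLocalHom (f.stalkMap x).hom)
  have : Module.Flat (Y.presheaf.stalk (f x)) (X.presheaf.stalk x) := Flat.stalkMap f x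
  letI : Algebra (Y.presheaf.stalk (f x)) (Y.residueField η) := (Cyc.specMap (f x) η hsp).toAlgebra
  have hfrac := isFractionRing_stalk_residue hη (f x) hsp
  have hord : ∀ g : Y.residueField η, Cyc.ordAt (f x) η hsp g =
      CycAlg.ordFrac (Y.presheaf.stalk (f x)) (Y.residueField η) g := fun g =>
    ordAt_generic_eq_ordFrac hη (f x) hsp hA1' g
  have hnzd : ∀ a : Y.presheaf.stalk (f x), a ≠ 0 → f.stalkMap x a ∈ nonZeroDivisors (X.presheaf.stalk x) := by
    intro a ha
    have hs : IsSMulRegular (X.presheaf.stalk x) (algebraMap (Y.presheaf.stalk (f x)) (X.presheaf.stalk x) a) :=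
      IsSMulRegular.of_flat fun u v h => mul_left_cancel₀ ha h
    exact mem_nonZeroDivisors_iff.mpr ⟨fun z hz => hs (hz.trans (smul_zero _).symm),
      fun z hz => hs ((mul_comm _ z).trans (hz.trans (smul_zero _).symm))⟩
  have hemb : ∀ p ∈ associatedPrimes (X.presheaf.stalk x) (X.presheaf.stalk x),
      p ∈ minimalPrimes (X.presheaf.stalk x) := by
    intro p hp
    have hpp := hp.isPrime
    refine (Groth.MilnorKLambda.Key.minimal_iff_ne_maximal hB1 ⟨p, hpp⟩).mpr fun hmax => ?_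
    obtain ⟨a, ha, ha0⟩ : ∃ a ∈ maximalIdeal (Y.presheaf.stalk (f x)), a ≠ 0 := by
      refine Submodule.exists_mem_ne_zero_of_ne_bot fun h0 => ?_
      have hF := (IsLocalRing.isField_iff_maximalIdeal_eq.mpr h0)
      rw [ringKrullDim_eq_zero_of_isField hF] at hA1
      exact zero_ne_one hA1
    have hmem : f.stalkMap x a ∈ p := by
      rw [show p = maximalIdeal (X.presheaf.stalk x) from hmax]
      exact fun hu => (IsLocalRing.mem_maximalIdeal a).mp ha
        (isUnit_of_map_unit (f.stalkMap x).hom a hu)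
    obtain ⟨z, hz0, hz⟩ : ∃ z : X.presheaf.stalk x, z ≠ 0 ∧ f.stalkMap x a • z = 0 := by
      have := (biUnion_associatedPrimes_eq_zero_divisors (X.presheaf.stalk x) (X.presheaf.stalk x)).le
        (Set.mem_biUnion hp hmem)
      exact this
    exact hz0 ((mem_nonZeroDivisors_iff.mp (hnzd a ha0)).1 z hz)
  -- the value on an element of the local ring of `Y`
  set L : ℤ := ((Module.length (X.presheaf.stalk x) (X.presheaf.stalk x ⧸ fibreIdeal f x)).toNat : ℤ)
  set t := (finite_gen f η x).toFinset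
  have ht : ∀ ξ, ξ ∈ t ↔ ξ.1 ⤳ x := fun ξ => by simp [t]
  let O : {ξ : X // (∀ x' : X, x' ⤳ ξ → x' = ξ) ∧ f ξ = η} → Y.residueField η → ℤ := fun ξ g =>
    if h : ξ.1 ⤳ x then
      Cyc.ordAt x ξ.1 h (f.residueFieldMap ξ.1 ((Y.residueFieldCongr ξ.2.2.symm).hom g)) else 0
  let n : {ξ : X // (∀ x' : X, x' ⤳ ξ → x' = ξ) ∧ f ξ = η} → ℤ := fun ξ =>
    ((Module.length (X.presheaf.stalk ξ.1) (X.presheaf.stalk ξ.1)).toNat : ℤ)
  have hrhs : ∀ g, ∑ᶠ ξ, pullTerm f δX g x ξ = ∑ ξ ∈ t, n ξ * O ξ g := fun g => by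
    rw [finsum_eq_sum_of_support_subset _ (s := t) fun ξ hξ => by
      by_contra h
      refine hξ ?_
      rw [pullTerm, divFun_apply_not _ fun h' => h ((ht ξ).mpr h'), mul_zero]]
    refine Finset.sum_congr rfl fun ξ hξ => ?_
    rw [pullTerm, divFun_apply_of _ ((ht ξ).mp hξ) (by rw [hgen, hx]; omega)]
    simp only [O, n, dif_pos ((ht ξ).mp hξ)]
  have key : ∀ a : Y.presheaf.stalk (f x), a ≠ 0 →
      CycAlg.ordFrac (Y.presheaf.stalk (f x)) (Y.residueField η) (algebraMap _ _ a) * L =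
        ∑ ξ ∈ t, n ξ * O ξ (algebraMap _ _ a) := by
    intro a ha
    set b := f.stalkMap x a
    set s := ((minimalPrimes.finite_of_isNoetherianRing (X.presheaf.stalk x)).preimage
      (Function.Injective.injOn fun p q h => PrimeSpectrum.ext h :
        Set.InjOn PrimeSpectrum.asIdeal _)).toFinset
    have hs : ∀ p : PrimeSpectrum (X.presheaf.stalk x), p ∈ s ↔ p.asIdeal ∈ minimalPrimes (X.presheaf.stalk x) :=
      fun p => Set.Finite.mem_toFinset _
    obtain ⟨-, hlen⟩ := Groth.MilnorKLambda.Key.length_smul_quot (M := X.presheaf.stalk x) hB1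
      (by rw [Module.support_eq_zeroLocus, Module.annihilator_eq_bot.mpr inferInstance, Submodule.bot_coe,
        PrimeSpectrum.zeroLocus_singleton_zero]) hemb (hnzd a ha) s hs
    have h1 : Module.length (X.presheaf.stalk x) (X.presheaf.stalk x ⧸ b • (⊤ : Submodule (X.presheaf.stalk x) (X.presheaf.stalk x))) =
        Ring.ord (Y.presheaf.stalk (f x)) a *
          Module.length (X.presheaf.stalk x) (X.presheaf.stalk x ⧸ fibreIdeal f x) := by
      have e : (b • (⊤ : Submodule (X.presheaf.stalk x) (X.presheaf.stalk x))) =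
          (Ideal.span {a}).map (algebraMap (Y.presheaf.stalk (f x)) (X.presheaf.stalk x)) := by
        rw [Ideal.map_span, Set.image_singleton, ← Submodule.ideal_span_singleton_smul, smul_eq_mul, Ideal.mul_top]
        rfl
      rw [(Submodule.quotEquivOfEq _ _ e).length_eq,
        (Algebra.TensorProduct.quotIdealMapEquivTensorQuot (X.presheaf.stalk x) (Ideal.span {a})).toLinearEquiv.length_eq,
        IsLocalRing.length_baseChange (Y.presheaf.stalk (f x)) (X.presheaf.stalk x)]
      rfl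
    have h1' := congrArg ENat.toNat h1
    rw [ENat.toNat_mul] at h1'
    rw [h1', Nat.cast_mul] at hlen
    rw [Groth.RefRank.ordFrac_algebraMap' ha]
    refine hlen.trans (Eq.symm ?_)
    refine Finset.sum_bij (fun ξ hξ => genPrime ((ht ξ).mp hξ)) (fun ξ hξ => (hs _).mpr
      ((genPrime_mem_minimalPrimes_iff _).mpr ξ.2.1)) (fun ξ hξ ξ' hξ' e => ?_) (fun p hp => ?_) fun ξ hξ => ?_
    · refine Subtype.ext ?_
      have := congrArg (X.fromSpecStalk x) e
      rwa [fromSpecStalk_genPrime, fromSpecStalk_genPrime] at this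
    · have hsp' : X.fromSpecStalk x p ⤳ x := Scheme.range_fromSpecStalk.le ⟨p, rfl⟩
      have hmax := (genPrime_mem_minimalPrimes_iff hsp').mp ((genPrime_fromSpecStalk p hsp').symm ▸ (hs p).mp hp)
      refine ⟨⟨X.fromSpecStalk x p, hmax, (apply_eq_genericPoint_of_max f hmax).trans hη.symm⟩,
        (ht _).mpr hsp', genPrime_fromSpecStalk p hsp'⟩
    · have hh := (ht ξ).mp hξ
      simp only [n, O, dif_pos hh]
      rw [show algebraMap (Y.presheaf.stalk (f x)) (Y.residueField η) a = Cyc.specMap (f x) η hsp a from rfl,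
        pullTerm_specMap f δX hsp a ξ hh, length_stalk_eq hh]
      congr 1
      have := isFractionRing_locQuot hh
      have hK := krullDimLE_one_locQuot hX.2.2 hh (by rw [hgen, hx]; omega)
      have : IsDomain (Cyc.LocQuot x ξ.1 hh) :=
        (IsFractionRing.injective (Cyc.LocQuot x ξ.1 hh) (X.residueField ξ.1)).isDomain
      have hne : Ideal.Quotient.mk (RingHom.ker (Cyc.specMap x ξ.1 hh)) b ≠ 0 := fun h0 => by
        rw [Ideal.Quotient.eq_zero_iff_mem, ← genPrime_asIdeal] at h0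
        exact notMem_nonZeroDivisors_of_mem_mem_minimalPrimes h0
          ((genPrime_mem_minimalPrimes_iff hh).mpr ξ.2.1) (hnzd a ha)
      show CycAlg.ordFrac (Cyc.LocQuot x ξ.1 hh) (X.residueField ξ.1)
        (algebraMap (Cyc.LocQuot x ξ.1 hh) (X.residueField ξ.1) (Ideal.Quotient.mk _ b)) = _
      rw [Groth.RefRank.ordFrac_algebraMap' hne]
      have hI := genPrime_asIdeal hh
      congr 2
      exact ord_quot_congr hI.symm b
  obtain ⟨a, b₀, hb₀, rfl⟩ := IsFractionRing.div_surjective (A := Y.presheaf.stalk (f x)) g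
  have ha0 : a ≠ 0 := fun h => hg (by rw [h, map_zero, zero_div])
  have hb0 : b₀ ≠ 0 := nonZeroDivisors.ne_zero hb₀
  have ha' : algebraMap (Y.presheaf.stalk (f x)) (Y.residueField η) a ≠ 0 :=
    (map_ne_zero_iff _ (IsFractionRing.injective _ _)).mpr ha0
  have hb' : algebraMap (Y.presheaf.stalk (f x)) (Y.residueField η) b₀ ≠ 0 :=
    (map_ne_zero_iff _ (IsFractionRing.injective _ _)).mpr hb0
  have hO : ∀ ξ ∈ t, ∀ u v : Y.residueField η, u ≠ 0 → v ≠ 0 → O ξ (u / v) = O ξ u - O ξ v := by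
    intro ξ hξ u v hu hv
    have hh := (ht ξ).mp hξ
    have := isFractionRing_locQuot hh
    have hK := krullDimLE_one_locQuot hX.2.2 hh (by rw [hgen, hx]; omega)
    have : IsDomain (Cyc.LocQuot x ξ.1 hh) :=
      (IsFractionRing.injective (Cyc.LocQuot x ξ.1 hh) (X.residueField ξ.1)).isDomain
    have hm : ∀ u : Y.residueField η, u ≠ 0 →
        f.residueFieldMap ξ.1 ((Y.residueFieldCongr ξ.2.2.symm).hom u) ≠ 0 := fun u hu =>
      (map_ne_zero_iff _ (f.residueFieldMap ξ.1).hom.injective).mpr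
        ((map_ne_zero_iff _ (Y.residueFieldCongr ξ.2.2.symm).hom.hom.injective).mpr hu)
    simp only [O, dif_pos hh, Cyc.ordAt]
    rw [map_div₀, map_div₀, div_eq_mul_inv, Groth.RefRank.ordFrac_mul' (hm u hu) (inv_ne_zero (hm v hv)),
      Groth.RefRank.ordFrac_inv' (hm v hv)]
    ring
  rw [hrhs, hord, div_eq_mul_inv, Groth.RefRank.ordFrac_mul' ha' (inv_ne_zero hb'),
    Groth.RefRank.ordFrac_inv' hb', add_mul, neg_mul, key a ha0, key b₀ hb0, ← sub_eq_add_neg,
    ← Finset.sum_sub_distrib, ← div_eq_mul_inv]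
  exact Finset.sum_congr rfl fun ξ hξ => by rw [hO ξ hξ _ _ ha' hb']; ring
where
  divFun_apply_not {X : Scheme.{u}} {δ : X → ℤ} {ξ x : X} (f : X.residueField ξ) (h : ¬ ξ ⤳ x) :
      Cyc.divFun δ ξ f x = 0 := dif_neg fun h' => h h'.1
  ord_quot_congr {B : Type u} [CommRing B] {I J : Ideal B} (h : I = J) (b : B) :
      Ring.ord (B ⧸ I) (Ideal.Quotient.mk I b) = Ring.ord (B ⧸ J) (Ideal.Quotient.mk J b) := by
    subst h; rfl

/-- Flat pullback of a principal divisor as a sum over the components. -/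
theorem pullFun_divFun [IsIntegral Y] (δX : X → ℤ) (δY : Y → ℤ) (hX : Cyc.IsSetup X δX) (hY : Cyc.IsSetup Y δY)
    (f : X ⟶ Y) [Flat f] (c : ℤ) (hc : ∀ x, IsFibreGeneric f x → δX x = δY (f x) + c) (η : Y) (hη : η = genericPoint Y) (g : Y.residueField η) (hg : g ≠ 0)
    (x : X) : Cyc.pullFun f δX δY c (Cyc.divFun δY η g) x = ∑ᶠ ξ, pullTerm f δX g x ξ := by
  have := hX.1
  have := hY.1
  have hsp : η ⤳ f x := hη ▸ genericPoint_specializes (f x)
  have hgen : ∀ ξ : {ξ : X // (∀ x' : X, x' ⤳ ξ → x' = ξ) ∧ f ξ = η}, δX ξ.1 = δY η + c := fun ξ => by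
    rw [delta_eq_of_max f hc ξ.2.1, ← hη]
  have hle := delta_le_add f hX hc x
  rw [Cyc.pullFun]
  by_cases hx : δX x = δY (f x) + c
  · rw [if_pos hx]
    by_cases hy : δY (f x) + 1 = δY η
    · rw [divFun_apply_of _ hsp hy]
      exact pull_ord_main δX δY hX hY f c hc η hη g hg x hy hx hsp
    · rw [Cyc.divFun, dif_neg fun h => hy h.2, zero_mul]
      refine (finsum_eq_zero_of_forall_eq_zero fun ξ => ?_).symm
      rw [pullTerm, Cyc.divFun, dif_neg fun h => hy (by have := h.2; rw [hgen, hx] at this; omega), mul_zero]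
  · rw [if_neg hx]
    refine (finsum_eq_zero_of_forall_eq_zero fun ξ => ?_).symm
    rw [pullTerm, Cyc.divFun]
    split_ifs with h
    · have h2 := h.2
      rw [hgen] at h2
      have hfx : η = f x := eq_of_specializes_of_delta_le hY.2.2 hsp (by omega)
      -- `g` is a unit of the local ring at the generic point
      have hbij : Function.Bijective (Cyc.specMap (f x) η hsp) := by
        refine ⟨specMap_injective hη _ _, fun z => ?_⟩
        subst hfx
        obtain ⟨w, rfl⟩ := Y.residue_surjective (f x) z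
        refine ⟨w, ?_⟩
        show (Y.presheaf.stalkSpecializes hsp ≫ Y.residue (f x)) w = _
        rw [TopCat.Presheaf.stalkSpecializes_refl, Category.id_comp]
      obtain ⟨a, rfl⟩ := hbij.2 g
      have hau : IsUnit a := by
        have hfield : IsField (Y.presheaf.stalk (f x)) := by
          rw [← hfx, hη]; exact Field.toIsField Y.functionField
        letI := hfield.toField
        exact isUnit_iff_ne_zero.mpr fun h0 => hg (by rw [h0, map_zero])
      rw [pullTerm_specMap f δX hsp a ξ h.1]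
      have := isFractionRing_locQuot h.1
      have hK := krullDimLE_one_locQuot hX.2.2 h.1 (by rw [hgen]; omega)
      have : IsDomain (Cyc.LocQuot x ξ.1 h.1) :=
        (IsFractionRing.injective (Cyc.LocQuot x ξ.1 h.1) (X.residueField ξ.1)).isDomain
      have h0 := Groth.RefRank.ordFrac_of_isUnit' (A := Cyc.LocQuot x ξ.1 h.1) (K := X.residueField ξ.1)
        ((hau.map (f.stalkMap x).hom).map (Ideal.Quotient.mk (RingHom.ker (Cyc.specMap x ξ.1 h.1))))
      exact mul_eq_zero_of_right _ h0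
    · rw [mul_zero]

end Groth.Cycles
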