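import Mathlib.AlgebraicGeometry.Morphisms.UniversallyOpen
import Groth.Agent.EtaleBase.FpqcDescent
import Groth.Agent.PropsBasic2.StalkFlat

/-!
Descent along flat surjective morphisms that are not assumed quasi-compact, for
quasi-compact morphisms: homeomorphisms, isomorphisms, affine morphisms.
-/

set_option autoImplicit false

universe u

open CategoryTheory CategoryTheory.Limits AlgebraicGeometry Topology

namespace Groth.Cycles

variable {X Y Y' : Scheme.{u}}

/-- A quasi-compact morphism is a homeomorphism if it becomes one after base change along a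
jointly surjective family of flat morphisms. -/
lemma isHomeomorph_of_baseChange_family (f : X ⟶ Y) [QuasiCompact f]
    (H : ∀ y : Y, ∃ (W : Scheme.{u}) (g : W ⟶ Y), Flat g ∧ y ∈ Set.range g ∧
      IsHomeomorph (pullback.snd f g).base) : IsHomeomorph f.base := by
  have hw : ∀ {W : Scheme.{u}} (g : W ⟶ Y) (z), f (pullback.fst f g z) = g (pullback.snd f g z) :=
    fun g z ↦ by rw [← Scheme.Hom.comp_apply, ← Scheme.Hom.comp_apply, pullback.condition]
  have hinj : Function.Injective f := by
    intro x₁ x₂ he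
    obtain ⟨W, g, -, ⟨y', hy'⟩, h⟩ := H (f x₁)
    obtain ⟨z₁, hz₁, hz₁'⟩ := Scheme.Pullback.exists_preimage_pullback x₁ y' hy'.symm
    obtain ⟨z₂, hz₂, hz₂'⟩ := Scheme.Pullback.exists_preimage_pullback x₂ y' (he.symm.trans hy'.symm)
    have hzz : z₁ = z₂ := h.injective (hz₁'.trans hz₂'.symm)
    rw [← hz₁, ← hz₂, hzz]
  have hsurj : Function.Surjective f := by
    intro y
    obtain ⟨W, g, -, ⟨y', rfl⟩, h⟩ := H y
    obtain ⟨z, hz⟩ := h.surjective y'
    exact ⟨pullback.fst f g z, (hw g z).trans (congrArg g hz)⟩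
  have hspec : SpecializingMap f := by
    intro x y0 hy
    obtain ⟨W, g, hg, ⟨y0', rfl⟩, h⟩ := H y0
    obtain ⟨y1', h1, h2⟩ := (Flat.generalizingMap g) hy
    obtain ⟨z1, hz1, hz1'⟩ := Scheme.Pullback.exists_preimage_pullback x y1' h2.symm
    obtain ⟨z0, hz0⟩ := h.surjective y0'
    have hs : z1 ⤳ z0 := by
      refine (h.isEmbedding.isInducing.specializes_iff).mp ?_
      rw [hz0]
      exact hz1'.symm ▸ h1
    exact ⟨pullback.fst f g z0, hz1 ▸ hs.map (pullback.fst f g).continuous,
      (hw g z0).trans (congrArg g hz0)⟩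
  have hclosed : IsClosedMap f := (isClosedMap_iff_specializingMap f).mpr hspec
  exact isHomeomorph_iff_continuous_isClosedMap_bijective.mpr
    ⟨f.continuous, hclosed, hinj, hsurj⟩

lemma isHomeomorph_of_baseChange (f : X ⟶ Y) (g : Y' ⟶ Y) [Flat g] [Surjective g] [QuasiCompact f]
    (h : IsHomeomorph (pullback.snd f g).base) : IsHomeomorph f.base :=
  isHomeomorph_of_baseChange_family f fun y ↦ ⟨Y', g, inferInstance, g.surjective y, h⟩

lemma isIso_stalkMap_of_flat_of_isPreimmersion (f : X ⟶ Y) [Flat f] [IsPreimmersion f] (x : X) :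
    IsIso (f.stalkMap x) :=
  (ConcreteCategory.isIso_iff_bijective _).mpr
    ⟨Groth.PropsBasic2.stalkMap_injective_of_flat f x, f.stalkMap_surjective x⟩

lemma surjective_specMap_stalkMap (g : Y' ⟶ Y) [Flat g] (y' : Y') :
    Surjective (Spec.map (g.stalkMap y')) := by
  constructor
  algebraize [(g.stalkMap y').hom]
  have : Module.FaithfullyFlat (Y.presheaf.stalk (g y')) (Y'.presheaf.stalk y') :=
    @Module.FaithfullyFlat.of_flat_of_isLocalHom _ _ _ _ _ _ _
      (Flat.stalkMap g y') (g.toLRSHom.prop y')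
  exact PrimeSpectrum.comap_surjective_of_faithfullyFlat

set_option backward.isDefEq.respectTransparency.types false in
lemma isIso_of_baseChange_family (f : X ⟶ Y) [QuasiCompact f]
    (H : ∀ y : Y, ∃ (W : Scheme.{u}) (g : W ⟶ Y), Flat g ∧ y ∈ Set.range g ∧
      IsIso (pullback.snd f g)) : IsIso f := by
  have hh : IsHomeomorph f.base := isHomeomorph_of_baseChange_family f fun y ↦ by
    obtain ⟨W, g, hg, hy, h⟩ := H y
    exact ⟨W, g, hg, hy, (pullback.snd f g).homeomorph.isHomeomorph⟩
  refine (isIso_iff_isIso_stalkMap f).mpr ⟨(TopCat.isIso_iff_isHomeomorph _).mpr hh, fun x ↦ ?_⟩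
  obtain ⟨Y', g, hg, ⟨y', hy'⟩, h⟩ := H (f x)
  let ι := Y.fromSpecStalk (g y')
  let ι' := Y'.fromSpecStalk y'
  let φ := Spec.map (g.stalkMap y')
  have hφι : φ ≫ ι = ι' ≫ g := Scheme.SpecMap_stalkMap_fromSpecStalk g
  have hφ : Groth.EtaleBase.Fpqc φ :=
    ⟨⟨surjective_specMap_stalkMap g y', Flat.SpecMap_iff.mpr (Flat.stalkMap g y')⟩,
      inferInstanceAs (QuasiCompact (Spec.map _))⟩
  have h1 : IsIso (pullback.snd f (φ ≫ ι)) := by
    rw [hφι]
    have : IsIso (pullback.snd (pullback.snd f g) ι') := inferInstance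
    rw [← pullbackLeftPullbackSndIso_hom_snd f g ι'] at this
    exact IsIso.of_isIso_comp_left (pullbackLeftPullbackSndIso f g ι').hom _
  have h2 : IsIso (pullback.snd (pullback.snd f ι) φ) := by
    rw [← pullbackLeftPullbackSndIso_hom_snd f ι φ]
    infer_instance
  have h3 : IsIso (pullback.snd f ι) :=
    MorphismProperty.of_pullback_snd_of_descendsAlong (P := MorphismProperty.isomorphisms Scheme.{u})
      (Q := Groth.EtaleBase.Fpqc) hφ h2
  obtain ⟨s, hs⟩ : f x ∈ Set.range ι := by
    rw [Scheme.range_fromSpecStalk]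
    exact hy' ▸ specializes_rfl
  obtain ⟨z, hz, -⟩ := Scheme.Pullback.exists_preimage_pullback x s hs.symm
  subst hz
  have hι : Flat ι := Groth.PropsBasic2.flat_fromSpecStalk _
  have : Flat (pullback.fst f ι) := MorphismProperty.pullback_fst _ _ hι
  have hfst : IsIso ((pullback.fst f ι).stalkMap z) :=
    isIso_stalkMap_of_flat_of_isPreimmersion _ z
  have hsnd : IsIso ((pullback.snd f ι).stalkMap z) := inferInstance
  have hιs : IsIso (ι.stalkMap (pullback.snd f ι z)) :=
    isIso_stalkMap_of_flat_of_isPreimmersion _ _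
  have hA : IsIso ((pullback.snd f ι ≫ ι).stalkMap z) := by
    rw [Scheme.Hom.stalkMap_comp]
    exact @IsIso.comp_isIso _ _ _ _ _ _ _ hιs hsnd
  have hB : IsIso ((pullback.fst f ι ≫ f).stalkMap z) := by
    rw [Scheme.Hom.stalkMap_congr_hom _ _ pullback.condition]
    exact @IsIso.comp_isIso _ _ _ _ _ _ _ inferInstance hA
  rw [Scheme.Hom.stalkMap_comp] at hB
  exact @IsIso.of_isIso_comp_right _ _ _ _ _ _ ((pullback.fst f ι).stalkMap z) hfst hB

lemma isIso_of_baseChange (f : X ⟶ Y) (g : Y' ⟶ Y) [Flat g] [Surjective g] [QuasiCompact f]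
    (h : IsIso (pullback.snd f g)) : IsIso f :=
  isIso_of_baseChange_family f fun y ↦ ⟨Y', g, inferInstance, g.surjective y, h⟩

set_option backward.isDefEq.respectTransparency.types false in
/-- The case of an affine base in descent of affineness. -/
lemma isAffine_of_baseChange [IsAffine Y] (f : X ⟶ Y) (g : Y' ⟶ Y) [Flat g] [Surjective g]
    [QuasiCompact f] [QuasiSeparated f] (h : IsAffineHom (pullback.snd f g)) : IsAffine X := by
  have : CompactSpace X := QuasiCompact.compactSpace_of_compactSpace f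
  have hqss : QuasiSeparatedSpace X := HasAffineProperty.iff_of_isAffine.mp ‹QuasiSeparated f›
  have hqc : QuasiCompact X.toSpecΓ := by
    have : QuasiCompact (X.toSpecΓ ≫ Spec.map f.appTop) := by
      rw [← Scheme.toSpecΓ_naturality]
      infer_instance
    exact QuasiCompact.of_comp X.toSpecΓ (Spec.map f.appTop)
  suffices IsIso X.toSpecΓ from ⟨this⟩
  refine isIso_of_baseChange_family X.toSpecΓ fun z ↦ ?_
  obtain ⟨y', hy'⟩ := g.surjective (Y.isoSpec.inv (Spec.map f.appTop z))
  obtain ⟨j, v, hv⟩ := Y'.affineCover.exists_eq y'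
  let γ := Y'.affineCover.f j ≫ g
  have hγ : Flat γ := inferInstance
  have haff : IsAffineHom (pullback.snd f γ) := by
    rw [← pullbackLeftPullbackSndIso_inv_snd_snd f g (Y'.affineCover.f j)]
    have : IsAffineHom (pullback.snd (pullback.snd f g) (Y'.affineCover.f j)) :=
      MorphismProperty.pullback_snd _ _ h
    infer_instance
  have : IsAffine (pullback f γ) := isAffine_of_isAffineHom (pullback.snd f γ)
  have H : IsPullback (pullback.fst f γ) (pullback.snd f γ) f γ := IsPullback.of_hasPullback _ _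
  have hiso := AlgebraicGeometry.isIso_pushoutSection_of_isQuasiSeparated_of_flat_right H
    (US := ⊤) (UT := ⊤) (UX := ⊤) (UY := ⊤) le_top le_top (by simp)
    (isAffineOpen_top _) (isAffineOpen_top _) CompactSpace.isCompact_univ
    (IsQuasiSeparated.of_quasiSeparatedSpace _)
  have hpush : IsPushout f.appTop γ.appTop (pullback.fst f γ).appTop (pullback.snd f γ).appTop := by
    have := (isIso_pushoutSection_iff H (US := ⊤) (UT := ⊤) (UX := ⊤) (UY := ⊤) le_top le_top
      (by simp)).1 hiso
    simpa [Scheme.Hom.appLE_eq_app, Scheme.Hom.appTop, Scheme.Hom.appLE] using this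
  have hR : IsPullback (Spec.map (pullback.fst f γ).appTop)
      (Spec.map (pullback.snd f γ).appTop) (Spec.map f.appTop) (Spec.map γ.appTop) :=
    isPullback_SpecMap_of_isPushout _ _ _ _ hpush
  have houter : IsPullback (pullback.fst f γ)
      ((pullback f γ).toSpecΓ ≫ Spec.map (pullback.snd f γ).appTop)
      (X.toSpecΓ ≫ Spec.map f.appTop) (Spec.map γ.appTop) := by
    rw [← Scheme.toSpecΓ_naturality, ← Scheme.toSpecΓ_naturality]
    exact H.of_iso (Iso.refl _) (Iso.refl _) (asIso (Y'.affineCover.X j).toSpecΓ) (asIso Y.toSpecΓ)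
      (by simp) (by simp) (by simp) (Scheme.toSpecΓ_naturality γ)
  have hleft : IsPullback (pullback.fst f γ) (pullback f γ).toSpecΓ X.toSpecΓ
      (Spec.map (pullback.fst f γ).appTop) :=
    IsPullback.of_bot houter (Scheme.toSpecΓ_naturality (pullback.fst f γ)) hR
  refine ⟨_, Spec.map (pullback.fst f γ).appTop, ?_, ?_, ?_⟩
  · exact MorphismProperty.of_isPullback hR.flip (Flat.SpecMap_iff.mpr
      (Flat.SpecMap_iff.mp ((MorphismProperty.arrow_mk_iso_iff @Flat
        (arrowIsoSpecΓOfIsAffine γ)).1 hγ)))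
  · have hz : Spec.map f.appTop z = Spec.map γ.appTop ((Y'.affineCover.X j).toSpecΓ v) := by
      rw [← Scheme.Hom.comp_apply, ← Scheme.toSpecΓ_naturality, Scheme.Hom.comp_apply]
      show _ = Y.isoSpec.hom (g (Y'.affineCover.f j v))
      rw [hv, hy', ← Scheme.Hom.comp_apply, Iso.inv_hom_id]
      rfl
    obtain ⟨w, hw, -⟩ := Scheme.Pullback.exists_preimage_pullback z _ hz
    exact ⟨hR.isoPullback.inv w, by
      rw [← Scheme.Hom.comp_apply, IsPullback.isoPullback_inv_fst, hw]⟩
  · rw [← hleft.isoPullback_inv_snd]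
    infer_instance

set_option backward.isDefEq.respectTransparency.types false in
lemma isAffineHom_of_baseChange (f : X ⟶ Y) (g : Y' ⟶ Y) [Flat g] [Surjective g]
    [QuasiCompact f] [QuasiSeparated f] (h : IsAffineHom (pullback.snd f g)) : IsAffineHom f := by
  refine IsZariskiLocalAtTarget.of_openCover (P := @IsAffineHom) Y.affineCover fun i ↦ ?_
  let ι := Y.affineCover.f i
  show IsAffineHom (pullback.snd f ι)
  have hS : Surjective (pullback.snd g ι) := MorphismProperty.pullback_snd _ _ inferInstance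
  have hF : Flat (pullback.snd g ι) := MorphismProperty.pullback_snd _ _ inferInstance
  have hC : QuasiCompact (pullback.snd f ι) := MorphismProperty.pullback_snd _ _ inferInstance
  have hQ : QuasiSeparated (pullback.snd f ι) := MorphismProperty.pullback_snd _ _ inferInstance
  have hA : IsAffineHom (pullback.snd (pullback.snd f ι) (pullback.snd g ι)) := by
    rw [← pullbackLeftPullbackSndIso_hom_snd f ι (pullback.snd g ι)]
    have : IsAffineHom (pullback.snd f (pullback.snd g ι ≫ ι)) := by
      rw [← pullback.condition, ← pullbackLeftPullbackSndIso_inv_snd_snd f g (pullback.fst g ι)]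
      have : IsAffineHom (pullback.snd (pullback.snd f g) (pullback.fst g ι)) :=
        MorphismProperty.pullback_snd _ _ h
      infer_instance
    infer_instance
  have : IsAffine (pullback f ι) := isAffine_of_baseChange (pullback.snd f ι) (pullback.snd g ι) hA
  infer_instance

end Groth.Cycles
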