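import Groth.Agent.Cycles.PolLawLift
import Mathlib.Algebra.Polynomial.Laurent
import Mathlib.RingTheory.Polynomial.Quotient
import Mathlib.RingTheory.Nilpotent.Basic

/-!
The kernel of a multiplicative polynomial law, tested on the elements `1 + X ⊗ (c * z)`.
-/

universe u

open scoped TensorProduct
open Polynomial

namespace Groth.Cycles

variable {A : Type u} [CommRing A] {B C : Type u} [CommRing B] [Algebra A B] [CommRing C] [Algebra A C]

/-- Change of test algebra. -/
noncomputable abbrev tmap {S S' : Type u} [CommSemiring S] [Algebra A S] [CommSemiring S'] [Algebra A S']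
    (φ : S →ₐ[A] S') (B : Type u) [CommRing B] [Algebra A B] : S ⊗[A] B →ₐ[A] S' ⊗[A] B :=
  Algebra.TensorProduct.map φ (AlgHom.id A B)

lemma rTensor_eq_tmap {S S' : Type u} [CommSemiring S] [Algebra A S] [CommSemiring S'] [Algebra A S']
    (φ : S →ₐ[A] S') (x : S ⊗[A] B) : φ.toLinearMap.rTensor B x = tmap φ B x := by
  induction x using TensorProduct.induction_on with
  | zero => simp
  | tmul a b => rfl
  | add a b ha hb => simp [ha, hb]

lemma tmap_tmap {S S' S'' : Type u} [CommSemiring S] [Algebra A S] [CommSemiring S'] [Algebra A S']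
    [CommSemiring S''] [Algebra A S''] (φ : S →ₐ[A] S') (ψ : S' →ₐ[A] S'') (x : S ⊗[A] B) :
    tmap ψ B (tmap φ B x) = tmap (ψ.comp φ) B x := by
  induction x using TensorProduct.induction_on with
  | zero => simp
  | tmul a b => rfl
  | add a b ha hb => simp [ha, hb]

lemma tmap_smul {S S' : Type u} [CommSemiring S] [Algebra A S] [CommSemiring S'] [Algebra A S']
    (φ : S →ₐ[A] S') (s : S) (x : S ⊗[A] B) : tmap φ B (s • x) = φ s • tmap φ B x := by
  induction x using TensorProduct.induction_on with
  | zero => simp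
  | tmul a b => simp [TensorProduct.smul_tmul']
  | add a b ha hb => simp [ha, hb]

/-- Naturality of a law, in terms of algebra maps. -/
lemma law_nat (F : B →ₚₗ[A] C) {S S' : Type u} [CommSemiring S] [Algebra A S] [CommSemiring S']
    [Algebra A S'] (φ : S →ₐ[A] S') (x : S ⊗[A] B) :
    tmap φ C (F.toFun' S x) = F.toFun' S' (tmap φ B x) := by
  rw [← rTensor_eq_tmap, ← rTensor_eq_tmap]
  exact congrFun (F.isCompat' φ) x

/-- Separation of the coefficients in `R[X] ⊗ C`. -/
lemma polyTensor_ext {R : Type u} [CommRing R] [Algebra A R] {M : Type u} [AddCommGroup M] [Module A M]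
    (z w : R[X] ⊗[A] M)
    (h : ∀ n, ((lcoeff R n).restrictScalars A).rTensor M z = ((lcoeff R n).restrictScalars A).rTensor M w) :
    z = w := by
  classical
  have key : ∀ z : R[X] ⊗[A] M, ∃ N, ∀ N', N ≤ N' →
      z = ∑ n ∈ Finset.range N', ((monomial n).restrictScalars A).rTensor M
        (((lcoeff R n).restrictScalars A).rTensor M z) := by
    intro z
    induction z using TensorProduct.induction_on with
    | zero => exact ⟨0, fun N' _ => by simp⟩
    | tmul p m =>
      refine ⟨p.natDegree + 1, fun N' hN' => ?_⟩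
      simp only [LinearMap.rTensor_tmul, LinearMap.coe_restrictScalars, lcoeff_apply]
      rw [← TensorProduct.sum_tmul]
      congr 1
      exact (p.as_sum_range' N' (by omega))
    | add x y hx hy =>
      obtain ⟨N, hN⟩ := hx
      obtain ⟨N₁, hN₁⟩ := hy
      refine ⟨max N N₁, fun N' hN' => ?_⟩
      simp only [map_add, Finset.sum_add_distrib]
      rw [← hN N' (le_trans (le_max_left _ _) hN'), ← hN₁ N' (le_trans (le_max_right _ _) hN')]
  obtain ⟨N, hN⟩ := key z
  obtain ⟨N₁, hN₁⟩ := key w
  rw [hN _ (le_max_left N N₁), hN₁ _ (le_max_right N N₁)]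
  exact Finset.sum_congr rfl fun n _ => by rw [h]

variable {d : ℕ} (F : PolLaw.MulLaw A B C d)

lemma law_isUnit {S : Type u} [CommSemiring S] [Algebra A S] {x : S ⊗[A] B} (hx : IsUnit x) :
    IsUnit (F.law.toFun' S x) := by
  obtain ⟨y, hy⟩ := hx.exists_right_inv
  exact IsUnit.of_mul_eq_one _ (((F.mult S).2 x y).symm.trans (by rw [hy, (F.mult S).1]))

section crit

variable {A' : Type u} [CommRing A'] [Algebra A A'] (z : A' ⊗[A] B)
  (hz : ∀ c : B, F.law.toFun' A'[X]
    (1 + (X : A'[X]) • tmap (IsScalarTower.toAlgHom A A' A'[X]) B ((1 ⊗ₜ[A] c) * z)) = 1)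

variable {R : Type u} [CommRing R] [Algebra A R] [Algebra A' R] [IsScalarTower A A' R]

include hz in
lemma law_one_add_smul_tmul (r : R) (c : B) :
    F.law.toFun' R (1 + r • (((1 : R) ⊗ₜ[A] c) * tmap (IsScalarTower.toAlgHom A A' R) B z)) = 1 := by
  let e : A'[X] →ₐ[A] R := (Polynomial.aeval r).restrictScalars A
  have h := congrArg (tmap e C) (hz c)
  rw [law_nat, map_one, map_add, map_one, tmap_smul, tmap_tmap] at h
  have he : e.comp (IsScalarTower.toAlgHom A A' A'[X]) = IsScalarTower.toAlgHom A A' R := by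
    ext a
    simp [e, IsScalarTower.toAlgHom]
  rw [he, show e X = r by simp [e], map_mul] at h
  simpa using h

include hz in
/-- The nilpotent step. -/
lemma law_one_add_nilpotent (N : ℕ) : ∀ (s : R), s ^ N = 0 → ∀ w : R ⊗[A] B,
    F.law.toFun' R (1 + s • (w * tmap (IsScalarTower.toAlgHom A A' R) B z)) = 1 := by
  induction N using Nat.strong_induction_on with
  | _ N ih =>
  intro s hs w
  rcases le_or_gt N 1 with hN | hN
  · have : s = 0 := by
      have : s ^ 1 = 0 := pow_eq_zero_of_le hN hs
      simpa using this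
    simp [this, (F.mult R).1]
  set y := tmap (IsScalarTower.toAlgHom A A' R) B z with hy
  induction w using TensorProduct.induction_on with
  | zero => simp [(F.mult R).1]
  | tmul r c =>
    have : r ⊗ₜ[A] c * y = r • (((1 : R) ⊗ₜ[A] c) * y) := by
      rw [← smul_mul_assoc, TensorProduct.smul_tmul', smul_eq_mul, mul_one]
    rw [this, smul_smul]
    exact law_one_add_smul_tmul F z hz (s * r) c
  | add a b ha hb =>
    have hnil : ∀ v : R ⊗[A] B, IsUnit (1 + s • v) := fun v => by
      refine IsNilpotent.isUnit_one_add ⟨N, ?_⟩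
      rw [smul_pow, hs, zero_smul]
    obtain ⟨u, hu⟩ := (hnil (a * y)).mul (hnil (b * y))
    set u' : R ⊗[A] B := ((u⁻¹ : (R ⊗[A] B)ˣ) : R ⊗[A] B) with hu'
    have hid : (1 : R ⊗[A] B) + s • ((a + b) * y) =
        ((1 + s • (a * y)) * (1 + s • (b * y))) * (1 + (s * s) • ((-(a * b * y * u')) * y)) := by
      rw [← hu]
      have h1 : (u : R ⊗[A] B) * (1 + (s * s) • ((-(a * b * y * u')) * y)) =
          (u : R ⊗[A] B) - (s * s) • ((a * b * y * y) * ((u : R ⊗[A] B) * u')) := by
        simp only [Algebra.smul_def]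
        ring
      rw [h1, hu', Units.mul_inv, mul_one, hu]
      simp only [Algebra.smul_def, map_mul]
      ring
    rw [hid, (F.mult R).2, (F.mult R).2, ha, hb, ih (N - 1) (by omega) (s * s) ?_, mul_one, mul_one]
    rw [← sq, ← pow_mul]
    exact pow_eq_zero_of_le (by omega) hs

end crit

variable {A' : Type u} [CommRing A'] [Algebra A A'] (z : A' ⊗[A] B)

/-- The kernel criterion. -/
theorem mem_kerBC_iff :
    z ∈ PolLaw.kerBC F.law A' ↔ ∀ c : B, F.law.toFun' A'[X]
      (1 + (X : A'[X]) • tmap (IsScalarTower.toAlgHom A A' A'[X]) B ((1 ⊗ₜ[A] c) * z)) = 1 := by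
  constructor
  · intro h c
    have h1 := h A'[X] 1 ((X : A'[X]) • ((1 : A'[X]) ⊗ₜ[A] c))
    rw [(F.mult _).1] at h1
    rw [map_mul]
    refine Eq.trans ?_ h1
    rw [smul_mul_assoc]
    congr 2
  intro hz R _ _ _ _ x w
  letI : CommRing R := { Algebra.semiringToRing A (A := R), ‹CommSemiring R› with }
  set y := tmap (IsScalarTower.toAlgHom A A' R) B z with hy
  let j : R →ₐ[A] R[X] := IsScalarTower.toAlgHom A R R[X]
  -- Step 1: equality of `F (1 + X (x + w y))` and `F (1 + X x)` modulo every power of `X`.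
  have hXN : ∀ (N : ℕ) (Q : Type u) [CommRing Q] [Algebra A Q] (m : R[X] →ₐ[A] Q), m X ^ N = 0 →
      m.toLinearMap.rTensor C (F.law.toFun' R[X] (1 + (X : R[X]) • tmap j B (x + w * y))) =
        m.toLinearMap.rTensor C (F.law.toFun' R[X] (1 + (X : R[X]) • tmap j B x)) := by
    intro N Q _ _ m hmX
    letI : Algebra A' Q := ((m.toRingHom.comp Polynomial.C).comp (algebraMap A' R)).toAlgebra
    haveI : IsScalarTower A A' Q := IsScalarTower.of_algebraMap_eq fun a => by
      show _ = m (Polynomial.C (algebraMap A' R (algebraMap A A' a)))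
      rw [← IsScalarTower.algebraMap_apply, ← m.commutes]
      rfl
    have hy' : tmap m B (tmap j B y) = tmap (IsScalarTower.toAlgHom A A' Q) B z := by
      rw [hy, tmap_tmap, tmap_tmap]
      congr 2
    rw [rTensor_eq_tmap, rTensor_eq_tmap, law_nat, law_nat]
    simp only [map_add, map_one, tmap_smul, map_mul]
    rw [hy']
    set x' := tmap m B (tmap j B x)
    set w' := tmap m B (tmap j B w)
    obtain ⟨u, hu⟩ : IsUnit (1 + m X • x') := by
      refine IsNilpotent.isUnit_one_add ⟨N, ?_⟩
      rw [smul_pow, hmX, zero_smul]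
    have hid : (1 : Q ⊗[A] B) + m X • (x' + w' * tmap (IsScalarTower.toAlgHom A A' Q) B z) =
        (1 + m X • x') * (1 + m X • ((w' * ((u⁻¹ : (Q ⊗[A] B)ˣ) : Q ⊗[A] B)) *
          tmap (IsScalarTower.toAlgHom A A' Q) B z)) := by
      rw [← hu]
      have : (u : Q ⊗[A] B) * (1 + m X • ((w' * ((u⁻¹ : (Q ⊗[A] B)ˣ) : Q ⊗[A] B)) *
          tmap (IsScalarTower.toAlgHom A A' Q) B z)) =
          (u : Q ⊗[A] B) + m X • ((w' * tmap (IsScalarTower.toAlgHom A A' Q) B z) *
            ((u : Q ⊗[A] B) * ((u⁻¹ : (Q ⊗[A] B)ˣ) : Q ⊗[A] B))) := by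
        simp only [Algebra.smul_def]
        ring
      rw [this, Units.mul_inv, mul_one, hu, smul_add, add_assoc]
    rw [hid, (F.mult _).2, law_one_add_nilpotent F z hz N (m X) hmX, mul_one]
  have hpoly : F.law.toFun' R[X] (1 + (X : R[X]) • tmap j B (x + w * y)) =
      F.law.toFun' R[X] (1 + (X : R[X]) • tmap j B x) := by
    refine polyTensor_ext _ _ fun n => ?_
    let I : Ideal R[X] := Ideal.span {(X : R[X]) ^ (n + 1)}
    let ψ : (R[X] ⧸ I) →ₗ[A] R :=
      ((I.restrictScalars R).liftQ (lcoeff R n) (fun p hp => by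
        obtain ⟨q, rfl⟩ := Ideal.mem_span_singleton'.mp hp
        simp [LinearMap.mem_ker, coeff_mul_X_pow'])).restrictScalars A ∘ₗ LinearMap.id
    have hψ : (lcoeff R n).restrictScalars A = ψ ∘ₗ (Ideal.Quotient.mkₐ A I).toLinearMap :=
      LinearMap.ext fun p => rfl
    have := congrArg (ψ.rTensor C) (hXN (n + 1) (R[X] ⧸ I) (Ideal.Quotient.mkₐ A I) (by
      rw [← map_pow, Ideal.Quotient.mkₐ_eq_mk, Ideal.Quotient.eq_zero_iff_mem]
      exact Ideal.mem_span_singleton_self _))
    rw [← LinearMap.rTensor_comp_apply, ← LinearMap.rTensor_comp_apply, ← hψ] at this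
    exact this
  -- Step 2: homogenise through Laurent polynomials.
  let φ₁ : R[X] →ₐ[A] LaurentPolynomial R := (Polynomial.toLaurentAlg).restrictScalars A
  let φ₂ : R[X] →ₐ[A] LaurentPolynomial R :=
    ((LaurentPolynomial.invert (R := R)).toAlgHom.comp Polynomial.toLaurentAlg).restrictScalars A
  let ρ : LaurentPolynomial R →ₗ[A] R[X] :=
    { toFun := fun f => LaurentPolynomial.trunc (LaurentPolynomial.invert f)
      map_add' := fun f g => by simp
      map_smul' := fun a f => by
        induction f using LaurentPolynomial.induction_on' with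
        | add f g hf hg => simp only [smul_add, map_add, hf, hg, RingHom.id_apply]
        | C_mul_T n r =>
          have : a • (LaurentPolynomial.C r * LaurentPolynomial.T n) =
              LaurentPolynomial.C (a • r) * LaurentPolynomial.T n := by
            rw [Algebra.smul_def, Algebra.smul_def, map_mul, ← mul_assoc]
            rfl
          rw [this]
          simp only [map_mul, LaurentPolynomial.invert_C, LaurentPolynomial.invert_T,
            LaurentPolynomial.trunc_C_mul_T, RingHom.id_apply]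
          split_ifs
          · rw [smul_monomial]
          · rw [smul_zero] }
  have hρ : Function.Injective (φ₂.toLinearMap.rTensor C) := by
    have hid : ρ ∘ₗ φ₂.toLinearMap = LinearMap.id := by
      refine LinearMap.ext fun p => ?_
      simp only [ρ, φ₂, LinearMap.comp_apply, LinearMap.coe_mk, AddHom.coe_mk, AlgHom.toLinearMap_apply,
        AlgHom.restrictScalars_apply, AlgHom.comp_apply, AlgEquiv.coe_algHom,
        Polynomial.toLaurentAlg_apply, LinearMap.id_apply]
      rw [LaurentPolynomial.involutive_invert (Polynomial.toLaurent p)]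
      simp
    exact Function.LeftInverse.injective (g := ρ.rTensor C) fun v => by
      rw [← LinearMap.comp_apply, ← LinearMap.rTensor_comp, hid, LinearMap.rTensor_id, LinearMap.id_apply]
  have hshift : ∀ v : R ⊗[A] B, tmap φ₂ C (F.law.toFun' R[X] ((X : R[X]) • 1 + tmap j B v)) =
      (LaurentPolynomial.T (-1) : LaurentPolynomial R) ^ d •
        tmap φ₁ C (F.law.toFun' R[X] (1 + (X : R[X]) • tmap j B v)) := by
    intro v
    rw [law_nat, law_nat, ← F.homog]
    congr 1
    have hj : φ₂.comp j = φ₁.comp j := by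
      refine AlgHom.ext fun r => ?_
      simp [φ₁, φ₂, j]
    simp only [map_add, map_one, tmap_smul, smul_add, tmap_tmap, hj, smul_smul]
    have h1 : φ₂ X = LaurentPolynomial.T (-1) := by simp [φ₂]
    have h2 : φ₁ X = LaurentPolynomial.T 1 := by simp [φ₁]
    rw [h1, h2, ← LaurentPolynomial.T_add]
    simp
  have hK : F.law.toFun' R[X] ((X : R[X]) • 1 + tmap j B (x + w * y)) =
      F.law.toFun' R[X] ((X : R[X]) • 1 + tmap j B x) := by
    apply hρ
    rw [rTensor_eq_tmap, rTensor_eq_tmap, hshift, hshift, hpoly]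
  have := congrArg (tmap ((Polynomial.aeval (0 : R)).restrictScalars A) C) hK
  rw [law_nat, law_nat] at this
  simp only [map_add, map_one, tmap_smul, tmap_tmap] at this
  have hj0 : ((Polynomial.aeval (0 : R)).restrictScalars A).comp j = AlgHom.id A R := by
    refine AlgHom.ext fun r => ?_
    simp [j]
  have htid : ∀ v : R ⊗[A] B, tmap (AlgHom.id A R) B v = v := fun v => by
    rw [← rTensor_eq_tmap]
    exact LinearMap.rTensor_id_apply B R v
  simp only [hj0, htid] at this
  simpa [hy] using this

/-- The kernel criterion over the base. -/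
theorem mem_ker_iff (b : B) :
    b ∈ PolLaw.ker F.law ↔
      ∀ c : B, F.law.toFun' A[X] (1 + (X : A[X]) ⊗ₜ[A] (c * b)) = 1 := by
  have hrw : ∀ c : B, (X : A[X]) • tmap (IsScalarTower.toAlgHom A A A[X]) B ((1 ⊗ₜ[A] c) * ((1 : A) ⊗ₜ[A] b)) =
      (X : A[X]) ⊗ₜ[A] (c * b) := by
    intro c
    simp [TensorProduct.smul_tmul']
  constructor
  · intro h c
    have h1 := h A[X] 1 ((X : A[X]) ⊗ₜ[A] c)
    rw [(F.mult _).1, Algebra.TensorProduct.tmul_mul_tmul, mul_one] at h1
    exact h1
  · intro h S _ _ x w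
    have hmem : ((1 : A) ⊗ₜ[A] b) ∈ PolLaw.kerBC F.law A :=
      (mem_kerBC_iff F _).mpr fun c => by rw [hrw]; exact h c
    have := hmem S x w
    simpa using this

end Groth.Cycles
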