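import Groth.Prelude.Def_PolLaw
import Groth.Prelude.Def_FrobAlg
import Groth.Agent.Cycles.PolLawKer
import Mathlib.Algebra.CharP.Algebra
import Mathlib.Algebra.MvPolynomial.PDeriv
import Mathlib.RingTheory.Localization.FractionRing
import Mathlib.RingTheory.Localization.Integer
import Mathlib.LinearAlgebra.Dimension.Finite
import Mathlib.Algebra.Field.ZMod
import Mathlib.RingTheory.MvPolynomial.Basic
import Mathlib.RingTheory.Finiteness.Defs

/-!
The Frobenius law on `k^{1/p}` over a field `k` of characteristic `p`.
-/

open scoped TensorProduct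

universe u

namespace Groth.Cycles.FrobLaw

variable (p : ℕ) [hp : Fact p.Prime] (k : Type u) [Field k] [CharP k p]

lemma add_pow_p {S : Type u} [CommSemiring S] [Algebra k S] (x y : S) : (x + y) ^ p = x ^ p + y ^ p := by
  have h0 : (p : S) = 0 := by rw [← map_natCast (algebraMap k S), CharP.cast_eq_zero, map_zero]
  rw [add_pow_prime_eq hp.out, h0, zero_mul, zero_mul, zero_mul, add_zero]

/-- The member on a test algebra. -/
noncomputable def member (S : Type u) [CommSemiring S] [Algebra k S] : S ⊗[k] FrobAlg.Twist p k →+ S ⊗[k] k :=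
  TensorProduct.liftAddHom
    { toFun := fun s =>
        { toFun := fun a => (s ^ p) ⊗ₜ[k] (FrobAlg.toTwist p k).symm a
          map_zero' := by simp
          map_add' := fun a b => by simp [TensorProduct.tmul_add] }
      map_zero' := by ext a; simp [zero_pow hp.out.ne_zero]
      map_add' := fun s t => by ext a; simp [add_pow_p p k, TensorProduct.add_tmul] }
    (fun r s a => by
      show ((r • s) ^ p) ⊗ₜ[k] (FrobAlg.toTwist p k).symm a = (s ^ p) ⊗ₜ[k] (FrobAlg.toTwist p k).symm (r • a)
      rw [smul_pow, TensorProduct.smul_tmul, Algebra.smul_def r a, FrobAlg.algebraMap_twist, map_mul,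
        RingEquiv.symm_apply_apply, smul_eq_mul])

lemma member_tmul (S : Type u) [CommSemiring S] [Algebra k S] (s : S) (a : FrobAlg.Twist p k) :
    member p k S (s ⊗ₜ[k] a) = (s ^ p) ⊗ₜ[k] (FrobAlg.toTwist p k).symm a := rfl

lemma member_mul (S : Type u) [CommSemiring S] [Algebra k S] (x y : S ⊗[k] FrobAlg.Twist p k) :
    member p k S (x * y) = member p k S x * member p k S y := by
  induction x using TensorProduct.induction_on with
  | zero => simp
  | tmul s a =>
    induction y using TensorProduct.induction_on with
    | zero => simp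
    | tmul t b => simp [member_tmul, Algebra.TensorProduct.tmul_mul_tmul, mul_pow]
    | add u v hu hv => simp only [mul_add, map_add, hu, hv]
  | add u v hu hv => simp only [add_mul, map_add, hu, hv]

/-- The Frobenius law. -/
noncomputable def law : PolLaw.MulLaw k (FrobAlg.Twist p k) k p where
  law :=
    { toFun' := fun S _ _ => member p k S
      isCompat' := fun {S} _ _ {S'} _ _ φ => by
        funext x
        simp only [Function.comp_apply]
        induction x using TensorProduct.induction_on with
        | zero => simp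
        | tmul s a => simp [member_tmul, LinearMap.rTensor_tmul]
        | add u v hu hv => simp only [map_add, hu, hv] }
  homog S _ _ s x := by
    show member p k S (s • x) = s ^ p • member p k S x
    induction x using TensorProduct.induction_on with
    | zero => simp
    | tmul t a => simp [TensorProduct.smul_tmul', member_tmul, mul_pow]
    | add u v hu hv => simp only [smul_add, map_add, hu, hv]
  mult S _ _ := by
    refine ⟨?_, member_mul p k S⟩
    show member p k S 1 = 1
    rw [Algebra.TensorProduct.one_def, member_tmul, map_one, one_pow]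
    rfl

variable {p k}

lemma ker_eq_bot (F : PolLaw.MulLaw k (FrobAlg.Twist p k) k p) : PolLaw.ker F.law = ⊥ := by
  have hu : ∀ x : FrobAlg.Twist p k, x ≠ 0 → ∃ y, y * x = 1 := fun x hx => by
    obtain ⟨y, hy⟩ : ∃ y : k, y * (FrobAlg.toTwist p k).symm x = 1 :=
      ⟨_, inv_mul_cancel₀ fun h => hx ((FrobAlg.toTwist p k).symm.injective (h.trans (map_zero _).symm))⟩
    exact ⟨FrobAlg.toTwist p k y, (FrobAlg.toTwist p k).symm.injective (by simpa using hy)⟩
  rw [eq_bot_iff]
  intro b hb
  by_contra hb0
  obtain ⟨c, hc⟩ := hu b hb0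
  have h := hb k 1 ((1 : k) ⊗ₜ[k] (-c))
  rw [Algebra.TensorProduct.tmul_mul_tmul, one_mul, neg_mul, hc, TensorProduct.tmul_neg,
    ← Algebra.TensorProduct.one_def, add_neg_cancel, (F.mult k).1, ← zero_smul k (0 : k ⊗[k] FrobAlg.Twist p k),
    F.homog, zero_pow hp.out.ne_zero, zero_smul] at h
  have h' := congrArg (TensorProduct.lid k k) h
  rw [map_zero, Algebra.TensorProduct.one_def, TensorProduct.lid_tmul, one_smul] at h'
  exact zero_ne_one h'

end Groth.Cycles.FrobLaw

namespace Groth.Cycles.FrobLaw

lemma not_finite (p : ℕ) [hp : Fact p.Prime] : ¬ Module.Finite (FractionRing (MvPolynomial ℕ (ZMod p)))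
    (FrobAlg.Twist p (FractionRing (MvPolynomial ℕ (ZMod p)))) := by
  intro hfin
  let P := MvPolynomial ℕ (ZMod p)
  let K := FractionRing P
  let v : ℕ → FrobAlg.Twist p K := fun i => FrobAlg.toTwist p K (algebraMap P K (MvPolynomial.X i))
  have hli : LinearIndependent K v := by
    rw [linearIndependent_iff']
    intro s c hc i hi
    obtain ⟨q, hq⟩ := IsLocalization.exist_integer_multiples (nonZeroDivisors P) s c
    choose a ha using hq
    have hq0 : algebraMap P K q ≠ 0 := IsFractionRing.to_map_ne_zero_of_mem_nonZeroDivisors q.2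
    have h1 : (FrobAlg.toTwist p K).symm (∑ j ∈ s, c j • v j) = ∑ j ∈ s, c j ^ p * algebraMap P K (MvPolynomial.X j) := by
      rw [map_sum]
      exact Finset.sum_congr rfl fun j _ => by
        rw [Algebra.smul_def, FrobAlg.algebraMap_twist, map_mul, RingEquiv.symm_apply_apply,
          RingEquiv.symm_apply_apply]
    rw [hc, map_zero] at h1
    have h2 : ∑ j ∈ s.attach, (a j.1 j.2) ^ p * MvPolynomial.X j.1 = 0 := by
      apply IsFractionRing.injective P K
      have h3 : ∀ j : s, algebraMap P K ((a j.1 j.2) ^ p * MvPolynomial.X j.1) =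
          algebraMap P K q ^ p * (c j.1 ^ p * algebraMap P K (MvPolynomial.X j.1)) := fun j => by
        rw [map_mul, map_pow, ha j.1 j.2, Algebra.smul_def, mul_pow, mul_assoc]
      rw [map_sum, map_zero, Finset.sum_congr rfl fun j _ => h3 j, ← Finset.mul_sum,
        Finset.sum_attach s fun j => c j ^ p * algebraMap P K (MvPolynomial.X j), ← h1, mul_zero]
    have h4 := congrArg (MvPolynomial.pderiv i) h2
    rw [map_sum, map_zero, Finset.sum_eq_single ⟨i, hi⟩] at h4
    · rw [MvPolynomial.pderiv_mul, MvPolynomial.pderiv_pow, MvPolynomial.pderiv_X_self,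
        (CharP.cast_eq_zero P p), zero_mul, zero_mul, zero_mul, zero_add, mul_one] at h4
      have h5 : a i hi = 0 := eq_zero_of_pow_eq_zero h4
      have h6 := ha i hi
      rw [h5, map_zero, Algebra.smul_def] at h6
      exact (mul_eq_zero.mp h6.symm).resolve_left hq0
    · intro j _ hj
      have hne : (j : ℕ) ≠ i := fun e => hj (Subtype.ext e)
      rw [MvPolynomial.pderiv_mul, MvPolynomial.pderiv_pow, MvPolynomial.pderiv_X_of_ne hne,
        (CharP.cast_eq_zero P p), zero_mul, zero_mul, zero_mul, mul_zero, add_zero]
    · intro h; exact absurd (Finset.mem_attach s _) h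
  exact Infinite.not_finite (α := ℕ) hli.finite

end Groth.Cycles.FrobLaw
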