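import Mathlib.RingTheory.GradedAlgebra.Basic
import Mathlib.Algebra.Algebra.Subalgebra.Lattice
import Mathlib.Tactic.Ring
import Mathlib.RingTheory.GradedAlgebra.Homogeneous.Ideal
import Mathlib.Algebra.Algebra.Operations
import Mathlib.Algebra.GCDMonoid.Finset
import Mathlib.Algebra.GCDMonoid.Nat

/-!
Monomial spanning sets of the pieces of a graded algebra given by homogeneous generators, and the
multiplication `A_n * A_l = A_(n+l)` for `n` large.
-/

universe u

namespace Groth.Cycles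

variable {R A : Type u} [CommRing R] [CommRing A] [Algebra R A] (𝒜 : ℕ → Submodule R A) [GradedAlgebra 𝒜]

open scoped Classical in
lemma graded_piece_eq_span {ι : Type*} (v : ι → A) (w : ι → ℕ) (hv : ∀ i, v i ∈ 𝒜 (w i))
    (hspan : Submodule.span R (Set.range v) = ⊤) (n : ℕ) :
    𝒜 n = Submodule.span R (v '' {i | w i = n}) := by
  refine le_antisymm (fun a ha => ?_) (Submodule.span_le.mpr ?_)
  · have hproj : GradedAlgebra.proj 𝒜 n a = a := by
      rw [GradedAlgebra.proj_apply]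
      exact DirectSum.decompose_of_mem_same 𝒜 ha
    have hsub : GradedAlgebra.proj 𝒜 n '' Set.range v ⊆
        (Submodule.span R (v '' {i | w i = n}) : Set A) := by
      rintro _ ⟨_, ⟨i, rfl⟩, rfl⟩
      rw [GradedAlgebra.proj_apply]
      by_cases h : w i = n
      · subst h
        rw [DirectSum.decompose_of_mem_same 𝒜 (hv i)]
        exact Submodule.subset_span ⟨i, rfl, rfl⟩
      · rw [DirectSum.decompose_of_mem_ne 𝒜 (hv i) h]
        exact Submodule.zero_mem _
    rw [← hproj]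
    have : a ∈ Submodule.span R (Set.range v) := hspan ▸ Submodule.mem_top
    refine (Submodule.span_le.mpr hsub) ?_
    rw [← Submodule.map_span]
    exact Submodule.mem_map_of_mem this
  · rintro _ ⟨i, hi, rfl⟩
    exact hi ▸ hv i

variable {s : ℕ} (f : Fin s → A) (deg : Fin s → ℕ)

lemma monomial_mem (hf : ∀ i, f i ∈ 𝒜 (deg i)) (e : Fin s → ℕ) :
    ∏ i, f i ^ e i ∈ 𝒜 (∑ i, e i * deg i) := by
  refine SetLike.prod_mem_graded 𝒜 _ _ fun i _ => ?_
  simpa [mul_comm] using SetLike.pow_mem_graded (e i) (hf i)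

lemma span_monomials_eq_top (hgen : Algebra.adjoin R (Set.range f) = ⊤) :
    Submodule.span R (Set.range fun e : Fin s → ℕ => ∏ i, f i ^ e i) = ⊤ := by
  rw [eq_top_iff, ← Algebra.top_toSubmodule, ← hgen, Algebra.adjoin_eq_span]
  refine Submodule.span_mono fun x hx => ?_
  induction hx using Submonoid.closure_induction with
  | mem x hx =>
    obtain ⟨j, rfl⟩ := hx
    exact ⟨Pi.single j 1, by simp [Pi.single_apply, pow_ite, Finset.prod_ite_eq']⟩
  | one => exact ⟨0, by simp⟩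
  | mul x y _ _ hx hy =>
    obtain ⟨e, rfl⟩ := hx
    obtain ⟨e', rfl⟩ := hy
    exact ⟨e + e', by simp [pow_add, Finset.prod_mul_distrib]⟩

lemma piece_eq_span_monomials (hf : ∀ i, f i ∈ 𝒜 (deg i))
    (hgen : Algebra.adjoin R (Set.range f) = ⊤) (n : ℕ) :
    𝒜 n = Submodule.span R ((fun e : Fin s → ℕ => ∏ i, f i ^ e i) '' {e | ∑ i, e i * deg i = n}) :=
  graded_piece_eq_span 𝒜 _ _ (monomial_mem 𝒜 f deg hf) (span_monomials_eq_top f hgen) n

lemma piece_mul_le (i j : ℕ) : 𝒜 i * 𝒜 j ≤ 𝒜 (i + j) :=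
  Submodule.mul_le.mpr fun _ ha _ hb => SetLike.mul_mem_graded ha hb

lemma piece_pow_le (i k : ℕ) : 𝒜 i ^ k ≤ 𝒜 (k * i) := by
  induction k with
  | zero =>
    rw [pow_zero, zero_mul, Submodule.one_le]
    exact SetLike.one_mem_graded 𝒜
  | succ k ih =>
    rw [pow_succ, Nat.succ_mul]
    exact (mul_le_mul' ih le_rfl).trans (piece_mul_le 𝒜 _ _)

lemma piece_add_lcm_eq_mul (hdeg : ∀ i, 0 < deg i) (hf : ∀ i, f i ∈ 𝒜 (deg i))
    (hgen : Algebra.adjoin R (Set.range f) = ⊤) (n : ℕ)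
    (hn : (s - 1) * (Finset.univ.lcm deg - 1) ≤ n) :
    𝒜 (n + Finset.univ.lcm deg) = 𝒜 n * 𝒜 (Finset.univ.lcm deg) := by
  set l := Finset.univ.lcm deg with hl
  refine le_antisymm ?_ (piece_mul_le 𝒜 _ _)
  rw [piece_eq_span_monomials 𝒜 f deg hf hgen (n + l), Submodule.span_le]
  rintro _ ⟨e, he, rfl⟩
  have hlpos : 0 < l := by
    rw [Nat.pos_iff_ne_zero, hl, Ne, Finset.lcm_eq_zero_iff]
    simp [(hdeg _).ne']
  obtain ⟨i, hi⟩ : ∃ i, l ≤ e i * deg i := by
    by_contra hc
    push Not at hc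
    have hsum : ∑ i, e i * deg i ≤ ∑ _i : Fin s, (l - 1) :=
      Finset.sum_le_sum fun i _ => by have := hc i; omega
    rw [he, Finset.sum_const, Finset.card_univ, Fintype.card_fin, smul_eq_mul] at hsum
    rcases Nat.eq_zero_or_pos s with hs | hs
    · subst hs; simp at hsum; omega
    · have : s * (l - 1) = (s - 1) * (l - 1) + (l - 1) := by
        conv_lhs => rw [show s = (s - 1) + 1 by omega, Nat.succ_mul]
      omega
  obtain ⟨c, hc⟩ : deg i ∣ l := Finset.dvd_lcm (Finset.mem_univ i)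
  have hci : c ≤ e i := Nat.le_of_mul_le_mul_right (by rw [mul_comm c]; omega) (hdeg i)
  let e' : Fin s → ℕ := Function.update e i (e i - c)
  have hprod : ∏ j, f j ^ e j = (∏ j, f j ^ e' j) * f i ^ c := by
    rw [← Finset.prod_erase_mul _ _ (Finset.mem_univ i), ← Finset.prod_erase_mul _ (fun j => f j ^ e' j) (Finset.mem_univ i)]
    rw [mul_assoc]
    congr 1
    · exact Finset.prod_congr rfl fun j hj => by simp [e', Function.update_of_ne (Finset.ne_of_mem_erase hj)]
    · simp only [e', Function.update_self]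
      rw [← pow_add, Nat.sub_add_cancel hci]
  have hsum' : ∑ j, e' j * deg j + l = n + l := by
    rw [← he, ← Finset.sum_erase_add _ _ (Finset.mem_univ i), ← Finset.sum_erase_add _ (fun j => e j * deg j) (Finset.mem_univ i), add_assoc]
    congr 1
    · exact Finset.sum_congr rfl fun j hj => by simp [e', Function.update_of_ne (Finset.ne_of_mem_erase hj)]
    · simp only [e', Function.update_self]
      rw [hc, mul_comm (deg i) c, ← Nat.add_mul, Nat.sub_add_cancel hci]
  show ∏ j, f j ^ e j ∈ _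
  rw [hprod]
  refine Submodule.mul_mem_mul ?_ ?_
  · have := monomial_mem 𝒜 f deg hf e'
    rwa [show ∑ j, e' j * deg j = n by omega] at this
  · rw [hc, mul_comm]
    simpa using SetLike.pow_mem_graded c (hf i)

lemma piece_mul_lcm_eq_pow (hdeg : ∀ i, 0 < deg i) (hf : ∀ i, f i ∈ 𝒜 (deg i))
    (hgen : Algebra.adjoin R (Set.range f) = ⊤) (a : ℕ) (ha : s - 1 ≤ a) (k : ℕ) :
    𝒜 (k * (a * Finset.univ.lcm deg)) = 𝒜 (a * Finset.univ.lcm deg) ^ k := by
  set l := Finset.univ.lcm deg with hl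
  refine le_antisymm ?_ (piece_pow_le 𝒜 _ _)
  induction k with
  | zero =>
    rw [zero_mul, pow_zero, piece_eq_span_monomials 𝒜 f deg hf hgen 0, Submodule.span_le]
    rintro _ ⟨e, he, rfl⟩
    have : ∀ i, e i = 0 := by
      intro i
      have := (Finset.sum_eq_zero_iff.mp he) i (Finset.mem_univ i)
      simpa [(hdeg i).ne'] using this
    simp [this]
    exact ⟨1, map_one _⟩
  | succ k ih =>
    have step : ∀ j, 𝒜 (a * l + j * l) ≤ 𝒜 (a * l) * 𝒜 l ^ j := by
      intro j
      induction j with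
      | zero => simp
      | succ j ihj =>
        rw [Nat.succ_mul, ← add_assoc, piece_add_lcm_eq_mul 𝒜 f deg hdeg hf hgen _ ?_, pow_succ, ← mul_assoc]
        · exact mul_le_mul' ihj le_rfl
        · calc (s - 1) * (l - 1) ≤ a * l := Nat.mul_le_mul ha (Nat.sub_le _ _)
            _ ≤ _ := Nat.le_add_right _ _
    have hsplit : ∀ m, 𝒜 l ^ (m * a) ≤ 𝒜 (a * l) ^ m := fun m => by
      rw [mul_comm, pow_mul]
      exact pow_le_pow_left' (piece_pow_le 𝒜 l a) m
    calc 𝒜 ((k + 1) * (a * l)) = 𝒜 (a * l + k * a * l) := by congr 1; ring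
      _ ≤ 𝒜 (a * l) * 𝒜 l ^ (k * a) := step _
      _ ≤ 𝒜 (a * l) * 𝒜 (a * l) ^ k := mul_le_mul' le_rfl (hsplit k)
      _ = _ := (pow_succ' _ _).symm

end Groth.Cycles
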