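import Mathlib.AlgebraicGeometry.AffineTransitionLimit
import Mathlib.AlgebraicGeometry.Morphisms.Integral
import Mathlib.AlgebraicGeometry.Morphisms.Separated
import Groth.Agent.EtaleBase.FpqcDescent
import Groth.Agent.Hensel1.Universal
import Groth.Agent.Hensel1.Pairs

/-!
A separated scheme over an affine scheme receiving a closed surjection from an integral scheme with finite
fibres is affine over the base (Chevalley's theorem in the case of topologically finite fibres).
-/

set_option autoImplicit false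

universe u

open CategoryTheory CategoryTheory.Limits AlgebraicGeometry TopologicalSpace
open scoped TensorProduct

namespace Groth.Cycles.IntImg

lemma isAffineOpen_of_clopen_le {Y : Scheme.{u}} {U W : Y.Opens} (hUW : U ≤ W)
    (hc : IsClosed (U : Set Y)) (hW : IsAffineOpen W) : IsAffineOpen U := by
  have : IsAffine W := hW
  have hr : IsClosed (Set.range (Y.homOfLE hUW)) := by
    have : Set.range (Y.homOfLE hUW) = W.ι ⁻¹' (U : Set Y) := by
      ext z
      constructor
      · rintro ⟨u, rfl⟩
        show W.ι (Y.homOfLE hUW u) ∈ (U : Set Y)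
        rw [← Scheme.Hom.comp_apply, Scheme.homOfLE_ι]
        exact u.2
      · intro hz
        exact ⟨⟨z.1, hz⟩, Subtype.ext (by simp)⟩
    rw [this]
    exact hc.preimage W.ι.continuous
  have := IsClosedImmersion.of_isPreimmersion (Y.homOfLE hUW) hr
  exact isAffine_of_isAffineHom (Y.homOfLE hUW)

open scoped Function in
/-- The henselian case. -/
theorem isAffine_of_henselian (H : Type u) [CommRing H] [HenselianLocalRing H] (C : Type u) [CommRing C]
    [Algebra H C] [Algebra.IsIntegral H C] {Y : Scheme.{u}} [CompactSpace Y]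
    (g : Y ⟶ Spec (CommRingCat.of H)) (q : Spec (CommRingCat.of C) ⟶ Y) (hsurj : Function.Surjective q)
    (hcl : IsClosedMap q) (hw : q ≫ g = Spec.map (CommRingCat.ofHom (algebraMap H C)))
    (hfin : {P : Ideal C | P.IsPrime ∧ P.comap (algebraMap H C) = IsLocalRing.maximalIdeal H}.Finite) :
    IsAffine Y := by
  classical
  let m := IsLocalRing.maximalIdeal H
  let J : Ideal C := m.map (algebraMap H C)
  let Q := C ⧸ J
  let mk := Ideal.Quotient.mk J
  have hover : ∀ M : Ideal C, M.IsMaximal → M.comap (algebraMap H C) = m := fun M hM =>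
    IsLocalRing.eq_maximalIdeal (Ideal.isMaximal_comap_of_isIntegral_of_isMaximal M)
  have hmax : ∀ M : Ideal C, M.IsPrime → J ≤ M → M.IsMaximal := by
    intro M hM hle
    refine Ideal.isMaximal_of_isIntegral_of_isMaximal_comap (R := H) M ?_
    have h : m ≤ M.comap (algebraMap H C) := Ideal.map_le_iff_le_comap.mp hle
    rw [← (IsLocalRing.maximalIdeal.isMaximal H).eq_of_le (Ideal.IsPrime.comap _).ne_top h]
    exact IsLocalRing.maximalIdeal.isMaximal H
  have hfinQ : Finite (PrimeSpectrum Q) := by
    have := hfin.to_subtype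
    refine Finite.of_injective (fun P : PrimeSpectrum Q => (⟨P.asIdeal.comap mk, inferInstance, ?_⟩ :
      {P : Ideal C | P.IsPrime ∧ P.comap (algebraMap H C) = IsLocalRing.maximalIdeal H})) ?_
    · refine hover _ (hmax _ inferInstance fun x hx => ?_)
      rw [Ideal.mem_comap, Ideal.Quotient.eq_zero_iff_mem.mpr hx]
      exact zero_mem _
    · intro P P' h
      exact PrimeSpectrum.ext (Ideal.comap_injective_of_surjective mk Ideal.Quotient.mk_surjective
        (congrArg Subtype.val h))
  have : T1Space (PrimeSpectrum Q) := by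
    refine ⟨fun P => ?_⟩
    rw [PrimeSpectrum.isClosed_singleton_iff_isMaximal]
    have hM : (P.asIdeal.comap mk).IsMaximal := hmax _ inferInstance fun x hx => by
      rw [Ideal.mem_comap, Ideal.Quotient.eq_zero_iff_mem.mpr hx]
      exact zero_mem _
    rw [← Ideal.map_comap_of_surjective mk Ideal.Quotient.mk_surjective P.asIdeal]
    exact hM.map_of_surjective_of_ker_le Ideal.Quotient.mk_surjective (fun x hx => by
      rw [Ideal.mem_comap, RingHom.mem_ker.mp hx]; exact zero_mem _)
  have : DiscreteTopology (PrimeSpectrum Q) := inferInstance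
  -- closed points of `Y` are the images of maximal ideals
  have hclp : ∀ y : Y, IsClosed ({y} : Set Y) → ∀ x, q x = y → x.asIdeal.IsMaximal := by
    intro y hy x hx
    have h1 : IsClosed ({g y} : Set (Spec (CommRingCat.of H))) := by
      have hgc : IsClosedMap g := by
        intro Z hZ
        have hint : IsClosedMap (q ≫ g) := by
          rw [hw]
          exact PrimeSpectrum.isClosedMap_comap_of_isIntegral (algebraMap H C)
            (algebraMap_isIntegral_iff.mpr inferInstance)
        convert hint _ (hZ.preimage q.continuous) using 1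
        ext z
        constructor
        · rintro ⟨w, hwZ, rfl⟩
          obtain ⟨v, rfl⟩ := hsurj w
          exact ⟨v, hwZ, rfl⟩
        · rintro ⟨v, hv, rfl⟩
          exact ⟨q v, hv, rfl⟩
      simpa using hgc _ hy
    have h2 : (g y).asIdeal.IsMaximal := (PrimeSpectrum.isClosed_singleton_iff_isMaximal (R := H) _).mp h1
    haveI : Ideal.IsPrime (α := C) x.asIdeal := x.isPrime
    refine Ideal.isMaximal_of_isIntegral_of_isMaximal_comap (R := H) x.asIdeal ?_
    have h3 : g y = Spec.map (CommRingCat.ofHom (algebraMap H C)) x := by rw [← hw, ← hx]; rfl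
    have h4 : x.asIdeal.comap (algebraMap H C) = (g y).asIdeal := (congrArg PrimeSpectrum.asIdeal h3).symm
    rw [h4]
    exact h2
  have himg : ∀ x : Spec (CommRingCat.of C), x.asIdeal.IsMaximal → IsClosed ({q x} : Set Y) := by
    intro x hx
    rw [← Set.image_singleton]
    exact hcl _ ((PrimeSpectrum.isClosed_singleton_iff_isMaximal (R := C) x).mpr hx)
  let Pts := {y : Y // IsClosed ({y} : Set Y)}
  have hfinPts : Finite Pts := by
    have := hfin.to_subtype
    choose x hx using fun y : Pts => hsurj y.1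
    refine Finite.of_injective (fun y : Pts => (⟨(x y).asIdeal, (x y).isPrime,
      hover _ (hclp y.1 y.2 _ (hx y))⟩ :
      {P : Ideal C | P.IsPrime ∧ P.comap (algebraMap H C) = IsLocalRing.maximalIdeal H})) ?_
    intro y y' h
    have : x y = x y' := PrimeSpectrum.ext (congrArg Subtype.val h)
    exact Subtype.ext (by rw [← hx y, ← hx y', this])
  have key : ∀ y : Pts, ∃ U : Y.Opens, IsAffineOpen U ∧ y.1 ∈ U ∧
      ∀ z ∈ U, ∀ y', IsClosed ({y'} : Set Y) → z ⤳ y' → y' = y.1 := by
    intro y
    let S : Set (PrimeSpectrum Q) := {P | q (PrimeSpectrum.comap mk P : Spec (CommRingCat.of C)) = y.1}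
    obtain ⟨ε, hε, hεS⟩ := PrimeSpectrum.exists_idempotent_basicOpen_eq_of_isClopen (isClopen_discrete S)
    obtain ⟨e, he, hmke⟩ := (Groth.Hensel1.bijOn_idempotents (A := H) (I := m) C).surjOn hε
    have hD : ∀ x : Spec (CommRingCat.of C), x.asIdeal.IsMaximal → (e ∉ x.asIdeal ↔ q x = y.1) := by
      intro x hx
      have hJ : J ≤ x.asIdeal := Ideal.map_le_iff_le_comap.mpr (hover _ hx).ge
      let P : PrimeSpectrum Q := ⟨x.asIdeal.map mk, Ideal.map_isPrime_of_surjective
        Ideal.Quotient.mk_surjective (by rwa [Ideal.mk_ker])⟩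
      have hP : (PrimeSpectrum.comap mk P : Spec (CommRingCat.of C)) = x := by
        apply PrimeSpectrum.ext
        show (x.asIdeal.map mk).comap mk = x.asIdeal
        rw [Ideal.comap_map_of_surjective' _ Ideal.Quotient.mk_surjective, Ideal.mk_ker, sup_eq_left.mpr hJ]
      have h1 : q x = y.1 ↔ P ∈ S := by
        show _ ↔ q (PrimeSpectrum.comap mk P : Spec (CommRingCat.of C)) = y.1
        rw [hP]
      rw [h1, hεS]
      show e ∉ x.asIdeal ↔ ε ∉ P.asIdeal
      rw [← hmke]
      conv_lhs => rw [← hP]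
      rfl
    have hVclosed : IsClosed (PrimeSpectrum.basicOpen e : Set (PrimeSpectrum C)) := by
      rw [PrimeSpectrum.basicOpen_eq_zeroLocus_of_isIdempotentElem e he]
      exact PrimeSpectrum.isClosed_zeroLocus _
    have hspec : ∀ x : Spec (CommRingCat.of C), e ∉ x.asIdeal → ∀ y', IsClosed ({y'} : Set Y) → q x ⤳ y' →
        y' = y.1 := by
      intro x hx y' hy' hxy
      have h1 : y' ∈ q '' closure {x} := by
        have h2 : q x ∈ q '' closure {x} := ⟨x, subset_closure rfl, rfl⟩
        exact hxy.mem_closed (hcl _ isClosed_closure) h2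
      obtain ⟨x', hx', rfl⟩ := h1
      have hm : x'.asIdeal.IsMaximal := hclp _ hy' x' rfl
      refine (hD x' hm).mp ?_
      exact (specializes_iff_mem_closure.mpr hx').mem_closed hVclosed hx
    let Z : Set Y := q '' {x : Spec (CommRingCat.of C) | e ∉ x.asIdeal}
    have hZc : IsClosed Z := hcl _ hVclosed
    have hZo : IsOpen Z := by
      have : Z = (q '' {x : Spec (CommRingCat.of C) | e ∈ x.asIdeal})ᶜ := by
        ext z
        constructor
        · rintro ⟨x, hx, rfl⟩ ⟨x', hx', hxx'⟩
          obtain ⟨y', hy'z, hy'⟩ := (isClosed_closure (s := ({q x} : Set Y))).exists_closed_singleton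
            ⟨_, subset_closure rfl⟩
          have h1 := hspec x hx y' hy' (specializes_iff_mem_closure.mpr hy'z)
          have h2 : y' ∈ q '' closure {x'} := by
            refine (specializes_iff_mem_closure.mpr hy'z).mem_closed (hcl _ isClosed_closure) ?_
            exact ⟨x', subset_closure rfl, hxx'⟩
          obtain ⟨x'', hx'', hq⟩ := h2
          have hm : x''.asIdeal.IsMaximal := hclp _ hy' x'' hq
          have he' : e ∈ x''.asIdeal :=
            (specializes_iff_mem_closure.mpr hx'').mem_closed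
              (PrimeSpectrum.isClosed_zeroLocus ({e} : Set C)) (Set.singleton_subset_iff.mpr hx')
              (Set.mem_singleton e)
          exact (hD x'' hm).mpr (hq.trans h1) he'
        · intro hz
          obtain ⟨x, rfl⟩ := hsurj z
          exact ⟨x, fun hx => hz ⟨x, hx, rfl⟩, rfl⟩
      rw [this]
      refine (hcl _ ?_).isOpen_compl
      rw [show {x : Spec (CommRingCat.of C) | e ∈ x.asIdeal} = PrimeSpectrum.zeroLocus ({e} : Set C) from
        Set.ext fun x => (Set.singleton_subset_iff (s := (x.asIdeal : Set C))).symm]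
      exact PrimeSpectrum.isClosed_zeroLocus _
    have hyZ : y.1 ∈ Z := by
      obtain ⟨x, hx⟩ := hsurj y.1
      exact ⟨x, (hD x (hclp _ y.2 x hx)).mpr hx, hx⟩
    have hzy : ∀ z ∈ Z, z ⤳ y.1 := by
      rintro _ ⟨x, hx, rfl⟩
      obtain ⟨y', hy'z, hy'⟩ := (isClosed_closure (s := ({q x} : Set Y))).exists_closed_singleton
        ⟨_, subset_closure rfl⟩
      have h := hspec x hx y' hy' (specializes_iff_mem_closure.mpr hy'z)
      exact h ▸ specializes_iff_mem_closure.mpr hy'z
    obtain ⟨_, ⟨W, hW, rfl⟩, hyW, -⟩ :=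
      Y.isBasis_affineOpens.exists_subset_of_mem_open (Set.mem_univ y.1) isOpen_univ
    exact ⟨⟨Z, hZo⟩, isAffineOpen_of_clopen_le (fun z hz => (hzy z hz).mem_open W.2 hyW) hZc hW, hyZ,
      by rintro _ ⟨x, hx, rfl⟩ y' hy' hxy; exact hspec x hx y' hy' hxy⟩
  choose U hU hyU hUy using key
  have hdisj : Pairwise (Disjoint on U) := by
    intro a b hab
    rw [Function.onFun, disjoint_iff]
    ext z
    simp only [Opens.coe_inf, Set.mem_inter_iff, SetLike.mem_coe, Opens.coe_bot, Set.mem_empty_iff_false,
      iff_false, not_and]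
    intro ha hb
    obtain ⟨y', hy'z, hy'⟩ := (isClosed_closure (s := ({z} : Set Y))).exists_closed_singleton
      ⟨_, subset_closure rfl⟩
    have hzy := specializes_iff_mem_closure.mpr hy'z
    exact hab (Subtype.ext ((hUy a z ha y' hy' hzy).symm.trans (hUy b z hb y' hy' hzy)))
  have htop : iSup U = ⊤ := by
    refine top_le_iff.mp fun z _ => ?_
    obtain ⟨y', hy'z, hy'⟩ := (isClosed_closure (s := ({z} : Set Y))).exists_closed_singleton
      ⟨_, subset_closure rfl⟩
    exact Opens.mem_iSup.mpr ⟨⟨y', hy'⟩,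
      (specializes_iff_mem_closure.mpr hy'z).mem_open (U _).2 (hyU _)⟩
  have := IsAffineOpen.iSup_of_disjoint hU hdisj
  rw [htop] at this
  exact IsAffine.of_isIso (Scheme.topIso Y).inv (h := this)

section Local

variable {A : Type u} [CommRing A] {B : Type u} [CommRing B] [Algebra A B]

lemma finite_primes_over {H : Type u} [CommRing H] [IsLocalRing H] [Algebra A H] (p : Ideal A)
    (hp : (IsLocalRing.maximalIdeal H).comap (algebraMap A H) = p)
    (hres : ∀ h : H, ∃ a s : A, s ∉ p ∧ algebraMap A H s * h - algebraMap A H a ∈ IsLocalRing.maximalIdeal H)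
    (hfin : {Q : Ideal B | Q.IsPrime ∧ Q.comap (algebraMap A B) = p}.Finite) :
    {P : Ideal (H ⊗[A] B) | P.IsPrime ∧
      P.comap (algebraMap H (H ⊗[A] B)) = IsLocalRing.maximalIdeal H}.Finite := by
  let inr : B →+* H ⊗[A] B := (Algebra.TensorProduct.includeRight : B →ₐ[A] H ⊗[A] B).toRingHom
  refine hfin.of_injOn (f := fun P : Ideal (H ⊗[A] B) => P.comap inr) ?_ ?_
  · rintro P ⟨hP, hm⟩
    refine ⟨Ideal.IsPrime.comap inr, ?_⟩
    rw [Ideal.comap_comap, show inr.comp (algebraMap A B) = (algebraMap H (H ⊗[A] B)).comp (algebraMap A H) from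
      RingHom.ext fun a => ((Algebra.TensorProduct.includeRight : B →ₐ[A] H ⊗[A] B).commutes a).trans
        (IsScalarTower.algebraMap_apply A H _ a), ← Ideal.comap_comap, hm, hp]
  · rintro P ⟨hP, hm⟩ P' ⟨hP', hm'⟩ (hPP' : P.comap inr = P'.comap inr)
    let J := (IsLocalRing.maximalIdeal H).map (algebraMap H (H ⊗[A] B))
    have hJ : J ≤ P := Ideal.map_le_iff_le_comap.mpr hm.ge
    have hJ' : J ≤ P' := Ideal.map_le_iff_le_comap.mpr hm'.ge
    have key : ∀ z : H ⊗[A] B, ∃ (b : B) (s : A), s ∉ p ∧ algebraMap A (H ⊗[A] B) s * z - inr b ∈ J := by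
      intro z
      induction z using TensorProduct.induction_on with
      | zero =>
        exact ⟨0, 1, fun h => hP.ne_top (Ideal.eq_top_iff_one _ |>.mpr (by
          rw [← hp] at h
          exact absurd h (fun h => (IsLocalRing.maximalIdeal.isMaximal H).ne_top
            (Ideal.eq_top_iff_one _ |>.mpr (by simpa using h))))), by simp⟩
      | tmul h b =>
        obtain ⟨a, s, hs, hm⟩ := hres h
        refine ⟨a • b, s, hs, ?_⟩
        have h1 : algebraMap A (H ⊗[A] B) s * h ⊗ₜ[A] b - inr (a • b) =
            algebraMap H (H ⊗[A] B) (algebraMap A H s * h - algebraMap A H a) * inr b := by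
          show algebraMap A (H ⊗[A] B) s * h ⊗ₜ[A] b - (1 : H) ⊗ₜ[A] (a • b) = _
          rw [Algebra.TensorProduct.algebraMap_apply, Algebra.TensorProduct.algebraMap_apply,
            Algebra.TensorProduct.tmul_mul_tmul, one_mul, TensorProduct.tmul_smul, TensorProduct.smul_tmul',
            Algebra.smul_def, mul_one]
          show _ = _ * ((1 : H) ⊗ₜ[A] b)
          rw [Algebra.TensorProduct.tmul_mul_tmul, mul_one, one_mul, ← TensorProduct.sub_tmul]
          simp
        rw [h1]
        exact J.mul_mem_right _ (Ideal.mem_map_of_mem _ hm)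
      | add x y hx hy =>
        obtain ⟨b, s, hs, hx⟩ := hx
        obtain ⟨b', s', hs', hy⟩ := hy
        refine ⟨s' • b + s • b', s * s', ?_, ?_⟩
        · intro h
          rw [← hp] at h hs hs'
          simp only [Ideal.mem_comap, map_mul] at h hs hs'
          exact ((IsLocalRing.maximalIdeal.isMaximal H).isPrime.mem_or_mem h).elim hs hs'
        · have := J.add_mem (J.mul_mem_left (algebraMap A _ s') hx) (J.mul_mem_left (algebraMap A _ s) hy)
          convert this using 1
          simp only [map_add, map_mul, Algebra.smul_def, inr, AlgHom.toRingHom_eq_coe, RingHom.coe_coe,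
            AlgHom.commutes]
          ring
    have aux : ∀ (P₁ : Ideal (H ⊗[A] B)), P₁.IsPrime → P₁.comap (algebraMap H (H ⊗[A] B)) =
        IsLocalRing.maximalIdeal H → ∀ z (b : B) (s : A), s ∉ p → algebraMap A (H ⊗[A] B) s * z - inr b ∈ P₁ →
        (z ∈ P₁ ↔ b ∈ P₁.comap inr) := by
      intro P₁ hP₁ hm₁ z b s hs hz
      have hs' : algebraMap A (H ⊗[A] B) s ∉ P₁ := fun h => hs (by
        rw [← hp, Ideal.mem_comap, ← hm₁, Ideal.mem_comap, ← IsScalarTower.algebraMap_apply]
        exact h)
      constructor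
      · intro h
        rw [Ideal.mem_comap]
        have := P₁.sub_mem (P₁.mul_mem_left (algebraMap A _ s) h) hz
        simpa using this
      · intro h
        have := P₁.add_mem hz (Ideal.mem_comap.mp h)
        rw [sub_add_cancel] at this
        exact (hP₁.mem_or_mem this).resolve_left hs'
    ext z
    obtain ⟨b, s, hs, hz⟩ := key z
    rw [aux P hP hm z b s hs (hJ hz), aux P' hP' hm' z b s hs (hJ' hz), hPP']

lemma hens_residue (R : Type u) [CommRing R] [IsLocalRing R]
    (h : Groth.Hensel1.Hens R (IsLocalRing.ResidueField R)) :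
    ∃ r : R, h - algebraMap R _ r ∈ IsLocalRing.maximalIdeal _ := by
  obtain ⟨r, hr⟩ := IsLocalRing.residue_surjective (Groth.Hensel1.Hens.pt h)
  refine ⟨r, ?_⟩
  rw [← IsLocalRing.residue_eq_zero_iff]
  apply (Groth.Hensel1.Hens.residuePt (R := R) (Ω := IsLocalRing.ResidueField R)).injective
  rw [map_zero, Groth.Hensel1.Hens.residuePt_residue, map_sub, AlgHom.commutes,
    IsLocalRing.ResidueField.algebraMap_eq, hr, sub_self]

variable [Algebra.IsIntegral A B]

theorem isAffine_pullback_localization {Y : Scheme.{u}} (g : Y ⟶ Spec (CommRingCat.of A)) [IsSeparated g]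
    [QuasiCompact g] (q : Spec (CommRingCat.of B) ⟶ Y) [Surjective q]
    (hw : q ≫ g = Spec.map (CommRingCat.ofHom (algebraMap A B))) (p : Ideal A) [p.IsPrime]
    (hfin : {Q : Ideal B | Q.IsPrime ∧ Q.comap (algebraMap A B) = p}.Finite) :
    IsAffine (pullback g (Spec.map (CommRingCat.ofHom (algebraMap A (Localization.AtPrime p))))) := by
  have : IsIntegralHom (q ≫ g) := by
    rw [hw, IsIntegralHom.SpecMap_iff, CommRingCat.hom_ofHom]
    exact algebraMap_isIntegral_iff.mpr inferInstance
  have : IsIntegralHom q := IsIntegralHom.of_comp q g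
  let R := Localization.AtPrime p
  let H := Groth.Hensel1.Hens R (IsLocalRing.ResidueField R)
  letI : Algebra A H := ((algebraMap R H).comp (algebraMap A R)).toAlgebra
  haveI : IsScalarTower A R H := IsScalarTower.of_algebraMap_eq fun _ => rfl
  let jR := Spec.map (CommRingCat.ofHom (algebraMap A R))
  let t := Spec.map (CommRingCat.ofHom (algebraMap R H))
  let gR := pullback.snd g jR
  let YH := pullback t gR
  have hp : (IsLocalRing.maximalIdeal H).comap (algebraMap A H) = p := by
    rw [IsScalarTower.algebraMap_eq A R H, ← Ideal.comap_comap,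
      ((IsLocalRing.local_hom_TFAE (algebraMap R H)).out 0 4 rfl rfl).mp inferInstance]
    exact IsLocalization.AtPrime.under_maximalIdeal R p
  have hres : ∀ h : H, ∃ a s : A, s ∉ p ∧
      algebraMap A H s * h - algebraMap A H a ∈ IsLocalRing.maximalIdeal H := by
    intro h
    obtain ⟨r, hr⟩ := hens_residue R h
    obtain ⟨⟨a, s⟩, has⟩ := IsLocalization.surj p.primeCompl r
    refine ⟨a, s, s.2, ?_⟩
    have := (IsLocalRing.maximalIdeal H).mul_mem_left (algebraMap A H s) hr
    convert this using 1
    rw [mul_sub, IsScalarTower.algebraMap_apply A R H a, ← has, map_mul, ← IsScalarTower.algebraMap_apply,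
      mul_comm (algebraMap R H r)]
  have hbot : IsPullback (pullback.snd t gR ≫ pullback.fst g jR) (pullback.fst t gR) g (t ≫ jR) :=
    (IsPullback.of_hasPullback t gR).flip.paste_horiz (IsPullback.of_hasPullback g jR)
  have htA : t ≫ jR = Spec.map (CommRingCat.ofHom (algebraMap A H)) := by
    rw [← Spec.map_comp, ← CommRingCat.ofHom_comp, ← IsScalarTower.algebraMap_eq]
  have hbig : IsPullback
      (Spec.map (CommRingCat.ofHom (Algebra.TensorProduct.includeRight : B →ₐ[A] H ⊗[A] B).toRingHom))
      (Spec.map (CommRingCat.ofHom (Algebra.TensorProduct.includeLeftRingHom : H →+* H ⊗[A] B)))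
      (q ≫ g) (t ≫ jR) := by
    rw [hw, htA]
    exact (isPullback_SpecMap_of_isPushout _ _ _ _ (CommRingCat.isPushout_tensorProduct A H B)).flip
  let qT := hbot.lift
    (Spec.map (CommRingCat.ofHom (Algebra.TensorProduct.includeRight : B →ₐ[A] H ⊗[A] B).toRingHom) ≫ q)
    (Spec.map (CommRingCat.ofHom (Algebra.TensorProduct.includeLeftRingHom : H →+* H ⊗[A] B)))
    (by rw [Category.assoc, hbig.w])
  have hq2 : qT ≫ pullback.fst t gR =
      Spec.map (CommRingCat.ofHom (Algebra.TensorProduct.includeLeftRingHom : H →+* H ⊗[A] B)) :=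
    hbot.lift_snd _ _ _
  have htop : IsPullback
      (Spec.map (CommRingCat.ofHom (Algebra.TensorProduct.includeRight : B →ₐ[A] H ⊗[A] B).toRingHom))
      qT q (pullback.snd t gR ≫ pullback.fst g jR) :=
    IsPullback.of_bot (hq2.symm ▸ hbig) (hbot.lift_fst _ _ _).symm hbot
  have : Surjective qT := MorphismProperty.of_isPullback htop inferInstance
  have : IsIntegralHom qT := MorphismProperty.of_isPullback htop inferInstance
  have : CompactSpace YH := QuasiCompact.compactSpace_of_compactSpace (pullback.fst t gR)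
  have hYH : IsAffine YH :=
    isAffine_of_henselian H (H ⊗[A] B) (pullback.fst t gR) qT qT.surjective qT.isClosedMap
      (hq2.trans rfl) (finite_primes_over p hp hres hfin)
  have ht : Groth.EtaleBase.Fpqc t := by
    refine ⟨⟨?_, ?_⟩, inferInstance⟩
    · rw [surjective_iff]
      have : Module.FaithfullyFlat R H := Groth.Hensel1.Hens.faithfullyFlat
      exact PrimeSpectrum.comap_surjective_of_faithfullyFlat
    · show Flat t
      rw [HasRingHomProperty.Spec_iff (P := @Flat), CommRingCat.hom_ofHom]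
      exact RingHom.flat_algebraMap_iff.mpr inferInstance
  have : IsAffineHom gR :=
    MorphismProperty.of_pullback_fst_of_descendsAlong (P := @IsAffineHom) ht
      (show IsAffineHom (pullback.fst t gR) from inferInstance)
  exact isAffine_of_isAffineHom gR

end Local

section Spreading

variable {A : Type u} [CommRing A]

/-- If the pullback to the local ring at `p` is affine, so is the preimage of a basic open around `p`. -/
theorem exists_basicOpen_isAffineOpen {Y : Scheme.{u}} (g : Y ⟶ Spec (CommRingCat.of A)) [IsSeparated g]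
    [QuasiCompact g] (p : Ideal A) [p.IsPrime]
    [IsAffine (pullback g (Spec.map (CommRingCat.ofHom (algebraMap A (Localization.AtPrime p)))))] :
    ∃ r : A, r ∉ p ∧
      IsAffineOpen (g ⁻¹ᵁ (PrimeSpectrum.basicOpen r : (Spec (CommRingCat.of A)).Opens)) := by
  let R := Localization.AtPrime p
  let jR := Spec.map (CommRingCat.ofHom (algebraMap A R))
  let bo : A → (Spec (CommRingCat.of A)).Opens := fun r => PrimeSpectrum.basicOpen r
  let I : Type u := {U : (Spec (CommRingCat.of A)).Opens // ∃ r, r ∉ p ∧ U = bo r}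
  haveI : Nonempty I := ⟨⟨bo 1, 1, fun h => Ideal.IsPrime.ne_top ‹p.IsPrime›
    ((Ideal.eq_top_iff_one p).mpr h), rfl⟩⟩
  haveI : IsCofiltered I := by
    refine @isCofiltered_of_directed_ge_nonempty _ _ ⟨fun U V => ?_⟩ _
    obtain ⟨_, r, hr, rfl⟩ := U
    obtain ⟨_, s, hs, rfl⟩ := V
    exact ⟨⟨bo (r * s), r * s, Ideal.IsPrime.mul_notMem ‹_› hr hs, rfl⟩,
      PrimeSpectrum.basicOpen_mul_le_left r s, PrimeSpectrum.basicOpen_mul_le_right r s⟩
  let D : I ⥤ Scheme.{u} :=
    { obj := fun U => (g ⁻¹ᵁ U.1 : Y.Opens)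
      map := fun {U V} h => Y.homOfLE (g.preimage_mono (leOfHom h))
      map_id := fun U => by rw [← cancel_mono (g ⁻¹ᵁ U.1).ι, Scheme.homOfLE_ι, Category.id_comp]
      map_comp := fun {U V W} h h' => by
        rw [← cancel_mono (g ⁻¹ᵁ W.1).ι, Category.assoc, Scheme.homOfLE_ι, Scheme.homOfLE_ι, Scheme.homOfLE_ι] }
  have hrange : ∀ (U : I) (z : ↥(Spec (CommRingCat.of R))), jR z ∈ U.1 := by
    rintro ⟨_, r, hr, rfl⟩ z
    show r ∉ (PrimeSpectrum.comap (algebraMap A R) z).asIdeal
    intro h
    exact z.isPrime.ne_top (Ideal.eq_top_of_isUnit_mem _ h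
      (IsLocalization.map_units R (⟨r, hr⟩ : p.primeCompl)))
  let P := pullback g jR
  have hlift : ∀ U : I, Set.range (pullback.fst g jR) ⊆ Set.range (g ⁻¹ᵁ U.1).ι := by
    rintro U _ ⟨z, rfl⟩
    rw [Scheme.Opens.range_ι]
    show g (pullback.fst g jR z) ∈ U.1
    rw [← Scheme.Hom.comp_apply, pullback.condition]
    exact hrange U _
  let π : (U : I) → (P ⟶ D.obj U) := fun U => IsOpenImmersion.lift (g ⁻¹ᵁ U.1).ι (pullback.fst g jR) (hlift U)
  have hπ : ∀ U, π U ≫ (g ⁻¹ᵁ U.1).ι = pullback.fst g jR := fun U => IsOpenImmersion.lift_fac _ _ _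
  let c : Cone D :=
    { pt := P
      π := { app := π
             naturality := fun U V h => by
              simp only [Functor.const_obj_map, Category.id_comp, D]
              rw [← cancel_mono (g ⁻¹ᵁ V.1).ι]
              simp only [Category.assoc, Category.id_comp, Scheme.homOfLE_ι, hπ]
              exact Category.id_comp _ } }
  have hsame : ∀ (s : Cone D) (U V : I), s.π.app U ≫ (g ⁻¹ᵁ U.1).ι = s.π.app V ≫ (g ⁻¹ᵁ V.1).ι := by
    intro s U V
    obtain ⟨W, hWU, hWV, -⟩ := IsCofilteredOrEmpty.cone_objs U V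
    rw [← s.w hWU, ← s.w hWV]
    simp only [D, Category.assoc, Scheme.homOfLE_ι]
  let U0 : I := Classical.arbitrary I
  have hfac : ∀ s : Cone D, ∃ v : s.pt ⟶ Spec (CommRingCat.of R),
      (s.π.app U0 ≫ (g ⁻¹ᵁ U0.1).ι) ≫ g = v ≫ jR := by
    intro s
    let h := (s.π.app U0 ≫ (g ⁻¹ᵁ U0.1).ι) ≫ g
    obtain ⟨φ, hφ⟩ : ∃ φ : CommRingCat.of A ⟶ Γ(s.pt, ⊤), h = s.pt.toSpecΓ ≫ Spec.map φ :=
      ⟨(Scheme.ΓSpecIso (CommRingCat.of A)).inv ≫ h.appTop, by
        rw [Spec.map_comp, ← Scheme.toSpecΓ_naturality_assoc, toSpecΓ_SpecMap_ΓSpecIso_inv, Category.comp_id]⟩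
    have hunit : ∀ r : p.primeCompl, IsUnit (φ.hom r.1) := by
      rintro ⟨r, hr⟩
      let U : I := ⟨bo r, r, hr, rfl⟩
      have h1 : ∀ w : s.pt, h w ∈ bo r := by
        intro w
        have := ((s.π.app U) w).2
        have e : h = (s.π.app U ≫ (g ⁻¹ᵁ U.1).ι) ≫ g := by rw [← hsame s U0 U]
        rw [e]
        exact this
      have h2 : s.pt.basicOpen (φ.hom r) = ⊤ := by
        refine top_le_iff.mp fun w _ => ?_
        have h3 : s.pt.toSpecΓ ⁻¹ᵁ (PrimeSpectrum.basicOpen (φ.hom r)) = s.pt.basicOpen (φ.hom r) :=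
          Scheme.toSpecΓ_preimage_basicOpen _ _
        rw [← h3]
        show φ.hom r ∉ (s.pt.toSpecΓ w).asIdeal
        have := h1 w
        rw [hφ] at this
        exact this
      exact s.pt.toLocallyRingedSpace.toRingedSpace.isUnit_of_isUnit_germ ⊤ _ fun w _ =>
        (s.pt.mem_basicOpen_top (φ.hom r) w).mp (h2.ge (by trivial))
    refine ⟨s.pt.toSpecΓ ≫ Spec.map (CommRingCat.ofHom (IsLocalization.lift (S := R) hunit)), ?_⟩
    show h = (_ ≫ _) ≫ Spec.map (CommRingCat.ofHom (algebraMap A R))
    rw [hφ, Category.assoc, ← Spec.map_comp, ← CommRingCat.ofHom_comp, IsLocalization.lift_comp]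
    rfl
  choose v hv using hfac
  have : IsPreimmersion jR := IsPreimmersion.of_isLocalization p.primeCompl
  have : Mono jR := inferInstance
  let hc : IsLimit c :=
    { lift := fun s => pullback.lift (s.π.app U0 ≫ (g ⁻¹ᵁ U0.1).ι) (v s) (hv s)
      fac := fun s U => by
        show _ ≫ π U = _
        rw [← cancel_mono (g ⁻¹ᵁ U.1).ι, Category.assoc, hπ, pullback.lift_fst, hsame s U0 U]
      uniq := fun s m hm => by
        refine pullback.hom_ext ?_ ?_
        · rw [pullback.lift_fst, ← hπ U0, ← Category.assoc]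
          exact congrArg (· ≫ _) (hm U0)
        · rw [pullback.lift_snd, ← cancel_mono jR, Category.assoc, ← pullback.condition, ← hv, ← hπ U0,
            ← hm U0]
          simp only [Category.assoc]
          rfl }
  have hqcs : ∀ U : I, IsAffineOpen U.1 := by
    rintro ⟨_, r, hr, rfl⟩
    exact IsAffineOpen.Spec_basicOpen (R := CommRingCat.of A) r
  haveI : CompactSpace Y := QuasiCompact.compactSpace_of_compactSpace g
  haveI : Y.IsSeparated := ⟨by
    rw [← CategoryTheory.Limits.terminal.comp_from g]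
    infer_instance⟩
  haveI hcpt : ∀ U : I, CompactSpace (D.obj U) := fun U =>
    isCompact_iff_compactSpace.mp (QuasiCompact.isCompact_preimage _ U.1.2 (hqcs U).isCompact)
  haveI hι : ∀ U : I, IsAffineHom (g ⁻¹ᵁ U.1).ι := fun U => by
    obtain ⟨_, r, hr, rfl⟩ := U
    have : g ⁻¹ᵁ bo r = Y.basicOpen (g.appTop ((Scheme.ΓSpecIso (CommRingCat.of A)).inv r)) := by
      rw [← Scheme.preimage_basicOpen_top]
      congr 1
      rw [basicOpen_eq_of_affine]
    show IsAffineHom (g ⁻¹ᵁ bo r).ι
    rw [this]
    infer_instance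
  haveI : ∀ {U V : I} (h : U ⟶ V), IsAffineHom (D.map h) := fun {U V} h => by
    have : IsAffineHom (D.map h ≫ (g ⁻¹ᵁ V.1).ι) := by
      simp only [D, Scheme.homOfLE_ι]
      exact hι U
    exact IsAffineHom.of_comp (D.map h) (g ⁻¹ᵁ V.1).ι
  haveI : IsAffine c.pt := ‹_›
  haveI : ∀ U : I, QuasiSeparatedSpace (D.obj U) := fun U =>
    (isQuasiSeparated_iff_quasiSeparatedSpace _ (g ⁻¹ᵁ U.1).2).mp (.of_quasiSeparatedSpace _)
  obtain ⟨⟨_, r, hr, rfl⟩, haff⟩ := Scheme.exists_isAffine_of_isLimit D c hc
  exact ⟨r, hr, haff⟩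

variable {B : Type u} [CommRing B] [Algebra A B] [Algebra.IsIntegral A B]

set_option backward.isDefEq.respectTransparency false in
set_option backward.isDefEq.respectTransparency.types false in
theorem isAffine_of_surjective {Y : Scheme.{u}} (g : Y ⟶ Spec (CommRingCat.of A)) [IsSeparated g]
    [QuasiCompact g] (q : Spec (CommRingCat.of B) ⟶ Y) [Surjective q]
    (hw : q ≫ g = Spec.map (CommRingCat.ofHom (algebraMap A B)))
    (hfin : ∀ p : Ideal A, p.IsPrime → {Q : Ideal B | Q.IsPrime ∧ Q.comap (algebraMap A B) = p}.Finite) :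
    IsAffine Y := by
  suffices IsAffineHom g from isAffine_of_isAffineHom g
  have key : ∀ x : PrimeSpectrum A, ∃ r : A, r ∉ x.asIdeal ∧
      IsAffineOpen (g ⁻¹ᵁ (PrimeSpectrum.basicOpen r : (Spec (CommRingCat.of A)).Opens)) := fun x => by
    haveI := isAffine_pullback_localization g q hw x.asIdeal (hfin _ x.isPrime)
    exact exists_basicOpen_isAffineOpen g x.asIdeal
  choose r hr haff using key
  refine (HasAffineProperty.iff_of_iSup_eq_top (P := @IsAffineHom.{u}) (f := g)
    (fun x => (⟨PrimeSpectrum.basicOpen (r x), IsAffineOpen.Spec_basicOpen (R := CommRingCat.of A) (r x)⟩ :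
      (Spec (CommRingCat.of A)).affineOpens))
    (top_le_iff.mp fun x _ => Opens.mem_iSup.mpr ⟨x, hr x⟩)).mpr fun x => ?_
  exact haff x

end Spreading

end Groth.Cycles.IntImg
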