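import Groth.Agent.Cycles.PolLawSym
import Mathlib.RingTheory.Polynomial.Quotient

/-!
Iversen's map `Γ^{e+1}(B) ⊗ B → Γ^e(B) ⊗ B` is surjective.
-/

universe u

open scoped TensorProduct
open Polynomial (X)

namespace Groth.Cycles.Sym

variable {A : Type u} [CommRing A] {B : Type u} [CommRing B] [Algebra A B]

/-- A law that vanishes on units over every test algebra vanishes: test rings. -/
lemma law_eq_zero_of_units' {N : Type u} [AddCommGroup N] [Module A N] (G : B →ₚₗ[A] N)
    (hG : ∀ (S : Type u) [CommRing S] [Algebra A S] (x : S ⊗[A] B), IsUnit x → G.toFun' S x = 0)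
    (S : Type u) [CommRing S] [Algebra A S] (x : S ⊗[A] B) : G.toFun' S x = 0 := by
  let j : S →ₐ[A] Polynomial S := IsScalarTower.toAlgHom A S (Polynomial S)
  let y : Polynomial S ⊗[A] B := 1 + (X : Polynomial S) • tmap j B (x - 1)
  have hy : G.toFun' (Polynomial S) y = 0 := by
    refine polyTensor_ext _ _ fun n => ?_
    let I : Ideal (Polynomial S) := Ideal.span {(X : Polynomial S) ^ (n + 1)}
    let ψ : (Polynomial S ⧸ I) →ₗ[A] S :=
      ((I.restrictScalars S).liftQ (Polynomial.lcoeff S n) (fun p hp => by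
        obtain ⟨q, rfl⟩ := Ideal.mem_span_singleton'.mp hp
        simp [LinearMap.mem_ker, Polynomial.coeff_mul_X_pow'])).restrictScalars A ∘ₗ LinearMap.id
    have hψ : (Polynomial.lcoeff S n).restrictScalars A = ψ ∘ₗ (Ideal.Quotient.mkₐ A I).toLinearMap :=
      LinearMap.ext fun p => rfl
    have hXN : ∀ (Q : Type u) [CommRing Q] [Algebra A Q] (m : Polynomial S →ₐ[A] Q), m X ^ (n + 1) = 0 →
        m.toLinearMap.rTensor N (G.toFun' (Polynomial S) y) = 0 := by
      intro Q _ _ m hm
      have h := congrFun (G.isCompat' m) y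
      simp only [Function.comp_apply] at h
      rw [h]
      apply hG
      rw [rTensor_eq_tmap, map_add, map_one, tmap_smul]
      refine IsNilpotent.isUnit_one_add ⟨n + 1, ?_⟩
      rw [smul_pow, hm, zero_smul]
    have hzero := hXN (Polynomial S ⧸ I) (Ideal.Quotient.mkₐ A I) (by
      rw [← map_pow, Ideal.Quotient.mkₐ_eq_mk, Ideal.Quotient.eq_zero_iff_mem]
      exact Ideal.mem_span_singleton_self _)
    rw [map_zero, hψ, LinearMap.rTensor_comp_apply, hzero, map_zero]
  let ev : Polynomial S →ₐ[A] S := (Polynomial.aeval (1 : S)).restrictScalars A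
  have hev : tmap ev B y = x := by
    have hj : ev.comp j = AlgHom.id A S := AlgHom.ext fun r => by simp [ev, j]
    have h1 : ev X = 1 := by simp [ev]
    rw [map_add, map_one, tmap_smul, tmap_tmap, hj, h1, one_smul, ← rTensor_eq_tmap (AlgHom.id A S) (x - 1),
      show (AlgHom.id A S).toLinearMap.rTensor B (x - 1) = x - 1 from LinearMap.rTensor_id_apply B S _, add_sub_cancel]
  have h := congrFun (G.isCompat' ev) y
  simp only [Function.comp_apply] at h
  rw [hy, map_zero, rTensor_eq_tmap, hev] at h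
  exact h.symm

/-- A law that vanishes on units over every test algebra vanishes. -/
lemma law_eq_zero_of_units {N : Type u} [AddCommGroup N] [Module A N] (G : B →ₚₗ[A] N)
    (hG : ∀ (S : Type u) [CommRing S] [Algebra A S] (x : S ⊗[A] B), IsUnit x → G.toFun' S x = 0)
    (S : Type u) [CommSemiring S] [Algebra A S] (x : S ⊗[A] B) : G.toFun' S x = 0 :=
  letI : CommRing S := { Algebra.semiringToRing A (A := S), ‹CommSemiring S› with }
  law_eq_zero_of_units' G hG S x

lemma iversen_surjective {Cd Ce : Type u} [CommRing Cd] [Algebra A Cd] [CommRing Ce] [Algebra A Ce] {d e : ℕ}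
    (γd : PolLaw.MulLaw A B Cd d) (γe : PolLaw.MulLaw A B Ce e) (hγe : PolLaw.IsGammaD γe)
    (ω : Cd ⊗[A] B →ₐ[A] Ce ⊗[A] B)
    (hω : ∀ (S : Type u) [CommSemiring S] [Algebra A S] (x y : S ⊗[A] B),
      ω.toLinearMap.lTensor S
        ((Algebra.TensorProduct.includeLeft : Cd →ₐ[A] Cd ⊗[A] B).toLinearMap.lTensor S (γd.law.toFun' S x) *
          (Algebra.TensorProduct.includeRight : B →ₐ[A] Cd ⊗[A] B).toLinearMap.lTensor S y) =
      (Algebra.TensorProduct.includeLeft : Ce →ₐ[A] Ce ⊗[A] B).toLinearMap.lTensor S (γe.law.toFun' S x) *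
        (Algebra.TensorProduct.includeRight : B →ₐ[A] Ce ⊗[A] B).toLinearMap.lTensor S (x * y)) :
    Function.Surjective ω := by
  let q : Ce →ₗ[A] (Ce ⊗[A] B) ⧸ LinearMap.range ω.toLinearMap :=
    (LinearMap.range ω.toLinearMap).mkQ ∘ₗ
      (Algebra.TensorProduct.includeLeft : Ce →ₐ[A] Ce ⊗[A] B).toLinearMap
  have hq : ∀ (S : Type u) [CommRing S] [Algebra A S] (x : S ⊗[A] B), IsUnit x →
      (PolLaw.postcomp q γe.law).toFun' S x = 0 := by
    intro S _ _ x hx
    obtain ⟨y, hy⟩ := hx.exists_right_inv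
    have h := hω S x y
    rw [hy, PolLaw.lTensor_algHom_apply (Algebra.TensorProduct.includeRight : B →ₐ[A] Ce ⊗[A] B), map_one, mul_one] at h
    show q.lTensor S (γe.law.toFun' S x) = 0
    rw [LinearMap.lTensor_comp, LinearMap.comp_apply, ← h, ← LinearMap.comp_apply, ← LinearMap.lTensor_comp]
    have : (LinearMap.range ω.toLinearMap).mkQ ∘ₗ ω.toLinearMap = 0 :=
      LinearMap.ext fun w => (Submodule.Quotient.mk_eq_zero _).mpr ⟨w, rfl⟩
    rw [this, LinearMap.lTensor_zero, LinearMap.zero_apply]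
  have hz : q ∘ₗ (presHom γe).toLinearMap = 0 := by
    refine Free.lin_ext (MvPolynomial.basisMonomials B A) _ _ fun S _ _ x => ?_
    rw [LinearMap.lTensor_comp, LinearMap.comp_apply, presHom_spec, LinearMap.lTensor_zero, LinearMap.zero_apply]
    exact law_eq_zero_of_units _ hq S _
  have hright : ∀ b : B, (1 : Ce) ⊗ₜ[A] b ∈ ω.range := by
    intro b
    refine ⟨(1 : Cd) ⊗ₜ[A] b, ?_⟩
    have h := hω A 1 ((1 : A) ⊗ₜ[A] b)
    rw [one_mul, (γd.mult A).1, (γe.mult A).1] at h
    simp only [Algebra.TensorProduct.one_def (A := A), LinearMap.lTensor_tmul, AlgHom.toLinearMap_apply, map_one,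
      Algebra.TensorProduct.includeRight_apply, Algebra.TensorProduct.tmul_mul_tmul, one_mul] at h
    simpa using congrArg (TensorProduct.lid A (Ce ⊗[A] B)) h
  intro z
  rw [← ω.mem_range]
  induction z using TensorProduct.induction_on with
  | zero => exact zero_mem _
  | tmul c b =>
    obtain ⟨t, rfl⟩ := presHom_surjective γe hγe c
    have ht : presHom γe t ⊗ₜ[A] (1 : B) ∈ ω.range := by
      obtain ⟨w, hw⟩ := (Submodule.Quotient.mk_eq_zero _).mp (LinearMap.congr_fun hz t)
      exact ⟨w, hw⟩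
    simpa using mul_mem ht (hright b)
  | add u v hu hv => exact add_mem hu hv

end Groth.Cycles.Sym
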