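import Groth.Agent.Cycles.CorrBase
import Groth.Agent.Cycles.PushDiv
import Groth.Agent.Cycles.C1Comm
import Groth.Agent.CycInter.P1Fibre
import Groth.Agent.CurveNorm.Main
import Groth.Agent.Pic13Aux.CurveThrough
import Mathlib.AlgebraicGeometry.AlgClosed.Basic

/-!
Moving zero-cycles into a dense open subset.
-/

set_option autoImplicit false
set_option backward.isDefEq.respectTransparency false
set_option linter.style.haveILetI false

universe u

open CategoryTheory CategoryTheory.Limits AlgebraicGeometry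

namespace Groth.Cycles.MoveZero

/-- A prescribed order one at one point of finitely many discrete valuation rings. -/
theorem exists_uniformizer {R : Type u} [CommRing R] {S : Type u} [CommRing S] [IsDomain S]
    [IsDiscreteValuationRing S] [Algebra R S] (P : Ideal R) [P.IsMaximal] [IsLocalization.AtPrime S P]
    (T : Finset (Ideal R)) (hT : ∀ Q ∈ T, Q.IsMaximal ∧ Q ≠ P) :
    ∃ a ∈ P, Ideal.span {algebraMap R S a} = IsLocalRing.maximalIdeal S ∧ ∀ Q ∈ T, a ∉ Q := by
  classical
  let 𝔮 : Ideal R := (IsLocalRing.maximalIdeal S ^ 2).comap (algebraMap R S)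
  obtain ⟨π, hπ⟩ := IsDiscreteValuationRing.exists_irreducible S
  have hmax : IsLocalRing.maximalIdeal S = Ideal.span {π} := (IsDiscreteValuationRing.irreducible_iff_uniformizer π).mp hπ
  have hPm : P.map (algebraMap R S) = IsLocalRing.maximalIdeal S := IsLocalization.AtPrime.map_eq_maximalIdeal P S
  have hP : ¬ P ≤ 𝔮 := by
    intro h
    have h1 : IsLocalRing.maximalIdeal S ≤ IsLocalRing.maximalIdeal S ^ 2 := by
      calc IsLocalRing.maximalIdeal S = P.map (algebraMap R S) := hPm.symm
        _ ≤ 𝔮.map (algebraMap R S) := Ideal.map_mono h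
        _ ≤ _ := Ideal.map_comap_le
    rw [hmax, Ideal.span_singleton_pow, Ideal.span_singleton_le_span_singleton] at h1
    obtain ⟨c, hc⟩ := h1
    have : π * 1 = π * (π * c) := by rw [mul_one, ← mul_assoc, ← pow_two]; exact hc
    exact hπ.not_isUnit (IsUnit.of_mul_eq_one _ (mul_left_cancel₀ hπ.ne_zero this).symm)
  have havoid : ¬ ((P : Set R) ⊆ ⋃ Q ∈ (↑(insert 𝔮 T) : Set (Ideal R)), (Q : Set R)) := by
    rw [Ideal.subset_union_prime 𝔮 𝔮 (fun Q hQ hne _ => by
      rcases Finset.mem_insert.mp hQ with rfl | h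
      · exact absurd rfl hne
      · exact (hT Q h).1.isPrime)]
    rintro ⟨Q, hQ, hle⟩
    rcases Finset.mem_insert.mp hQ with rfl | h
    · exact hP hle
    · exact (hT Q h).2 ((Ideal.IsMaximal.eq_of_le inferInstance (hT Q h).1.ne_top hle).symm)
  obtain ⟨a, haP, ha⟩ := Set.not_subset.mp havoid
  simp only [Set.mem_iUnion, not_exists, Finset.mem_coe] at ha
  refine ⟨a, haP, ?_, fun Q hQ => ha Q (Finset.mem_insert_of_mem hQ)⟩
  have h1 : algebraMap R S a ∈ IsLocalRing.maximalIdeal S := hPm ▸ Ideal.mem_map_of_mem _ haP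
  rw [hmax, Ideal.mem_span_singleton] at h1
  obtain ⟨c, hc⟩ := h1
  have hc' : IsUnit c := by
    by_contra hn
    have h2 : c ∈ Ideal.span {π} := hmax ▸ (IsLocalRing.mem_maximalIdeal c).mpr hn
    obtain ⟨e, rfl⟩ := Ideal.mem_span_singleton.mp h2
    refine ha 𝔮 (Finset.mem_insert_self _ _) ?_
    show algebraMap R S a ∈ IsLocalRing.maximalIdeal S ^ 2
    rw [hmax, Ideal.span_singleton_pow, Ideal.mem_span_singleton, hc, pow_two]
    exact ⟨e, by ring⟩
  rw [hmax, hc, Ideal.span_singleton_mul_right_unit hc']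

variable {k : Type u} [Field k] [IsAlgClosed k] {W : Scheme.{u}} (pW : W ⟶ Spec (CommRingCat.of k)) [IsProper pW]
  {δ : W → ℤ}

/-- A closed point is, modulo a principal divisor, moved into the open subset. -/
theorem exists_move_point (hδ : Cyc.DeltaCompat pW δ fun _ => 0) [IsIntegral W]
    (hAF : ∀ T : Finset W, ∃ V : W.Opens, IsAffineOpen V ∧ ∀ x ∈ T, x ∈ V) (U : W.Opens) (hU : (U : Set W).Nonempty)
    (p : W) (hp : δ p = 0) :
    ∃ (ξ : W) (f : W.residueField ξ) (c : AlgebraicCycle W ℤ), f ≠ 0 ∧ (f ≠ 1 → δ ξ = 1) ∧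
      ⇑c = Cyc.divFun δ ξ f ∧ c ∈ Cyc.Zk W δ 0 ∧
      ∀ w, w ∉ U → c w = open Classical in if w = p then 1 else 0 := by
  classical
  have hsW : Cyc.IsSetup W δ := CorrBase.isSetup_field pW hδ
  haveI := hsW.1
  haveI : CompactSpace W := QuasiCompact.compactSpace_of_compactSpace pW
  haveI : AlgebraicGeometry.IsNoetherian W := {}
  have h0 : ∀ w, 0 ≤ δ w := fun w => by
    obtain ⟨n, -, hn⟩ := hδ w
    simp only at hn
    omega
  have hclosed : ∀ w, δ w = 0 → IsClosed ({w} : Set W) := fun w hw => by
    rw [← closure_eq_iff_isClosed]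
    refine Set.Subset.antisymm (fun y hy => ?_) subset_closure
    by_contra hne
    have := (hsW.2.2 w y (specializes_iff_mem_closure.mpr hy) (Ne.symm hne)).1
    have := h0 y
    omega
  have hzero : ∀ w, IsClosed ({w} : Set W) → δ w = 0 := fun w hw => by
    let j := pointOfClosedPoint pW w hw
    haveI : IsPreimmersion (j ≫ pW) := by rw [pointOfClosedPoint_comp]; infer_instance
    obtain ⟨h1, -⟩ := Groth.CycInter.P1C.delta_eq_of_closedImm_comp pW hδ j (IsLocalRing.closedPoint k)
    rw [pointOfClosedPoint_apply] at h1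
    exact h1
  by_cases hpU : p ∈ U
  · refine ⟨p, 1, 0, one_ne_zero, fun h => absurd rfl h, ?_, fun _ _ => rfl, fun w hw => ?_⟩
    · funext w
      rw [divFun_one hsW]
      rfl
    · rw [if_neg fun e : w = p => hw (by rw [e]; exact hpU)]
      rfl
  have hηU : genericPoint W ∈ U := (genericPoint_spec W).mem_open_set_iff U.2 |>.mpr (by rwa [Set.univ_inter])
  obtain ⟨y, hyU, hyp, hydim⟩ := Groth.Pic13Aux.exists_curve_through pW U (hclosed p hp) hpU hηU
    (genericPoint_specializes p)
  have hyne : y ≠ p := fun e => hpU (e ▸ hyU)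
  have hy1 : δ y = 1 := by
    rw [(hsW.2.2 y p hyp hyne).2 fun z hyz hzp => ?_, hp, zero_add]
    by_contra hcon
    push Not at hcon
    let s : Fin 3 → closure ({y} : Set W) := ![⟨p, hyp.mem_closure⟩, ⟨z, hyz.mem_closure⟩, ⟨y, subset_closure rfl⟩]
    haveI : IrreducibleSpace (closure ({y} : Set W)) :=
      isIrreducible_iff_irreducibleSpace.mp isIrreducible_singleton.closure
    have h2 : (2 : WithBot ℕ∞) ≤ topologicalKrullDim (closure ({y} : Set W)) := by
      let cl : closure ({y} : Set W) → TopologicalSpace.IrreducibleCloseds (closure ({y} : Set W)) := fun w =>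
        ⟨closure {w}, isIrreducible_singleton.closure, isClosed_closure⟩
      have hlt : ∀ a b : closure ({y} : Set W), b.1 ⤳ a.1 → a ≠ b → cl a < cl b := by
        intro a b h hne
        have h' : b ⤳ a := (subtype_specializes_iff b a).mpr h
        refine lt_of_le_of_ne (specializes_iff_closure_subset.mp h') fun e => hne ?_
        have h'' : a ⤳ b := specializes_iff_closure_subset.mpr
          (le_of_eq (congrArg (fun q : TopologicalSpace.IrreducibleCloseds _ => (q : Set (closure ({y} : Set W)))) e).symm)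
        exact (h''.antisymm h').eq
      let L : LTSeries (TopologicalSpace.IrreducibleCloseds (closure ({y} : Set W))) :=
        { length := 2
          toFun := fun i => cl (s i)
          step := fun i => by
            fin_cases i
            · exact hlt _ _ hzp fun e => hcon.2 (congrArg Subtype.val e).symm
            · exact hlt _ _ hyz fun e => hcon.1 (congrArg Subtype.val e) }
      exact Order.LTSeries.length_le_krullDim L
    rw [hydim] at h2
    exact absurd (show (2 : ℕ∞) ≤ 1 by exact_mod_cast h2) (by decide)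
  obtain ⟨V, i, _, _, _, hir, hiy⟩ := closure_scheme y
  haveI : IsIntegral V := isIntegral_of_irreducibleSpace_of_isReduced V
  haveI : LocallyOfFiniteType (i ≫ pW) := inferInstance
  let K : Type u := V.functionField
  letI : Field K := inferInstanceAs (Field V.functionField)
  let g : Spec (CommRingCat.of K) ⟶ V :=
    Spec.map (CommRingCat.ofHom (RingHom.id V.functionField)) ≫ V.fromSpecStalk (genericPoint V)
  have hg : g = Spec.map (CommRingCat.ofHom (RingHom.id V.functionField)) ≫ V.fromSpecStalk (genericPoint V) := rfl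
  haveI : IsLocallyNoetherian V := LocallyOfFiniteType.isLocallyNoetherian (i ≫ pW)
  haveI : QuasiCompact g := inferInstance
  haveI : QuasiSeparated g := inferInstance
  have hfinite : IsFinite g.fromNormalization :=
    Groth.CurveNorm.isFinite_fromNormalization V K (RingHom.id _) g hg k (i ≫ pW) inferInstance
      (RingHom.Finite.id _)
  haveI := hfinite
  set C := g.normalization
  let h : C ⟶ W := g.fromNormalization ≫ i
  haveI : IsFinite h := inferInstanceAs (IsFinite (g.fromNormalization ≫ i))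
  obtain ⟨δC, hδC⟩ := CorrBase.exists_deltaCompat h δ
  have hsC : Cyc.IsSetup C δC := Groth.CycInter.P1C.isSetup_of_lft hsW h hδC
  haveI := hsC.1
  have hηV : g.fromNormalization (genericPoint C) = genericPoint V :=
    Groth.Ega2Proj.fromNormalization_genericPoint V K (RingHom.id _) g hg
  have hhη : h (genericPoint C) = y := by
    rw [Scheme.Hom.comp_apply, hηV, hiy]
  haveI : IsPreimmersion (g.toNormalization ≫ h) := by
    show IsPreimmersion (g.toNormalization ≫ g.fromNormalization ≫ i)
    rw [g.toNormalization_fromNormalization_assoc, hg, show CommRingCat.ofHom (RingHom.id V.functionField) = 𝟙 _ from rfl,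
      Spec.map_id, Category.id_comp]
    infer_instance
  obtain ⟨hd, hrd⟩ := Groth.CycInter.P1C.delta_eq_of_closedImm_comp h hδC g.toNormalization
    (IsLocalRing.closedPoint K)
  rw [Groth.Ega2Proj.toNormalization_closedPoint V K g] at hd hrd
  have hδη : δC (genericPoint C) = 1 := by rw [hd, hhη, hy1]
  have hC0 : ∀ z, 0 ≤ δ (h z) ∧ δ (h z) ≤ δC z := fun z => by
    obtain ⟨n, -, hn⟩ := hδC z
    exact ⟨h0 _, by omega⟩
  have hCz : ∀ z, z ≠ genericPoint C → δC z = 0 := fun z hz => by
    have := (hsC.2.2 (genericPoint C) z (genericPoint_specializes z) hz.symm).1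
    have := hC0 z
    omega
  -- the bad points
  have hclC : ∀ z, δC z = 0 → IsClosed ({z} : Set C) := fun z hz => by
    rw [← closure_eq_iff_isClosed]
    refine Set.Subset.antisymm (fun w hw => ?_) subset_closure
    by_contra hne
    have := (hsC.2.2 z w (specializes_iff_mem_closure.mpr hw) (Ne.symm hne)).1
    have := hC0 w
    omega
  haveI : CompactSpace C := QuasiCompact.compactSpace_of_compactSpace h
  haveI : AlgebraicGeometry.IsNoetherian C := {}
  have hηbad : h (genericPoint C) ∈ U := hhη.symm ▸ hyU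
  have hbad : (h ⁻¹' (U : Set W)ᶜ).Finite := by
    obtain ⟨T, hT, hTc, hTi, hTeq⟩ := TopologicalSpace.NoetherianSpace.exists_finite_set_isClosed_irreducible
      (U.2.isClosed_compl.preimage h.continuous : IsClosed (h ⁻¹' (U : Set W)ᶜ))
    replace hTeq : h ⁻¹' (U : Set W)ᶜ = ⋃₀ T := hTeq
    rw [hTeq]
    refine hT.sUnion fun A hA => ?_
    have hgp := (hTi A hA).isGenericPoint_genericPoint_closure
    rw [(hTc A hA).closure_eq] at hgp
    have hmem : (hTi A hA).genericPoint ∈ h ⁻¹' (U : Set W)ᶜ := by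
      rw [hTeq]; exact Set.mem_sUnion.mpr ⟨A, hA, hgp.mem⟩
    have hne : (hTi A hA).genericPoint ≠ genericPoint C := fun e => hmem (by rw [e]; exact hηbad)
    rw [← hgp.def, (hclC _ (hCz _ hne)).closure_eq]
    exact Set.finite_singleton _
  obtain ⟨p', hp'⟩ : ∃ p', h p' = p := by
    obtain ⟨v, hv⟩ : p ∈ Set.range i := by rw [hir]; exact hyp.mem_closure
    have hsurj : v ∈ Set.range g.fromNormalization :=
      (genericPoint_specializes v).mem_closed g.fromNormalization.isClosedMap.isClosed_range ⟨_, hηV⟩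
    obtain ⟨z, rfl⟩ := hsurj
    exact ⟨z, by rw [Scheme.Hom.comp_apply, hv]⟩
  have hp'η : p' ≠ genericPoint C := fun e => hyne (by rw [← hhη, ← e, hp'])
  obtain ⟨O, hO, hOT⟩ := hAF (insert p (hbad.toFinset.image h))
  set A := h ⁻¹ᵁ O
  have hA : IsAffineOpen A := hO.preimage h
  have hp'A : p' ∈ A := show h p' ∈ O from hp'.symm ▸ hOT p (Finset.mem_insert_self _ _)
  have hbadA : ∀ z ∈ hbad.toFinset, z ∈ A := fun z hz =>
    hOT _ (Finset.mem_insert_of_mem (Finset.mem_image_of_mem h hz))
  have hηA : genericPoint C ∈ A := (genericPoint_specializes p').mem_open A.2 hp'A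
  have hdim : ∀ z, z ≠ genericPoint C → ringKrullDim (C.presheaf.stalk z) = 1 := fun z hz =>
    ringKrullDim_stalk_eq_one_of_delta hsC.2.2 (by rw [hCz z hz, hδη]; rfl)
  have hnorm := Groth.Ega2Proj.isNormalScheme_normalization V K (RingHom.id _) g hg
  haveI : IsDomain (C.presheaf.stalk p') := (hnorm p').1
  haveI : IsDiscreteValuationRing (C.presheaf.stalk p') := by
    haveI := (hnorm p').2
    haveI : Ring.KrullDimLE 1 (C.presheaf.stalk p') := Ring.krullDimLE_iff.mpr (hdim p' hp'η).le
    have hnf : ¬ IsField (C.presheaf.stalk p') := fun hf => by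
      have h := hdim p' hp'η
      rw [ringKrullDim_eq_zero_of_isField hf] at h
      exact zero_ne_one h
    refine ((IsDiscreteValuationRing.TFAE (C.presheaf.stalk p') hnf).out 0 3 rfl rfl).mpr ⟨inferInstance, ?_⟩
    refine ⟨IsLocalRing.maximalIdeal _, ⟨fun h => hnf (IsLocalRing.isField_iff_maximalIdeal_eq.mpr h), inferInstance⟩,
      fun Q hQ => ?_⟩
    obtain ⟨hQ0, hQp⟩ := hQ
    by_contra hne
    have h1 : Q < IsLocalRing.maximalIdeal (C.presheaf.stalk p') :=
      lt_of_le_of_ne (IsLocalRing.le_maximalIdeal hQp.ne_top) hne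
    haveI := hQp
    have h3 := Ideal.height_strict_mono_of_isPrime h1
    have h4 : (⊥ : Ideal (C.presheaf.stalk p')).height < Q.height :=
      Ideal.height_strict_mono_of_isPrime (bot_lt_iff_ne_bot.mpr hQ0)
    have h5 : (IsLocalRing.maximalIdeal (C.presheaf.stalk p')).height = 1 := by
      have h6 := IsLocalRing.maximalIdeal_height_eq_ringKrullDim (R := C.presheaf.stalk p')
      rw [hdim p' hp'η] at h6
      exact_mod_cast h6
    rw [h5, ENat.lt_one_iff_eq_zero] at h3
    rw [h3] at h4
    exact not_lt_zero h4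
  letI := TopCat.Presheaf.algebra_section_stalk C.presheaf (⟨p', hp'A⟩ : A)
  haveI := hA.isLocalization_stalk ⟨p', hp'A⟩
  set P := (hA.primeIdealOf ⟨p', hp'A⟩).asIdeal
  have hmaxI : ∀ z (hz : z ∈ A), z ≠ genericPoint C → (hA.primeIdealOf ⟨z, hz⟩).asIdeal.IsMaximal := by
    intro z hz hne
    refine (PrimeSpectrum.isClosed_singleton_iff_isMaximal (x := hA.primeIdealOf ⟨z, hz⟩)).mp ?_
    have h1 := (hclC z (hCz z hne)).preimage hA.fromSpec.continuous
    rwa [show hA.fromSpec ⁻¹' {z} = {hA.primeIdealOf ⟨z, hz⟩} from Set.eq_singleton_iff_unique_mem.mpr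
      ⟨hA.fromSpec_primeIdealOf ⟨z, hz⟩, fun w hw => hA.fromSpec.isOpenEmbedding.injective
        (hw.trans (hA.fromSpec_primeIdealOf ⟨z, hz⟩).symm)⟩] at h1
  haveI : P.IsMaximal := hmaxI p' hp'A hp'η
  let T : Finset (Ideal Γ(C, A)) := (hbad.toFinset.erase p').attach.image fun z =>
    (hA.primeIdealOf ⟨z.1, hbadA z.1 (Finset.mem_of_mem_erase z.2)⟩).asIdeal
  have hT : ∀ Q ∈ T, Q.IsMaximal ∧ Q ≠ P := by
    intro Q hQ
    obtain ⟨⟨z, hz⟩, -, rfl⟩ := Finset.mem_image.mp hQ
    have hzη : z ≠ genericPoint C := fun e =>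
      (hbad.mem_toFinset.mp (Finset.mem_of_mem_erase hz)) (by rw [e]; exact hηbad)
    refine ⟨hmaxI z _ hzη, fun e => Finset.ne_of_mem_erase hz ?_⟩
    have := congrArg hA.fromSpec (PrimeSpectrum.ext (x := hA.primeIdealOf ⟨z, hbadA z (Finset.mem_of_mem_erase hz)⟩)
      (y := hA.primeIdealOf ⟨p', hp'A⟩) e)
    rwa [hA.fromSpec_primeIdealOf, hA.fromSpec_primeIdealOf] at this
  obtain ⟨a, haP, ha, haT⟩ := exists_uniformizer (S := C.presheaf.stalk p') P T hT
  have hspan : Ideal.span {C.presheaf.germ A p' hp'A a} = IsLocalRing.maximalIdeal (C.presheaf.stalk p') := ha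
  set F := C.residue (genericPoint C) (C.presheaf.germ A (genericPoint C) hηA a) with hFdef
  have ha0 : C.presheaf.germ A p' hp'A a ≠ 0 := by
    intro h0
    rw [h0, Ideal.span_singleton_eq_bot.mpr rfl] at hspan
    exact (IsDiscreteValuationRing.not_a_field _) hspan.symm
  have hFspec : ∀ z (hz : z ∈ A),
      F = Cyc.specMap z (genericPoint C) (genericPoint_specializes z) (C.presheaf.germ A z hz a) := by
    intro z hz
    rw [specMap_germ]
  have hF0 : F ≠ 0 := by
    rw [hFspec p' hp'A]
    exact (map_ne_zero_iff _ (specMap_injective rfl p' _)).mpr ha0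
  obtain ⟨G, hG, hpos, hneg⟩ := exists_push_divFun δC δ hsC hsW h hδC (genericPoint C) F hF0
  obtain ⟨hn0, hmap⟩ := hpos hd
  refine ⟨h (genericPoint C), _, AlgebraicCycle.map h δC δ G, hn0, fun _ => hhη.symm ▸ hy1, hmap, fun w hw => ?_,
    fun w hw => ?_⟩
  · rw [hmap, Cyc.divFun, dif_neg]
    rintro ⟨-, h2⟩
    rw [hhη, hy1] at h2
    omega
  · rw [map_apply_eq_sum h δC δ G w (insert p' hbad.toFinset) (fun z hz _ => Finset.mem_insert_of_mem
      (hbad.mem_toFinset.mpr (show h z ∈ (U : Set W)ᶜ by rw [hz]; exact hw))), Finset.sum_insert_of_eq_zero_if_notMem]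
    · have hval : ∀ z ∈ hbad.toFinset, G z = if z = p' then 1 else 0 := by
        intro z hz
        have hzη : z ≠ genericPoint C := fun e => (hbad.mem_toFinset.mp hz) (by rw [e]; exact hηbad)
        have hdp : IsDivPt δC (genericPoint C) z := ⟨genericPoint_specializes z, by rw [hCz z hzη, hδη]; rfl⟩
        rw [hG, Cyc.divFun, dif_pos (show genericPoint C ⤳ z ∧ δC z + 1 = δC (genericPoint C) from hdp)]
        by_cases e : z = p'
        · subst e
          rw [if_pos rfl, hFspec z hp'A]
          have hkd := Groth.RefRank.krullDimLE_of_dim_le (hdim z hzη).le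
          have h1 : Cyc.specMap z (genericPoint C) (genericPoint_specializes z) (C.presheaf.germ A z hp'A a) =
              C.residue (genericPoint C) (algebraMap (C.presheaf.stalk z) C.functionField (C.presheaf.germ A z hp'A a)) := rfl
          rw [h1, Groth.RefRank.ordAt_residue (hdim z hzη).le]
          show CycAlg.ordFrac (C.presheaf.stalk z) C.functionField
            (algebraMap (C.presheaf.stalk z) C.functionField (C.presheaf.germ A z hp'A a)) = _
          rw [Groth.RefRank.ordFrac_algebraMap' ha0, Ring.ord, hspan]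
          haveI : IsSimpleModule (C.presheaf.stalk z) (C.presheaf.stalk z ⧸ IsLocalRing.maximalIdeal (C.presheaf.stalk z)) :=
            isSimpleModule_iff_quot_maximal.mpr ⟨_, IsLocalRing.maximalIdeal.isMaximal _, ⟨LinearEquiv.refl _ _⟩⟩
          rw [Module.length_eq_one_iff.mpr inferInstance]
          rfl
        · rw [if_neg e, hFspec z (hbadA z hz)]
          refine ordAt_specMap_of_isUnit hsC hdp ?_
          letI := TopCat.Presheaf.algebra_section_stalk C.presheaf (⟨z, hbadA z hz⟩ : A)
          haveI := hA.isLocalization_stalk ⟨z, hbadA z hz⟩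
          refine (IsLocalization.AtPrime.isUnit_to_map_iff (C.presheaf.stalk z)
            (hA.primeIdealOf ⟨z, hbadA z hz⟩).asIdeal a).mpr ?_
          exact haT _ (Finset.mem_image.mpr ⟨⟨z, Finset.mem_erase.mpr ⟨e, hz⟩⟩, Finset.mem_attach _ _, rfl⟩)
      have hp'bad : p' ∈ hbad.toFinset := hbad.mem_toFinset.mpr (show h p' ∈ (U : Set W)ᶜ from hp'.symm ▸ hpU)
      rw [Finset.sum_eq_single p' (fun z hz hne => by rw [hval z hz, if_neg hne]; simp)
        (fun hn => absurd hp'bad hn), hval p' hp'bad, if_pos rfl, hp', one_mul]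
      have hdeg : δC p' = δ (h p') ∧ h.residueDegree p' = 1 := by
        let j := pointOfClosedPoint (h ≫ pW) p' (hclC p' (hCz p' hp'η))
        haveI : IsPreimmersion ((j ≫ h) ≫ pW) := by
          rw [Category.assoc, pointOfClosedPoint_comp]; infer_instance
        haveI : IsImmersion ((j ≫ h) ≫ pW) := by
          rw [Category.assoc, pointOfClosedPoint_comp]; infer_instance
        haveI : IsImmersion (j ≫ h) := IsImmersion.of_comp (j ≫ h) pW
        have h3 := Groth.CycInter.P1C.delta_eq_of_closedImm_comp h hδC j (IsLocalRing.closedPoint k)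
        rwa [pointOfClosedPoint_apply] at h3
      rw [AlgebraicCycle.mapCoeff, if_pos hdeg.1, hdeg.2, Nat.cast_one]
      simp only [eq_comm, mul_one]
    · intro hn
      exact absurd (hbad.mem_toFinset.mpr (show h p' ∈ (U : Set W)ᶜ from hp'.symm ▸ hpU)) hn

/-- Every zero-cycle is rationally equivalent to one supported in a given nonempty open subset. -/
theorem exists_move (hδ : Cyc.DeltaCompat pW δ fun _ => 0) [IsIntegral W]
    (hAF : ∀ T : Finset W, ∃ V : W.Opens, IsAffineOpen V ∧ ∀ x ∈ T, x ∈ V) (U : W.Opens) (hU : (U : Set W).Nonempty)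
    (z : AlgebraicCycle W ℤ) (hz : z ∈ Cyc.Zk W δ 0) :
    ∃ z' : AlgebraicCycle W ℤ, z' ∈ Cyc.Zk W δ 0 ∧ (∀ w, z' w ≠ 0 → w ∈ U) ∧ Cyc.RatEquiv δ 0 z z' := by
  classical
  have hsW : Cyc.IsSetup W δ := CorrBase.isSetup_field pW hδ
  haveI : CompactSpace W := QuasiCompact.compactSpace_of_compactSpace pW
  have hfin : (Function.support ⇑z).Finite :=
    (z.locallyFiniteSupport.finite_inter_support_of_isCompact isCompact_univ).subset fun x hx => ⟨trivial, hx⟩
  let s := {x // x ∈ hfin.toFinset}
  have hs0 : ∀ x : s, δ x.1 = 0 := fun x => by_contra fun h => hfin.mem_toFinset.mp x.2 (hz x.1 h)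
  choose ξ f c hf hf1 hc hcZ hcU using fun x : s => exists_move_point pW hδ hAF U hU x.1 (hs0 x)
  let z' : AlgebraicCycle W ℤ := z - ∑ x : s, z x.1 • c x
  have hsum : ∀ w, (∑ x : s, z x.1 • c x : AlgebraicCycle W ℤ) w = ∑ x : s, z x.1 * c x w := fun w => by
    rw [Function.locallyFinsuppWithin.coe_sum, Finset.sum_apply]
    simp
  refine ⟨z', fun w hw => ?_, fun w hw => ?_, ?_⟩
  · show z w - (∑ x : s, z x.1 • c x : AlgebraicCycle W ℤ) w = 0
    rw [hsum, hz w hw, Finset.sum_eq_zero fun x _ => by rw [hcZ x w hw, mul_zero], sub_zero]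
  · by_contra hwU
    apply hw
    show z w - (∑ x : s, z x.1 • c x : AlgebraicCycle W ℤ) w = 0
    rw [hsum]
    simp only [hcU _ w hwU, mul_ite, mul_one, mul_zero]
    by_cases hwz : w ∈ hfin.toFinset
    · rw [Finset.sum_eq_single (⟨w, hwz⟩ : s) (fun x _ hx => if_neg fun e => hx (Subtype.ext e.symm))
        (fun h => absurd (Finset.mem_univ _) h), if_pos rfl, sub_self]
    · rw [show z w = 0 from not_not.mp fun h => hwz (hfin.mem_toFinset.mpr h),
        Finset.sum_eq_zero fun x _ => if_neg fun e => hwz (by rw [e]; exact x.2), sub_zero]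
  · refine ratEquivZero_of_family hsW s ξ (fun x => f x ^ z x.1) (fun x => zpow_ne_zero _ (hf x))
      (fun x hx => by
        rw [zero_add]
        exact hf1 x fun e => hx (by rw [e, one_zpow]))
      (fun V _ => Set.toFinite _) fun w => ?_
    have hzz : z - z' = ∑ x : s, z x.1 • c x := sub_sub_cancel z _
    rw [hzz, hsum, finsum_eq_sum_of_fintype]
    refine Finset.sum_congr rfl fun x _ => ?_
    rw [divFun_zpow hsW (hf x), hc x]

end Groth.Cycles.MoveZero
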