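import Mathlib.RingTheory.PolynomialLaw.Basic
import Mathlib.RingTheory.MvPolynomial.Basic
import Mathlib.RingTheory.TensorProduct.Basic
import Mathlib.LinearAlgebra.TensorProduct.RightExactness
import Mathlib.LinearAlgebra.TensorProduct.Finiteness

/-!
Polynomial laws are determined by, and can be defined on, polynomial rings in finitely many variables.
-/

set_option autoImplicit false

universe u v w

open scoped TensorProduct

namespace Groth.Cycles.Restrict

variable {A : Type u} [CommRing A] {M : Type v} [AddCommGroup M] [Module A M] {N : Type w} [AddCommGroup N] [Module A N]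

/-- A family of maps on polynomial rings compatible with all substitutions. -/
def Compat (T : ∀ n : ℕ, MvPolynomial (Fin n) A ⊗[A] M → MvPolynomial (Fin n) A ⊗[A] N) : Prop :=
  ∀ (n m : ℕ) (φ : MvPolynomial (Fin n) A →ₐ[A] MvPolynomial (Fin m) A),
    φ.toLinearMap.rTensor N ∘ T n = T m ∘ φ.toLinearMap.rTensor M

lemma rT_comp {P Q R : Type u} [Semiring P] [Algebra A P] [Semiring Q] [Algebra A Q] [Semiring R] [Algebra A R]
    {L : Type*} [AddCommGroup L] [Module A L] (f : P →ₐ[A] Q) (g : Q →ₐ[A] R) (x : P ⊗[A] L) :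
    g.toLinearMap.rTensor L (f.toLinearMap.rTensor L x) = (g.comp f).toLinearMap.rTensor L x := by
  rw [AlgHom.comp_toLinearMap, LinearMap.rTensor_comp_apply]

lemma exists_lift_hom {n m : ℕ} {S : Type u} [CommRing S] [Algebra A S] (φ : MvPolynomial (Fin n) A →ₐ[A] S)
    (χ : MvPolynomial (Fin m) A →ₐ[A] S) (h : φ.range ≤ χ.range) :
    ∃ g : MvPolynomial (Fin n) A →ₐ[A] MvPolynomial (Fin m) A, χ.comp g = φ := by
  choose y hy using fun i => h ⟨MvPolynomial.X i, rfl⟩
  refine ⟨MvPolynomial.aeval y, MvPolynomial.algHom_ext fun i => ?_⟩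
  simpa using hy i

variable {T : ∀ n : ℕ, MvPolynomial (Fin n) A ⊗[A] M → MvPolynomial (Fin n) A ⊗[A] N} (hT : Compat T)

include hT in
lemma eq_of_same_image {m : ℕ} {S : Type u} [CommRing S] [Algebra A S] (χ : MvPolynomial (Fin m) A →ₐ[A] S)
    (q₁ q₂ : MvPolynomial (Fin m) A ⊗[A] M)
    (h : χ.rangeRestrict.toLinearMap.rTensor M q₁ = χ.rangeRestrict.toLinearMap.rTensor M q₂) :
    χ.toLinearMap.rTensor N (T m q₁) = χ.toLinearMap.rTensor N (T m q₂) := by
  obtain ⟨w, hw⟩ := (rTensor_exact M (LinearMap.exact_subtype_ker_map χ.rangeRestrict.toLinearMap)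
    χ.rangeRestrict_surjective (q₂ - q₁)).mp (by rw [map_sub, h, sub_self])
  obtain ⟨r, k, a, rfl⟩ : ∃ (r : ℕ) (k : Fin r → LinearMap.ker χ.rangeRestrict.toLinearMap) (a : Fin r → M),
      w = ∑ i, k i ⊗ₜ[A] a i := by
    obtain ⟨s, hs⟩ := TensorProduct.exists_finset w
    exact ⟨s.card, fun i => (s.equivFin.symm i).1.1, fun i => (s.equivFin.symm i).1.2, by
      rw [hs, ← s.sum_coe_sort]
      exact (Equiv.sum_comp s.equivFin.symm (fun p => p.1.1 ⊗ₜ[A] p.1.2)).symm⟩
  have hk : ∀ i, χ (k i : MvPolynomial (Fin m) A) = 0 := fun i => congrArg Subtype.val (k i).2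
  let j : MvPolynomial (Fin m) A →ₐ[A] MvPolynomial (Fin (m + r)) A :=
    MvPolynomial.aeval fun i => MvPolynomial.X (Fin.castAdd r i)
  let e : (Fin r → MvPolynomial (Fin m) A) → MvPolynomial (Fin (m + r)) A →ₐ[A] MvPolynomial (Fin m) A :=
    fun f => MvPolynomial.aeval (Fin.addCases MvPolynomial.X f)
  have hej : ∀ f, (e f).comp j = AlgHom.id A _ := fun f => MvPolynomial.algHom_ext fun i => by simp [e, j]
  let Q : MvPolynomial (Fin (m + r)) A ⊗[A] M :=
    j.toLinearMap.rTensor M q₁ + ∑ i, MvPolynomial.X (Fin.natAdd m i) ⊗ₜ[A] a i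
  have hQ : ∀ f, (e f).toLinearMap.rTensor M Q = q₁ + ∑ i, f i ⊗ₜ[A] a i := by
    intro f
    rw [map_add, rT_comp, hej, map_sum]
    congr 1
    · exact LinearMap.rTensor_id_apply M _ _
    · simp [e, LinearMap.rTensor_tmul]
  have h0 : (e fun _ => 0).toLinearMap.rTensor M Q = q₁ := by simp [hQ]
  have h1 : (e fun i => (k i : MvPolynomial (Fin m) A)).toLinearMap.rTensor M Q = q₂ := by
    rw [hQ]
    have : ∑ i, (k i : MvPolynomial (Fin m) A) ⊗ₜ[A] a i = q₂ - q₁ := by
      rw [← hw, map_sum]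
      rfl
    rw [this, add_sub_cancel]
  have hc : χ.comp (e fun _ => 0) = χ.comp (e fun i => (k i : MvPolynomial (Fin m) A)) := by
    refine MvPolynomial.algHom_ext fun i => ?_
    induction i using Fin.addCases with
    | left i => simp [e]
    | right i => simp [e, hk i]
  have c := fun f => congrFun (hT (m + r) m (e f)) Q
  simp only [Function.comp_apply] at c
  rw [← h0, ← h1, ← c, ← c, rT_comp, rT_comp, hc]

include hT in
lemma well_defined {S : Type u} [CommRing S] [Algebra A S] {n₁ n₂ : ℕ} (φ₁ : MvPolynomial (Fin n₁) A →ₐ[A] S)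
    (φ₂ : MvPolynomial (Fin n₂) A →ₐ[A] S) (p₁ : MvPolynomial (Fin n₁) A ⊗[A] M)
    (p₂ : MvPolynomial (Fin n₂) A ⊗[A] M) (h : φ₁.toLinearMap.rTensor M p₁ = φ₂.toLinearMap.rTensor M p₂) :
    φ₁.toLinearMap.rTensor N (T n₁ p₁) = φ₂.toLinearMap.rTensor N (T n₂ p₂) := by
  have hfg : ∀ {n : ℕ} (φ : MvPolynomial (Fin n) A →ₐ[A] S), φ.range.FG := fun φ => by
    rw [← Algebra.map_top]
    exact Subalgebra.FG.map _ Algebra.FiniteType.out
  have h' : φ₁.range.val.toLinearMap.rTensor M (φ₁.rangeRestrict.toLinearMap.rTensor M p₁) =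
      φ₂.range.val.toLinearMap.rTensor M (φ₂.rangeRestrict.toLinearMap.rTensor M p₂) := by
    rw [rT_comp, rT_comp, AlgHom.val_comp_rangeRestrict, AlgHom.val_comp_rangeRestrict, h]
  obtain ⟨B, h1B, h2B, ⟨t, ht⟩, heq⟩ := TensorProduct.Algebra.eq_of_fg_of_subtype_eq' (R := A) (hfg φ₁) (hfg φ₂) h'
  let χ := PolynomialLaw.φ A t
  have hr : χ.range = B := by rw [PolynomialLaw.range_φ, ht]
  subst hr
  obtain ⟨g₁, hg₁⟩ := exists_lift_hom φ₁ χ h1B
  obtain ⟨g₂, hg₂⟩ := exists_lift_hom φ₂ χ h2B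
  have e₁ : χ.rangeRestrict.comp g₁ = (Subalgebra.inclusion h1B).comp φ₁.rangeRestrict :=
    AlgHom.ext fun x => Subtype.ext (AlgHom.congr_fun hg₁ x)
  have e₂ : χ.rangeRestrict.comp g₂ = (Subalgebra.inclusion h2B).comp φ₂.rangeRestrict :=
    AlgHom.ext fun x => Subtype.ext (AlgHom.congr_fun hg₂ x)
  have key := eq_of_same_image hT χ (g₁.toLinearMap.rTensor M p₁) (g₂.toLinearMap.rTensor M p₂) (by
    rw [rT_comp, rT_comp, e₁, e₂, ← rT_comp, ← rT_comp]
    exact heq)
  have c₁ := congrFun (hT _ _ g₁) p₁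
  have c₂ := congrFun (hT _ _ g₂) p₂
  simp only [Function.comp_apply] at c₁ c₂
  rwa [← c₁, ← c₂, rT_comp, rT_comp, hg₁, hg₂] at key

include hT in
lemma well_defined' {S : Type u} [CommSemiring S] [Algebra A S] {n₁ n₂ : ℕ} (φ₁ : MvPolynomial (Fin n₁) A →ₐ[A] S)
    (φ₂ : MvPolynomial (Fin n₂) A →ₐ[A] S) (p₁ : MvPolynomial (Fin n₁) A ⊗[A] M)
    (p₂ : MvPolynomial (Fin n₂) A ⊗[A] M) (h : φ₁.toLinearMap.rTensor M p₁ = φ₂.toLinearMap.rTensor M p₂) :
    φ₁.toLinearMap.rTensor N (T n₁ p₁) = φ₂.toLinearMap.rTensor N (T n₂ p₂) :=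
  letI : CommRing S := { Algebra.semiringToRing A (A := S), ‹CommSemiring S› with }
  well_defined hT φ₁ φ₂ p₁ p₂ h

/-- The law extending a compatible family. -/
noncomputable def extendLaw : M →ₚₗ[A] N where
  toFun' S _ _ t :=
    let h := PolynomialLaw.exists_lift (R := A) t
    h.choose_spec.choose.toLinearMap.rTensor N (T h.choose h.choose_spec.choose_spec.choose)
  isCompat' {S} _ _ {S'} _ _ ψ := by
    funext t
    simp only [Function.comp_apply]
    rw [rT_comp]
    refine well_defined' hT _ _ _ _ ?_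
    rw [← rT_comp, (PolynomialLaw.exists_lift (R := A) t).choose_spec.choose_spec.choose_spec,
      (PolynomialLaw.exists_lift (R := A) (ψ.toLinearMap.rTensor M t)).choose_spec.choose_spec.choose_spec]

lemma extendLaw_spec (hT : Compat T) (n : ℕ) :
    (extendLaw hT).toFun' (MvPolynomial (Fin n) A) = T n := by
  funext p
  refine (well_defined hT _ (AlgHom.id A _) _ p ?_).trans (LinearMap.rTensor_id_apply N _ _)
  rw [(PolynomialLaw.exists_lift (R := A) p).choose_spec.choose_spec.choose_spec]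
  exact (LinearMap.rTensor_id_apply M _ _).symm

lemma law_ext (F G : M →ₚₗ[A] N)
    (h : ∀ n, F.toFun' (MvPolynomial (Fin n) A) = G.toFun' (MvPolynomial (Fin n) A)) : F = G := by
  refine PolynomialLaw.ext (funext fun S => funext fun _ => funext fun _ => funext fun t => ?_)
  obtain ⟨n, ψ, p, rfl⟩ := PolynomialLaw.exists_lift (R := A) t
  have hF := congrFun (F.isCompat' ψ) p
  have hG := congrFun (G.isCompat' ψ) p
  simp only [Function.comp_apply] at hF hG
  rw [← hF, ← hG, h]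

lemma bijective_restrict :
    Function.Bijective (fun F : M →ₚₗ[A] N =>
      (⟨fun n => F.toFun' (MvPolynomial (Fin n) A), fun n m φ => F.isCompat' φ⟩ :
        {T : ∀ n : ℕ, MvPolynomial (Fin n) A ⊗[A] M → MvPolynomial (Fin n) A ⊗[A] N // Compat T})) :=
  ⟨fun F G h => law_ext F G fun n => congrFun (congrArg Subtype.val h) n,
    fun T => ⟨extendLaw T.2, Subtype.ext (funext fun n => extendLaw_spec T.2 n)⟩⟩

section Mult

variable {B : Type v} [CommRing B] [Algebra A B] {C : Type w} [CommRing C] [Algebra A C]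

lemma rT_one {P Q : Type u} [CommRing P] [Algebra A P] [CommRing Q] [Algebra A Q] {L : Type*} [CommRing L]
    [Algebra A L] (f : P →ₐ[A] Q) (x : P ⊗[A] L) :
    f.toLinearMap.rTensor L x = Algebra.TensorProduct.map f (AlgHom.id A L) x := by
  induction x using TensorProduct.induction_on with
  | zero => simp
  | tmul p l => rfl
  | add x y hx hy => simp [hx, hy]

lemma multiplicative (F : B →ₚₗ[A] C)
    (h1 : ∀ n : ℕ, F.toFun' (MvPolynomial (Fin n) A) 1 = 1)
    (hmul : ∀ (n : ℕ) (x y : MvPolynomial (Fin n) A ⊗[A] B),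
      F.toFun' (MvPolynomial (Fin n) A) (x * y) = F.toFun' (MvPolynomial (Fin n) A) x * F.toFun' (MvPolynomial (Fin n) A) y)
    (S : Type u) [CommRing S] [Algebra A S] :
    F.toFun' S 1 = 1 ∧ ∀ x y : S ⊗[A] B, F.toFun' S (x * y) = F.toFun' S x * F.toFun' S y := by
  constructor
  · have h := congrFun (F.isCompat' (Algebra.ofId A S |>.comp (MvPolynomial.aeval (fun i : Fin 0 => i.elim0)))) 1
    simp only [Function.comp_apply, h1, rT_one, map_one] at h
    exact h.symm
  · intro x y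
    obtain ⟨A₁, hA₁, hx⟩ := TensorProduct.Algebra.exists_of_fg (R := A) x
    obtain ⟨A₂, hA₂, hy⟩ := TensorProduct.Algebra.exists_of_fg (R := A) y
    obtain ⟨t, ht⟩ := PolynomialLaw.exists_range_φ_eq_of_fg (R := A) (Subalgebra.FG.sup hA₁ hA₂)
    obtain ⟨p, rfl⟩ := PolynomialLaw.exists_lift_of_mem_range_rTensor A₁ (φ := PolynomialLaw.φ A t) (ht ▸ le_sup_left) hx
    obtain ⟨q, rfl⟩ := PolynomialLaw.exists_lift_of_mem_range_rTensor A₂ (φ := PolynomialLaw.φ A t) (ht ▸ le_sup_right) hy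
    have hc := fun v => congrFun (F.isCompat' (PolynomialLaw.φ A t)) v
    simp only [Function.comp_apply] at hc
    simp only [rT_one] at hc ⊢
    rw [← map_mul, ← hc, ← hc, ← hc, hmul, map_mul]

end Mult

end Groth.Cycles.Restrict
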