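import Groth.Prelude.Def_PolLaw
import Groth.Prelude.Def_PolLaw2
import Groth.Agent.Cycles.PolLawKer
import Groth.Agent.Cycles.PolLawRestrict
import Groth.Agent.Ega2Proj.DetIntegral
import Mathlib.Algebra.MvPolynomial.Equiv
import Mathlib.RingTheory.Polynomial.IntegralNormalization
import Mathlib.RingTheory.IntegralClosure.IntegrallyClosed
import Mathlib.RingTheory.Flat.Basic
import Mathlib.RingTheory.Polynomial.IsIntegral

/-!
The determinant law of a finite module over a normal domain.
-/

universe u

open scoped TensorProduct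

namespace Groth.Cycles.NormalDet

theorem isIntegrallyClosed_mvPoly (R : Type u) [CommRing R] [IsDomain R] [IsIntegrallyClosed R] :
    ∀ n : ℕ, IsIntegrallyClosed (MvPolynomial (Fin n) R)
  | 0 => IsIntegrallyClosed.of_equiv (MvPolynomial.isEmptyRingEquiv R (Fin 0)).symm
  | n + 1 => by
    have := isIntegrallyClosed_mvPoly R n
    exact IsIntegrallyClosed.of_equiv (MvPolynomial.finSuccEquiv R n).symm.toRingEquiv

variable {A : Type u} [CommRing A] {B : Type u} [CommRing B] [Algebra A B]
  {M : Type u} [AddCommGroup M] [Module A M] [Module B M] [IsScalarTower A B M]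
  {K : Type u} [Field K] [Algebra A K] {ι : Type u} [Fintype ι] [DecidableEq ι]
  (b : Module.Basis ι K (K ⊗[A] M))

/-- The action in coordinates of the generic fibre. -/
noncomputable def phi : B →ₐ[A] Matrix ι ι K :=
  ((LinearMap.toMatrixAlgEquiv b).toAlgHom.restrictScalars A).comp
    ((Module.End.baseChangeHom A K M).comp (Algebra.lsmul A A M))

lemma phi_apply (x : B) (i k : ι) :
    phi b x i k = b.repr ((Algebra.lsmul A A M x).baseChange K (b k)) i := by
  simp [phi, LinearMap.toMatrixAlgEquiv_apply]
  rfl

section R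

variable (R : Type u) [CommRing R] [Algebra A R]

/-- The action over a test algebra, in coordinates. -/
noncomputable def psi : R ⊗[A] B →ₐ[A] Matrix ι ι (R ⊗[A] K) :=
  Algebra.TensorProduct.lift (((Algebra.ofId (R ⊗[A] K) (Matrix ι ι (R ⊗[A] K))).restrictScalars A).comp
      Algebra.TensorProduct.includeLeft)
    ((Algebra.TensorProduct.includeRight : K →ₐ[A] R ⊗[A] K).mapMatrix.comp (phi b))
    (fun r _ => Algebra.commute_algebraMap_left _ _)

/-- The value with generic coefficients. -/
noncomputable def dval (x : R ⊗[A] B) : R ⊗[A] K := (psi b R x).det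

lemma psi_tmul (r : R) (x : B) (i k : ι) : psi b R (r ⊗ₜ[A] x) i k = r ⊗ₜ[A] phi b x i k := by
  simp [psi, Matrix.algebraMap_eq_diagonal, Matrix.diagonal_mul]

lemma psi_map {R' : Type u} [CommRing R'] [Algebra A R'] (φ : R →ₐ[A] R') (x : R ⊗[A] B) :
    psi b R' (tmap φ B x) = (Algebra.TensorProduct.map φ (AlgHom.id A K)).mapMatrix (psi b R x) := by
  induction x using TensorProduct.induction_on with
  | zero => simp
  | tmul r x => ext i k; simp [psi_tmul]
  | add x y hx hy => simp only [map_add, hx, hy]

lemma dval_map {R' : Type u} [CommRing R'] [Algebra A R'] (φ : R →ₐ[A] R') (x : R ⊗[A] B) :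
    dval b R' (tmap φ B x) = Algebra.TensorProduct.map φ (AlgHom.id A K) (dval b R x) := by
  rw [dval, dval, psi_map, AlgHom.map_det]

lemma dval_one : dval (B := B) b R 1 = 1 := by rw [dval, map_one, Matrix.det_one]

lemma dval_mul (x y : R ⊗[A] B) : dval b R (x * y) = dval b R x * dval b R y := by
  rw [dval, map_mul, Matrix.det_mul]; rfl

lemma psi_smul (r : R) (x : R ⊗[A] B) : psi b R (r • x) = (r ⊗ₜ[A] (1 : K)) • psi b R x := by
  induction x using TensorProduct.induction_on with
  | zero => simp
  | tmul s x => ext i k; simp [TensorProduct.smul_tmul', psi_tmul, Matrix.smul_apply]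
  | add x y hx hy => simp only [smul_add, map_add, hx, hy]

lemma dval_smul (r : R) (x : R ⊗[A] B) :
    dval b R (r • x) = (r ⊗ₜ[A] (1 : K)) ^ Fintype.card ι * dval b R x := by
  rw [dval, psi_smul, Matrix.det_smul]; rfl

end R

section L

variable {L : Type u} [Field L] [Algebra A L] [Algebra K L] [IsScalarTower A K L]

/-- Evaluation of coefficients in a field over `K`. -/
noncomputable def mu {R : Type u} [CommRing R] [Algebra A R] (φ : R →ₐ[A] L) : R ⊗[A] K →ₐ[A] L :=
  Algebra.TensorProduct.lift φ (IsScalarTower.toAlgHom A K L) fun _ _ => Commute.all _ _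

lemma actEnd_det_eq {R : Type u} [CommRing R] [Algebra A R] (φ : R →ₐ[A] L) (x : R ⊗[A] B) :
    LinearMap.det (PolLaw.actEnd M L (tmap φ B x)) = mu φ (dval b R x) := by
  let e : L ⊗[K] (K ⊗[A] M) ≃ₗ[L] L ⊗[A] M := TensorProduct.AlgebraTensorModule.cancelBaseChange A K L L M
  let bL : Module.Basis ι L (L ⊗[A] M) := (b.baseChange L).map e
  rw [← LinearMap.det_toMatrix bL, dval, AlgHom.map_det]
  congr 1
  induction x using TensorProduct.induction_on with
  | zero => simp
  | tmul r x =>
    ext i k
    rw [AlgHom.mapMatrix_apply, Matrix.map_apply, psi_tmul, mu, Algebra.TensorProduct.lift_tmul,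
      IsScalarTower.coe_toAlgHom', Algebra.TensorProduct.map_tmul, AlgHom.id_apply, LinearMap.toMatrix_apply,
      phi_apply]
    simp only [bL, Module.Basis.map_apply, Module.Basis.baseChange_apply]
    have key : ∀ w : K ⊗[A] M, PolLaw.actEnd M L (φ r ⊗ₜ[A] x) (e ((1 : L) ⊗ₜ[K] w)) =
        φ r • e ((1 : L) ⊗ₜ[K] ((Algebra.lsmul A A M x).baseChange K w)) := by
      intro w
      induction w using TensorProduct.induction_on with
      | zero => simp
      | tmul c m =>
        simp [e, TensorProduct.smul_tmul', Algebra.lsmul_coe, mul_comm]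
      | add u v hu hv => simp only [map_add, TensorProduct.tmul_add, smul_add, hu, hv]
    rw [key, map_smul, Finsupp.smul_apply, Module.Basis.map_repr, LinearEquiv.trans_apply,
      LinearEquiv.symm_apply_apply, Module.Basis.baseChange_repr_tmul, smul_eq_mul, Algebra.smul_def, mul_one]
  | add x y hx hy => simp only [map_add, hx, hy]

end L

section Main

variable [IsDomain A]

lemma exists_clear {P : Type u} [CommRing P] [Algebra A P] (z : P ⊗[A] FractionRing A) :
    ∃ s : A, s ≠ 0 ∧ ∃ p : P, ((1 : P) ⊗ₜ[A] algebraMap A (FractionRing A) s) * z = p ⊗ₜ[A] (1 : FractionRing A) := by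
  induction z using TensorProduct.induction_on with
  | zero => exact ⟨1, one_ne_zero, 0, by simp⟩
  | tmul p c =>
    obtain ⟨⟨a, s⟩, hs⟩ := IsLocalization.surj (nonZeroDivisors A) c
    refine ⟨s, nonZeroDivisors.ne_zero s.2, a • p, ?_⟩
    rw [Algebra.TensorProduct.tmul_mul_tmul, one_mul, mul_comm, hs, Algebra.algebraMap_eq_smul_one,
      TensorProduct.smul_tmul]
  | add x y hx hy =>
    obtain ⟨s, hs, p, hp⟩ := hx
    obtain ⟨t, ht, q, hq⟩ := hy
    refine ⟨s * t, mul_ne_zero hs ht, t • p + s • q, ?_⟩
    have h1 : ((1 : P) ⊗ₜ[A] algebraMap A (FractionRing A) t) * (((1 : P) ⊗ₜ[A] algebraMap A (FractionRing A) s) * x) =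
        (t • p) ⊗ₜ[A] (1 : FractionRing A) := by
      rw [hp, Algebra.TensorProduct.tmul_mul_tmul, one_mul, mul_one, Algebra.algebraMap_eq_smul_one,
        TensorProduct.smul_tmul]
    have h2 : ((1 : P) ⊗ₜ[A] algebraMap A (FractionRing A) s) * (((1 : P) ⊗ₜ[A] algebraMap A (FractionRing A) t) * y) =
        (s • q) ⊗ₜ[A] (1 : FractionRing A) := by
      rw [hq, Algebra.TensorProduct.tmul_mul_tmul, one_mul, mul_one, Algebra.algebraMap_eq_smul_one,
        TensorProduct.smul_tmul]
    rw [TensorProduct.add_tmul, ← h1, ← h2, ← mul_assoc, ← mul_assoc, Algebra.TensorProduct.tmul_mul_tmul,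
      Algebra.TensorProduct.tmul_mul_tmul, one_mul, ← map_mul, ← map_mul, mul_comm t s, ← mul_add]

lemma mu_injective {P : Type u} [CommRing P] [Algebra A P] {L : Type u} [Field L] [Algebra A L]
    [Algebra (FractionRing A) L] [IsScalarTower A (FractionRing A) L] (φ : P →ₐ[A] L) (hφ : Function.Injective φ) :
    Function.Injective (mu (K := FractionRing A) φ) := by
  rw [injective_iff_map_eq_zero]
  intro z hz
  obtain ⟨s, hs, p, hp⟩ := exists_clear z
  have hp0 : p = 0 := by
    apply hφ
    have := congrArg (mu (K := FractionRing A) φ) hp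
    rw [map_mul, hz, mul_zero] at this
    simpa [mu] using this.symm
  rw [hp0, TensorProduct.zero_tmul] at hp
  have hu : IsUnit ((1 : P) ⊗ₜ[A] algebraMap A (FractionRing A) s) :=
    ((IsFractionRing.to_map_ne_zero_of_mem_nonZeroDivisors (mem_nonZeroDivisors_of_ne_zero hs)).isUnit).map
      (Algebra.TensorProduct.includeRight : FractionRing A →ₐ[A] P ⊗[A] FractionRing A)
  exact hu.mul_right_eq_zero.mp hp

lemma isIntegral_det [Module.Finite A M] {P : Type u} [CommRing P] [Algebra A P] {L : Type u} [Field L]
    [Algebra A L] [Algebra P L] [IsScalarTower A P L] (x : P ⊗[A] B) :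
    IsIntegral P (LinearMap.det (PolLaw.actEnd M L (tmap (IsScalarTower.toAlgHom A P L) B x))) := by
  let φ := IsScalarTower.toAlgHom A P L
  obtain ⟨p, hp, hpu⟩ := LinearMap.exists_monic_and_aeval_eq_zero P (PolLaw.actEnd M P x)
  let y := Polynomial.aeval x p
  have hy : PolLaw.actEnd M P y = 0 := by
    rw [← Polynomial.aeval_algHom_apply]
    exact hpu
  have hy' : PolLaw.actEnd M L (tmap φ B y) = 0 := by
    refine LinearMap.ext fun z => ?_
    induction z using TensorProduct.induction_on with
    | zero => simp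
    | tmul l m =>
      have h := PolLaw.rTensor_actEnd M φ y ((1 : P) ⊗ₜ[A] m)
      rw [hy, LinearMap.zero_apply, map_zero, LinearMap.rTensor_tmul, AlgHom.toLinearMap_apply, map_one] at h
      rw [show l ⊗ₜ[A] m = l • ((1 : L) ⊗ₜ[A] m) by rw [TensorProduct.smul_tmul', smul_eq_mul, mul_one],
        map_smul, ← h]
      simp
    | add u v hu hv => simp only [map_add, hu, hv, LinearMap.zero_apply, add_zero]
  have hy'' : ∀ p : Polynomial P,
      tmap φ B (Polynomial.aeval x p) = Polynomial.aeval (tmap φ B x) (p.map (algebraMap P L)) := by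
    intro p
    induction p using Polynomial.induction_on' with
    | add p q hp' hq' => simp only [map_add, Polynomial.map_add, hp', hq']
    | monomial k r =>
      simp only [Polynomial.map_monomial, Polynomial.aeval_monomial, map_mul, map_pow]
      rfl
  rw [hy'', ← Polynomial.aeval_algHom_apply] at hy'
  rw [LinearMap.det_eq_sign_charpoly_coeff]
  exact ((isIntegral_one.neg).pow _).mul
    (Groth.Ega2Proj.isIntegral_charpoly_coeff_of_annihilated _ p hp hy' 0)

variable [IsIntegrallyClosed A] [Module.Finite A M]
  (b : Module.Basis ι (FractionRing A) (FractionRing A ⊗[A] M))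

lemma exists_val (n : ℕ) (x : MvPolynomial (Fin n) A ⊗[A] B) :
    ∃ p : MvPolynomial (Fin n) A, p ⊗ₜ[A] (1 : FractionRing A) = dval b _ x := by
  let P := MvPolynomial (Fin n) A
  let L := FractionRing P
  let φ : P →ₐ[A] L := IsScalarTower.toAlgHom A P L
  have hφ : Function.Injective φ := IsFractionRing.injective P L
  have : FaithfulSMul A L := (faithfulSMul_iff_algebraMap_injective A L).mpr (by
    rw [IsScalarTower.algebraMap_eq A P L]
    exact hφ.comp (MvPolynomial.C_injective (Fin n) A))
  letI : Algebra (FractionRing A) L := FractionRing.liftAlgebra A L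
  have := isIntegrallyClosed_mvPoly A n
  have hint := isIntegral_det (M := M) (L := L) x
  rw [actEnd_det_eq b φ x] at hint
  obtain ⟨p, hp⟩ := IsIntegrallyClosed.isIntegral_iff.mp hint
  refine ⟨p, mu_injective φ hφ ?_⟩
  rw [← hp, mu, Algebra.TensorProduct.lift_tmul, map_one, mul_one]
  rfl

omit [IsIntegrallyClosed A] [Module.Finite A M] in
lemma includeLeft_injective (P : Type u) [CommRing P] [Algebra A P] [Module.Flat A P] :
    Function.Injective (fun p : P => p ⊗ₜ[A] (1 : FractionRing A)) := by
  intro p q h
  apply (TensorProduct.rid A P).symm.injective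
  apply Module.Flat.lTensor_preserves_injective_linearMap (M := P) (Algebra.linearMap A (FractionRing A))
    (IsFractionRing.injective A (FractionRing A))
  simpa [LinearMap.lTensor_tmul] using h

/-- The members of the law over polynomial rings. -/
noncomputable def T (n : ℕ) (x : MvPolynomial (Fin n) A ⊗[A] B) : MvPolynomial (Fin n) A ⊗[A] A :=
  (exists_val b n x).choose ⊗ₜ[A] (1 : A)

lemma T_eq (n : ℕ) (x : MvPolynomial (Fin n) A ⊗[A] B) (p : MvPolynomial (Fin n) A)
    (hp : p ⊗ₜ[A] (1 : FractionRing A) = dval b _ x) : T b n x = p ⊗ₜ[A] (1 : A) := by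
  rw [T, includeLeft_injective _ ((exists_val b n x).choose_spec.trans hp.symm)]

lemma compat_T : Restrict.Compat (T (B := B) b) := by
  intro n m φ
  funext x
  simp only [Function.comp_apply]
  obtain ⟨p, hp⟩ := exists_val b n x
  rw [T_eq b n x p hp, LinearMap.rTensor_tmul, rTensor_eq_tmap, T_eq b m _ (φ p) ?_]
  · rfl
  rw [dval_map, ← hp, Algebra.TensorProduct.map_tmul, AlgHom.id_apply]

lemma T_one (n : ℕ) : T (B := B) b n 1 = 1 := by
  rw [T_eq b n 1 1 (by rw [dval_one]; rfl)]
  rfl

lemma T_mul (n : ℕ) (x y : MvPolynomial (Fin n) A ⊗[A] B) : T b n (x * y) = T b n x * T b n y := by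
  obtain ⟨p, hp⟩ := exists_val b n x
  obtain ⟨q, hq⟩ := exists_val b n y
  rw [T_eq b n x p hp, T_eq b n y q hq, T_eq b n (x * y) (p * q) ?_, Algebra.TensorProduct.tmul_mul_tmul, mul_one]
  rw [dval_mul, ← hp, ← hq, Algebra.TensorProduct.tmul_mul_tmul, mul_one]

lemma T_smul (n : ℕ) (r : MvPolynomial (Fin n) A) (x : MvPolynomial (Fin n) A ⊗[A] B) :
    T b n (r • x) = r ^ Fintype.card ι • T b n x := by
  obtain ⟨p, hp⟩ := exists_val b n x
  rw [T_eq b n x p hp, T_eq b n (r • x) (r ^ Fintype.card ι * p) ?_, TensorProduct.smul_tmul', smul_eq_mul]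
  rw [dval_smul, ← hp, Algebra.TensorProduct.tmul_pow, one_pow, Algebra.TensorProduct.tmul_mul_tmul, mul_one]

/-- The determinant law. -/
noncomputable def law {d : ℕ} (hd : Fintype.card ι = d) : PolLaw.MulLaw A B A d where
  law := Restrict.extendLaw (compat_T b)
  homog S _ _ s x := by
    obtain ⟨n, ψ, p, q, rfl, rfl⟩ := PolynomialLaw.exists_lift' (R := A) x s
    set G := Restrict.extendLaw (compat_T (B := B) b)
    have h := G.isCompat' ψ
    have h1 := congrFun h (q • p)
    have h2 := congrFun h p
    simp only [Function.comp_apply] at h1 h2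
    rw [rTensor_eq_tmap, rTensor_eq_tmap, tmap_smul, Restrict.extendLaw_spec, T_smul, tmap_smul, map_pow,
      hd] at h1
    rw [rTensor_eq_tmap, rTensor_eq_tmap, Restrict.extendLaw_spec] at h2
    rw [h2] at h1
    rw [rTensor_eq_tmap]
    exact h1.symm
  mult S _ _ := by
    let _i : CommRing S := { Algebra.semiringToRing A (A := S), ‹CommSemiring S› with }
    refine Restrict.multiplicative _ (fun n => ?_) (fun n x y => ?_) S
    · rw [Restrict.extendLaw_spec, T_one]
    · rw [Restrict.extendLaw_spec, T_mul]

variable (A B M) in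
theorem existsUnique_law [Module.Finite A M] (d : ℕ)
    (hd : Module.finrank (FractionRing A) (FractionRing A ⊗[A] M) = d) :
    ∃! N : PolLaw.MulLaw A B A d, ∀ (n : ℕ) (x : MvPolynomial (Fin n) A ⊗[A] B),
      algebraMap (MvPolynomial (Fin n) A) (FractionRing (MvPolynomial (Fin n) A))
          (TensorProduct.rid A (MvPolynomial (Fin n) A) (N.law.toFun' (MvPolynomial (Fin n) A) x)) =
        LinearMap.det (PolLaw.actEnd M (FractionRing (MvPolynomial (Fin n) A))
          (Algebra.TensorProduct.map
            (IsScalarTower.toAlgHom A (MvPolynomial (Fin n) A) (FractionRing (MvPolynomial (Fin n) A)))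
            (AlgHom.id A B) x)) := by
  classical
  let b := Module.Free.chooseBasis (FractionRing A) (FractionRing A ⊗[A] M)
  have hcard : Fintype.card (Module.Free.ChooseBasisIndex (FractionRing A) (FractionRing A ⊗[A] M)) = d := by
    rw [← Module.finrank_eq_card_chooseBasisIndex, hd]
  refine ⟨law b hcard, fun n x => ?_, fun N hN => ?_⟩
  · let P := MvPolynomial (Fin n) A
    let L := FractionRing P
    let φ : P →ₐ[A] L := IsScalarTower.toAlgHom A P L
    have hφ : Function.Injective φ := IsFractionRing.injective P L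
    have : FaithfulSMul A L := (faithfulSMul_iff_algebraMap_injective A L).mpr (by
      rw [IsScalarTower.algebraMap_eq A P L]
      exact hφ.comp (MvPolynomial.C_injective (Fin n) A))
    letI : Algebra (FractionRing A) L := FractionRing.liftAlgebra A L
    obtain ⟨p, hp⟩ := exists_val b n x
    show algebraMap P L (TensorProduct.rid A P ((Restrict.extendLaw (compat_T b)).toFun' P x)) =
      LinearMap.det (PolLaw.actEnd M L (tmap φ B x))
    rw [Restrict.extendLaw_spec, T_eq b n x p hp, actEnd_det_eq b φ x, ← hp, mu, Algebra.TensorProduct.lift_tmul,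
      map_one, mul_one, TensorProduct.rid_tmul, one_smul]
    rfl
  · have : N.law = (law b hcard).law := by
      refine Restrict.law_ext _ _ fun n => funext fun x => ?_
      apply (TensorProduct.rid A (MvPolynomial (Fin n) A)).injective
      apply IsFractionRing.injective (MvPolynomial (Fin n) A) (FractionRing (MvPolynomial (Fin n) A))
      let P := MvPolynomial (Fin n) A
      let L := FractionRing P
      let φ : P →ₐ[A] L := IsScalarTower.toAlgHom A P L
      have hφ : Function.Injective φ := IsFractionRing.injective P L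
      have : FaithfulSMul A L := (faithfulSMul_iff_algebraMap_injective A L).mpr (by
        rw [IsScalarTower.algebraMap_eq A P L]
        exact hφ.comp (MvPolynomial.C_injective (Fin n) A))
      letI : Algebra (FractionRing A) L := FractionRing.liftAlgebra A L
      obtain ⟨p, hp⟩ := exists_val b n x
      rw [hN]
      show LinearMap.det (PolLaw.actEnd M L (tmap φ B x)) =
        algebraMap P L (TensorProduct.rid A P ((Restrict.extendLaw (compat_T b)).toFun' P x))
      rw [Restrict.extendLaw_spec, T_eq b n x p hp, actEnd_det_eq b φ x, ← hp, mu, Algebra.TensorProduct.lift_tmul,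
        map_one, mul_one, TensorProduct.rid_tmul, one_smul]
      rfl
    cases N
    simp only at this
    subst this
    rfl

end Main

end Groth.Cycles.NormalDet
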