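import Groth.Agent.Cycles.QuotUnivHomeo
import Groth.Agent.FlatMor2.Weighting.FlatLength
import Mathlib.AlgebraicGeometry.Morphisms.FlatRank
import Mathlib.FieldTheory.PurelyInseparable.Tower
import Mathlib.FieldTheory.Galois.Basic
import Mathlib.RingTheory.Etale.Field

/-! The projection from a base change by a finite normal field extension. -/

set_option autoImplicit false
set_option backward.isDefEq.respectTransparency false

universe u

open CategoryTheory CategoryTheory.Limits AlgebraicGeometry IsLocalRing Groth.FlatMor2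

namespace Groth.Cycles.NormalBC

theorem isPurelyInseparable_fixedField (k k' : Type u) [Field k] [Field k'] [Algebra k k'] [FiniteDimensional k k']
    [Normal k k'] : IsPurelyInseparable k (IntermediateField.fixedField (⊤ : Subgroup Gal(k'/k))) := by
  refine ⟨inferInstance, fun x hx => ?_⟩
  have hfix : ∀ σ : Gal(k'/k), σ (x : k') = x := fun σ => x.2 ⟨σ, Subgroup.mem_top σ⟩
  have hm : minpoly k (x : k') = minpoly k x :=
    minpoly.algebraMap_eq (IntermediateField.fixedField (⊤ : Subgroup Gal(k'/k))).val.injective x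
  have hroot : (minpoly k x).rootSet k' ⊆ {(x : k')} := by
    intro y hy
    rw [Polynomial.mem_rootSet_of_ne (minpoly.ne_zero (Algebra.IsIntegral.isIntegral x))] at hy
    have h1 : minpoly k y = minpoly k (x : k') := by
      rw [hm]
      exact (minpoly.eq_of_irreducible_of_monic (minpoly.irreducible (Algebra.IsIntegral.isIntegral x)) hy
        (minpoly.monic (Algebra.IsIntegral.isIntegral x))).symm
    obtain ⟨σ, hσ⟩ := (Normal.minpoly_eq_iff_mem_orbit k').1 h1
    exact hσ.symm.trans (hfix σ)
  have hsplit : ((minpoly k x).map (algebraMap k k')).Splits := by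
    rw [← hm]
    exact Normal.splits inferInstance _
  have hcard := Polynomial.card_rootSet_eq_natDegree (K := k') hx hsplit
  have hle : (minpoly k x).natDegree ≤ 1 := by
    rw [← hcard]
    exact (Set.card_le_card hroot).trans (by simp)
  have hpos := minpoly.natDegree_pos (A := k) (Algebra.IsIntegral.isIntegral x)
  exact minpoly.natDegree_eq_one_iff.1 (le_antisymm hle hpos)

variable (k k' : Type u) [Field k] [Field k'] [Algebra k k']

theorem universallyInjective_specMap [IsPurelyInseparable k k'] :
    UniversallyInjective (Spec.map (CommRingCat.ofHom (algebraMap k k'))) := by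
  refine Groth.Cycles.QuotUH.universallyInjective_of_fieldPoint (𝟙 _) _ fun K _ a b hab => ?_
  simp only [Category.id_comp] at hab
  obtain ⟨φ, rfl⟩ := Spec.map_surjective a
  obtain ⟨ψ, rfl⟩ := Spec.map_surjective b
  rw [← Spec.map_comp, ← Spec.map_comp] at hab
  have h := Spec.map_injective hab
  congr 2
  obtain ⟨q, hq⟩ := ExpChar.exists k
  haveI : ExpChar K q := expChar_of_injective_ringHom (φ.hom.comp (algebraMap k k')).injective q
  refine CommRingCat.hom_ext (RingHom.ext fun x => ?_)
  obtain ⟨n, c, hc⟩ := IsPurelyInseparable.pow_mem k q x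
  apply (iterateFrobenius K q n).injective
  rw [iterateFrobenius_def, iterateFrobenius_def, ← map_pow, ← map_pow, ← hc]
  exact RingHom.congr_fun (congrArg CommRingCat.Hom.hom h) c

variable [FiniteDimensional k k'] [Normal k k'] {X : Scheme.{u}} (f : X ⟶ Spec (CommRingCat.of k))

/-- fibres are orbits, lengths are constant along them and divide the inseparable degree -/
theorem exists_mult :
    ∃ e : X → ℕ, (∀ x, 0 < e x ∧ e x ∣ Field.finInsepDegree k k') ∧
      (∀ x' : ↥(pullback f (Spec.map (CommRingCat.ofHom (algebraMap k k')))),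
        fibLength (pullback.fst f (Spec.map (CommRingCat.ofHom (algebraMap k k')))) x' =
          e (pullback.fst f (Spec.map (CommRingCat.ofHom (algebraMap k k'))) x')) ∧
      ∀ a b : ↥(pullback f (Spec.map (CommRingCat.ofHom (algebraMap k k')))),
        pullback.fst f (Spec.map (CommRingCat.ofHom (algebraMap k k'))) a =
          pullback.fst f (Spec.map (CommRingCat.ofHom (algebraMap k k'))) b →
        ∃ (σ : k' ≃ₐ[k] k') (t : pullback f (Spec.map (CommRingCat.ofHom (algebraMap k k'))) ⟶
            pullback f (Spec.map (CommRingCat.ofHom (algebraMap k k')))),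
          t ≫ pullback.fst f _ = pullback.fst f _ ∧
          t ≫ pullback.snd f _ = pullback.snd f _ ≫ Spec.map (CommRingCat.ofHom σ.toAlgHom.toRingHom) ∧
          t.base a = b := by
  classical
  let kI := IntermediateField.fixedField (⊤ : Subgroup Gal(k'/k))
  haveI : IsPurelyInseparable k kI := isPurelyInseparable_fixedField k k'
  haveI : IsGalois kI k' := IsGalois.of_fixed_field k' (⊤ : Subgroup Gal(k'/k))
  have hdeg : Field.finInsepDegree k k' = Module.finrank k kI := by
    rw [← Field.finInsepDegree_mul_finInsepDegree_of_isAlgebraic k kI k',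
      Algebra.IsSeparable.finInsepDegree_eq kI k', mul_one, IsPurelyInseparable.finInsepDegree_eq k kI]
  let g := Spec.map (CommRingCat.ofHom (algebraMap k k'))
  let g₁ := Spec.map (CommRingCat.ofHom (algebraMap k kI))
  let g₂ := Spec.map (CommRingCat.ofHom (algebraMap kI k'))
  have hg : g₂ ≫ g₁ = g := by
    rw [← Spec.map_comp, ← CommRingCat.ofHom_comp, ← IsScalarTower.algebraMap_eq]
  haveI : IsFinite g₁ := (IsFinite.SpecMap_iff _).2 (RingHom.finite_algebraMap.2 inferInstance)
  haveI : Flat g₁ := inferInstance
  haveI : Surjective g₁ := ⟨fun z => ⟨default, Subsingleton.elim _ _⟩⟩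
  haveI := universallyInjective_specMap k kI
  haveI : Algebra.FormallyEtale kI k' := Algebra.FormallyEtale.of_isSeparable kI k'
  haveI : Algebra.FinitePresentation kI k' := Algebra.FinitePresentation.of_finiteType.1 inferInstance
  haveI : Algebra.Etale kI k' := {}
  haveI : Etale g₂ := (HasRingHomProperty.Spec_iff (P := @Etale)).2 (RingHom.etale_algebraMap.2 inferInstance)
  let π := pullback.fst f g
  let π₁ := pullback.fst f g₁
  let a : pullback f g ⟶ pullback f g₁ :=
    pullback.lift π (pullback.snd f g ≫ g₂) (by rw [Category.assoc, hg, pullback.condition])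
  have ha₁ : a ≫ π₁ = π := pullback.lift_fst _ _ _
  have hsq : IsPullback a (pullback.snd f g) (pullback.snd f g₁) g₂ := by
    refine IsPullback.of_right (h₁₂ := pullback.fst f g₁) (v₁₃ := f) (h₂₂ := g₁) ?_
      (pullback.lift_snd _ _ _) (IsPullback.of_hasPullback f g₁)
    rw [pullback.lift_fst, hg]
    exact IsPullback.of_hasPullback f g
  haveI : Etale a := MorphismProperty.of_isPullback (P := @Etale) hsq.flip inferInstance
  haveI : UniversallyInjective π₁ :=
    MorphismProperty.pullback_fst (P := @UniversallyInjective) _ _ inferInstance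
  haveI : Surjective π₁ := MorphismProperty.pullback_fst (P := @Surjective) _ _ inferInstance
  haveI : IsFinite π₁ := MorphismProperty.pullback_fst (P := @IsFinite) _ _ inferInstance
  haveI : Flat π₁ := inferInstance
  have hinj : Function.Injective π₁ := π₁.injective
  have hsec : ∀ x, ∃ x₁, π₁ x₁ = x := π₁.surjective
  choose sec hsec using hsec
  -- length times residue degree is the degree
  have hmul : ∀ x₁ : ↥(pullback f g₁), ∃ L : ℕ, fibLength π₁ x₁ = L ∧ 0 < L ∧ L ∣ Module.finrank k kI := by
    intro x₁
    let T := π₁.fiber (π₁ x₁)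
    let c := π₁.fiberToSpecResidueField (π₁ x₁)
    haveI : IsFinite c := MorphismProperty.pullback_snd (P := @IsFinite) _ _ inferInstance
    haveI : Subsingleton T := ⟨fun s t => (π₁.fiberι (π₁ x₁)).isEmbedding.injective (hinj (by
      have hs : π₁ (π₁.fiberι (π₁ x₁) s) = π₁ x₁ := (π₁.range_fiberι _).le ⟨s, rfl⟩
      have ht : π₁ (π₁.fiberι (π₁ x₁) t) = π₁ x₁ := (π₁.range_fiberι _).le ⟨t, rfl⟩
      rw [hs, ht]))⟩
    let t := π₁.asFiber x₁
    have h := finsum_length_mul_residueDegree c default
    rw [finsum_eq_single _ t fun s hs => (hs (Subsingleton.elim s t)).elim] at h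
    have hc : c.finrank default = Module.finrank k kI := by
      show Scheme.Hom.finrank (pullback.snd π₁ _) default = _
      rw [Scheme.Hom.finrank_pullback_snd, Scheme.Hom.finrank_pullback_fst, Scheme.Hom.finrank_SpecMap_algebraMap]
      exact congrFun Module.rankAtStalk_eq_finrank_of_free _
    rw [hc, fibLength_asFiber, π₁.fiberι_asFiber] at h
    have hpos : 0 < Module.finrank k kI := Module.finrank_pos
    refine ⟨(fibLength π₁ x₁).toNat, ?_, ?_, ⟨_, h.symm⟩⟩
    · refine (ENat.coe_toNat fun htop => ?_).symm
      rw [htop, ENat.toNat_top, zero_mul] at h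
      omega
    · rcases Nat.eq_zero_or_pos (fibLength π₁ x₁).toNat with h0 | h0
      · rw [h0, zero_mul] at h; omega
      · exact h0
  choose L hL hLpos hLdvd using hmul
  refine ⟨fun x => L (sec x), fun x => ⟨hLpos _, hdeg ▸ hLdvd _⟩, fun x' => ?_, fun p₁ p₂ hp => ?_⟩
  · have h1 := fibLength_of_etale (q := a) (p := π) (g := 𝟙 X) (f := π₁) (by rw [ha₁, Category.comp_id]) x'
    show fibLength π x' = ((L (sec (π x')) : ℕ) : ℕ∞)
    rw [h1, hL, show sec (π x') = a x' from hinj (by rw [hsec, ← ha₁, Scheme.Hom.comp_apply])]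
  · have hap : a p₁ = a p₂ := hinj (by
      rw [← Scheme.Hom.comp_apply, ← Scheme.Hom.comp_apply, ha₁]
      exact hp)
    obtain ⟨w, hw₁, hw₂⟩ := Scheme.Pullback.exists_preimage_pullback (f := a) (g := a) p₁ p₂ hap
    let φ := (pullback a a).fromSpecResidueField w
    let ξ := φ ≫ pullback.fst a a
    let ξ' := φ ≫ pullback.snd a a
    obtain ⟨u, hu⟩ := Spec.map_surjective (ξ ≫ pullback.snd f g)
    obtain ⟨v, hv⟩ := Spec.map_surjective (ξ' ≫ pullback.snd f g)
    have hξ : ξ ≫ a = ξ' ≫ a := by simp only [ξ, ξ', Category.assoc, pullback.condition]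
    have huv : CommRingCat.ofHom (algebraMap kI k') ≫ u = CommRingCat.ofHom (algebraMap kI k') ≫ v := by
      apply Spec.map_injective
      rw [Spec.map_comp, Spec.map_comp, hu, hv, Category.assoc, Category.assoc]
      have := hξ =≫ pullback.snd f g₁
      have has : a ≫ pullback.snd f g₁ = pullback.snd f g ≫ g₂ := pullback.lift_snd _ _ _
      simp only [ξ, ξ', g₂, Category.assoc, has] at this ⊢
      exact this
    obtain ⟨σ, hσ⟩ := Groth.Pi1Quot.exists_comp_smul_eq u.hom v.hom fun c hc =>
      RingHom.congr_fun (congrArg CommRingCat.Hom.hom huv) (⟨c, fun τ => hc τ.1⟩ : kI)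
    have hgσ : Spec.map (CommRingCat.ofHom σ.toAlgHom.toRingHom) ≫ g = g := by
      rw [← Spec.map_comp, ← CommRingCat.ofHom_comp]
      congr 2
      exact σ.toAlgHom.comp_algebraMap
    let t : pullback f g ⟶ pullback f g :=
      pullback.lift π (pullback.snd f g ≫ Spec.map (CommRingCat.ofHom σ.toAlgHom.toRingHom))
        (by rw [Category.assoc, hgσ, pullback.condition])
    refine ⟨σ, t, pullback.lift_fst _ _ _, pullback.lift_snd _ _ _, ?_⟩
    have hv' : CommRingCat.ofHom σ.toAlgHom.toRingHom ≫ u = v :=
      CommRingCat.hom_ext (RingHom.ext fun c => (hσ c).symm)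
    have key : ξ ≫ t = ξ' := by
      apply pullback.hom_ext
      · rw [Category.assoc, pullback.lift_fst]
        show ξ ≫ π = ξ' ≫ π
        rw [← ha₁, ← Category.assoc, hξ, Category.assoc]
      · rw [Category.assoc, pullback.lift_snd, ← Category.assoc, ← hu, ← Spec.map_comp, hv', hv]
    have h := congrArg (fun m => m.base default) key
    simp only [ξ, ξ', φ, Scheme.Hom.comp_apply, Scheme.fromSpecResidueField_apply, hw₁, hw₂] at h
    exact h

end Groth.Cycles.NormalBC
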