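import Groth.Agent.Cycles.PolLawCH

/-!
Base change of multiplicative laws `B → A`, and kernels over polynomial rings.
-/

universe u

open scoped TensorProduct

namespace Groth.Cycles

variable {A : Type u} [CommRing A] {B : Type u} [CommRing B] [Algebra A B] {d : ℕ}
  (F : PolLaw.MulLaw A B A d) (A' : Type u) [CommRing A'] [Algebra A A']

/-- `R ⊗[A'] (A' ⊗[A] B) ≃ R ⊗[A] B`. -/
noncomputable def bcEquiv (R : Type u) [CommSemiring R] [Algebra A R] [Algebra A' R] [IsScalarTower A A' R] :
    R ⊗[A'] (A' ⊗[A] B) ≃ₐ[R] R ⊗[A] B :=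
  Algebra.TensorProduct.cancelBaseChange A A' R R B

/-- The member of the base-changed law on a test algebra. -/
noncomputable def bcVal (R : Type u) [CommSemiring R] [Algebra A R] [Algebra A' R] [IsScalarTower A A' R]
    (x : R ⊗[A'] (A' ⊗[A] B)) : R :=
  Algebra.TensorProduct.rid A A R (F.law.toFun' R (bcEquiv A' R x))

lemma bcVal_one (R : Type u) [CommSemiring R] [Algebra A R] [Algebra A' R] [IsScalarTower A A' R] :
    bcVal F A' R 1 = 1 := by
  simp only [bcVal, map_one]
  rw [(F.mult R).1, map_one]

lemma bcVal_mul (R : Type u) [CommSemiring R] [Algebra A R] [Algebra A' R] [IsScalarTower A A' R]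
    (x y : R ⊗[A'] (A' ⊗[A] B)) : bcVal F A' R (x * y) = bcVal F A' R x * bcVal F A' R y := by
  simp only [bcVal, map_mul]
  rw [(F.mult R).2, map_mul]

lemma bcVal_smul (R : Type u) [CommSemiring R] [Algebra A R] [Algebra A' R] [IsScalarTower A A' R]
    (r : R) (x : R ⊗[A'] (A' ⊗[A] B)) : bcVal F A' R (r • x) = r ^ d * bcVal F A' R x := by
  simp only [bcVal, map_smul]
  rw [F.homog]
  generalize F.law.toFun' R (bcEquiv A' R x) = w
  induction w using TensorProduct.induction_on with
  | zero => simp
  | tmul s a => simp [TensorProduct.smul_tmul', mul_smul_comm]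
  | add u v hu hv => simp [smul_add, map_add, hu, hv, mul_add]

lemma bcVal_nat {R R' : Type u} [CommSemiring R] [Algebra A R] [Algebra A' R] [IsScalarTower A A' R]
    [CommSemiring R'] [Algebra A R'] [Algebra A' R'] [IsScalarTower A A' R'] (φ : R →ₐ[A'] R')
    (x : R ⊗[A'] (A' ⊗[A] B)) :
    φ (bcVal F A' R x) = bcVal F A' R' (tmap φ (A' ⊗[A] B) x) := by
  have h1 : bcEquiv A' R' (tmap φ (A' ⊗[A] B) x) = tmap (φ.restrictScalars A) B (bcEquiv A' R x) := by
    induction x using TensorProduct.induction_on with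
    | zero => simp
    | tmul r y =>
      induction y using TensorProduct.induction_on with
      | zero => simp
      | tmul a b => simp [bcEquiv]
      | add u v hu hv =>
        simp only [TensorProduct.tmul_add, map_add, hu, hv]
    | add u v hu hv => simp only [map_add, hu, hv]
  rw [bcVal, bcVal, h1, ← law_nat]
  generalize F.law.toFun' R (bcEquiv A' R x) = w
  induction w using TensorProduct.induction_on with
  | zero => simp
  | tmul s a =>
    simp only [Algebra.TensorProduct.map_tmul, Algebra.TensorProduct.rid_tmul, AlgHom.id_apply,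
      AlgHom.restrictScalars_apply]
    exact AlgHom.map_smul_of_tower φ a s
  | add u v hu hv => simp [map_add, hu, hv]

section law

attribute [local instance] TensorProduct.leftModule

/-- The composite algebra structure. -/
abbrev compAlgebra (R : Type u) [CommSemiring R] [Algebra A' R] : Algebra A R :=
  ((algebraMap A' R).comp (algebraMap A A')).toAlgebra

omit [Algebra A B] in
lemma compAlgebra_tower (R : Type u) [CommSemiring R] [Algebra A' R] :
    letI := compAlgebra (A := A) A' R
    IsScalarTower A A' R :=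
  letI := compAlgebra (A := A) A' R
  IsScalarTower.of_algebraMap_eq fun _ => rfl

/-- The base change of a multiplicative law `B → A` to `A'`. -/
noncomputable def baseChange : PolLaw.MulLaw A' (A' ⊗[A] B) A' d where
  law :=
    { toFun' := fun R _ _ x =>
        letI := compAlgebra (A := A) A' R
        haveI := compAlgebra_tower (A := A) A' R
        bcVal F A' R x ⊗ₜ[A'] (1 : A')
      isCompat' := fun {R} _ _ {R'} _ _ φ => by
        letI := compAlgebra (A := A) A' R
        haveI := compAlgebra_tower (A := A) A' R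
        letI := compAlgebra (A := A) A' R'
        haveI := compAlgebra_tower (A := A) A' R'
        funext x
        simp only [Function.comp_apply, LinearMap.rTensor_tmul, AlgHom.toLinearMap_apply]
        rw [bcVal_nat, rTensor_eq_tmap] }
  homog R _ _ r x := by
    letI := compAlgebra (A := A) A' R
    haveI := compAlgebra_tower (A := A) A' R
    show bcVal F A' R (r • x) ⊗ₜ[A'] (1 : A') = r ^ d • (bcVal F A' R x ⊗ₜ[A'] (1 : A'))
    rw [bcVal_smul, TensorProduct.smul_tmul', smul_eq_mul]
  mult R _ _ := by
    letI := compAlgebra (A := A) A' R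
    haveI := compAlgebra_tower (A := A) A' R
    refine ⟨?_, fun x y => ?_⟩
    · show bcVal F A' R 1 ⊗ₜ[A'] (1 : A') = 1
      rw [bcVal_one, Algebra.TensorProduct.one_def]
    · show bcVal F A' R (x * y) ⊗ₜ[A'] (1 : A') = (bcVal F A' R x ⊗ₜ[A'] (1 : A')) * (bcVal F A' R y ⊗ₜ[A'] (1 : A'))
      rw [bcVal_mul, Algebra.TensorProduct.tmul_mul_tmul, one_mul]

lemma baseChange_toFun (R : Type u) [CommSemiring R] [iA : Algebra A R] [Algebra A' R] [ht : IsScalarTower A A' R]
    (x : R ⊗[A'] (A' ⊗[A] B)) :
    (baseChange F A').law.toFun' R x = bcVal F A' R x ⊗ₜ[A'] (1 : A') := by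
  obtain rfl : iA = compAlgebra (A := A) A' R := by
    refine Algebra.algebra_ext _ _ fun a => ?_
    exact (IsScalarTower.algebraMap_apply A A' R a)
  rfl

end law

variable {A'}

lemma bcEquiv_one_tmul (R : Type u) [CommSemiring R] [Algebra A R] [Algebra A' R] [IsScalarTower A A' R]
    (z : A' ⊗[A] B) :
    bcEquiv A' R ((1 : R) ⊗ₜ[A'] z) = tmap (IsScalarTower.toAlgHom A A' R) B z := by
  induction z using TensorProduct.induction_on with
  | zero => simp
  | tmul a b => simp [bcEquiv, Algebra.algebraMap_eq_smul_one]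
  | add u v hu hv => simp [TensorProduct.tmul_add, hu, hv]

lemma ker_baseChange : PolLaw.ker (baseChange F A').law = PolLaw.kerBC F.law A' := by
  ext z
  constructor
  · intro hz R _ _ _ _ x w
    have h := hz R ((bcEquiv A' R).symm x) ((bcEquiv A' R).symm w)
    rw [baseChange_toFun, baseChange_toFun] at h
    have h' := congrArg (Algebra.TensorProduct.rid A' A' R) h
    simp only [Algebra.TensorProduct.rid_tmul, one_smul, bcVal, map_add, map_mul, AlgEquiv.apply_symm_apply,
      bcEquiv_one_tmul] at h'
    exact (Algebra.TensorProduct.rid A A R).injective h'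
  · intro hz R _ _ x w
    letI := compAlgebra (A := A) A' R
    haveI := compAlgebra_tower (A := A) A' R
    rw [baseChange_toFun, baseChange_toFun, bcVal, bcVal]
    simp only [map_add, map_mul, bcEquiv_one_tmul]
    rw [hz R]

/-- Membership in `kerBC` is preserved by maps of base rings. -/
lemma map_mem_kerBC {A'' : Type u} [CommRing A''] [Algebra A A''] (φ : A' →ₐ[A] A'') {z : A' ⊗[A] B}
    (hz : z ∈ PolLaw.kerBC F.law A') : tmap φ B z ∈ PolLaw.kerBC F.law A'' := by
  intro R _ _ _ _ x w
  letI : Algebra A' R := ((algebraMap A'' R).comp φ.toRingHom).toAlgebra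
  haveI : IsScalarTower A A' R := IsScalarTower.of_algebraMap_eq fun a => by
    show _ = algebraMap A'' R (φ (algebraMap A A' a))
    rw [φ.commutes, ← IsScalarTower.algebraMap_apply]
  rw [tmap_tmap]
  exact hz R x w

lemma map_ker_le_kerBC :
    (PolLaw.ker F.law).map (Algebra.TensorProduct.includeRight : B →ₐ[A] A' ⊗[A] B) ≤ PolLaw.kerBC F.law A' := by
  rw [Ideal.map_le_iff_le_comap]
  intro b hb R _ _ _ _ x w
  simp only [Algebra.TensorProduct.includeRight_apply, Algebra.TensorProduct.map_tmul, map_one,
    AlgHom.id_apply]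
  exact hb R x w

section poly

open Polynomial

lemma coeff_mem_ker (N : ℕ) : ∀ c : ℕ → B,
    (∑ k ∈ Finset.range N, ((X : A[X]) ^ k) ⊗ₜ[A] c k) ∈ PolLaw.kerBC F.law A[X] →
      ∀ k < N, c k ∈ PolLaw.ker F.law := by
  induction N with
  | zero => intro c _ k hk; omega
  | succ N ih =>
    intro c hz
    set z := ∑ k ∈ Finset.range (N + 1), ((X : A[X]) ^ k) ⊗ₜ[A] c k with hzdef
    have h0 : c 0 ∈ PolLaw.ker F.law := by
      intro S _ _ x w
      letI : Algebra A[X] S := (Polynomial.aeval (0 : S) : A[X] →ₐ[A] S).toRingHom.toAlgebra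
      haveI : IsScalarTower A A[X] S := IsScalarTower.of_algebraMap_eq fun a =>
        ((Polynomial.aeval (0 : S) : A[X] →ₐ[A] S).commutes a).symm
      have h := hz S x w
      have : tmap (IsScalarTower.toAlgHom A A[X] S) B z = (1 : S) ⊗ₜ[A] c 0 := by
        rw [hzdef, map_sum, Finset.sum_eq_single 0]
        · simp
        · intro k _ hk
          rw [Algebra.TensorProduct.map_tmul, map_pow]
          have : IsScalarTower.toAlgHom A A[X] S X = 0 := by
            show (Polynomial.aeval (0 : S)) (X : A[X]) = 0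
            simp
          rw [this, zero_pow hk, TensorProduct.zero_tmul]
        · simp
      rw [this] at h
      exact h
    set z₁ := ∑ k ∈ Finset.range N, ((X : A[X]) ^ k) ⊗ₜ[A] c (k + 1) with hz₁def
    have hsplit : z = (1 : A[X]) ⊗ₜ[A] c 0 + (X : A[X]) • z₁ := by
      rw [hzdef, Finset.sum_range_succ', pow_zero, add_comm, hz₁def, Finset.smul_sum]
      congr 1
      refine Finset.sum_congr rfl fun k _ => ?_
      rw [TensorProduct.smul_tmul', smul_eq_mul, pow_succ']
    have hXz : (X : A[X]) • z₁ ∈ PolLaw.kerBC F.law A[X] := by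
      have := sub_mem hz (map_ker_le_kerBC F (Ideal.mem_map_of_mem _ h0))
      rwa [hsplit, Algebra.TensorProduct.includeRight_apply, add_sub_cancel_left] at this
    have hz₁ : z₁ ∈ PolLaw.kerBC F.law A[X] := by
      rw [mem_kerBC_iff] at hXz ⊢
      intro b
      let ψ : A[X][X] →ₐ[A[X]] A[X][X] := Polynomial.aeval (C (X : A[X]) * X)
      have hψ : Function.Injective ψ := by
        rw [injective_iff_map_eq_zero]
        intro p hp
        ext n : 1
        have hform : ψ p = p.sum fun k a => monomial k (a * (X : A[X]) ^ k) := by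
          show Polynomial.aeval _ p = _
          rw [aeval_def, eval₂_eq_sum]
          refine Finset.sum_congr rfl fun k _ => ?_
          show algebraMap A[X] A[X][X] (p.coeff k) * _ = _
          rw [Polynomial.algebraMap_eq, mul_pow, ← map_pow, ← mul_assoc, ← map_mul, C_mul_X_pow_eq_monomial]
        have hn : (ψ p).coeff n = p.coeff n * (X : A[X]) ^ n := by
          rw [hform, Polynomial.sum, finsetSum_coeff, Finset.sum_eq_single n]
          · simp [coeff_monomial]
          · intro k _ hk
            simp [coeff_monomial, hk]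
          · intro hmem
            simp [notMem_support_iff.mp hmem]
        rw [hp, coeff_zero] at hn
        rw [coeff_zero]
        exact Polynomial.mul_X_pow_eq_zero hn.symm
      have hh := hXz b
      let ψA : A[X][X] →ₐ[A] A[X][X] := ψ.restrictScalars A
      have hψA : ψA.comp (IsScalarTower.toAlgHom A A[X] A[X][X]) = IsScalarTower.toAlgHom A A[X] A[X][X] :=
        AlgHom.ext fun r => ψ.commutes r
      apply (Algebra.TensorProduct.rid A A A[X][X]).injective
      rw [map_one]
      apply hψ
      rw [map_one]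
      have key : tmap ψA A (F.law.toFun' A[X][X]
          (1 + (X : A[X][X]) • tmap (IsScalarTower.toAlgHom A A[X] A[X][X]) B ((1 ⊗ₜ[A] b) * z₁))) = 1 := by
        rw [law_nat, map_add, map_one, tmap_smul, tmap_tmap, hψA]
        have hX : ψA X = (IsScalarTower.toAlgHom A A[X] A[X][X] (X : A[X])) * (X : A[X][X]) := by
          show Polynomial.aeval _ (X : A[X][X]) = _
          rw [aeval_X]
          rfl
        rw [hX, mul_comm, mul_smul, ← tmap_smul, ← mul_smul_comm]
        exact hh
      have e : ∀ w : A[X][X] ⊗[A] A, ψ (Algebra.TensorProduct.rid A A A[X][X] w) =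
          Algebra.TensorProduct.rid A A A[X][X] (tmap ψA A w) := by
        intro w
        induction w using TensorProduct.induction_on with
        | zero => simp
        | tmul q a =>
          simp only [Algebra.TensorProduct.map_tmul, Algebra.TensorProduct.rid_tmul, AlgHom.id_apply]
          exact ψ.map_smul_of_tower a q
        | add u v hu hv => simp [map_add, hu, hv]
      rw [e, key, map_one]
    intro k hk
    rcases k with _ | k
    · exact h0
    · exact ih (fun k => c (k + 1)) hz₁ k (by omega)

end poly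

section support

open Polynomial (X C)

lemma chi_baseChange (z : A' ⊗[A] B) :
    chi (baseChange F A') z = Algebra.TensorProduct.rid A A (Polynomial A') (F.law.toFun' (Polynomial A')
      (tmap (IsScalarTower.toAlgHom A A' (Polynomial A')) B z - (X : Polynomial A') • 1)) := by
  rw [chi, baseChange_toFun]
  simp only [TensorProduct.rid_tmul, one_smul, bcVal, map_sub, bcEquiv_one_tmul]
  congr 3
  simp [bcEquiv, TensorProduct.smul_tmul', Algebra.TensorProduct.one_def]

lemma chi_baseChange_map {A'' : Type u} [CommRing A''] [Algebra A A''] (φ : A' →ₐ[A] A'') (z : A' ⊗[A] B) :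
    chi (baseChange F A'') (tmap φ B z) = (chi (baseChange F A') z).map φ.toRingHom := by
  rw [chi_baseChange, chi_baseChange]
  let ψ : Polynomial A' →ₐ[A] Polynomial A'' := Polynomial.mapAlgHom φ
  have hψ : ψ.comp (IsScalarTower.toAlgHom A A' (Polynomial A')) =
      (IsScalarTower.toAlgHom A A'' (Polynomial A'')).comp φ :=
    AlgHom.ext fun a => Polynomial.map_C φ.toRingHom
  have hX : ψ X = X := Polynomial.map_X φ.toRingHom
  have e : ∀ w : Polynomial A' ⊗[A] A, ψ (Algebra.TensorProduct.rid A A _ w) =
      Algebra.TensorProduct.rid A A _ (tmap ψ A w) := by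
    intro w
    induction w using TensorProduct.induction_on with
    | zero => simp
    | tmul q a =>
      simp only [Algebra.TensorProduct.map_tmul, Algebra.TensorProduct.rid_tmul, AlgHom.id_apply, map_smul]
    | add u v hu hv => simp [map_add, hu, hv]
  show _ = ψ _
  rw [e, law_nat, map_sub, tmap_smul, map_one, hX, tmap_tmap φ, tmap_tmap _ ψ, hψ]

/-- Coefficients of an element of the kernel over a polynomial ring lie in the kernel. -/
lemma mv_coef_mem_ker {n : ℕ} (M : Finset (Fin n →₀ ℕ)) (c : (Fin n →₀ ℕ) → B)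
    (hz : (∑ m ∈ M, (MvPolynomial.monomial m (1 : A)) ⊗ₜ[A] c m) ∈ PolLaw.kerBC F.law (MvPolynomial (Fin n) A))
    {m : Fin n →₀ ℕ} (hm : m ∈ M) : c m ∈ PolLaw.ker F.law := by
  classical
  obtain ⟨N, hN⟩ : ∃ N, ∀ p ∈ M, ∀ i, p i < N :=
    ⟨(M.sup fun p => Finset.univ.sup fun i => p i) + 1, fun p hp i => Nat.lt_succ_of_le
      ((Finset.le_sup (f := fun i => p i) (Finset.mem_univ i)).trans
        (Finset.le_sup (f := fun p : Fin n →₀ ℕ => Finset.univ.sup fun i => p i) hp))⟩
  let code : (Fin n →₀ ℕ) → ℕ := fun p => ∑ i, p i * N ^ (i : ℕ)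
  have hcode : ∀ p ∈ M, ∀ q ∈ M, code p = code q → p = q := by
    intro p hp q hq h
    have h' : finFunctionFinEquiv (fun i => (⟨p i, hN p hp i⟩ : Fin N)) =
        finFunctionFinEquiv (fun i => (⟨q i, hN q hq i⟩ : Fin N)) := Fin.ext (by
      simpa [finFunctionFinEquiv_apply] using h)
    ext i
    exact congrArg Fin.val (congrFun (finFunctionFinEquiv.injective h') i)
  let φ : MvPolynomial (Fin n) A →ₐ[A] Polynomial A := MvPolynomial.aeval fun i : Fin n => (X : Polynomial A) ^ (N ^ (i : ℕ))
  have hφ : ∀ p, φ (MvPolynomial.monomial p (1 : A)) = X ^ code p := by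
    intro p
    rw [MvPolynomial.aeval_monomial, map_one, one_mul, Finsupp.prod_fintype _ _ (fun _ => pow_zero _)]
    simp only [← pow_mul, Finset.prod_pow_eq_pow_sum, code, mul_comm]
  let K := (M.image code).sup id + 1
  have hmem := map_mem_kerBC F φ hz
  have hrew : tmap φ B (∑ p ∈ M, (MvPolynomial.monomial p (1 : A)) ⊗ₜ[A] c p) =
      ∑ k ∈ Finset.range K, ((X : Polynomial A) ^ k) ⊗ₜ[A] (∑ p ∈ M.filter (fun p => code p = k), c p) := by
    rw [map_sum, ← Finset.sum_fiberwise_of_maps_to (g := code) (t := Finset.range K) (fun p hp =>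
      Finset.mem_range.mpr (Nat.lt_succ_of_le (Finset.le_sup (f := id) (Finset.mem_image_of_mem code hp))))]
    refine Finset.sum_congr rfl fun k _ => ?_
    rw [TensorProduct.tmul_sum]
    refine Finset.sum_congr rfl fun p hp => ?_
    rw [Algebra.TensorProduct.map_tmul, hφ, (Finset.mem_filter.mp hp).2]
    rfl
  rw [hrew] at hmem
  have := coeff_mem_ker F K _ hmem (code m)
    (Nat.lt_succ_of_le (Finset.le_sup (f := id) (Finset.mem_image_of_mem code hm)))
  rwa [show M.filter (fun p => code p = code m) = {m} from Finset.eq_singleton_iff_unique_mem.mpr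
    ⟨Finset.mem_filter.mpr ⟨hm, rfl⟩, fun p hp => hcode p (Finset.mem_filter.mp hp).1 m hm (Finset.mem_filter.mp hp).2⟩,
    Finset.sum_singleton] at this

lemma kerBC_mvPolynomial_le {n : ℕ} :
    PolLaw.kerBC F.law (MvPolynomial (Fin n) A) ≤
      (PolLaw.ker F.law).map (Algebra.TensorProduct.includeRight : B →ₐ[A] MvPolynomial (Fin n) A ⊗[A] B) := by
  classical
  intro z hz
  have hex : ∀ w : MvPolynomial (Fin n) A ⊗[A] B,
      ∃ (M : Finset (Fin n →₀ ℕ)) (c : (Fin n →₀ ℕ) → B),
        w = ∑ m ∈ M, (MvPolynomial.monomial m (1 : A)) ⊗ₜ[A] c m := by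
    intro w
    let b := (MvPolynomial.basisMonomials (Fin n) A)
    obtain ⟨c, rfl⟩ := (TensorProduct.equivFinsuppOfBasisLeft b).symm.surjective w
    exact ⟨c.support, c, by simp [TensorProduct.equivFinsuppOfBasisLeft_symm_apply, Finsupp.sum, b]⟩
  obtain ⟨M, c, rfl⟩ := hex z
  refine sum_mem fun m hm => ?_
  have h1 : (MvPolynomial.monomial m (1 : A)) ⊗ₜ[A] c m =
      ((MvPolynomial.monomial m (1 : A)) ⊗ₜ[A] (1 : B)) * ((1 : MvPolynomial (Fin n) A) ⊗ₜ[A] c m) := by
    rw [Algebra.TensorProduct.tmul_mul_tmul, mul_one, one_mul]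
  rw [h1]
  exact Ideal.mul_mem_left _ _ (Ideal.mem_map_of_mem _ (mv_coef_mem_ker F M c hz hm))

/-- The support commutes with base change. -/
theorem radical_kerBC_eq :
    (PolLaw.kerBC F.law A').radical =
      ((PolLaw.ker F.law).map (Algebra.TensorProduct.includeRight : B →ₐ[A] A' ⊗[A] B)).radical := by
  refine le_antisymm ?_ (Ideal.radical_mono (map_ker_le_kerBC F))
  refine Ideal.radical_le_radical_iff.mpr fun z hz => ⟨d, ?_⟩
  obtain ⟨n, a, b, rfl⟩ : ∃ (n : ℕ) (a : Fin n → A') (b : Fin n → B), z = ∑ i, a i ⊗ₜ[A] b i := by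
    obtain ⟨s, hs⟩ := TensorProduct.exists_finset (R := A) z
    exact ⟨s.card, fun i => (s.equivFin.symm i).1.1, fun i => (s.equivFin.symm i).1.2, by
      rw [hs, ← s.sum_coe_sort]
      exact (Equiv.sum_comp s.equivFin.symm (fun p : ↥s => (p.1.1 : A') ⊗ₜ[A] (p.1.2 : B))).symm⟩
  let P := MvPolynomial (Fin n) A
  let zg : P ⊗[A] B := ∑ i, MvPolynomial.X i ⊗ₜ[A] b i
  let φ : P →ₐ[A] A' := MvPolynomial.aeval a
  have hzg : tmap φ B zg = ∑ i, a i ⊗ₜ[A] b i := by
    simp only [zg, map_sum, Algebra.TensorProduct.map_tmul, AlgHom.id_apply]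
    exact Finset.sum_congr rfl fun i _ => by rw [show φ (MvPolynomial.X i) = a i from MvPolynomial.aeval_X _ _]
  have h1 : Polynomial.aeval zg (chi (baseChange F P) zg) ∈ PolLaw.kerBC F.law P := by
    rw [← ker_baseChange]
    exact aeval_chi_mem_ker _ zg
  have h2 := Ideal.mem_map_of_mem (tmap φ B) (kerBC_mvPolynomial_le F h1)
  have hcomp : ((PolLaw.ker F.law).map (Algebra.TensorProduct.includeRight : B →ₐ[A] P ⊗[A] B)).map (tmap φ B) ≤
      (PolLaw.ker F.law).map (Algebra.TensorProduct.includeRight : B →ₐ[A] A' ⊗[A] B) := by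
    rw [Ideal.map_le_iff_le_comap, Ideal.map_le_iff_le_comap]
    intro c hc
    rw [Ideal.mem_comap, Ideal.mem_comap, Algebra.TensorProduct.includeRight_apply, Algebra.TensorProduct.map_tmul,
      map_one]
    exact Ideal.mem_map_of_mem _ hc
  have h3 := hcomp h2
  have h4 : tmap φ B (Polynomial.aeval zg (chi (baseChange F P) zg)) =
      (-1) ^ d * (∑ i, a i ⊗ₜ[A] b i) ^ d := by
    have e1 : ∀ p : Polynomial P,
        tmap φ B (Polynomial.aeval zg p) = Polynomial.aeval (tmap φ B zg) (p.map φ.toRingHom) := by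
      intro p
      induction p using Polynomial.induction_on' with
      | add p q hp hq => simp [map_add, Polynomial.map_add, hp, hq]
      | monomial k r =>
        simp only [Polynomial.map_monomial, Polynomial.aeval_monomial, map_mul, map_pow]
        congr 1
    rw [e1, ← chi_baseChange_map, hzg, chi_of_mem_ker (baseChange F A') ((ker_baseChange (A' := A') F).symm ▸ hz),
      map_pow, map_neg, Polynomial.aeval_X, neg_pow]
  rw [h4] at h3
  have := Ideal.mul_mem_left _ ((-1 : A' ⊗[A] B) ^ d) h3
  rwa [← mul_assoc, ← mul_pow, neg_one_mul, neg_neg, one_pow, one_mul] at this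

end support

end Groth.Cycles
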