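import Groth.Agent.Cycles.PolLawFree
import Mathlib.RingTheory.MvPolynomial.Basic
import Mathlib.Algebra.Polynomial.BigOperators

/-!
Cayley-Hamilton for multiplicative laws `B → A`.
-/

universe u

open scoped TensorProduct
open Polynomial

namespace Groth.Cycles

variable {A : Type u} [CommRing A] {B : Type u} [CommRing B] [Algebra A B] {d : ℕ}
  (F : PolLaw.MulLaw A B A d)

/-- The characteristic polynomial of `b` with respect to a law. -/
noncomputable def chi (b : B) : A[X] :=
  TensorProduct.rid A A[X] (F.law.toFun' A[X] ((1 : A[X]) ⊗ₜ[A] b - (X : A[X]) ⊗ₜ[A] (1 : B)))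

/-- The generic characteristic polynomial. -/
noncomputable def gchi {P : Type u} [CommRing P] [Algebra A P] {κ : Type u} (e : Module.Basis κ A P)
    (d : ℕ) (p : P) : A[X] ⊗[A] SymTen.TS A P d :=
  (Free.tsLaw e d).law.toFun' A[X] ((1 : A[X]) ⊗ₜ[A] p - (X : A[X]) ⊗ₜ[A] (1 : P))

/-- Its coefficients. -/
noncomputable def gcoef {P : Type u} [CommRing P] [Algebra A P] {κ : Type u} (e : Module.Basis κ A P)
    (d : ℕ) (p : P) (k : ℕ) : SymTen.TS A P d :=
  TensorProduct.lid A _ ((lcoeff A k).rTensor _ (gchi e d p))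

lemma rid_coeff {M : Type u} [AddCommGroup M] [Module A M] (L : M →ₗ[A] A) (z : A[X] ⊗[A] M) (k : ℕ) :
    (TensorProduct.rid A A[X] (L.lTensor A[X] z)).coeff k = L (TensorProduct.lid A M ((lcoeff A k).rTensor M z)) := by
  induction z using TensorProduct.induction_on with
  | zero => simp
  | tmul p m => simp [mul_comm]
  | add a b ha hb => simp [ha, hb]

/-- `A[X] ⊗ T → T[X]`. -/
noncomputable def toPoly (T : Type u) [CommRing T] [Algebra A T] : A[X] ⊗[A] T →ₐ[A] T[X] :=
  Algebra.TensorProduct.lift (Polynomial.mapAlgHom (Algebra.ofId A T))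
    ((Polynomial.CAlgHom : T →ₐ[T] T[X]).restrictScalars A) (fun _ _ => Commute.all _ _)

lemma toPoly_coeff {T : Type u} [CommRing T] [Algebra A T] (z : A[X] ⊗[A] T) (k : ℕ) :
    (toPoly (A := A) T z).coeff k = TensorProduct.lid A T ((lcoeff A k).rTensor T z) := by
  induction z using TensorProduct.induction_on with
  | zero => simp
  | tmul p m => simp [toPoly, Algebra.smul_def, Polynomial.coeff_map, Algebra.ofId_apply]
  | add a b ha hb => simp [ha, hb]

section generic

variable {P : Type u} [CommRing P] [Algebra A P] {κ : Type u} (e : Module.Basis κ A P) (d : ℕ) (p : P)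

lemma toPoly_gchi :
    toPoly (A := A) (⨂[A] _ : Fin d, P) ((SymTen.TS A P d).val.toLinearMap.lTensor A[X] (gchi e d p)) =
      ∏ j : Fin d, (C (PiTensorProduct.singleAlgHom (R := A) (A := fun _ : Fin d => P) j p) - X) := by
  rw [gchi, Free.tsLaw_val, SymTen.tpowLaw, PolLaw.MulLaw.prodMap_toFun', map_prod]
  refine Finset.prod_congr rfl fun j _ => ?_
  simp only [map_sub, Algebra.TensorProduct.map_tmul, map_one, toPoly, Algebra.TensorProduct.lift_tmul,
    AlgHom.id_apply, one_mul, mul_one, coe_mapAlgHom, map_X, AlgHom.coe_restrictScalars']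
  rfl

lemma val_gcoef (k : ℕ) :
    ((gcoef e d p k : SymTen.TS A P d) : ⨂[A] _ : Fin d, P) =
      (∏ j : Fin d, (C (PiTensorProduct.singleAlgHom (R := A) (A := fun _ : Fin d => P) j p) - X)).coeff k := by
  rw [← toPoly_gchi e d p, toPoly_coeff, gcoef]
  generalize gchi e d p = z
  induction z using TensorProduct.induction_on with
  | zero => simp
  | tmul q m => simp
  | add a b ha hb => simp [ha, hb]

lemma natDegree_prod_le :
    (∏ j : Fin d, (C (PiTensorProduct.singleAlgHom (R := A) (A := fun _ : Fin d => P) j p) - X)).natDegree ≤ d := by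
  refine (Polynomial.natDegree_prod_le _ _).trans ?_
  refine (Finset.sum_le_sum fun j _ => ?_).trans (by simp : ∑ _j : Fin d, 1 ≤ d)
  exact (Polynomial.natDegree_sub_le _ _).trans (max_le (by simp) Polynomial.natDegree_X_le)

lemma gcoef_eq_zero {k : ℕ} (hk : d < k) : gcoef e d p k = 0 := by
  apply Subtype.ext
  rw [val_gcoef, Polynomial.coeff_eq_zero_of_natDegree_lt (lt_of_le_of_lt (natDegree_prod_le d p) hk)]
  rfl

lemma gcoef_top : gcoef e d p d = (-1) ^ d := by
  apply Subtype.ext
  rw [val_gcoef]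
  have h := Polynomial.coeff_prod_of_natDegree_le
    Finset.univ (fun j : Fin d => C (PiTensorProduct.singleAlgHom (R := A) (A := fun _ : Fin d => P) j p) - X) 1
    (fun j _ => (Polynomial.natDegree_sub_le _ _).trans (max_le (by simp) Polynomial.natDegree_X_le))
  rw [Finset.card_univ, Fintype.card_fin, mul_one] at h
  rw [h]
  simp [Polynomial.coeff_C, Finset.prod_const]

lemma sum_gcoef_mul (j : Fin d) :
    ∑ k ∈ Finset.range (d + 1), ((gcoef e d p k : SymTen.TS A P d) : ⨂[A] _ : Fin d, P) *
      PiTensorProduct.singleAlgHom (R := A) (A := fun _ : Fin d => P) j p ^ k = 0 := by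
  simp only [val_gcoef]
  rw [← Polynomial.eval_eq_sum_range' (Nat.lt_succ_of_le (natDegree_prod_le d p)), Polynomial.eval_prod]
  exact Finset.prod_eq_zero (Finset.mem_univ j) (by simp)

end generic

/-- `(R ⊗ T) ⊗ U → R ⊗ U` through `g : T → U`. -/
noncomputable def contract {R T U : Type u} [CommRing R] [Algebra A R] [CommRing T] [Algebra A T]
    [CommRing U] [Algebra A U] (g : T →ₐ[A] U) : (R ⊗[A] T) ⊗[A] U →ₐ[A] R ⊗[A] U :=
  Algebra.TensorProduct.lift (Algebra.TensorProduct.map (AlgHom.id A R) g)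
    Algebra.TensorProduct.includeRight (fun _ _ => Commute.all _ _)

lemma contract_tmul {R T U : Type u} [CommRing R] [Algebra A R] [CommRing T] [Algebra A T]
    [CommRing U] [Algebra A U] (g : T →ₐ[A] U) (r : R) (v : T) (w : U) :
    contract g ((r ⊗ₜ[A] v) ⊗ₜ[A] w) = r ⊗ₜ[A] (g v * w) := by
  simp [contract, Algebra.TensorProduct.tmul_mul_tmul]

lemma contract_lTensor {R T U : Type u} [CommRing R] [Algebra A R] [CommRing T] [Algebra A T]
    [CommRing U] [Algebra A U] (g : T →ₐ[A] U) (z : (R ⊗[A] T) ⊗[A] T) :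
    Algebra.TensorProduct.map (AlgHom.id A R) g (contract (AlgHom.id A T) z) =
      contract g (g.toLinearMap.lTensor (R ⊗[A] T) z) := by
  induction z using TensorProduct.induction_on with
  | zero => simp
  | tmul s v =>
    induction s using TensorProduct.induction_on with
    | zero => simp
    | tmul r w => simp [contract_tmul]
    | add a b ha hb => simp only [TensorProduct.add_tmul, map_add, ha, hb]
  | add a b ha hb => simp [ha, hb]

/-- `R ⊗ T → R` through `L : T → A`. -/
noncomputable def evalRight {R T : Type u} [CommRing R] [Algebra A R] [CommRing T] [Algebra A T]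
    (L : T →ₐ[A] A) : R ⊗[A] T →ₐ[A] R :=
  (Algebra.TensorProduct.rid A A R).toAlgHom.comp (Algebra.TensorProduct.map (AlgHom.id A R) L)

lemma evalRight_tmul {R T : Type u} [CommRing R] [Algebra A R] [CommRing T] [Algebra A T]
    (L : T →ₐ[A] A) (r : R) (v : T) : evalRight L (r ⊗ₜ[A] v) = L v • r := by
  simp [evalRight]

lemma evalRight_contract {R T : Type u} [CommRing R] [Algebra A R] [CommRing T] [Algebra A T]
    (L : T →ₐ[A] A) (z : (R ⊗[A] T) ⊗[A] T) :
    Algebra.TensorProduct.rid A A R (tmap (evalRight L) A (L.toLinearMap.lTensor (R ⊗[A] T) z)) =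
      evalRight L (contract (AlgHom.id A T) z) := by
  induction z using TensorProduct.induction_on with
  | zero => simp
  | tmul s v =>
    induction s using TensorProduct.induction_on with
    | zero => simp
    | tmul r w =>
      simp [contract_tmul, evalRight_tmul, TensorProduct.rid_tmul, smul_smul, mul_comm]
    | add a b ha hb => simp only [TensorProduct.add_tmul, map_add, ha, hb]
  | add a b ha hb => simp [ha, hb]

section presentation

variable (B) in
/-- The presentation of `B`. -/
noncomputable def pres : MvPolynomial B A →ₐ[A] B := MvPolynomial.aeval id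

lemma pres_surjective : Function.Surjective (pres (A := A) B) := evalAll_surjective B

/-- The algebra map on the symmetric tensors of the presentation given by a law. -/
noncomputable def presHom {C : Type u} [CommRing C] [Algebra A C] (G : PolLaw.MulLaw A B C d) :
    SymTen.TS A (MvPolynomial B A) d →ₐ[A] C :=
  Free.algOfLaw (MvPolynomial.basisMonomials B A) (G.precomp (pres B))

lemma presHom_spec {C : Type u} [CommRing C] [Algebra A C] (G : PolLaw.MulLaw A B C d)
    {S : Type u} [CommSemiring S] [Algebra A S] (x : S ⊗[A] MvPolynomial B A) :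
    (presHom G).toLinearMap.lTensor S ((Free.tsLaw (MvPolynomial.basisMonomials B A) d).law.toFun' S x) =
      G.law.toFun' S ((pres B).toLinearMap.lTensor S x) :=
  Free.algOfLaw_spec _ _ x

lemma chi_coeff (p : MvPolynomial B A) (k : ℕ) :
    (chi F (pres B p)).coeff k = presHom F (gcoef (MvPolynomial.basisMonomials B A) d p k) := by
  have h : F.law.toFun' A[X] ((1 : A[X]) ⊗ₜ[A] pres B p - (X : A[X]) ⊗ₜ[A] (1 : B)) =
      (presHom F).toLinearMap.lTensor A[X] (gchi (MvPolynomial.basisMonomials B A) d p) := by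
    rw [gchi, presHom_spec, map_sub]
    simp [LinearMap.lTensor_tmul]
  rw [chi, h, rid_coeff]
  rfl

lemma chi_coeff_eq_zero (b : B) {k : ℕ} (hk : d < k) : (chi F b).coeff k = 0 := by
  obtain ⟨p, rfl⟩ := pres_surjective (A := A) b
  rw [chi_coeff, gcoef_eq_zero _ _ _ hk, map_zero]

lemma chi_coeff_top (b : B) : (chi F b).coeff d = (-1) ^ d := by
  obtain ⟨p, rfl⟩ := pres_surjective (A := A) b
  rw [chi_coeff, gcoef_top, map_pow, map_neg, map_one]

lemma chi_natDegree_le (b : B) : (chi F b).natDegree ≤ d :=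
  Polynomial.natDegree_le_iff_coeff_eq_zero.mpr fun _ hk => chi_coeff_eq_zero F b hk

lemma chi_monic (b : B) : ((-1) ^ d * chi F b : A[X]).Monic := by
  have hC : ((-1) ^ d : A[X]) = C ((-1) ^ d) := by simp
  refine Polynomial.monic_of_natDegree_le_of_coeff_eq_one d ?_ ?_
  · rw [hC]
    exact (Polynomial.natDegree_C_mul_le _ _).trans (chi_natDegree_le F b)
  · rw [hC, Polynomial.coeff_C_mul, chi_coeff_top, ← mul_pow]
    simp

set_option maxHeartbeats 800000 in
/-- Cayley-Hamilton: `χ_b(b)` lies in the kernel. -/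
theorem aeval_chi_mem_ker (b : B) : Polynomial.aeval b (chi F b) ∈ PolLaw.ker F.law := by
  rw [mem_ker_iff]
  intro c
  obtain ⟨p, rfl⟩ := pres_surjective (A := A) b
  obtain ⟨q, rfl⟩ := pres_surjective (A := A) c
  let e := MvPolynomial.basisMonomials B A
  let L := presHom F
  let T := SymTen.TS A (MvPolynomial B A) d
  let S := A[X] ⊗[A] T
  let σ : ℕ → T := gcoef e d p
  let xσ : S ⊗[A] MvPolynomial B A :=
    1 + ∑ k ∈ Finset.range (d + 1), ((X : A[X]) ⊗ₜ[A] σ k : S) ⊗ₜ[A] (q * p ^ k)
  let Λ : S →ₐ[A] A[X] := evalRight L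
  have hx : tmap Λ B ((pres B).toLinearMap.lTensor S xσ) =
      1 + (X : A[X]) ⊗ₜ[A] (pres B q * Polynomial.aeval (pres B p) (chi F (pres B p))) := by
    rw [Polynomial.aeval_eq_sum_range' (Nat.lt_succ_of_le (chi_natDegree_le F _)), Finset.mul_sum,
      TensorProduct.tmul_sum, PolLaw.lTensor_algHom_apply]
    simp only [xσ, map_add, map_one, map_sum, Algebra.TensorProduct.map_tmul, AlgHom.id_apply]
    congr 1
    refine Finset.sum_congr rfl fun k _ => ?_
    rw [chi_coeff F p k, mul_smul_comm, ← map_pow, ← map_mul, ← TensorProduct.smul_tmul]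
    congr 1
  let Γ : S ⊗[A] T := (Free.tsLaw e d).law.toFun' S xσ
  let Ψ : S ⊗[A] T →ₐ[A] S := contract (AlgHom.id A T)
  have hΓ : Ψ Γ = 1 := by
    apply Free.lTensor_val_injective e d A[X]
    rw [PolLaw.lTensor_algHom_apply, PolLaw.lTensor_algHom_apply, map_one]
    show Algebra.TensorProduct.map (AlgHom.id A A[X]) T.val (Ψ Γ) = 1
    rw [show Ψ Γ = contract (AlgHom.id A T) Γ from rfl, contract_lTensor, Free.tsLaw_val, SymTen.tpowLaw,
      PolLaw.MulLaw.prodMap_toFun', map_prod]
    refine Finset.prod_eq_one fun j _ => ?_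
    simp only [xσ, map_add, map_one, map_sum, Algebra.TensorProduct.map_tmul, AlgHom.id_apply,
      contract_tmul, map_mul, map_pow]
    rw [← TensorProduct.tmul_sum]
    simp only [mul_left_comm _ (PiTensorProduct.singleAlgHom (R := A) (A := fun _ : Fin d => MvPolynomial B A) j q)]
    rw [← Finset.mul_sum]
    show 1 + (X : A[X]) ⊗ₜ[A] (PiTensorProduct.singleAlgHom (R := A) (A := fun _ : Fin d => MvPolynomial B A) j q *
      ∑ k ∈ Finset.range (d + 1), (σ k : ⨂[A] _ : Fin d, MvPolynomial B A) *
        PiTensorProduct.singleAlgHom (R := A) (A := fun _ : Fin d => MvPolynomial B A) j p ^ k) = 1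
    rw [sum_gcoef_mul e d p j, mul_zero, TensorProduct.tmul_zero, add_zero]
  apply (Algebra.TensorProduct.rid A A A[X]).injective
  rw [map_one, ← hx, ← law_nat, ← presHom_spec F xσ]
  show Algebra.TensorProduct.rid A A A[X] (tmap Λ A (L.toLinearMap.lTensor S Γ)) = 1
  rw [evalRight_contract]
  exact (congrArg Λ hΓ).trans (map_one Λ)

end presentation

lemma chi_of_mem_ker {b : B} (hb : b ∈ PolLaw.ker F.law) : chi F b = (-X) ^ d := by
  have h : F.law.toFun' A[X] ((1 : A[X]) ⊗ₜ[A] b - (X : A[X]) ⊗ₜ[A] (1 : B)) =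
      F.law.toFun' A[X] ((-X : A[X]) • (1 : A[X] ⊗[A] B)) := by
    rw [← hb A[X] ((-X : A[X]) • (1 : A[X] ⊗[A] B)) 1]
    congr 1
    rw [Algebra.TensorProduct.one_def, TensorProduct.smul_tmul', smul_eq_mul, mul_one, TensorProduct.neg_tmul,
      Algebra.TensorProduct.tmul_mul_tmul, one_mul, one_mul]
    abel
  rw [chi, h, F.homog, (F.mult _).1, Algebra.TensorProduct.one_def, TensorProduct.smul_tmul', smul_eq_mul, mul_one]
  simp

lemma pow_mem_of_mem_ker {b : B} (hb : b ∈ PolLaw.ker F.law) :
    b ^ d ∈ Ideal.span (Set.range fun b : B => Polynomial.aeval b (chi F b)) := by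
  have h : Polynomial.aeval b (chi F b) = (-1) ^ d * b ^ d := by
    rw [chi_of_mem_ker F hb, map_pow, map_neg, aeval_X, neg_pow]
  have := Ideal.mul_mem_left _ ((-1 : B) ^ d) (Ideal.subset_span (s := Set.range fun b : B => Polynomial.aeval b (chi F b)) ⟨b, h⟩)
  rwa [← mul_assoc, ← mul_pow, neg_one_mul, neg_neg, one_pow, one_mul] at this

end Groth.Cycles
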