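import Groth.Agent.Cycles.PolLawOpen
import Mathlib.Topology.Connected.Clopen
import Mathlib.FieldTheory.IsAlgClosed.AlgebraicClosure
import Mathlib.RingTheory.Spectrum.Prime.RingHom

/-!
The support of a family of zero-cycles of degree `d` over a connected base has at most `d` components.
-/

universe u

open scoped TensorProduct Function

namespace Groth.Cycles

/-- If every partition into nonempty clopens has at most `d` parts, there are at most `d` components. -/
lemma connectedComponents_le_of_clopen_bound {X : Type*} [TopologicalSpace X] {d : ℕ}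
    (h : ∀ (n : ℕ) (U : Fin n → Set X), (∀ i, IsClopen (U i)) → (∀ i, (U i).Nonempty) →
      Pairwise (Disjoint on U) → n ≤ d) :
    Finite (ConnectedComponents X) ∧ Nat.card (ConnectedComponents X) ≤ d := by
  classical
  let Q : ℕ → Prop := fun n => ∃ U : Fin n → Set X, (∀ i, IsClopen (U i)) ∧ (∀ i, (U i).Nonempty) ∧
    Pairwise (Disjoint on U) ∧ (⋃ i, U i) = Set.univ
  rcases isEmpty_or_nonempty X with hX | hX
  · haveI : IsEmpty (ConnectedComponents X) := ⟨fun c => by
      obtain ⟨x, -⟩ := ConnectedComponents.surjective_coe c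
      exact hX.false x⟩
    exact ⟨inferInstance, by simp⟩
  have h1 : Q 1 := ⟨fun _ => Set.univ, fun _ => isClopen_univ, fun _ => Set.univ_nonempty,
    fun i j hij => absurd (Subsingleton.elim i j) hij, Set.iUnion_const _⟩
  have hb : ∀ n, Q n → n ≤ d := fun n ⟨U, h1, h2, h3, _⟩ => h n U h1 h2 h3
  let m := Nat.findGreatest Q d
  have hm : Q m := Nat.findGreatest_spec (hb 1 h1) h1
  obtain ⟨U, hU, hne, hdis, hcov⟩ := hm
  have hmem : ∀ x : X, ∃ i, x ∈ U i := fun x => Set.mem_iUnion.mp (hcov ▸ Set.mem_univ x)
  have hconn : ∀ i, IsPreconnected (U i) := by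
    intro i
    rw [isPreconnected_iff_subset_of_disjoint_closed]
    intro u v hu hv huv hdisj
    by_contra hc
    push Not at hc
    obtain ⟨hnu, hnv⟩ := hc
    have hA : IsClopen (U i ∩ u) := by
      refine ⟨(hU i).isClosed.inter hu, ?_⟩
      have : U i ∩ u = U i ∩ vᶜ := by
        ext x
        constructor
        · exact fun ⟨hx, hxu⟩ => ⟨hx, fun hxv =>
            (Set.eq_empty_iff_forall_notMem.mp hdisj x) ⟨hx, hxu, hxv⟩⟩
        · exact fun ⟨hx, hxv⟩ => ⟨hx, (huv hx).resolve_right hxv⟩
      rw [this]
      exact (hU i).isOpen.inter hv.isOpen_compl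
    let U' : Fin (m + 1) → Set X := Fin.cons (U i ∩ u) (Function.update U i (U i ∩ uᶜ))
    have hAne : (U i ∩ u).Nonempty := by
      by_contra he
      exact hnv fun x hx => (huv hx).resolve_left fun hxu => he ⟨x, hx, hxu⟩
    have hBne : (U i ∩ uᶜ).Nonempty := by
      by_contra he
      exact hnu fun x hx => by
        by_contra hxu
        exact he ⟨x, hx, hxu⟩
    have hU'0 : U' 0 = U i ∩ u := Fin.cons_zero _ _
    have hU's : ∀ j : Fin m, U' j.succ = Function.update U i (U i ∩ uᶜ) j := fun j => Fin.cons_succ _ _ _
    have hQ : Q (m + 1) := by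
      refine ⟨U', ?_, ?_, ?_, ?_⟩
      · intro j
        refine Fin.cases hA (fun j => ?_) j
        rw [hU's]
        rcases eq_or_ne j i with rfl | hj
        · rw [Function.update_self]
          exact (show U j \ (U j ∩ u) = U j ∩ uᶜ by ext x; simp) ▸ IsClopen.diff (hU j) hA
        · rw [Function.update_of_ne hj]
          exact hU j
      · intro j
        refine Fin.cases hAne (fun j => ?_) j
        rw [hU's]
        rcases eq_or_ne j i with rfl | hj
        · rw [Function.update_self]
          exact hBne
        · rw [Function.update_of_ne hj]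
          exact hne j
      · have hsub : ∀ j, (Function.update U i (U i ∩ uᶜ)) j ⊆ U j := fun j => by
          rcases eq_or_ne j i with rfl | hj
          · simp
          · simp [Function.update_of_ne hj]
        have h0 : ∀ j, Disjoint (U i ∩ u) (Function.update U i (U i ∩ uᶜ) j) := fun j => by
          rcases eq_or_ne j i with rfl | hj
          · rw [Function.update_self]
            exact Set.disjoint_left.mpr fun x hx hx' => hx'.2 hx.2
          · exact (hdis hj.symm).mono Set.inter_subset_left (hsub j)
        intro a b hab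
        refine Fin.cases ?_ (fun a' => ?_) a hab
        · refine Fin.cases (fun h => absurd rfl h) (fun b' _ => ?_) b
          rw [Function.onFun, hU'0, hU's]
          exact h0 b'
        · refine Fin.cases (fun _ => ?_) (fun b' hab => ?_) b
          · rw [Function.onFun, hU'0, hU's]
            exact (h0 a').symm
          · rw [Function.onFun, hU's, hU's]
            exact (hdis (fun h => hab (congrArg Fin.succ h))).mono (hsub a') (hsub b')
      · refine Set.eq_univ_of_forall fun x => ?_
        obtain ⟨j, hj⟩ := hmem x
        rw [Set.mem_iUnion]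
        rcases eq_or_ne j i with rfl | hji
        · by_cases hxu : x ∈ u
          · exact ⟨0, hj, hxu⟩
          · exact ⟨j.succ, by rw [hU's, Function.update_self]; exact ⟨hj, hxu⟩⟩
        · exact ⟨j.succ, by rw [hU's, Function.update_of_ne hji]; exact hj⟩
    have := Nat.le_findGreatest (hb _ hQ) hQ
    omega
  choose pt hpt using hne
  have hsurj : Function.Surjective fun i : Fin m => (ConnectedComponents.mk (pt i) : ConnectedComponents X) := by
    intro c
    obtain ⟨x, rfl⟩ := ConnectedComponents.surjective_coe c
    obtain ⟨i, hi⟩ := hmem x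
    refine ⟨i, ?_⟩
    rw [ConnectedComponents.coe_eq_coe]
    exact connectedComponent_eq ((hconn i).subset_connectedComponent (hpt i) hi) |>.trans rfl
  exact ⟨Finite.of_surjective _ hsurj,
    (Nat.card_le_card_of_surjective _ hsurj).trans (by simpa using Nat.findGreatest_le d)⟩

variable {A : Type u} [CommRing A] {B : Type u} [CommRing B] [Algebra A B] {d : ℕ}
  (F : PolLaw.MulLaw A B A d)

/-- Primes of the image over a prime of the base: finitely many, at most `d`. -/
theorem finite_fibre_image (p : PrimeSpectrum A) :
    Finite {P : PrimeSpectrum (PolLaw.image F.law) // PrimeSpectrum.comap (algebraMap A _) P = p} ∧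
    Nat.card {P : PrimeSpectrum (PolLaw.image F.law) // PrimeSpectrum.comap (algebraMap A _) P = p} ≤ d := by
  refine finite_and_natCard_le_of_finset fun s => ?_
  let K := AlgebraicClosure p.asIdeal.ResidueField
  have hex : ∀ P : s, ∃ f : PolLaw.image F.law →ₐ[A] K, RingHom.ker f.toRingHom = P.1.1.asIdeal := by
    intro P
    haveI := P.1.1.isPrime
    let I := P.1.1.asIdeal
    have hI : I.comap (algebraMap A _) = p.asIdeal := congrArg PrimeSpectrum.asIdeal P.1.2
    haveI := isIntegral_image F
    let φ : p.asIdeal.ResidueField →ₐ[A] I.ResidueField :=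
      Ideal.ResidueField.mapₐ p.asIdeal I (Algebra.ofId A _) hI.symm
    letI : Algebra p.asIdeal.ResidueField I.ResidueField := φ.toRingHom.toAlgebra
    haveI : IsScalarTower A p.asIdeal.ResidueField I.ResidueField :=
      IsScalarTower.of_algebraMap_eq fun a => (φ.commutes a).symm
    haveI : Algebra.IsIntegral A (PolLaw.image F.law ⧸ I) :=
      Algebra.IsIntegral.of_surjective (Ideal.Quotient.mkₐ A I) Ideal.Quotient.mk_surjective
    haveI : Algebra.IsAlgebraic p.asIdeal.ResidueField I.ResidueField := by
      refine ⟨fun x => ?_⟩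
      obtain ⟨a, b, -, rfl⟩ := IsFractionRing.div_surjective (PolLaw.image F.law ⧸ I) x
      have hint : ∀ y : PolLaw.image F.law ⧸ I,
          IsAlgebraic p.asIdeal.ResidueField (algebraMap (PolLaw.image F.law ⧸ I) I.ResidueField y) := fun y =>
        (IsIntegral.tower_top (R := A) ((Algebra.IsIntegral.isIntegral (R := A) y).map
          (IsScalarTower.toAlgHom A (PolLaw.image F.law ⧸ I) I.ResidueField))).isAlgebraic
      exact (hint a).mul (hint b).inv
    let ι : I.ResidueField →ₐ[p.asIdeal.ResidueField] K := IsAlgClosed.lift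
    refine ⟨(ι.restrictScalars A).comp (IsScalarTower.toAlgHom A _ I.ResidueField), ?_⟩
    ext x
    rw [RingHom.mem_ker]
    show ι (algebraMap _ I.ResidueField x) = 0 ↔ _
    rw [map_eq_zero_iff ι ι.toRingHom.injective, Ideal.algebraMap_residueField_eq_zero]
  choose f hf using hex
  have := card_homs_le F K (ι := Fin s.card)
    (fun i => (f (s.equivFin.symm i)).comp (Ideal.Quotient.mkₐ A _)) (fun i b hb => by
      simp [Ideal.Quotient.eq_zero_iff_mem.mpr hb])
    (fun i j hij => by
      refine s.equivFin.symm.injective (Subtype.ext (Subtype.ext (PrimeSpectrum.ext ?_)))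
      rw [← hf, ← hf]
      congr 1
      refine RingHom.ext fun x => ?_
      obtain ⟨b, rfl⟩ := Ideal.Quotient.mk_surjective x
      exact AlgHom.congr_fun hij b)
  simpa using this

theorem natCard_connectedComponents_image_le [ConnectedSpace (PrimeSpectrum A)] :
    Finite (ConnectedComponents (PrimeSpectrum (PolLaw.image F.law))) ∧
      Nat.card (ConnectedComponents (PrimeSpectrum (PolLaw.image F.law))) ≤ d := by
  refine connectedComponents_le_of_clopen_bound fun n U hU hne hdis => ?_
  let g := PrimeSpectrum.comap (algebraMap A (PolLaw.image F.law))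
  haveI := isIntegral_image F
  have hclosed : IsClosedMap g :=
    PrimeSpectrum.isClosedMap_comap_of_isIntegral _ (algebraMap_isIntegral_iff.mpr inferInstance)
  have hopen : IsOpenMap g := by
    have := universallyOpen_image F
    exact (AlgebraicGeometry.Spec.map (CommRingCat.ofHom (algebraMap A (PolLaw.image F.law)))).isOpenMap
  obtain ⟨p⟩ : Nonempty (PrimeSpectrum A) := inferInstance
  have hfull : ∀ i, g '' U i = Set.univ := fun i =>
    IsClopen.eq_univ ⟨hclosed _ (hU i).isClosed, hopen _ (hU i).isOpen⟩ ((hne i).image g)
  have hlift : ∀ i, ∃ P : {P : PrimeSpectrum (PolLaw.image F.law) // g P = p}, P.1 ∈ U i := fun i => by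
    obtain ⟨P, hP, hPp⟩ := (hfull i).ge (Set.mem_univ p)
    exact ⟨⟨P, hPp⟩, hP⟩
  choose P hP using hlift
  obtain ⟨hfin, hcard⟩ := finite_fibre_image F p
  have hinj : Function.Injective P := fun i j hij => by
    by_contra hne'
    exact Set.disjoint_left.mp (hdis hne') (hP i) (hij ▸ hP j)
  haveI := hfin
  calc n = Nat.card (Fin n) := by simp
    _ ≤ _ := Nat.card_le_card_of_injective P hinj
    _ ≤ d := hcard

end Groth.Cycles
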