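import Groth.Prelude.Def_PolLaw
import Mathlib.LinearAlgebra.TensorProduct.RightExactness
import Mathlib.RingTheory.Flat.Basic
import Mathlib.RingTheory.MvPolynomial.Basic

/-!
Lifting test algebras to polynomial rings, and descent of multiplicative laws along surjections.
-/

universe u

open scoped TensorProduct

namespace Groth.Cycles

variable {A : Type u} [CommRing A]

/-- The presentation of an algebra by the polynomial ring on its elements. -/
noncomputable def evalAll (S : Type u) [CommSemiring S] [Algebra A S] : MvPolynomial S A →ₐ[A] S :=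
  MvPolynomial.aeval id

lemma evalAll_surjective (S : Type u) [CommSemiring S] [Algebra A S] :
    Function.Surjective (evalAll (A := A) S) := fun s => ⟨MvPolynomial.X s, by simp [evalAll]⟩

lemma rTensor_evalAll_surjective (S : Type u) [CommSemiring S] [Algebra A S] (M : Type u)
    [AddCommGroup M] [Module A M] :
    Function.Surjective ((evalAll (A := A) S).toLinearMap.rTensor M) :=
  LinearMap.rTensor_surjective M (evalAll_surjective S)

variable {B B' C : Type u} [CommRing B] [Algebra A B] [CommRing B'] [Algebra A B'] [CommRing C] [Algebra A C]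

/-- Lifting a pair with equal images along a surjection `B → B'` to the polynomial test algebra. -/
lemma exists_lift_pair (π : B →ₗ[A] B') (hπ : Function.Surjective π) (S : Type u) [CommSemiring S]
    [Algebra A S] (x y : S ⊗[A] B) (h : π.lTensor S x = π.lTensor S y) :
    ∃ X Y : MvPolynomial S A ⊗[A] B, (evalAll S).toLinearMap.rTensor B X = x ∧
      (evalAll S).toLinearMap.rTensor B Y = y ∧
      π.lTensor (MvPolynomial S A) X = π.lTensor (MvPolynomial S A) Y := by
  letI : CommRing S := { Algebra.semiringToRing A (A := S), ‹CommSemiring S› with }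
  obtain ⟨z, hz⟩ := (lTensor_exact S (LinearMap.exact_subtype_ker_map π) hπ (y - x)).mp
    (by rw [map_sub, h, sub_self])
  obtain ⟨X, hX⟩ := rTensor_evalAll_surjective S B x
  obtain ⟨Z, hZ⟩ := rTensor_evalAll_surjective S (LinearMap.ker π) z
  refine ⟨X, X + (LinearMap.ker π).subtype.lTensor _ Z, hX, ?_, ?_⟩
  · rw [map_add, hX, ← LinearMap.comp_apply, LinearMap.rTensor_comp_lTensor,
      ← LinearMap.lTensor_comp_rTensor, LinearMap.comp_apply, hZ, hz, add_sub_cancel]
  · rw [map_add, ← LinearMap.comp_apply, ← LinearMap.lTensor_comp]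
    have : π ∘ₗ (LinearMap.ker π).subtype = 0 := LinearMap.ext fun w => w.2
    rw [this, LinearMap.lTensor_zero, LinearMap.zero_apply, add_zero]

/-- If the composite of a law with an injective linear map factors through a surjection, so does
the law. -/
lemma law_congr_of_postcomp_injective {N N' : Type u} [AddCommGroup N] [Module A N]
    [AddCommGroup N'] [Module A N'] (π : B →ₗ[A] B') (hπ : Function.Surjective π)
    (G : B →ₚₗ[A] N) (j : N →ₗ[A] N') (hj : Function.Injective j) (H : B' →ₚₗ[A] N')
    (hG : ∀ (S : Type u) [CommSemiring S] [Algebra A S] (x : S ⊗[A] B),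
      j.lTensor S (G.toFun' S x) = H.toFun' S (π.lTensor S x))
    (S : Type u) [CommSemiring S] [Algebra A S] (x y : S ⊗[A] B)
    (h : π.lTensor S x = π.lTensor S y) : G.toFun' S x = G.toFun' S y := by
  obtain ⟨X, Y, hX, hY, hXY⟩ := exists_lift_pair π hπ S x y h
  have key : G.toFun' _ X = G.toFun' _ Y := by
    apply Module.Flat.lTensor_preserves_injective_linearMap (M := MvPolynomial S A) j hj
    rw [hG, hG, hXY]
  have h1 := congrFun (G.isCompat' (evalAll S)) X
  have h2 := congrFun (G.isCompat' (evalAll S)) Y
  simp only [Function.comp_apply, hX, hY] at h1 h2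
  rw [← h1, ← h2, key]

/-- Descent of a multiplicative law along a surjective algebra map. -/
noncomputable def descendLaw {d : ℕ} (π : B →ₐ[A] B') (hπ : Function.Surjective π)
    (G : PolLaw.MulLaw A B C d)
    (h : ∀ (S : Type u) [CommSemiring S] [Algebra A S] (x y : S ⊗[A] B),
      π.toLinearMap.lTensor S x = π.toLinearMap.lTensor S y → G.law.toFun' S x = G.law.toFun' S y) :
    PolLaw.MulLaw A B' C d where
  law :=
    { toFun' := fun S _ _ z => G.law.toFun' S
        (Function.surjInv (LinearMap.lTensor_surjective S (g := π.toLinearMap) hπ) z)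
      isCompat' := fun {S} _ _ {S'} _ _ φ => by
        funext z
        simp only [Function.comp_apply]
        have h1 := congrFun (G.law.isCompat' φ)
          (Function.surjInv (LinearMap.lTensor_surjective S (g := π.toLinearMap) hπ) z)
        simp only [Function.comp_apply] at h1
        rw [h1]
        refine h S' _ _ ?_
        rw [Function.surjInv_eq (LinearMap.lTensor_surjective S' (g := π.toLinearMap) hπ),
          ← LinearMap.comp_apply, LinearMap.lTensor_comp_rTensor, ← LinearMap.rTensor_comp_lTensor,
          LinearMap.comp_apply, Function.surjInv_eq (LinearMap.lTensor_surjective S (g := π.toLinearMap) hπ)] }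
  homog S _ _ s z := by
    show G.law.toFun' S _ = s ^ d • G.law.toFun' S _
    rw [← G.homog S s]
    refine h S _ _ ?_
    rw [Function.surjInv_eq (LinearMap.lTensor_surjective S (g := π.toLinearMap) hπ),
      PolLaw.lTensor_algHom_apply, map_smul, ← PolLaw.lTensor_algHom_apply,
      Function.surjInv_eq (LinearMap.lTensor_surjective S (g := π.toLinearMap) hπ)]
  mult S _ _ := by
    refine ⟨?_, fun z w => ?_⟩
    · show G.law.toFun' S _ = 1
      rw [← (G.mult S).1]
      refine h S _ _ ?_
      rw [Function.surjInv_eq (LinearMap.lTensor_surjective S (g := π.toLinearMap) hπ),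
        PolLaw.lTensor_algHom_apply, map_one]
    · show G.law.toFun' S _ = G.law.toFun' S _ * G.law.toFun' S _
      rw [← (G.mult S).2]
      refine h S _ _ ?_
      rw [Function.surjInv_eq (LinearMap.lTensor_surjective S (g := π.toLinearMap) hπ),
        PolLaw.lTensor_algHom_apply, map_mul, ← PolLaw.lTensor_algHom_apply, ← PolLaw.lTensor_algHom_apply,
        Function.surjInv_eq (LinearMap.lTensor_surjective S (g := π.toLinearMap) hπ),
        Function.surjInv_eq (LinearMap.lTensor_surjective S (g := π.toLinearMap) hπ)]

lemma descendLaw_toFun {d : ℕ} (π : B →ₐ[A] B') (hπ : Function.Surjective π)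
    (G : PolLaw.MulLaw A B C d)
    (h : ∀ (S : Type u) [CommSemiring S] [Algebra A S] (x y : S ⊗[A] B),
      π.toLinearMap.lTensor S x = π.toLinearMap.lTensor S y → G.law.toFun' S x = G.law.toFun' S y)
    (S : Type u) [CommSemiring S] [Algebra A S] (x : S ⊗[A] B) :
    (descendLaw π hπ G h).law.toFun' S (π.toLinearMap.lTensor S x) = G.law.toFun' S x :=
  h S _ _ (Function.surjInv_eq (LinearMap.lTensor_surjective S (g := π.toLinearMap) hπ) _)

end Groth.Cycles
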