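import Groth.Agent.Cycles.PolLawTSFP
import Groth.Agent.S13717
import Mathlib.RingTheory.Ideal.Quotient.Operations

/-!
Divided powers of algebras of finite type (resp. finite presentation).
-/

universe u

open scoped TensorProduct

namespace Groth.Cycles.Sym

variable {A : Type u} [CommRing A] {B : Type u} [CommRing B] [Algebra A B]
  {C : Type u} [CommRing C] [Algebra A C] {d : ℕ}

lemma finiteType_of_isGammaD [hB : Algebra.FiniteType A B] (γ : PolLaw.MulLaw A B C d)
    (hγ : PolLaw.IsGammaD γ) : Algebra.FiniteType A C := by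
  obtain ⟨n, π, hπ⟩ := Algebra.FiniteType.iff_quotient_mvPolynomial''.mp hB
  let f := Free.algOfLaw (eMon A n) (γ.precomp π)
  have hf : Function.Surjective f :=
    Groth.Agent.S13717.result (Free.tsLaw (eMon A n) d) (Free.isGammaD_tsLaw _) γ hγ π hπ f
      (PolynomialLaw.ext (funext fun _ => funext fun _ => funext fun _ => funext fun x =>
        Free.algOfLaw_spec (eMon A n) (γ.precomp π) x))
  have := finitePresentation_TS A n d
  exact Algebra.FiniteType.of_surjective f hf

/-- Inclusion of the first variables. -/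
noncomputable def incl (A : Type u) [CommRing A] (n m : ℕ) :
    MvPolynomial (Fin n) A →ₐ[A] MvPolynomial (Fin (n + m)) A :=
  MvPolynomial.aeval fun i => MvPolynomial.X (Fin.castAdd m i)

/-- Substitution of `f` for the last variables. -/
noncomputable def subst {n m : ℕ} (f : Fin m → MvPolynomial (Fin n) A) :
    MvPolynomial (Fin (n + m)) A →ₐ[A] MvPolynomial (Fin n) A :=
  MvPolynomial.aeval (Fin.addCases MvPolynomial.X f)

lemma subst_incl {n m : ℕ} (f : Fin m → MvPolynomial (Fin n) A) :
    (subst f).comp (incl A n m) = AlgHom.id A _ :=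
  MvPolynomial.algHom_ext fun i => by simp [subst, incl]

lemma finitePresentation_of_isGammaD [hB : Algebra.FinitePresentation A B] (γ : PolLaw.MulLaw A B C d)
    (hγ : PolLaw.IsGammaD γ) : Algebra.FinitePresentation A C := by
  classical
  obtain ⟨n, π, hπ, hker⟩ := hB.out
  obtain ⟨m, fs, hfs⟩ := Submodule.fg_iff_exists_fin_generating_family.mp hker
  let e := eMon A n
  let e' := eMon A (n + m)
  let f := Free.algOfLaw e (γ.precomp π)
  have hf : Function.Surjective f :=
    Groth.Agent.S13717.result (Free.tsLaw e d) (Free.isGammaD_tsLaw _) γ hγ π hπ f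
      (PolynomialLaw.ext (funext fun _ => funext fun _ => funext fun _ => funext fun x =>
        Free.algOfLaw_spec e (γ.precomp π) x))
  have hTS := finitePresentation_TS A n d
  have hTS' := finitePresentation_TS A (n + m) d
  obtain ⟨G, hG⟩ := (inferInstance : Algebra.FiniteType A (SymTen.TS A (MvPolynomial (Fin (n + m)) A) d)).out
  let q₀ := SymTen.TSmap A d (subst (A := A) (fun _ : Fin m => (0 : MvPolynomial (Fin n) A)))
  let q₁ := SymTen.TSmap A d (subst fs)
  let J : Ideal (SymTen.TS A (MvPolynomial (Fin n) A) d) := Ideal.span ↑(G.image fun g => q₀ g - q₁ g)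
  let mk : SymTen.TS A (MvPolynomial (Fin n) A) d →ₐ[A] _ ⧸ J := Ideal.Quotient.mkₐ A J
  have hmk : mk.comp q₀ = mk.comp q₁ := by
    refine AlgHom.ext_of_adjoin_eq_top hG fun g hg => ?_
    exact (Ideal.Quotient.mk_eq_mk_iff_sub_mem _ _).mpr
      (Ideal.subset_span (Finset.mem_image_of_mem _ hg))
  let H : PolLaw.MulLaw A (MvPolynomial (Fin n) A) (_ ⧸ J) d := PolLaw.MulLaw.postcomp mk (Free.tsLaw e d)
  have hH : ∀ (S : Type u) [CommSemiring S] [Algebra A S] (x y : S ⊗[A] MvPolynomial (Fin n) A),
      π.toLinearMap.lTensor S x = π.toLinearMap.lTensor S y → H.law.toFun' S x = H.law.toFun' S y := by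
    intro S _ _ x y hxy
    let _ : CommRing S := { Algebra.semiringToRing A (A := S), ‹CommSemiring S› with }
    obtain ⟨z, hz⟩ := (lTensor_exact S (LinearMap.exact_subtype_ker_map π.toLinearMap) hπ (y - x)).mp
      (by rw [map_sub, hxy, sub_self])
    let I₀ := Algebra.TensorProduct.map (AlgHom.id A S) (incl A n m)
    have key : ∀ w : S ⊗[A] LinearMap.ker π.toLinearMap, ∃ c : S ⊗[A] MvPolynomial (Fin (n + m)) A,
        (subst (A := A) (fun _ : Fin m => (0 : MvPolynomial (Fin n) A))).toLinearMap.lTensor S c = 0 ∧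
        (subst fs).toLinearMap.lTensor S c = (LinearMap.ker π.toLinearMap).subtype.lTensor S w := by
      intro w
      induction w using TensorProduct.induction_on with
      | zero => exact ⟨0, by simp, by simp⟩
      | tmul s k =>
        obtain ⟨r, hr⟩ := (Submodule.mem_span_range_iff_exists_fun _).mp
          (show (k : MvPolynomial (Fin n) A) ∈ Submodule.span _ (Set.range fs) by rw [hfs]; exact k.2)
        have h1 : ∀ (g : Fin m → MvPolynomial (Fin n) A) j, subst g (incl A n m (r j)) = r j := fun g j => by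
          rw [← AlgHom.comp_apply, subst_incl, AlgHom.id_apply]
        refine ⟨s ⊗ₜ[A] ∑ j, incl A n m (r j) * MvPolynomial.X (Fin.natAdd n j), ?_, ?_⟩
        · simp only [LinearMap.lTensor_tmul, AlgHom.toLinearMap_apply, map_sum, map_mul, h1]
          simp [subst]
        · simp only [LinearMap.lTensor_tmul, AlgHom.toLinearMap_apply, map_sum, map_mul, h1, Submodule.subtype_apply]
          rw [← hr]
          simp [subst, smul_eq_mul]
      | add u v hu hv =>
        obtain ⟨a, ha₀, ha₁⟩ := hu
        obtain ⟨b, hb₀, hb₁⟩ := hv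
        exact ⟨a + b, by rw [map_add, ha₀, hb₀, add_zero], by rw [map_add, map_add, ha₁, hb₁]⟩
    obtain ⟨c, hc₀, hc₁⟩ := key z
    have hi : ∀ g : Fin m → MvPolynomial (Fin n) A,
        (subst g).toLinearMap.lTensor S ((incl A n m).toLinearMap.lTensor S x) = x := fun g => by
      rw [lT_comp, ← AlgHom.comp_toLinearMap, subst_incl]
      simp
    let X := (incl A n m).toLinearMap.lTensor S x + c
    have hX₀ : (subst (A := A) (fun _ : Fin m => (0 : MvPolynomial (Fin n) A))).toLinearMap.lTensor S X = x := by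
      rw [map_add, hi, hc₀, add_zero]
    have hX₁ : (subst fs).toLinearMap.lTensor S X = y := by
      rw [map_add, hi, hc₁, hz, add_sub_cancel]
    show mk.toLinearMap.lTensor S _ = mk.toLinearMap.lTensor S _
    rw [← hX₀, ← hX₁, ← TSmap_tsLaw e' e, ← TSmap_tsLaw e' e, lT_comp, lT_comp, ← AlgHom.comp_toLinearMap,
      ← AlgHom.comp_toLinearMap]
    exact congrArg (fun p : _ →ₐ[A] _ => p.toLinearMap.lTensor S _) hmk
  obtain ⟨h, hh, -⟩ := hγ _ (descendLaw π hπ H hH)
  have hhf : h.comp f = mk := by
    refine AlgHom.toLinearMap_injective (Free.lin_ext e _ _ fun S _ _ x => ?_)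
    rw [AlgHom.comp_toLinearMap, ← lT_comp, Free.algOfLaw_spec e (γ.precomp π) x]
    show (PolLaw.postcomp h.toLinearMap γ.law).toFun' S (π.toLinearMap.lTensor S x) = H.law.toFun' S x
    rw [hh, descendLaw_toFun]
  have hq : f.comp q₀ = f.comp q₁ := by
    refine AlgHom.toLinearMap_injective (Free.lin_ext e' _ _ fun S _ _ x => ?_)
    rw [AlgHom.comp_toLinearMap, AlgHom.comp_toLinearMap, ← lT_comp, ← lT_comp, TSmap_tsLaw e' e, TSmap_tsLaw e' e,
      Free.algOfLaw_spec, Free.algOfLaw_spec]
    show γ.law.toFun' S (π.toLinearMap.lTensor S _) = γ.law.toFun' S (π.toLinearMap.lTensor S _)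
    rw [lT_comp, lT_comp, ← AlgHom.comp_toLinearMap, ← AlgHom.comp_toLinearMap]
    congr 3
    refine congrArg AlgHom.toLinearMap (MvPolynomial.algHom_ext fun i => ?_)
    induction i using Fin.addCases with
    | left i => simp [subst]
    | right j =>
      have : π (fs j) = 0 := RingHom.mem_ker.mp (hfs ▸ Submodule.subset_span ⟨j, rfl⟩ : fs j ∈ RingHom.ker π)
      simp [subst, this]
  have hJ : RingHom.ker f = J := by
    apply le_antisymm
    · intro z hz
      have := AlgHom.congr_fun hhf z
      rw [AlgHom.comp_apply, RingHom.mem_ker.mp hz, map_zero] at this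
      exact Ideal.Quotient.eq_zero_iff_mem.mp this.symm
    · rw [Ideal.span_le]
      intro z hz
      obtain ⟨g, -, rfl⟩ := Finset.mem_image.mp (Finset.mem_coe.mp hz)
      rw [SetLike.mem_coe, RingHom.mem_ker, map_sub, sub_eq_zero]
      exact AlgHom.congr_fun hq g
  exact Algebra.FinitePresentation.of_surjective (f := f) hf (hJ ▸ ⟨_, rfl⟩)

end Groth.Cycles.Sym
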