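import Groth.Agent.Cycles.PolLawBC
import Mathlib.RingTheory.Ideal.Quotient.Operations
import Mathlib.RingTheory.IntegralClosure.IsIntegralClosure.Basic
import Mathlib.RingTheory.Polynomial.Quotient
import Mathlib.RingTheory.PrincipalIdealDomain
import Mathlib.RingTheory.Spectrum.Prime.Basic

/-!
Points of the support of a multiplicative law in geometric fibres.
-/

universe u

open scoped TensorProduct
open Polynomial (X)
open scoped Polynomial

namespace Groth.Cycles

variable {A : Type u} [CommRing A] {B : Type u} [CommRing B] [Algebra A B] {d : ℕ}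
  (F : PolLaw.MulLaw A B A d)

lemma isIntegral_image : Algebra.IsIntegral A (PolLaw.image F.law) := by
  refine ⟨fun q => ?_⟩
  obtain ⟨b, rfl⟩ := Ideal.Quotient.mk_surjective q
  refine ⟨(-1) ^ d * chi F b, chi_monic F b, ?_⟩
  rw [← Polynomial.aeval_def, ← Ideal.Quotient.mkₐ_eq_mk A, Polynomial.aeval_algHom_apply, map_mul,
    map_mul, Ideal.Quotient.mkₐ_eq_mk,
    Ideal.Quotient.eq_zero_iff_mem.mpr (aeval_chi_mem_ker F b), mul_zero]

lemma isMaximal_of_ker_le {k : Type u} [Field k] {B : Type u} [CommRing B] [Algebra k B]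
    (F : PolLaw.MulLaw k B k d) {P : Ideal B} [P.IsPrime] (hP : PolLaw.ker F.law ≤ P) : P.IsMaximal := by
  have := isIntegral_image F
  let f : PolLaw.image F.law →ₐ[k] B ⧸ P := Ideal.Quotient.factorₐ k hP
  have : Algebra.IsIntegral k (B ⧸ P) :=
    Algebra.IsIntegral.of_surjective f (Ideal.Quotient.factor_surjective hP)
  exact Ideal.Quotient.maximal_of_isField _
    (isField_of_isIntegral_of_isField' (R := k) (Field.toIsField k))

/-- At most `d` primes contain the kernel of a law over a field. -/
theorem card_primes_le {k : Type u} [Field k] {B : Type u} [CommRing B] [Algebra k B]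
    (F : PolLaw.MulLaw k B k d) {ι : Type} [Fintype ι] (P : ι → Ideal B) [hprime : ∀ i, (P i).IsPrime]
    (hle : ∀ i, PolLaw.ker F.law ≤ P i) (hinj : Function.Injective P) : Fintype.card ι ≤ d := by
  classical
  set n := Fintype.card ι with hn
  let eq := (Fintype.equivFin ι).symm
  let Q : Fin n → Ideal B := fun i => P (eq i)
  have hcop : ∀ i : Fin n, ∃ c : B, c - 1 ∈ Q i ∧ ∀ j, j ≠ i → c ∈ Q j := by
    intro i
    have hI : Q i ⊔ ⨅ j ∈ (Finset.univ.erase i), Q j = ⊤ := by
      refine Ideal.sup_iInf_eq_top fun j hj => ?_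
      haveI := isMaximal_of_ker_le F (hle (eq i))
      haveI := isMaximal_of_ker_le F (hle (eq j))
      refine Ideal.IsMaximal.coprime_of_ne inferInstance inferInstance fun he => ?_
      exact (Finset.ne_of_mem_erase hj) (eq.injective (hinj he)).symm
    obtain ⟨u, hu, c, hc, huc⟩ := Submodule.mem_sup.mp (hI ▸ Submodule.mem_top : (1 : B) ∈ _)
    refine ⟨c, ?_, fun j hj => ?_⟩
    · rw [← huc, sub_add_cancel_right]
      exact (Q i).neg_mem hu
    · simp only [Submodule.mem_iInf] at hc
      exact hc j (Finset.mem_erase.mpr ⟨hj, Finset.mem_univ j⟩)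
  choose c hc1 hc0 using hcop
  let z : k[X] ⊗[k] B := ∑ i : Fin n, ((X : k[X]) ^ (i : ℕ)) ⊗ₜ[k] c i
  let g := chi (baseChange F k[X]) z
  have hroot : ∀ i : Fin n, g.IsRoot ((X : k[X]) ^ (i : ℕ)) := by
    intro i
    let L := B ⧸ Q i
    let ev : k[X] ⊗[k] B →ₐ[k] Polynomial L :=
      Algebra.TensorProduct.lift (Polynomial.mapAlgHom (Algebra.ofId k L))
        (((IsScalarTower.toAlgHom k L (Polynomial L))).comp (Ideal.Quotient.mkₐ k (Q i))) (fun _ _ => Commute.all _ _)
    have hker : PolLaw.kerBC F.law k[X] ≤ RingHom.ker ev.toRingHom := by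
      refine Ideal.le_radical.trans ?_
      rw [radical_kerBC_eq F]
      refine ((RingHom.ker_isPrime ev.toRingHom).isRadical.radical_le_iff).mpr ?_
      rw [Ideal.map_le_iff_le_comap]
      intro b hb
      rw [Ideal.mem_comap, RingHom.mem_ker]
      have hb0 : Ideal.Quotient.mkₐ k (Q i) b = 0 := Ideal.Quotient.eq_zero_iff_mem.mpr (hle (eq i) hb : b ∈ Q i)
      simp [ev, hb0]
    have h0 : ev (Polynomial.aeval z g) = 0 := hker (by
      rw [← ker_baseChange]
      exact aeval_chi_mem_ker _ z)
    have hz : ev z = (X : Polynomial L) ^ (i : ℕ) := by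
      simp only [z, map_sum]
      rw [Finset.sum_eq_single i]
      · have : Ideal.Quotient.mk (Q i) (c i) = 1 := by
          rw [← map_one (Ideal.Quotient.mk (Q i)), Ideal.Quotient.eq]
          exact hc1 i
        have h1 : Ideal.Quotient.mkₐ k (Q i) (c i) = 1 := this
        simp [ev, h1]
      · intro j _ hj
        have h1 : Ideal.Quotient.mkₐ k (Q i) (c j) = 0 := Ideal.Quotient.eq_zero_iff_mem.mpr (hc0 j i hj.symm)
        simp [ev, h1]
      · simp
    have hbase : ∀ p : k[X], ev (algebraMap k[X] (k[X] ⊗[k] B) p) = p.map (algebraMap k L) := by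
      intro p
      simp [ev, Algebra.ofId_apply]
    have hinjk : Function.Injective (Polynomial.map (algebraMap k L)) :=
      Polynomial.map_injective _ (algebraMap k L).injective
    rw [Polynomial.IsRoot.def]
    apply hinjk
    rw [Polynomial.map_zero, ← hbase, ← h0]
    rw [Polynomial.aeval_eq_sum_range, Polynomial.eval_eq_sum_range, map_sum, map_sum, map_sum]
    refine Finset.sum_congr rfl fun m _ => ?_
    simp only [Algebra.smul_def, map_mul, map_pow, hz, hbase, Polynomial.map_X]
  have hne : g ≠ 0 := fun h => by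
    have := chi_monic (baseChange F k[X]) z
    rw [show chi (baseChange F k[X]) z = g from rfl, h, mul_zero] at this
    exact Polynomial.not_monic_zero this
  have hcard := Finset.card_le_card_of_injOn (fun i : Fin n => (X : k[X]) ^ (i : ℕ))
    (s := Finset.univ) (t := g.roots.toFinset)
    (fun i _ => Multiset.mem_toFinset.mpr ((Polynomial.mem_roots hne).mpr (hroot i)))
    (fun i _ j _ h => Fin.ext (by simpa using congrArg Polynomial.natDegree h))
  rw [Finset.card_univ, Fintype.card_fin] at hcard
  exact hcard.trans ((Multiset.toFinset_card_le _).trans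
    ((Polynomial.card_roots' g).trans (chi_natDegree_le _ z)))

/-- At most `d` homomorphisms to a field kill the kernel. -/
theorem card_homs_le (K : Type u) [Field K] [Algebra A K] {ι : Type} [Fintype ι] (h : ι → (B →ₐ[A] K))
    (hle : ∀ i, PolLaw.ker F.law ≤ RingHom.ker (h i).toRingHom) (hinj : Function.Injective h) :
    Fintype.card ι ≤ d := by
  let e : ι → (K ⊗[A] B →ₐ[K] K) := fun i =>
    Algebra.TensorProduct.lift (AlgHom.id K K) (h i) (fun _ _ => Commute.all _ _)
  refine card_primes_le (baseChange F K) (fun i => RingHom.ker (e i).toRingHom)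
    (hprime := fun i => RingHom.ker_isPrime _) (fun i => ?_) (fun i j hij => hinj ?_)
  · rw [ker_baseChange]
    refine Ideal.le_radical.trans ?_
    rw [radical_kerBC_eq F]
    refine ((RingHom.ker_isPrime (e i).toRingHom).isRadical.radical_le_iff).mpr ?_
    rw [Ideal.map_le_iff_le_comap]
    intro b hb
    have := hle i hb
    rw [RingHom.mem_ker] at this
    rw [Ideal.mem_comap, RingHom.mem_ker]
    simpa [e] using this
  · refine AlgHom.ext fun b => ?_
    have hmem : ((1 : K) ⊗ₜ[A] b - algebraMap K (K ⊗[A] B) (h i b)) ∈ RingHom.ker (e i).toRingHom := by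
      simp [e]
    rw [show RingHom.ker (e i).toRingHom = RingHom.ker (e j).toRingHom from hij, RingHom.mem_ker] at hmem
    simp only [e, AlgHom.toRingHom_eq_coe, RingHom.coe_coe, map_sub, Algebra.TensorProduct.lift_tmul,
      AlgHom.commutes, map_one, one_mul] at hmem
    simpa using (sub_eq_zero.mp hmem).symm

lemma finite_and_natCard_le_of_finset {α : Type*} {n : ℕ} (h : ∀ s : Finset α, s.card ≤ n) :
    Finite α ∧ Nat.card α ≤ n := by
  have hf : Finite α := by
    by_contra hc
    rw [not_finite_iff_infinite] at hc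
    obtain ⟨s, hs⟩ := Infinite.exists_subset_card_eq α (n + 1)
    have := h s
    omega
  have := Fintype.ofFinite α
  exact ⟨hf, by rw [Nat.card_eq_fintype_card]; exact h Finset.univ⟩

theorem finite_primeSpectrum_image {k : Type u} [Field k] {B : Type u} [CommRing B] [Algebra k B]
    (F : PolLaw.MulLaw k B k d) :
    Finite (PrimeSpectrum (PolLaw.image F.law)) ∧ Nat.card (PrimeSpectrum (PolLaw.image F.law)) ≤ d := by
  refine finite_and_natCard_le_of_finset fun s => ?_
  have := card_primes_le F (ι := Fin s.card)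
    (fun i => ((s.equivFin.symm i : PrimeSpectrum (PolLaw.image F.law)).asIdeal).comap (Ideal.Quotient.mk _))
    (hprime := fun i => Ideal.IsPrime.comap _) (fun i b hb => by
      rw [Ideal.mem_comap, Ideal.Quotient.eq_zero_iff_mem.mpr hb]
      exact Ideal.zero_mem _)
    (fun i j hij => by
      refine s.equivFin.symm.injective (Subtype.ext (PrimeSpectrum.ext ?_))
      exact Ideal.comap_injective_of_surjective _ Ideal.Quotient.mk_surjective hij)
  simpa using this

lemma torsionfree_image [IsDomain A] {a : A} (ha : a ≠ 0) {x : B}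
    (hx : a • x ∈ PolLaw.ker F.law) : x ∈ PolLaw.ker F.law := by
  rw [mem_ker_iff] at hx ⊢
  intro c
  let ψ : A[X] →ₐ[A] A[X] := Polynomial.aeval (a • X)
  have hψ : Function.Injective ψ := fun p q h => by
    have hd : (a • X : A[X]).natDegree = 1 := by rw [Polynomial.smul_eq_C_mul]; exact Polynomial.natDegree_C_mul_X a ha
    have h0 : (p - q).comp (a • X) = 0 := by
      rw [Polynomial.sub_comp, sub_eq_zero]
      simpa [ψ, Polynomial.comp_eq_aeval] using h
    rcases Polynomial.comp_eq_zero_iff.mp h0 with h | ⟨-, h⟩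
    · exact sub_eq_zero.mp h
    · rw [h, Polynomial.natDegree_C] at hd; exact absurd hd zero_ne_one
  apply (Algebra.TensorProduct.rid A A A[X]).injective
  rw [map_one]
  apply hψ
  rw [map_one]
  have h1 : tmap ψ A (F.law.toFun' A[X] (1 + (X : A[X]) ⊗ₜ[A] (c * x))) = 1 := by
    rw [law_nat, map_add, map_one, Algebra.TensorProduct.map_tmul, AlgHom.id_apply,
      show ψ X = a • X from Polynomial.aeval_X _, TensorProduct.smul_tmul, ← mul_smul_comm]
    exact hx c
  have e : ∀ w : A[X] ⊗[A] A, ψ (Algebra.TensorProduct.rid A A A[X] w) =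
      Algebra.TensorProduct.rid A A A[X] (tmap ψ A w) := by
    intro w
    induction w using TensorProduct.induction_on with
    | zero => simp
    | tmul q r => simp [map_smul]
    | add u v hu hv => simp [map_add, hu, hv]
  rw [e, h1, map_one]

end Groth.Cycles
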