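import Groth.Agent.Cycles.PolLawSym
import Mathlib.RingTheory.IntegralClosure.Algebra.Basic
import Mathlib.RingTheory.IntegralClosure.IntegralRestrict

/-!
The subalgebra generated by the values of a multiplicative law on a finite (resp. integral) algebra
is finite (resp. integral).
-/

universe u

open scoped TensorProduct

namespace Groth.Cycles.Sym

variable {A : Type u} [CommRing A] {d : ℕ}
  {B : Type u} [CommRing B] [Algebra A B] {C : Type u} [CommRing C] [Algebra A C]

lemma mvCoef_lTensor {σ : Type u} (m : σ →₀ ℕ) {M N : Type u} [AddCommGroup M] [Module A M]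
    [AddCommGroup N] [Module A N] (L : M →ₗ[A] N) (z : MvPolynomial σ A ⊗[A] M) :
    Free.mvCoef m N (L.lTensor _ z) = L (Free.mvCoef m M z) := by
  induction z using TensorProduct.induction_on with
  | zero => simp
  | tmul p n => simp [LinearMap.lTensor_tmul]
  | add x y hx hy => simp only [map_add, hx, hy]

/-- If all values of a law lie in a submodule `N`, so does the image of `presHom`. -/
lemma presHom_mem (G : PolLaw.MulLaw A B C d) (N : Submodule A C)
    (h : ∀ (S : Type u) [CommSemiring S] [Algebra A S] (x : S ⊗[A] B),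
      G.law.toFun' S x ∈ LinearMap.range (N.subtype.lTensor S))
    (z : SymTen.TS A (MvPolynomial B A) d) : presHom G z ∈ N := by
  have h0 : N.mkQ ∘ₗ (presHom G).toLinearMap = 0 := by
    refine Free.lin_ext (MvPolynomial.basisMonomials B A) _ _ fun S _ _ x => ?_
    rw [LinearMap.lTensor_comp, LinearMap.comp_apply, presHom_spec]
    obtain ⟨w, hw⟩ := h S ((pres B).toLinearMap.lTensor S x)
    rw [← hw, ← LinearMap.comp_apply, ← LinearMap.lTensor_comp]
    have : N.mkQ ∘ₗ N.subtype = 0 := LinearMap.ext fun w => by simp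
    simp [this]
  have := LinearMap.congr_fun h0 z
  exact (Submodule.Quotient.mk_eq_zero N).mp this

/-- The coefficient `mvCoef` of a value of the law lies in the range of `presHom`. -/
lemma mvCoef_value_mem (G : PolLaw.MulLaw A B C d) {σ : Type u} (m : σ →₀ ℕ)
    (x : MvPolynomial σ A ⊗[A] B) :
    Free.mvCoef m C (G.law.toFun' _ x) ∈ (presHom G).range.toSubmodule := by
  obtain ⟨y, rfl⟩ := LinearMap.lTensor_surjective (MvPolynomial σ A) (g := (pres (A := A) B).toLinearMap)
    pres_surjective x
  rw [← presHom_spec, mvCoef_lTensor]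
  exact ⟨_, rfl⟩

/-- On a finite algebra the image of `presHom` is a finite module. -/
lemma range_presHom_fg [Module.Finite A B] (G : PolLaw.MulLaw A B C d) :
    (presHom G).range.toSubmodule.FG := by
  classical
  obtain ⟨n, g, hg⟩ := Module.Finite.exists_fin (R := A) (M := B)
  let P := MvPolynomial (ULift.{u} (Fin n)) A
  let X0 : P ⊗[A] B := ∑ j, MvPolynomial.X (ULift.up j) ⊗ₜ[A] g j
  obtain ⟨M, hM⟩ := Free.mvDecomp (G.law.toFun' P X0)
  let N : Submodule A C := Submodule.span A (M.image fun m => Free.mvCoef m C (G.law.toFun' P X0) : Finset C)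
  have hN : (presHom G).range.toSubmodule = N := by
    apply le_antisymm
    · rintro - ⟨z, rfl⟩
      refine presHom_mem G N (fun S _ _ x => ?_) z
      have hx : ∃ s : Fin n → S, x = ∑ j, s j ⊗ₜ[A] g j := by
        induction x using TensorProduct.induction_on with
        | zero => exact ⟨0, by simp⟩
        | tmul a b =>
          have hb : b ∈ Submodule.span A (Set.range g) := hg ▸ Submodule.mem_top
          obtain ⟨c, rfl⟩ := (Submodule.mem_span_range_iff_exists_fun A).mp hb
          exact ⟨fun j => c j • a, by simp [TensorProduct.tmul_sum, TensorProduct.smul_tmul]⟩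
        | add x y hx hy =>
          obtain ⟨s, rfl⟩ := hx
          obtain ⟨t, rfl⟩ := hy
          exact ⟨s + t, by simp [TensorProduct.add_tmul, Finset.sum_add_distrib]⟩
      obtain ⟨s, rfl⟩ := hx
      let ev : P →ₐ[A] S := MvPolynomial.aeval fun j => s j.down
      have h1 := congrFun (G.law.isCompat' ev) X0
      simp only [Function.comp_apply] at h1
      have h2 : ev.toLinearMap.rTensor B X0 = ∑ j, s j ⊗ₜ[A] g j := by
        simp only [X0, map_sum, LinearMap.rTensor_tmul]
        exact Finset.sum_congr rfl fun j _ => by rw [AlgHom.toLinearMap_apply]; simp only [ev]; rw [MvPolynomial.aeval_X]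
      rw [h2] at h1
      rw [← h1, hM M le_rfl, map_sum]
      refine Submodule.sum_mem _ fun m hm => ⟨ev (MvPolynomial.monomial m 1) ⊗ₜ[A]
        ⟨Free.mvCoef m C (G.law.toFun' P X0), Submodule.subset_span (Finset.mem_image_of_mem _ hm)⟩, ?_⟩
      simp [LinearMap.rTensor_tmul, LinearMap.lTensor_tmul]
    · rw [Submodule.span_le]
      intro c hc
      obtain ⟨m, -, rfl⟩ := Finset.mem_image.mp (Finset.mem_coe.mp hc)
      exact mvCoef_value_mem G m X0
  exact ⟨_, hN.symm⟩

lemma moduleFinite_of_isGammaD [Module.Finite A B] (γ : PolLaw.MulLaw A B C d)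
    (hγ : PolLaw.IsGammaD γ) : Module.Finite A C := by
  have h := range_presHom_fg γ
  rw [AlgHom.range_eq_top (presHom γ) |>.mpr (presHom_surjective γ hγ), Algebra.top_toSubmodule] at h
  exact ⟨h⟩

lemma isIntegral_of_isGammaD [Algebra.IsIntegral A B] (γ : PolLaw.MulLaw A B C d)
    (hγ : PolLaw.IsGammaD γ) : Algebra.IsIntegral A C := by
  classical
  refine ⟨fun c => ?_⟩
  obtain ⟨z, rfl⟩ := presHom_surjective γ hγ c
  refine presHom_mem γ (integralClosure A C).toSubmodule (fun S _ _ x => ?_) z
  obtain ⟨n, s, b, rfl⟩ := exists_fin_sum x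
  let B' : Subalgebra A B := Algebra.adjoin A (Set.range b)
  have : Module.Finite A B' :=
    ⟨(Submodule.fg_top _).mpr (fg_adjoin_of_finite (Set.finite_range b) fun y _ => Algebra.IsIntegral.isIntegral y)⟩
  let G : PolLaw.MulLaw A B' C d := γ.precomp B'.val
  have hle : (presHom G).range ≤ integralClosure A C :=
    fun c hc => .of_mem_of_fg (presHom G).range (range_presHom_fg G) c hc
  have hb : ∀ j, b j ∈ B' := fun j => Algebra.subset_adjoin ⟨j, rfl⟩
  let x' : S ⊗[A] B' := ∑ j, s j ⊗ₜ[A] ⟨b j, hb j⟩
  have hx' : γ.law.toFun' S (∑ j, s j ⊗ₜ[A] b j) = G.law.toFun' S x' := by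
    show _ = γ.law.toFun' S (B'.val.toLinearMap.lTensor S x')
    congr 1
    simp [x', map_sum, LinearMap.lTensor_tmul]
  rw [hx']
  obtain ⟨y, hy⟩ := LinearMap.lTensor_surjective S (g := (pres (A := A) B').toLinearMap) pres_surjective x'
  rw [← hy, ← presHom_spec]
  have key : ∀ w, (presHom G).toLinearMap.lTensor S w ∈
      LinearMap.range ((integralClosure A C).toSubmodule.subtype.lTensor S) := by
    intro w
    induction w using TensorProduct.induction_on with
    | zero => simp
    | tmul a t => exact ⟨a ⊗ₜ[A] ⟨presHom G t, hle ⟨t, rfl⟩⟩, by simp [LinearMap.lTensor_tmul]⟩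
    | add u v hu hv => rw [map_add]; exact Submodule.add_mem _ hu hv
  exact key _

end Groth.Cycles.Sym
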