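import Groth.Agent.Cycles.PolLawKer
import Groth.Prelude.Def_PolLaw2
import Mathlib.LinearAlgebra.PiTensorProduct.Basis
import Mathlib.RingTheory.MvPolynomial.Basic
import Mathlib.Data.Finsupp.Weight

/-!
For an algebra `B` with a basis, the symmetric tensors with the law `x ↦ x ⊗ ⋯ ⊗ x` are the degree `d`
divided powers: homogeneous laws of degree `d` are linear maps out of `TS^d`, multiplicative ones are
algebra maps.
-/

universe u

open scoped TensorProduct
open PiTensorProduct (tprod)

namespace Groth.Cycles.Free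

variable {A : Type u} [CommRing A] {B : Type u} [CommRing B] [Algebra A B] {κ : Type u}
  (e : Module.Basis κ A B) {d : ℕ}

open scoped Classical

/-- The exponent vector of a tuple of indices. -/
noncomputable def key (f : Fin d → κ) : κ →₀ ℕ := ∑ i, Finsupp.single (f i) 1

lemma key_apply (f : Fin d → κ) (k : κ) : key f k = Fintype.card {i // f i = k} := by
  rw [key, Finsupp.finsetSum_apply, Fintype.card_subtype]
  simp [Finsupp.single_apply, Finset.sum_boole]

lemma key_comp_perm (f : Fin d → κ) (σ : Equiv.Perm (Fin d)) : key (fun i => f (σ i)) = key f := by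
  unfold key
  exact Equiv.sum_comp σ (fun i => Finsupp.single (f i) 1)

lemma exists_perm_of_key_eq {f g : Fin d → κ} (h : key f = key g) :
    ∃ σ : Equiv.Perm (Fin d), ∀ i, g (σ i) = f i := by
  have hk : ∀ k, Fintype.card {i // f i = k} = Fintype.card {i // g i = k} := fun k => by
    rw [← key_apply, ← key_apply, h]
  exact ⟨Equiv.ofFiberEquiv fun k => Fintype.equivOfCardEq (hk k), fun i => Equiv.ofFiberEquiv_map _ i⟩

lemma mem_support_key (f : Fin d → κ) (i : Fin d) : f i ∈ (key f).support := by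
  rw [Finsupp.mem_support_iff, key_apply]
  exact (Fintype.card_pos_iff.mpr ⟨(⟨i, rfl⟩ : {j // f j = f i})⟩).ne'

lemma degree_key (f : Fin d → κ) : (key f).degree = d := by
  unfold key
  simp [map_sum, Finsupp.degree_single]

lemma exists_key_eq : ∀ (d : ℕ) (m : κ →₀ ℕ), m.degree = d → ∃ f : Fin d → κ, key f = m := by
  intro d
  induction d with
  | zero =>
    intro m hm
    exact ⟨Fin.elim0, by simp [key, (Finsupp.degree_eq_zero_iff m).mp hm]⟩
  | succ d ih =>
    intro m hm
    obtain ⟨k, hk⟩ : ∃ k, m k ≠ 0 := by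
      by_contra hc
      push Not at hc
      rw [show m = 0 from Finsupp.ext hc, map_zero] at hm
      omega
    have hsplit : m = Finsupp.single k 1 + (m - Finsupp.single k 1) := by
      rw [add_tsub_cancel_of_le (Finsupp.single_le_iff.mpr (Nat.one_le_iff_ne_zero.mpr hk))]
    obtain ⟨f, hf⟩ := ih (m - Finsupp.single k 1) (by
      rw [hsplit, map_add, Finsupp.degree_single] at hm
      omega)
    refine ⟨Fin.cons k f, ?_⟩
    rw [key, Fin.sum_univ_succ]
    simp only [Fin.cons_zero, Fin.cons_succ]
    exact (congrArg _ hf).trans hsplit.symm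

variable (d)

/-- The tuples with a given exponent vector. -/
noncomputable def orbit (m : κ →₀ ℕ) : Finset (Fin d → κ) :=
  (Fintype.piFinset fun _ : Fin d => m.support).filter fun f => key f = m

lemma mem_orbit {m : κ →₀ ℕ} {f : Fin d → κ} : f ∈ orbit d m ↔ key f = m := by
  rw [orbit, Finset.mem_filter, Fintype.mem_piFinset]
  exact ⟨fun h => h.2, fun h => ⟨fun i => h ▸ mem_support_key f i, h⟩⟩

/-- A representative tuple of an exponent vector, if there is one. -/
noncomputable def rep (m : κ →₀ ℕ) : Option (Fin d → κ) :=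
  if h : ∃ f : Fin d → κ, key f = m then some h.choose else none

variable {d} in
lemma rep_key (f : Fin d → κ) : ∃ g, rep d (key f) = some g ∧ key g = key f := by
  have h : ∃ g : Fin d → κ, key g = key f := ⟨f, rfl⟩
  exact ⟨h.choose, dif_pos h, h.choose_spec⟩

/-- The basis of the tensor power. -/
noncomputable def tpBasis : Module.Basis (Fin d → κ) A (⨂[A] _ : Fin d, B) :=
  Basis.piTensorProduct fun _ : Fin d => e

lemma tpBasis_apply (f : Fin d → κ) : tpBasis e d f = tprod A (fun i => e (f i)) :=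
  Basis.piTensorProduct_apply _ _

lemma reindex_tpBasis (σ : Equiv.Perm (Fin d)) (f : Fin d → κ) :
    PiTensorProduct.reindex A (fun _ : Fin d => B) σ (tpBasis e d f) = tpBasis e d fun i => f (σ.symm i) := by
  rw [tpBasis_apply, tpBasis_apply, PiTensorProduct.reindex_tprod]

lemma orbitSum_mem (m : κ →₀ ℕ) : ∑ f ∈ orbit d m, tpBasis e d f ∈ SymTen.TS A B d := by
  intro σ
  rw [map_sum]
  simp only [reindex_tpBasis]
  refine Finset.sum_nbij' (fun f i => f (σ.symm i)) (fun f i => f (σ i)) ?_ ?_ ?_ ?_ ?_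
  · intro f hf
    rw [mem_orbit] at hf ⊢
    rw [← hf]
    exact key_comp_perm f σ.symm
  · intro f hf
    rw [mem_orbit] at hf ⊢
    rw [← hf]
    exact key_comp_perm f σ
  · intro f _; simp
  · intro f _; simp
  · intro f _; rfl

/-- The orbit sum of an exponent vector, a symmetric tensor. -/
noncomputable def o (m : κ →₀ ℕ) : SymTen.TS A B d := ⟨_, orbitSum_mem e d m⟩

/-- A linear map on the tensor power given by one value for each exponent vector. -/
noncomputable def onReps {N : Type u} [AddCommGroup N] [Module A N] (c : (κ →₀ ℕ) → N) :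
    (⨂[A] _ : Fin d, B) →ₗ[A] N :=
  (tpBasis e d).constr ℕ fun f => if rep d (key f) = some f then c (key f) else 0

lemma onReps_o {N : Type u} [AddCommGroup N] [Module A N] (c : (κ →₀ ℕ) → N) (m : κ →₀ ℕ)
    (hm : ∃ f : Fin d → κ, key f = m) : onReps e d c (o e d m : ⨂[A] _ : Fin d, B) = c m := by
  obtain ⟨f, rfl⟩ := hm
  obtain ⟨g, hg, hgk⟩ := rep_key f
  show onReps e d c (∑ h ∈ orbit d (key f), tpBasis e d h) = _
  rw [map_sum, Finset.sum_eq_single g]
  · rw [onReps, Module.Basis.constr_basis, hgk, if_pos hg]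
  · intro h hh hne
    rw [mem_orbit] at hh
    rw [onReps, Module.Basis.constr_basis, hh, hg, if_neg fun he => hne (Option.some_injective _ he).symm]
  · intro h
    exact absurd ((mem_orbit d).mpr hgk) h

lemma TS_eq_sum (z : SymTen.TS A B d) :
    ∃ (M : Finset (κ →₀ ℕ)) (c : (κ →₀ ℕ) → A), (∀ m ∈ M, ∃ f : Fin d → κ, key f = m) ∧
      z = ∑ m ∈ M, c m • o e d m := by
  set cz := (tpBasis e d).repr (z : ⨂[A] _ : Fin d, B) with hcz
  have hinv : ∀ f g : Fin d → κ, key f = key g → cz f = cz g := by
    intro f g h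
    obtain ⟨σ, hσ⟩ := exists_perm_of_key_eq h
    have hz := z.2 σ
    conv_rhs => rw [hcz, ← hz]
    have hmap : ∀ w : ⨂[A] _ : Fin d, B,
        (tpBasis e d).repr (PiTensorProduct.reindex A (fun _ : Fin d => B) σ w) g = (tpBasis e d).repr w f := by
      intro w
      have := congrArg (fun L : (⨂[A] _ : Fin d, B) →ₗ[A] A => L w)
        ((tpBasis e d).ext (f₁ := (Finsupp.lapply g) ∘ₗ (tpBasis e d).repr.toLinearMap ∘ₗ
            (PiTensorProduct.reindex A (fun _ : Fin d => B) σ).toLinearMap)
          (f₂ := (Finsupp.lapply f) ∘ₗ (tpBasis e d).repr.toLinearMap) fun h' => by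
          simp only [LinearMap.comp_apply, LinearEquiv.coe_coe, Finsupp.lapply_apply, reindex_tpBasis,
            Module.Basis.repr_self, Finsupp.single_apply]
          refine if_congr ⟨fun he => funext fun i => ?_, fun he => funext fun i => ?_⟩ rfl rfl
          · rw [← hσ i, ← he]; simp
          · rw [he, ← hσ (σ.symm i)]; simp)
      exact this
    exact (hmap _).symm
  refine ⟨cz.support.image key, fun m => if h : ∃ f : Fin d → κ, key f = m then cz h.choose else 0,
    fun m hm => ?_, Subtype.ext ?_⟩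
  · obtain ⟨f, -, rfl⟩ := Finset.mem_image.mp hm
    exact ⟨f, rfl⟩
  conv_lhs => rw [← (tpBasis e d).linearCombination_repr (z : ⨂[A] _ : Fin d, B), ← hcz,
    Finsupp.linearCombination_apply, Finsupp.sum]
  rw [AddSubmonoidClass.coe_finsetSum, ← Finset.sum_fiberwise_of_maps_to (g := key) (t := cz.support.image key)
    (fun f hf => Finset.mem_image_of_mem key hf)]
  refine Finset.sum_congr rfl fun m hm => ?_
  obtain ⟨f₀, -, rfl⟩ := Finset.mem_image.mp hm
  have hex : ∃ f : Fin d → κ, key f = key f₀ := ⟨f₀, rfl⟩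
  show _ = _ • ∑ f ∈ orbit d (key f₀), tpBasis e d f
  simp only [dif_pos hex, Finset.smul_sum]
  refine Finset.sum_subset_zero_on_sdiff (fun f hf => (mem_orbit d).mpr (Finset.mem_filter.mp hf).2) ?_ ?_
  · intro f hf
    rw [Finset.mem_sdiff, mem_orbit, Finset.mem_filter, Finsupp.mem_support_iff] at hf
    rw [hinv _ f (hex.choose_spec.trans hf.1.symm), not_not.mp fun h => hf.2 ⟨h, hf.1⟩, zero_smul]
  · intro f hf
    rw [hinv _ f (hex.choose_spec.trans (Finset.mem_filter.mp hf).2.symm)]

/-- The projection of the tensor power onto the symmetric tensors. -/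
noncomputable def proj : (⨂[A] _ : Fin d, B) →ₗ[A] SymTen.TS A B d := onReps e d (o e d)

lemma proj_val (z : SymTen.TS A B d) : proj e d (z : ⨂[A] _ : Fin d, B) = z := by
  obtain ⟨M, c, hM, rfl⟩ := TS_eq_sum e d z
  rw [AddSubmonoidClass.coe_finsetSum, map_sum]
  refine Finset.sum_congr rfl fun m hm => ?_
  rw [SetLike.val_smul, map_smul, proj, onReps_o e d _ m (hM m hm)]

include e in
lemma lTensor_val_injective (S : Type u) [CommSemiring S] [Algebra A S] :
    Function.Injective ((SymTen.TS A B d).val.toLinearMap.lTensor S) :=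
  Function.LeftInverse.injective (g := (proj e d).lTensor S) fun z => by
    rw [← LinearMap.comp_apply, ← LinearMap.lTensor_comp,
      show proj e d ∘ₗ (SymTen.TS A B d).val.toLinearMap = LinearMap.id from LinearMap.ext (proj_val e d),
      LinearMap.lTensor_id, LinearMap.id_apply]

lemma exists_eq_sum {S : Type u} [CommSemiring S] [Algebra A S] (x : S ⊗[A] B) :
    ∃ (s : Finset κ) (t : κ → S), x = ∑ k ∈ s, t k ⊗ₜ[A] e k := by
  let b := Algebra.TensorProduct.basis S e
  refine ⟨(b.repr x).support, fun k => b.repr x k, ?_⟩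
  conv_lhs => rw [← b.linearCombination_repr x, Finsupp.linearCombination_apply, Finsupp.sum]
  refine Finset.sum_congr rfl fun k _ => ?_
  rw [Algebra.TensorProduct.basis_apply, TensorProduct.smul_tmul', smul_eq_mul, mul_one]

/-- The exponent vectors of degree `d` supported in `s`. -/
noncomputable def degs (s : Finset κ) : Finset (κ →₀ ℕ) := (Fintype.piFinset fun _ : Fin d => s).image key

lemma mem_degs {s : Finset κ} {m : κ →₀ ℕ} : m ∈ degs d s ↔ m.degree = d ∧ m.support ⊆ s := by
  rw [degs, Finset.mem_image]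
  constructor
  · rintro ⟨f, hf, rfl⟩
    refine ⟨degree_key f, fun k hk => ?_⟩
    rw [Finsupp.mem_support_iff, key_apply, ← Nat.pos_iff_ne_zero, Fintype.card_pos_iff] at hk
    obtain ⟨⟨i, rfl⟩⟩ := hk
    exact Fintype.mem_piFinset.mp hf i
  · rintro ⟨hm, hs⟩
    obtain ⟨f, rfl⟩ := exists_key_eq d m hm
    exact ⟨f, Fintype.mem_piFinset.mpr fun i => hs (mem_support_key f i), rfl⟩

lemma tpow_sum {S : Type u} [CommSemiring S] [Algebra A S] (s : Finset κ) (t : κ → S) :
    (SymTen.tpowLaw A B d).law.toFun' S (∑ k ∈ s, t k ⊗ₜ[A] e k) =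
      (SymTen.TS A B d).val.toLinearMap.lTensor S
        (∑ m ∈ degs d s, (m.prod fun k n => t k ^ n) ⊗ₜ[A] o e d m) := by
  have hterm : ∀ f : Fin d → κ,
      ∏ j, Algebra.TensorProduct.map (AlgHom.id S S)
        (PiTensorProduct.singleAlgHom (R := A) (A := fun _ : Fin d => B) j) (t (f j) ⊗ₜ[A] e (f j)) =
      ((key f).prod fun k n => t k ^ n) ⊗ₜ[A] tpBasis e d f := by
    intro f
    have hk : ((key f).prod fun k n => t k ^ n) = ∏ j, t (f j) := by
      rw [key, ← Finsupp.prod_finsetSum_index (fun k => pow_zero _) (fun k a b => pow_add _ _ _)]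
      simp [Finsupp.prod_single_index]
    rw [hk, tpBasis_apply]
    simp only [Algebra.TensorProduct.map_tmul, AlgHom.id_apply]
    have : ∀ u : Finset (Fin d),
        ∏ j ∈ u, (t (f j) ⊗ₜ[A] PiTensorProduct.singleAlgHom (R := A) (A := fun _ : Fin d => B) j (e (f j))) =
        (∏ j ∈ u, t (f j)) ⊗ₜ[A] ∏ j ∈ u, PiTensorProduct.singleAlgHom (R := A) (A := fun _ : Fin d => B) j (e (f j)) := by
      intro u
      induction u using Finset.induction_on with
      | empty => simp [Algebra.TensorProduct.one_def]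
      | insert j u hj ih =>
        rw [Finset.prod_insert hj, Finset.prod_insert hj, Finset.prod_insert hj, ih, Algebra.TensorProduct.tmul_mul_tmul]
    rw [this]
    congr 1
    simp only [PiTensorProduct.singleAlgHom_apply, MonoidHom.mulSingle_apply]
    rw [← PiTensorProduct.tprod_prod]
    exact congrArg _ (Finset.univ_prod_mulSingle (fun j => e (f j)))
  simp only [SymTen.tpowLaw, PolLaw.MulLaw.prodMap_toFun', map_sum]
  rw [Finset.prod_univ_sum, Finset.sum_congr rfl (fun f _ => hterm f), degs,
    ← Finset.sum_fiberwise_of_maps_to (g := key) (t := (Fintype.piFinset fun _ : Fin d => s).image key)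
      (fun f hf => Finset.mem_image_of_mem key hf)]
  refine Finset.sum_congr rfl fun m hm => ?_
  obtain ⟨f₀, hf₀, rfl⟩ := Finset.mem_image.mp hm
  rw [LinearMap.lTensor_tmul]
  show _ = _ ⊗ₜ[A] ∑ f ∈ orbit d (key f₀), tpBasis e d f
  rw [TensorProduct.tmul_sum]
  refine Finset.sum_congr ?_ fun f hf => by rw [(mem_orbit d).mp hf]
  ext f
  simp only [Finset.mem_filter, mem_orbit, Fintype.mem_piFinset, and_iff_right_iff_imp]
  intro h i
  exact ((mem_degs d).mp hm).2 (h ▸ mem_support_key f i)

lemma val_proj_tpow {S : Type u} [CommSemiring S] [Algebra A S] (x : S ⊗[A] B) :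
    (SymTen.TS A B d).val.toLinearMap.lTensor S ((proj e d).lTensor S ((SymTen.tpowLaw A B d).law.toFun' S x)) =
      (SymTen.tpowLaw A B d).law.toFun' S x := by
  obtain ⟨s, t, rfl⟩ := exists_eq_sum e x
  rw [tpow_sum e d]
  congr 1
  simp only [map_sum, LinearMap.lTensor_tmul]
  exact Finset.sum_congr rfl fun m _ => by
    rw [show (SymTen.TS A B d).val.toLinearMap (o e d m) = (o e d m : ⨂[A] _ : Fin d, B) from rfl, proj_val]

/-- The law `x ↦ x ⊗ ⋯ ⊗ x` into the symmetric tensors. -/
noncomputable def tsLaw : PolLaw.MulLaw A B (SymTen.TS A B d) d where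
  law := PolLaw.postcomp (proj e d) (SymTen.tpowLaw A B d).law
  homog S _ _ r x := by
    apply lTensor_val_injective e d S
    show (SymTen.TS A B d).val.toLinearMap.lTensor S ((proj e d).lTensor S _) =
      (SymTen.TS A B d).val.toLinearMap.lTensor S (r ^ d • (proj e d).lTensor S _)
    rw [val_proj_tpow, (SymTen.tpowLaw A B d).homog S r x, PolLaw.lTensor_algHom_apply, map_smul,
      ← PolLaw.lTensor_algHom_apply, val_proj_tpow]
  mult S _ _ := by
    refine ⟨lTensor_val_injective e d S ?_, fun x y => lTensor_val_injective e d S ?_⟩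
    · show (SymTen.TS A B d).val.toLinearMap.lTensor S ((proj e d).lTensor S _) = _
      rw [val_proj_tpow, ((SymTen.tpowLaw A B d).mult S).1, PolLaw.lTensor_algHom_apply, map_one]
    · show (SymTen.TS A B d).val.toLinearMap.lTensor S ((proj e d).lTensor S _) =
        (SymTen.TS A B d).val.toLinearMap.lTensor S (((proj e d).lTensor S _) * ((proj e d).lTensor S _))
      rw [val_proj_tpow, ((SymTen.tpowLaw A B d).mult S).2 x y, PolLaw.lTensor_algHom_apply, map_mul,
        ← PolLaw.lTensor_algHom_apply, ← PolLaw.lTensor_algHom_apply, val_proj_tpow, val_proj_tpow]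

lemma tsLaw_val {S : Type u} [CommSemiring S] [Algebra A S] (x : S ⊗[A] B) :
    (SymTen.TS A B d).val.toLinearMap.lTensor S ((tsLaw e d).law.toFun' S x) =
      (SymTen.tpowLaw A B d).law.toFun' S x :=
  val_proj_tpow e d x

lemma tsLaw_sum {S : Type u} [CommSemiring S] [Algebra A S] (s : Finset κ) (t : κ → S) :
    (tsLaw e d).law.toFun' S (∑ k ∈ s, t k ⊗ₜ[A] e k) =
      ∑ m ∈ degs d s, (m.prod fun k n => t k ^ n) ⊗ₜ[A] o e d m :=
  lTensor_val_injective e d S (by rw [tsLaw_val, tpow_sum])

/-- The coefficient functional on a tensor product with a polynomial ring. -/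
noncomputable def mvCoef {σ : Type u} (m : σ →₀ ℕ) (N : Type u) [AddCommGroup N] [Module A N] :
    MvPolynomial σ A ⊗[A] N →ₗ[A] N :=
  (TensorProduct.lid A N).toLinearMap ∘ₗ (MvPolynomial.lcoeff A m).rTensor N

@[simp]
lemma mvCoef_tmul {σ : Type u} (m : σ →₀ ℕ) {N : Type u} [AddCommGroup N] [Module A N]
    (p : MvPolynomial σ A) (n : N) : mvCoef m N (p ⊗ₜ[A] n) = p.coeff m • n := by
  simp [mvCoef, MvPolynomial.lcoeff_apply]

lemma mvDecomp {σ : Type u} {N : Type u} [AddCommGroup N] [Module A N] (z : MvPolynomial σ A ⊗[A] N) :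
    ∃ M : Finset (σ →₀ ℕ), ∀ M', M ⊆ M' → z = ∑ m ∈ M', MvPolynomial.monomial m (1 : A) ⊗ₜ[A] mvCoef m N z := by
  induction z using TensorProduct.induction_on with
  | zero => exact ⟨∅, fun M' _ => by simp⟩
  | tmul p n =>
    refine ⟨p.support, fun M' hM' => ?_⟩
    simp only [mvCoef_tmul, ← TensorProduct.smul_tmul, MvPolynomial.smul_monomial, smul_eq_mul, mul_one]
    rw [← TensorProduct.sum_tmul]
    congr 1
    conv_lhs => rw [p.as_sum]
    exact Finset.sum_subset hM' fun m _ hm => by
      rw [MvPolynomial.notMem_support_iff.mp hm, map_zero]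
  | add x y hx hy =>
    obtain ⟨M₁, h₁⟩ := hx
    obtain ⟨M₂, h₂⟩ := hy
    refine ⟨M₁ ∪ M₂, fun M' hM' => ?_⟩
    simp only [map_add, TensorProduct.tmul_add, Finset.sum_add_distrib]
    rw [← h₁ M' (Finset.union_subset_left hM'), ← h₂ M' (Finset.union_subset_right hM')]

variable {d}
variable {N : Type u} [AddCommGroup N] [Module A N] (G : B →ₚₗ[A] N)

/-- The generic element supported on `s`. -/
noncomputable def gen (s : Finset κ) : MvPolynomial κ A ⊗[A] B :=
  ∑ k ∈ s, MvPolynomial.X k ⊗ₜ[A] e k

lemma rTensor_aeval_gen {S : Type u} [CommSemiring S] [Algebra A S] (t : κ → S) (s : Finset κ) :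
    (MvPolynomial.aeval t).toLinearMap.rTensor B (gen e s) = ∑ k ∈ s, t k ⊗ₜ[A] e k := by
  simp [gen, LinearMap.rTensor_tmul]

/-- The coefficient of a law at an exponent vector. -/
noncomputable def coef (s : Finset κ) (m : κ →₀ ℕ) : N :=
  mvCoef m N (G.toFun' (MvPolynomial κ A) (gen e s))

lemma apply_sum_eq {S : Type u} [CommSemiring S] [Algebra A S] (s : Finset κ) (t : κ → S) :
    ∃ M : Finset (κ →₀ ℕ), ∀ M', M ⊆ M' → G.toFun' S (∑ k ∈ s, t k ⊗ₜ[A] e k) =
      ∑ m ∈ M', (m.prod fun k n => t k ^ n) ⊗ₜ[A] coef e G s m := by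
  obtain ⟨M, hM⟩ := mvDecomp (G.toFun' (MvPolynomial κ A) (gen e s))
  refine ⟨M, fun M' hM' => ?_⟩
  rw [← rTensor_aeval_gen e t s]
  have h := congrFun (G.isCompat' (MvPolynomial.aeval t)) (gen e s)
  simp only [Function.comp_apply] at h
  rw [← h]
  conv_lhs => rw [hM M' hM', map_sum]
  refine Finset.sum_congr rfl fun m _ => ?_
  simp [LinearMap.rTensor_tmul, coef, MvPolynomial.aeval_monomial]

lemma coef_eq_zero_or (s s' : Finset κ) (hs : s' ⊆ s) (m : κ →₀ ℕ) :
    coef e G s' m = if m.support ⊆ s' then coef e G s m else 0 := by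
  let t : κ → MvPolynomial κ A := fun k => if k ∈ s' then MvPolynomial.X k else 0
  have h1 : (MvPolynomial.aeval t).toLinearMap.rTensor B (gen e s) = gen e s' := by
    rw [rTensor_aeval_gen, gen]
    refine (Finset.sum_subset_zero_on_sdiff hs ?_ ?_).symm
    · intro k hk
      simp [t, (Finset.mem_sdiff.mp hk).2]
    · intro k hk
      simp [t, hk]
  have h := congrFun (G.isCompat' (MvPolynomial.aeval t)) (gen e s)
  simp only [Function.comp_apply, h1] at h
  have hco : (MvPolynomial.lcoeff A m) ∘ₗ (MvPolynomial.aeval t).toLinearMap =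
      if m.support ⊆ s' then MvPolynomial.lcoeff A m else 0 := by
    apply MvPolynomial.linearMap_ext
    intro n
    refine LinearMap.ext_ring ?_
    simp only [LinearMap.comp_apply, AlgHom.toLinearMap_apply, MvPolynomial.aeval_monomial, map_one, one_mul]
    have hn : (n.prod fun k a => t k ^ a) =
        if n.support ⊆ s' then MvPolynomial.monomial n (1 : A) else 0 := by
      split_ifs with hsub
      · rw [MvPolynomial.monomial_eq, map_one, one_mul]
        exact Finsupp.prod_congr fun k hk => by simp [t, hsub hk]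
      · obtain ⟨k, hk, hk'⟩ := Finset.not_subset.mp hsub
        exact Finset.prod_eq_zero hk (by simp [t, hk', zero_pow (Finsupp.mem_support_iff.mp hk)])
    rw [hn]
    by_cases hm : m.support ⊆ s'
    · by_cases hn' : n.support ⊆ s'
      · simp [hm, hn']
      · have hne : n ≠ m := fun e => hn' (e ▸ hm)
        simp [hm, hn', MvPolynomial.coeff_monomial, hne]
    · by_cases hn' : n.support ⊆ s'
      · have hne : n ≠ m := fun e => hm (e ▸ hn')
        simp [hm, hn', MvPolynomial.coeff_monomial, hne]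
      · simp [hm, hn']
  rw [coef, ← h]
  simp only [mvCoef, LinearMap.comp_apply]
  rw [← LinearMap.rTensor_comp_apply, hco]
  split_ifs with hm
  · rfl
  · simp

lemma coef_degree (hG : PolLaw.IsHomog G d) (s : Finset κ) {m : κ →₀ ℕ} (hm : m.degree ≠ d) :
    coef e G s m = 0 := by
  set S := Polynomial (MvPolynomial κ A)
  let φ : MvPolynomial κ A →ₐ[A] S := (IsScalarTower.toAlgHom A (MvPolynomial κ A) S)
  let t : κ → S := fun k => (Polynomial.X : S) * φ (MvPolynomial.X k)
  obtain ⟨M, hM⟩ := mvDecomp (G.toFun' (MvPolynomial κ A) (gen e s))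
  have hgen : (MvPolynomial.aeval t).toLinearMap.rTensor B (gen e s) =
      (Polynomial.X : S) • φ.toLinearMap.rTensor B (gen e s) := by
    simp [gen, LinearMap.rTensor_tmul, Finset.smul_sum, TensorProduct.smul_tmul', t]
  have h := congrFun (G.isCompat' (MvPolynomial.aeval t)) (gen e s)
  have h' := congrFun (G.isCompat' φ) (gen e s)
  simp only [Function.comp_apply] at h h'
  rw [hgen, hG S, ← h'] at h
  let ψ : S →ₗ[A] A := MvPolynomial.lcoeff A m ∘ₗ ((Polynomial.lcoeff (MvPolynomial κ A) d).restrictScalars A)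
  have hA : ∀ n : κ →₀ ℕ, ψ ((MvPolynomial.aeval t).toLinearMap (MvPolynomial.monomial n (1 : A))) =
      if n.degree = d ∧ n = m then 1 else 0 := by
    intro n
    have : (MvPolynomial.aeval t).toLinearMap (MvPolynomial.monomial n (1 : A)) =
        Polynomial.monomial n.degree (MvPolynomial.monomial n (1 : A)) := by
      rw [AlgHom.toLinearMap_apply, MvPolynomial.aeval_monomial, map_one, one_mul,
        MvPolynomial.monomial_eq, map_one, one_mul]
      simp only [t, mul_pow, Finsupp.prod, Finset.prod_mul_distrib, Finset.prod_pow_eq_pow_sum, ← map_pow, ← map_prod]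
      rw [← Polynomial.C_mul_X_pow_eq_monomial, mul_comm]
      rfl
    rw [this]
    show MvPolynomial.coeff m (Polynomial.coeff (Polynomial.monomial _ (MvPolynomial.monomial n (1 : A))) d) = _
    rw [Polynomial.coeff_monomial]
    by_cases hd : n.degree = d
    · by_cases hn : n = m
      · subst hn; simp [hd]
      · simp [hd, hn, MvPolynomial.coeff_monomial]
    · simp [hd]
  have hB : ∀ n : κ →₀ ℕ, ψ ((Polynomial.X : S) ^ d • φ.toLinearMap (MvPolynomial.monomial n (1 : A))) =
      if n = m then 1 else 0 := by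
    intro n
    have : (Polynomial.X : S) ^ d • φ.toLinearMap (MvPolynomial.monomial n (1 : A)) =
        Polynomial.monomial d (MvPolynomial.monomial n (1 : A)) := by
      rw [smul_eq_mul, ← Polynomial.C_mul_X_pow_eq_monomial, mul_comm]
      rfl
    rw [this]
    show MvPolynomial.coeff m (Polynomial.coeff (Polynomial.monomial _ (MvPolynomial.monomial n (1 : A))) d) = _
    rw [Polynomial.coeff_monomial]
    simp [MvPolynomial.coeff_monomial]
  have h2 := congrArg (fun v => TensorProduct.lid A N (ψ.rTensor N v)) h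
  simp only [coef]
  generalize hz : G.toFun' (MvPolynomial κ A) (gen e s) = z at h2 hM
  rw [hM (insert m M) (Finset.subset_insert _ _)] at h2
  simp only [map_sum, LinearMap.rTensor_tmul, TensorProduct.lid_tmul, TensorProduct.smul_tmul',
    Finset.smul_sum, hA, hB] at h2
  rw [Finset.sum_eq_single m, Finset.sum_eq_single m] at h2
  · simpa [hm] using h2.symm
  all_goals first
    | (intro n _ hn; simp [hn])
    | (intro hc; exact absurd (Finset.mem_insert_self m M) hc)

/-- A homogeneous law of degree `d` on `B` as a linear map on the symmetric tensors. -/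
noncomputable def linOfLaw (d : ℕ) : SymTen.TS A B d →ₗ[A] N :=
  onReps e d (fun m => coef e G m.support m) ∘ₗ (SymTen.TS A B d).val.toLinearMap

set_option maxHeartbeats 800000 in
lemma linOfLaw_spec (hG : PolLaw.IsHomog G d) {S : Type u} [CommSemiring S] [Algebra A S] (x : S ⊗[A] B) :
    (linOfLaw e G d).lTensor S ((tsLaw e d).law.toFun' S x) = G.toFun' S x := by
  obtain ⟨s, t, rfl⟩ := exists_eq_sum e x
  obtain ⟨M, hM⟩ := apply_sum_eq e G s t
  rw [tsLaw_sum, map_sum, hM _ Finset.subset_union_left]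
  refine Finset.sum_subset_zero_on_sdiff (Finset.subset_union_right (s₁ := M) (s₂ := degs d s)) ?_ ?_
  · intro m hm
    have hm' := (Finset.mem_sdiff.mp hm).2
    rw [mem_degs, not_and_or] at hm'
    rcases hm' with hm' | hm'
    · rw [coef_degree e G hG s hm', TensorProduct.tmul_zero]
    · rw [coef_eq_zero_or e G s s le_rfl, if_neg hm', TensorProduct.tmul_zero]
  · intro m hm
    rw [mem_degs] at hm
    have hv : linOfLaw e G d (o e d m) = coef e G s m := by
      rw [linOfLaw, LinearMap.comp_apply]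
      erw [onReps_o e d _ m (exists_key_eq d m hm.1)]
      rw [coef_eq_zero_or e G s m.support hm.2, if_pos (Finset.Subset.refl _)]
    rw [LinearMap.lTensor_tmul, hv]

lemma lin_o_eq (L : SymTen.TS A B d →ₗ[A] N)
    (hL : ∀ (S : Type u) [CommSemiring S] [Algebra A S] (x : S ⊗[A] B),
      L.lTensor S ((tsLaw e d).law.toFun' S x) = G.toFun' S x)
    (m : κ →₀ ℕ) (hm : m.degree = d) : L (o e d m) = coef e G m.support m := by
  rw [coef, gen, ← hL, tsLaw_sum, map_sum, map_sum, Finset.sum_eq_single m]
  · have : (m.prod fun k n => (MvPolynomial.X k : MvPolynomial κ A) ^ n) = MvPolynomial.monomial m 1 := by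
      rw [MvPolynomial.monomial_eq, map_one, one_mul]
    simp [this, LinearMap.lTensor_tmul]
  · intro n _ hn
    have : (n.prod fun k a => (MvPolynomial.X k : MvPolynomial κ A) ^ a) = MvPolynomial.monomial n 1 := by
      rw [MvPolynomial.monomial_eq, map_one, one_mul]
    simp [this, LinearMap.lTensor_tmul, MvPolynomial.coeff_monomial, hn]
  · intro h
    exact absurd ((mem_degs d).mpr ⟨hm, le_rfl⟩) h

/-- Linear maps out of the symmetric tensors are determined by the laws they give. -/
lemma lin_ext (L L' : SymTen.TS A B d →ₗ[A] N)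
    (h : ∀ (S : Type u) [CommSemiring S] [Algebra A S] (x : S ⊗[A] B),
      L.lTensor S ((tsLaw e d).law.toFun' S x) = L'.lTensor S ((tsLaw e d).law.toFun' S x)) : L = L' := by
  refine LinearMap.ext fun z => ?_
  obtain ⟨M, c, hM, rfl⟩ := TS_eq_sum e d z
  simp only [map_sum, map_smul]
  refine Finset.sum_congr rfl fun m hm => ?_
  obtain ⟨f, rfl⟩ := hM m hm
  congr 1
  rw [lin_o_eq e (PolLaw.postcomp L (tsLaw e d).law) L (fun _ _ _ _ => rfl) _ (degree_key f),
    lin_o_eq e (PolLaw.postcomp L (tsLaw e d).law) L' (fun S _ _ x => (h S x).symm) _ (degree_key f)]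

section Mult

variable {C : Type u} [CommRing C] [Algebra A C] (F : PolLaw.MulLaw A B C d)

lemma linOfLaw_one : linOfLaw e F.law d 1 = 1 := by
  have h := linOfLaw_spec e F.law F.homog (S := A) 1
  rw [((tsLaw e d).mult A).1, (F.mult A).1] at h
  have := congrArg (TensorProduct.lid A C) h
  simpa [Algebra.TensorProduct.one_def] using this

lemma linOfLaw_mul_o (m n : κ →₀ ℕ) (hm : m.degree = d) (hn : n.degree = d) :
    linOfLaw e F.law d (o e d m * o e d n) = linOfLaw e F.law d (o e d m) * linOfLaw e F.law d (o e d n) := by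
  set L := linOfLaw e F.law d
  let S := MvPolynomial (κ ⊕ κ) A
  let x : S ⊗[A] B := ∑ k ∈ m.support, MvPolynomial.X (Sum.inl k) ⊗ₜ[A] e k
  let y : S ⊗[A] B := ∑ k ∈ n.support, MvPolynomial.X (Sum.inr k) ⊗ₜ[A] e k
  have h : L.lTensor S ((tsLaw e d).law.toFun' S x * (tsLaw e d).law.toFun' S y) =
      L.lTensor S ((tsLaw e d).law.toFun' S x) * L.lTensor S ((tsLaw e d).law.toFun' S y) := by
    rw [← ((tsLaw e d).mult S).2, linOfLaw_spec e F.law F.homog, linOfLaw_spec e F.law F.homog,
      linOfLaw_spec e F.law F.homog, (F.mult S).2]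
  let p : κ ⊕ κ →₀ ℕ := m.mapDomain Sum.inl + n.mapDomain Sum.inr
  have hmon : ∀ a b : κ →₀ ℕ,
      ((a.prod fun k j => (MvPolynomial.X (Sum.inl k) : S) ^ j) * (b.prod fun k j => (MvPolynomial.X (Sum.inr k) : S) ^ j)) =
        MvPolynomial.monomial (a.mapDomain Sum.inl + b.mapDomain Sum.inr) 1 := by
    intro a b
    rw [← mul_one (1 : A), ← MvPolynomial.monomial_mul, MvPolynomial.monomial_eq, MvPolynomial.monomial_eq,
      map_one, one_mul, one_mul, Finsupp.prod_mapDomain_index_inj Sum.inl_injective,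
      Finsupp.prod_mapDomain_index_inj Sum.inr_injective]
  have hinj : ∀ a b : κ →₀ ℕ, a.mapDomain Sum.inl + b.mapDomain Sum.inr = p → a = m ∧ b = n := by
    intro a b hab
    constructor <;> ext k
    · have h' := congrArg (fun q => q (Sum.inl k)) hab
      simpa [p, Finsupp.mapDomain_apply Sum.inl_injective, Finsupp.mapDomain_of_notMem_range] using h'
    · have h' := congrArg (fun q => q (Sum.inr k)) hab
      simpa [p, Finsupp.mapDomain_apply Sum.inr_injective, Finsupp.mapDomain_of_notMem_range] using h'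
  have hl : ∀ (P : Type u) [AddCommGroup P] [Module A P] (g : (κ →₀ ℕ) → (κ →₀ ℕ) → P),
      mvCoef p P (∑ a ∈ degs d m.support, ∑ b ∈ degs d n.support,
        MvPolynomial.monomial (a.mapDomain Sum.inl + b.mapDomain Sum.inr) (1 : A) ⊗ₜ[A] g a b) = g m n := by
    intro P _ _ g
    simp only [map_sum, mvCoef_tmul, MvPolynomial.coeff_monomial]
    rw [Finset.sum_eq_single m, Finset.sum_eq_single n]
    · simp [p]
    · intro b _ hb
      rw [if_neg fun hh => hb (hinj m b hh).2, zero_smul]
    · intro hh; exact absurd ((mem_degs d).mpr ⟨hn, le_rfl⟩) hh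
    · intro a _ ha
      exact Finset.sum_eq_zero fun b _ => by rw [if_neg fun hh => ha (hinj a b hh).1, zero_smul]
    · intro hh; exact absurd ((mem_degs d).mpr ⟨hm, le_rfl⟩) hh
  simp only [x, y, tsLaw_sum, Finset.sum_mul_sum, Algebra.TensorProduct.tmul_mul_tmul, map_sum,
    LinearMap.lTensor_tmul, hmon] at h
  have hh := h.trans (Finset.sum_mul_sum ..)
  simp only [Algebra.TensorProduct.tmul_mul_tmul, hmon] at hh
  have h' := congrArg (mvCoef p C) hh
  rwa [hl C (fun a b => L (o e d a * o e d b)), hl C (fun a b => L (o e d a) * L (o e d b))] at h'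

/-- A multiplicative law as an algebra map on the symmetric tensors. -/
noncomputable def algOfLaw : SymTen.TS A B d →ₐ[A] C :=
  AlgHom.ofLinearMap (linOfLaw e F.law d) (linOfLaw_one e F) (by
    intro z w
    obtain ⟨M, c, hM, rfl⟩ := TS_eq_sum e d z
    obtain ⟨M', c', hM', rfl⟩ := TS_eq_sum e d w
    simp only [Finset.sum_mul_sum, map_sum, smul_mul_smul_comm, map_smul]
    refine Finset.sum_congr rfl fun m hm => Finset.sum_congr rfl fun n hn => ?_
    obtain ⟨f, rfl⟩ := hM m hm
    obtain ⟨g, rfl⟩ := hM' n hn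
    rw [linOfLaw_mul_o e F _ _ (degree_key f) (degree_key g)])

lemma algOfLaw_spec {S : Type u} [CommSemiring S] [Algebra A S] (x : S ⊗[A] B) :
    (algOfLaw e F).toLinearMap.lTensor S ((tsLaw e d).law.toFun' S x) = F.law.toFun' S x :=
  linOfLaw_spec e F.law F.homog x

end Mult

/-- The symmetric tensors are the divided powers of a free algebra. -/
theorem isGammaD_tsLaw : PolLaw.IsGammaD (tsLaw e d) := by
  intro C' _ _ F
  refine ⟨algOfLaw e F, PolynomialLaw.ext (funext fun S => funext fun _ => funext fun _ => funext fun x =>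
    algOfLaw_spec e F x), fun f hf => ?_⟩
  refine AlgHom.toLinearMap_injective (lin_ext e _ _ fun S _ _ x => ?_)
  rw [algOfLaw_spec]
  exact congrArg (fun G : B →ₚₗ[A] C' => G.toFun' S x) hf

end Groth.Cycles.Free
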