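import Groth.Agent.Cycles.PolLawBC
import Mathlib.RingTheory.AdjoinRoot
import Mathlib.LinearAlgebra.Vandermonde
import Mathlib.FieldTheory.Separable
import Mathlib.RingTheory.Flat.FaithfullyFlat.Algebra

/-!
The kernel of a multiplicative law commutes with standard finite étale base change.
-/

universe u

open scoped TensorProduct
open Polynomial (X C)

namespace Groth.Cycles

variable {A : Type u} [CommRing A] {B : Type u} [CommRing B] [Algebra A B] {d : ℕ}
  (F : PolLaw.MulLaw A B A d)

/-- Membership in the kernel descends along faithfully flat algebras. -/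
lemma mem_ker_of_faithfullyFlat (A'' : Type u) [CommRing A''] [Algebra A A''] [Module.FaithfullyFlat A A'']
    {b : B} (h : (1 : A'') ⊗ₜ[A] b ∈ PolLaw.kerBC F.law A'') : b ∈ PolLaw.ker F.law := by
  intro S _ _ x w
  let j : S →ₐ[A] A'' ⊗[A] S := Algebra.TensorProduct.includeRight
  let _ : CommRing S := { Algebra.semiringToRing A (A := S), ‹CommSemiring S› with }
  have hj : Function.Injective j := Module.FaithfullyFlat.tensorProduct_mk_injective (A := A) (B := A'') S
  have h1 := h (A'' ⊗[A] S) (tmap j B x) (tmap j B w)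
  have h2 : ∀ u, (Algebra.TensorProduct.rid A A (A'' ⊗[A] S)) (tmap j A u) = j (Algebra.TensorProduct.rid A A S u) := by
    intro u
    induction u using TensorProduct.induction_on with
    | zero => simp
    | tmul q a => simp
    | add p q hp hq => simp [map_add, hp, hq]
  have hb : tmap (IsScalarTower.toAlgHom A A'' (A'' ⊗[A] S)) B ((1 : A'') ⊗ₜ[A] b) = tmap j B ((1 : S) ⊗ₜ[A] b) := by
    simp only [Algebra.TensorProduct.map_tmul, map_one]
  rw [hb, ← map_mul, ← map_add, ← law_nat, ← law_nat] at h1
  have h3 := congrArg (Algebra.TensorProduct.rid A A (A'' ⊗[A] S)) h1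
  rw [h2, h2] at h3
  exact (Algebra.TensorProduct.rid A A S).injective (hj h3)

lemma exists_roots [Nontrivial A] (g : Polynomial A) (hg : g.Monic) :
    ∃ (A'' : Type u) (_ : CommRing A'') (_ : Algebra A A'') (_ : Module.FaithfullyFlat A A'')
      (θ : Fin g.natDegree → A''), g.map (algebraMap A A'') = ∏ i, (X - C (θ i)) := by
  obtain ⟨S, _, _, _, _, _, hS⟩ := hg.exists_splits_map
  obtain ⟨m, hm⟩ := Polynomial.splits_iff_exists_multiset.mp hS
  rw [(hg.map _).leadingCoeff, map_one, one_mul] at hm
  have hlen : m.toList.length = g.natDegree := by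
    rw [Multiset.length_toList, ← hg.natDegree_map (algebraMap A S), hm, Polynomial.natDegree_multiset_prod_X_sub_C_eq_card]
  refine ⟨S, inferInstance, inferInstance, inferInstance, fun i => m.toList[(i.cast hlen.symm : Fin m.toList.length)], ?_⟩
  rw [hm, ← Multiset.prod_map_toList, ← Fin.prod_univ_fun_getElem]
  exact Fintype.prod_equiv (finCongr hlen) _ _ fun i => rfl

/-- The kernel commutes with standard finite étale base change. -/
theorem kerBC_adjoinRoot (g : Polynomial A) (hg : g.Monic) (hsep : g.Separable) :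
    (PolLaw.ker F.law).map (Algebra.TensorProduct.includeRight : B →ₐ[A] AdjoinRoot g ⊗[A] B) =
      PolLaw.kerBC F.law (AdjoinRoot g) := by
  refine le_antisymm (map_ker_le_kerBC F) fun z hz => ?_
  rcases subsingleton_or_nontrivial A with hA | hA
  · have := Module.subsingleton A (AdjoinRoot g ⊗[A] B)
    rw [Subsingleton.elim z 0]
    exact zero_mem _
  obtain ⟨A'', _, _, _, θ, hθ⟩ := exists_roots g hg
  let pb : Module.Basis (Fin g.natDegree) A (AdjoinRoot g) := (AdjoinRoot.powerBasis' hg).basis
  obtain ⟨c, rfl⟩ := (TensorProduct.equivFinsuppOfBasisLeft pb (N := B)).symm.surjective z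
  rw [TensorProduct.equivFinsuppOfBasisLeft_symm_apply, Finsupp.sum_fintype _ _ (fun _ => TensorProduct.tmul_zero _ _)]
    at hz ⊢
  have hroot : ∀ i, g.eval₂ (Algebra.ofId A A'' : A →+* A'') (θ i) = 0 := by
    intro i
    show g.eval₂ (algebraMap A A'') (θ i) = 0
    rw [← Polynomial.eval_map, hθ, Polynomial.eval_prod, Finset.prod_eq_zero (Finset.mem_univ i)]
    simp
  let σ : Fin g.natDegree → AdjoinRoot g →ₐ[A] A'' := fun i => AdjoinRoot.liftAlgHom g (Algebra.ofId A A'') (θ i) (hroot i)
  let V : Matrix (Fin g.natDegree) (Fin g.natDegree) A'' := Matrix.vandermonde θ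
  have hV : IsUnit V.det := by
    rw [Matrix.det_vandermonde]
    have hdiff : ∀ i j, i ≠ j → IsUnit (θ j - θ i) := by
      intro i j hij
      obtain ⟨a, b, hab⟩ := (Polynomial.separable_def' _).mp hsep
      have h := congrArg (fun p => (p.map (algebraMap A A'')).eval (θ j)) hab
      simp only [Polynomial.map_add, Polynomial.map_mul, Polynomial.map_one, Polynomial.eval_add,
        Polynomial.eval_mul, Polynomial.eval_one, ← Polynomial.derivative_map] at h
      have hj0 : (g.map (algebraMap A A'')).eval (θ j) = 0 := by rw [Polynomial.eval_map]; exact hroot j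
      rw [hj0, mul_zero, zero_add] at h
      have hd : IsUnit ((Polynomial.derivative (g.map (algebraMap A A''))).eval (θ j)) :=
        IsUnit.of_mul_eq_one _ ((mul_comm _ _).trans h)
      rw [hθ, Polynomial.derivative_prod_finset, Polynomial.eval_finsetSum, Finset.sum_eq_single j] at hd
      · simp only [Polynomial.derivative_X_sub_C, mul_one, Polynomial.eval_prod, Polynomial.eval_sub,
          Polynomial.eval_X, Polynomial.eval_C] at hd
        exact isUnit_of_dvd_unit (Finset.dvd_prod_of_mem (fun k => θ j - θ k) (Finset.mem_erase.mpr ⟨hij, Finset.mem_univ i⟩)) hd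
      · intro k _ hk
        rw [Polynomial.eval_mul, Polynomial.eval_prod, Finset.prod_eq_zero (Finset.mem_erase.mpr ⟨hk.symm, Finset.mem_univ j⟩)
          (by simp), zero_mul]
      · simp
    exact IsUnit.prod_iff.mpr fun i _ => IsUnit.prod_iff.mpr fun j hj => hdiff i j (Finset.mem_Ioi.mp hj).ne
  refine sum_mem fun k _ => ?_
  have hk : c k ∈ PolLaw.ker F.law := by
    refine mem_ker_of_faithfullyFlat F A'' ?_
    have hsum : ∑ i, V⁻¹ k i • tmap (σ i) B (∑ l, pb l ⊗ₜ[A] c l) = (1 : A'') ⊗ₜ[A] c k := by
      simp only [map_sum, Algebra.TensorProduct.map_tmul, AlgHom.id_apply, Finset.smul_sum, TensorProduct.smul_tmul', smul_eq_mul]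
      rw [Finset.sum_comm]
      simp only [← TensorProduct.sum_tmul]
      have hentry : ∀ l, ∑ i, V⁻¹ k i * σ i (pb l) = (if k = l then 1 else 0 : A'') := by
        intro l
        rw [← Matrix.one_apply (α := A'') (i := k) (j := l), ← Matrix.nonsing_inv_mul V hV, Matrix.mul_apply]
        refine Finset.sum_congr rfl fun i _ => ?_
        congr 1
        simp only [pb, σ, V, Matrix.vandermonde_apply]
        have hpow : (AdjoinRoot.powerBasis' hg).basis l = AdjoinRoot.root g ^ (l : ℕ) :=
          (AdjoinRoot.powerBasis' hg).basis_eq_pow _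
        refine (congrArg _ hpow).trans ?_
        rw [map_pow, AdjoinRoot.liftAlgHom_root]
      simp only [hentry]
      rw [Finset.sum_eq_single k]
      · simp
      · intro l _ hl; simp [hl.symm]
      · simp
    rw [← hsum]
    exact sum_mem fun i _ => Submodule.smul_of_tower_mem _ _ (map_mem_kerBC F (σ i) hz)
  rw [show pb k ⊗ₜ[A] c k = (pb k ⊗ₜ[A] (1 : B)) * ((1 : AdjoinRoot g) ⊗ₜ[A] c k) by simp]
  exact Ideal.mul_mem_left _ _ (Ideal.mem_map_of_mem _ hk)

end Groth.Cycles
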