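import Groth.Agent.Cycles.PolLawBC
import Mathlib.RingTheory.Localization.Basic
import Mathlib.Algebra.MvPolynomial.CommRing
import Mathlib.RingTheory.Finiteness.Defs

/-!
The kernel of a multiplicative law on a finite algebra: one generic test, with applications to direct
limits and localisations.
-/

universe u

open scoped TensorProduct

namespace Groth.Cycles

variable {A : Type u} [CommRing A] {B : Type u} [CommRing B] [Algebra A B] {d n : ℕ}
  (F : PolLaw.MulLaw A B A d) (g : Fin n → B)

/-- The generic test for membership in the kernel of a base change. -/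
noncomputable def genVal (R : Type u) [CommRing R] [Algebra A R] (z : R ⊗[A] B) :
    MvPolynomial (ULift.{u} (Fin n)) R :=
  Algebra.TensorProduct.rid A A _ (F.law.toFun' (MvPolynomial (ULift.{u} (Fin n)) R)
    (1 + ∑ j, (MvPolynomial.X (ULift.up j) : MvPolynomial (ULift.{u} (Fin n)) R) •
      tmap (IsScalarTower.toAlgHom A R (MvPolynomial (ULift.{u} (Fin n)) R)) B ((1 ⊗ₜ[A] g j) * z)))

lemma rid_tmap {S S' : Type u} [CommSemiring S] [Algebra A S] [CommSemiring S'] [Algebra A S']
    (φ : S →ₐ[A] S') (w : S ⊗[A] A) :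
    φ (Algebra.TensorProduct.rid A A S w) = Algebra.TensorProduct.rid A A S' (tmap φ A w) := by
  induction w using TensorProduct.induction_on with
  | zero => simp
  | tmul q a => simp
  | add u v hu hv => simp [map_add, hu, hv]

lemma genVal_map {R R' : Type u} [CommRing R] [Algebra A R] [CommRing R'] [Algebra A R']
    (φ : R →ₐ[A] R') (z : R ⊗[A] B) :
    genVal F g R' (tmap φ B z) = MvPolynomial.map φ.toRingHom (genVal F g R z) := by
  let ψ : MvPolynomial (ULift.{u} (Fin n)) R →ₐ[A] MvPolynomial (ULift.{u} (Fin n)) R' :=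
    MvPolynomial.mapAlgHom φ
  have hψ : ψ.comp (IsScalarTower.toAlgHom A R _) =
      (IsScalarTower.toAlgHom A R' (MvPolynomial (ULift.{u} (Fin n)) R')).comp φ :=
    AlgHom.ext fun a => MvPolynomial.map_C φ.toRingHom a
  have hX : ∀ j, ψ (MvPolynomial.X j) = MvPolynomial.X j := fun j => MvPolynomial.map_X φ.toRingHom j
  show _ = ψ _
  rw [genVal, genVal, rid_tmap, law_nat, map_add, map_one, map_sum]
  simp only [tmap_smul, hX, tmap_tmap _ ψ, hψ, ← tmap_tmap φ, map_mul, Algebra.TensorProduct.map_tmul, map_one,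
    AlgHom.id_apply]

lemma genVal_of_mem {R : Type u} [CommRing R] [Algebra A R] {z : R ⊗[A] B} (hz : z ∈ PolLaw.kerBC F.law R) :
    genVal F g R z = 1 := by
  have h := hz (MvPolynomial (ULift.{u} (Fin n)) R) 1
    (∑ j, (MvPolynomial.X (ULift.up j) : MvPolynomial (ULift.{u} (Fin n)) R) • ((1 : MvPolynomial _ R) ⊗ₜ[A] g j))
  rw [(F.mult _).1, Finset.sum_mul] at h
  rw [genVal]
  simp only [map_mul, Algebra.TensorProduct.map_tmul, map_one, AlgHom.id_apply, ← smul_mul_assoc]
  rw [h, map_one]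

lemma mem_of_genVal (hg : Submodule.span A (Set.range g) = ⊤) {R : Type u} [CommRing R] [Algebra A R]
    {z : R ⊗[A] B} (hz : genVal F g R z = 1) : z ∈ PolLaw.kerBC F.law R := by
  rw [mem_kerBC_iff]
  intro c
  obtain ⟨a, rfl⟩ := (Submodule.mem_span_range_iff_exists_fun A).mp (hg ▸ Submodule.mem_top (x := c))
  let e : MvPolynomial (ULift.{u} (Fin n)) R →ₐ[A] Polynomial R :=
    (MvPolynomial.aeval (R := R) fun j => (a j.down) • (Polynomial.X : Polynomial R)).restrictScalars A
  have he : e.comp (IsScalarTower.toAlgHom A R _) = IsScalarTower.toAlgHom A R (Polynomial R) :=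
    AlgHom.ext fun r => MvPolynomial.aeval_C _ r
  have hX : ∀ j, e (MvPolynomial.X (ULift.up j)) = a j • (Polynomial.X : Polynomial R) := fun j =>
    MvPolynomial.aeval_X _ _
  have h := congrArg e hz
  rw [map_one, genVal, rid_tmap, law_nat, map_add, map_one, map_sum] at h
  simp only [tmap_smul, hX, tmap_tmap, he] at h
  apply (Algebra.TensorProduct.rid A A (Polynomial R)).injective
  rw [map_one]
  refine Eq.trans ?_ h
  congr 3
  simp only [TensorProduct.tmul_sum, Finset.sum_mul, map_sum, Finset.smul_sum]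
  refine Finset.sum_congr rfl fun j _ => ?_
  rw [TensorProduct.tmul_smul, smul_mul_assoc, map_smul, smul_assoc, smul_comm]

/-- The kernel of a base change to a directed limit is the limit of the kernels. -/
theorem kerBC_limit [Module.Finite A B] {A' : Type u} [CommRing A'] [Algebra A A'] {ι : Type u} [Preorder ι]
    [IsDirected ι (fun i j => i ≤ j)] [Nonempty ι]
    (Ai : ι → Type u) [∀ i, CommRing (Ai i)] [∀ i, Algebra A (Ai i)]
    (t : ∀ i j : ι, i ≤ j → (Ai i →ₐ[A] Ai j)) (φ : ∀ i : ι, Ai i →ₐ[A] A')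
    (hcomp : ∀ (i j : ι) (h : i ≤ j), (φ j).comp (t i j h) = φ i)
    (hsurj : ∀ a : A', ∃ (i : ι) (x : Ai i), φ i x = a)
    (hzero : ∀ (i : ι) (x : Ai i), φ i x = 0 → ∃ (j : ι) (h : i ≤ j), t i j h x = 0)
    (htrans : ∀ (i j k : ι) (hij : i ≤ j) (hjk : j ≤ k), (t j k hjk).comp (t i j hij) = t i k (hij.trans hjk))
    (F : PolLaw.MulLaw A B A d) :
    PolLaw.kerBC F.law A' =
      ⨆ i : ι, (PolLaw.kerBC F.law (Ai i)).map (Algebra.TensorProduct.map (φ i) (AlgHom.id A B)) := by
  classical
  refine le_antisymm (fun z hz => ?_) (iSup_le fun i => Ideal.map_le_iff_le_comap.mpr fun w hw =>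
    map_mem_kerBC F (φ i) hw)
  obtain ⟨n, g, hg⟩ := Module.Finite.exists_fin (R := A) (M := B)
  obtain ⟨i, w, rfl⟩ : ∃ (i : ι) (w : Ai i ⊗[A] B), tmap (φ i) B w = z := by
    clear hz
    induction z using TensorProduct.induction_on with
    | zero => exact ⟨Classical.arbitrary ι, 0, map_zero _⟩
    | tmul a b =>
      obtain ⟨i, x, rfl⟩ := hsurj a
      exact ⟨i, x ⊗ₜ[A] b, rfl⟩
    | add x y hx hy =>
      obtain ⟨i, w, rfl⟩ := hx
      obtain ⟨j, w', rfl⟩ := hy
      obtain ⟨k, hik, hjk⟩ := exists_ge_ge i j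
      exact ⟨k, tmap (t i k hik) B w + tmap (t j k hjk) B w',
        by rw [map_add, tmap_tmap, tmap_tmap, hcomp, hcomp]⟩
  let q := genVal F g (Ai i) w - 1
  have hq : MvPolynomial.map (φ i).toRingHom q = 0 := by
    rw [map_sub, map_one, ← genVal_map, genVal_of_mem F g hz, sub_self]
  choose j hij hj using fun m : q.support => hzero i (q.coeff m.1) (by
    have := congrArg (MvPolynomial.coeff m.1) hq
    rwa [MvPolynomial.coeff_map, MvPolynomial.coeff_zero] at this)
  obtain ⟨k, hk⟩ := Finite.exists_le j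
  obtain ⟨l, hkl, hil⟩ := exists_ge_ge k i
  have hl : MvPolynomial.map (t i l hil).toRingHom q = 0 := by
    ext m
    rw [MvPolynomial.coeff_map, MvPolynomial.coeff_zero]
    by_cases hm : m ∈ q.support
    · have := congrArg (t (j ⟨m, hm⟩) l ((hk _).trans hkl)) (hj ⟨m, hm⟩)
      rw [map_zero, ← AlgHom.comp_apply, htrans] at this
      exact this
    · rw [MvPolynomial.notMem_support_iff.mp hm, map_zero]
  have hmem : tmap (t i l hil) B w ∈ PolLaw.kerBC F.law (Ai l) := by
    refine mem_of_genVal F g hg ?_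
    rw [genVal_map, ← sub_eq_zero, ← hl, map_sub, map_one]
  have h2 := le_iSup (fun i => (PolLaw.kerBC F.law (Ai i)).map (Algebra.TensorProduct.map (φ i) (AlgHom.id A B))) l
    (Ideal.mem_map_of_mem _ hmem)
  rwa [show Algebra.TensorProduct.map (φ l) (AlgHom.id A B) (tmap (t i l hil) B w) = tmap (φ i) B w by
    rw [tmap_tmap, hcomp]] at h2

/-- The kernel commutes with localisation. -/
theorem kerBC_localization [Module.Finite A B] (M : Submonoid A) (A' : Type u) [CommRing A'] [Algebra A A']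
    [IsLocalization M A'] (F : PolLaw.MulLaw A B A d) :
    (PolLaw.ker F.law).map (Algebra.TensorProduct.includeRight : B →ₐ[A] A' ⊗[A] B) =
      PolLaw.kerBC F.law A' := by
  classical
  refine le_antisymm (map_ker_le_kerBC F) fun z hz => ?_
  obtain ⟨n, g, hg⟩ := Module.Finite.exists_fin (R := A) (M := B)
  obtain ⟨m₀, b, hb⟩ : ∃ (m₀ : M) (b : B), algebraMap A A' m₀ • z = (1 : A') ⊗ₜ[A] b := by
    clear hz
    induction z using TensorProduct.induction_on with
    | zero => exact ⟨1, 0, by simp⟩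
    | tmul a b =>
      obtain ⟨⟨x, m⟩, hx⟩ := IsLocalization.surj M a
      refine ⟨m, x • b, ?_⟩
      rw [TensorProduct.smul_tmul', smul_eq_mul, mul_comm, hx, ← TensorProduct.smul_tmul,
        Algebra.algebraMap_eq_smul_one]
    | add x y hx hy =>
      obtain ⟨m, b, hm⟩ := hx
      obtain ⟨m', b', hm'⟩ := hy
      refine ⟨m * m', (m' : A) • b + (m : A) • b', ?_⟩
      rw [smul_add, TensorProduct.tmul_add, TensorProduct.tmul_smul, TensorProduct.tmul_smul, ← hm, ← hm',
        Submonoid.coe_mul, map_mul, mul_smul, mul_smul, smul_comm, algebraMap_smul, algebraMap_smul,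
        algebraMap_smul]
  have h1 : (1 : A') ⊗ₜ[A] b ∈ PolLaw.kerBC F.law A' := by
    rw [← hb, Algebra.smul_def]
    exact Ideal.mul_mem_left _ _ hz
  let q := genVal F g A ((1 : A) ⊗ₜ[A] b) - 1
  have hq : MvPolynomial.map (algebraMap A A') q = 0 := by
    have := genVal_map F g (Algebra.ofId A A') ((1 : A) ⊗ₜ[A] b)
    rw [Algebra.TensorProduct.map_tmul, map_one, AlgHom.id_apply, genVal_of_mem F g h1] at this
    rw [map_sub, map_one]
    exact sub_eq_zero.mpr this.symm
  choose s hs using fun m : q.support => (IsLocalization.map_eq_zero_iff M A' (q.coeff m.1)).mp (by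
    have := congrArg (MvPolynomial.coeff m.1) hq
    rwa [MvPolynomial.coeff_map, MvPolynomial.coeff_zero] at this)
  let S := ∏ m, s m
  have hS : ∀ m, (S : A) * q.coeff m = 0 := by
    intro m
    by_cases hm : m ∈ q.support
    · obtain ⟨c, hc⟩ := Finset.dvd_prod_of_mem s (Finset.mem_univ ⟨m, hm⟩)
      rw [show S = s ⟨m, hm⟩ * c from hc, Submonoid.coe_mul, mul_comm (s ⟨m, hm⟩ : A), mul_assoc, hs, mul_zero]
    · rw [MvPolynomial.notMem_support_iff.mp hm, mul_zero]
  let ψ : MvPolynomial (ULift.{u} (Fin n)) A →ₐ[A] MvPolynomial (ULift.{u} (Fin n)) A :=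
    MvPolynomial.aeval fun j => (S : A) • MvPolynomial.X j
  have hscale : genVal F g A ((1 : A) ⊗ₜ[A] ((S : A) • b)) = ψ (genVal F g A ((1 : A) ⊗ₜ[A] b)) := by
    rw [genVal, genVal, rid_tmap, law_nat, map_add, map_one, map_sum]
    congr 2
    congr 1
    refine Finset.sum_congr rfl fun j _ => ?_
    simp only [tmap_smul, Algebra.TensorProduct.tmul_mul_tmul, mul_one, Algebra.TensorProduct.map_tmul, map_one,
      AlgHom.id_apply, mul_smul_comm, TensorProduct.tmul_smul, ψ, MvPolynomial.aeval_X, smul_assoc]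
    rw [smul_comm]
    exact algebraMap_smul _ _ _
  have h0 : MvPolynomial.coeff 0 q = 0 := by
    let e : MvPolynomial (ULift.{u} (Fin n)) A →ₐ[A] A := MvPolynomial.aeval fun _ => 0
    have he : e (genVal F g A ((1 : A) ⊗ₜ[A] b)) = 1 := by
      rw [genVal, rid_tmap, law_nat, map_add, map_one, map_sum, Finset.sum_eq_zero, add_zero, (F.mult A).1, map_one]
      intro j _
      simp [tmap_smul, e]
    have he' : e q = 0 := by rw [map_sub, he, map_one, sub_self]
    rwa [show e q = MvPolynomial.coeff 0 q by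
      simp [e, MvPolynomial.aeval_zero', MvPolynomial.constantCoeff_eq]] at he'
  have hψq : ψ q = 0 := by
    rw [q.as_sum, map_sum]
    refine Finset.sum_eq_zero fun m hm => ?_
    have hm0 : m ≠ 0 := fun h => MvPolynomial.mem_support_iff.mp hm (h ▸ h0)
    obtain ⟨j, hj⟩ : ∃ j, m j ≠ 0 := by
      by_contra h
      push Not at h
      exact hm0 (Finsupp.ext h)
    rw [MvPolynomial.aeval_monomial, Finsupp.prod, ← Finset.mul_prod_erase _ _ (Finsupp.mem_support_iff.mpr hj)]
    obtain ⟨k, hk⟩ := Nat.exists_eq_succ_of_ne_zero hj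
    rw [hk, pow_succ', Algebra.smul_def, ← mul_assoc, ← mul_assoc, ← mul_assoc, ← map_mul,
      mul_comm _ (S : A), hS, map_zero, zero_mul, zero_mul, zero_mul]
  have hmem : (1 : A) ⊗ₜ[A] ((S : A) • b) ∈ PolLaw.kerBC F.law A := by
    refine mem_of_genVal F g hg ?_
    rw [hscale, ← sub_eq_zero, ← map_one ψ, ← map_sub]
    exact hψq
  have hker : (S : A) • b ∈ PolLaw.ker F.law := by
    intro R _ _ x w
    simpa using hmem R x w
  obtain ⟨u, hu⟩ := (IsLocalization.map_units A' m₀).mul (IsLocalization.map_units A' S)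
  have hz' : z = (((u⁻¹ : A'ˣ) : A') ⊗ₜ[A] (1 : B)) * ((1 : A') ⊗ₜ[A] ((S : A) • b)) := by
    have h3 : (u : A') • z = (1 : A') ⊗ₜ[A] ((S : A) • b) := by
      rw [hu, mul_comm, mul_smul, hb, TensorProduct.tmul_smul, algebraMap_smul]
    rw [← h3, mul_smul_comm, ← smul_mul_assoc, TensorProduct.smul_tmul', smul_eq_mul, Units.mul_inv,
      ← Algebra.TensorProduct.one_def, one_mul]
  rw [hz']
  exact Ideal.mul_mem_left _ _ (Ideal.mem_map_of_mem _ hker)

end Groth.Cycles
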