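import Groth.Agent.Cycles.PolLawField
import Groth.Agent.FlatMor2.UnivOpen
import Mathlib.RingTheory.LocalRing.ResidueField.Ideal
import Mathlib.RingTheory.Polynomial.UniqueFactorization

/-!
The image of a multiplicative law: the image of a basic open is cut out by the coefficients of the
characteristic polynomial; universal openness.
-/

universe u

open scoped TensorProduct
open Polynomial (X)

namespace Groth.Cycles

variable {A : Type u} [CommRing A] {B : Type u} [CommRing B] [Algebra A B] {d : ℕ}

/-- Over a field an element of the radical of the kernel has characteristic polynomial a multiple of `X ^ d`. -/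
lemma coeff_chi_of_mem_radical {k : Type u} [Field k] {B : Type u} [CommRing B] [Algebra k B]
    (F : PolLaw.MulLaw k B k d) {z : B} (hz : z ∈ (PolLaw.ker F.law).radical) {j : ℕ} (hj : j < d) :
    (chi F z).coeff j = 0 := by
  obtain ⟨N, hN⟩ := hz
  let u : Polynomial k ⊗[k] B := (1 : Polynomial k) ⊗ₜ[k] z
  let v : Polynomial k ⊗[k] B := (X : Polynomial k) ⊗ₜ[k] (1 : B)
  have h1 : F.law.toFun' (Polynomial k) (u ^ N - v ^ N) =
      F.law.toFun' (Polynomial k) ((-(X : Polynomial k) ^ N) • (1 : Polynomial k ⊗[k] B)) := by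
    rw [← hN (Polynomial k) ((-(X : Polynomial k) ^ N) • (1 : Polynomial k ⊗[k] B)) 1]
    congr 1
    simp only [u, v, Algebra.TensorProduct.tmul_pow, one_pow, one_mul, Algebra.TensorProduct.one_def,
      TensorProduct.smul_tmul', smul_eq_mul, mul_one, TensorProduct.neg_tmul,
      Algebra.TensorProduct.tmul_mul_tmul]
    abel
  let r := Algebra.TensorProduct.rid k k (Polynomial k)
  have hmul := (F.mult (Polynomial k)).2 (u - v) (∑ i ∈ Finset.range N, u ^ i * v ^ (N - 1 - i))
  have h3 : (u - v) * (∑ i ∈ Finset.range N, u ^ i * v ^ (N - 1 - i)) = u ^ N - v ^ N := by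
    rw [mul_comm, geom_sum₂_mul]
  rw [h3, h1, F.homog, (F.mult _).1] at hmul
  have h4 := congrArg r hmul
  rw [map_mul, Algebra.TensorProduct.one_def, TensorProduct.smul_tmul', smul_eq_mul, mul_one] at h4
  have h5 : r (((-(X : Polynomial k) ^ N) ^ d) ⊗ₜ[k] (1 : k)) = (-(X : Polynomial k) ^ N) ^ d := by simp [r]
  rw [h5] at h4
  have hchi : r (F.law.toFun' (Polynomial k) (u - v)) = chi F z := rfl
  rw [hchi] at h4
  have h6 : chi F z ∣ (X : Polynomial k) ^ (N * d) := by
    refine dvd_trans ⟨_, h4⟩ (dvd_of_mul_left_eq ((-1) ^ d) ?_)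
    rw [← mul_pow, neg_one_mul, neg_neg, ← pow_mul]
  obtain ⟨i, -, hi⟩ := (dvd_prime_pow Polynomial.prime_X _).mp h6
  have hd : (chi F z).coeff d ≠ 0 := by
    rw [chi_coeff_top]
    exact pow_ne_zero _ (neg_ne_zero.mpr one_ne_zero)
  have hdeg : (chi F z).natDegree = d :=
    le_antisymm (chi_natDegree_le F z) (Polynomial.le_natDegree_of_ne_zero hd)
  have hid : i = d := by
    rw [← hdeg, Polynomial.natDegree_eq_of_degree_eq (Polynomial.degree_eq_degree_of_associated hi)]
    simp
  subst hid
  obtain ⟨w, hw⟩ := hi.symm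
  rw [← hw, Polynomial.coeff_X_pow_mul', if_neg (not_le.mpr hj)]

variable (F : PolLaw.MulLaw A B A d)

/-- The image of a basic open is the complement of the zero locus of the lower coefficients. -/
theorem image_basicOpen (A' : Type u) [CommRing A'] [Algebra A A'] (z : A' ⊗[A] B) :
    PrimeSpectrum.comap (algebraMap A' (A' ⊗[A] PolLaw.image F.law)) ''
      (PrimeSpectrum.basicOpen
        (Algebra.TensorProduct.map (AlgHom.id A' A') (Ideal.Quotient.mkₐ A (PolLaw.ker F.law)) z) :
          Set (PrimeSpectrum (A' ⊗[A] PolLaw.image F.law))) =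
      (PrimeSpectrum.zeroLocus ((fun j => (chi (baseChange F A') z).coeff j) '' Set.Iio d))ᶜ := by
  let π : A' ⊗[A] B →ₐ[A'] A' ⊗[A] PolLaw.image F.law :=
    Algebra.TensorProduct.map (AlgHom.id A' A') (Ideal.Quotient.mkₐ A (PolLaw.ker F.law))
  ext q
  constructor
  · rintro ⟨P, hP, rfl⟩
    refine fun hmem => ?_
    have hsub : ∀ j, j < d → (chi (baseChange F A') z).coeff j ∈ P.asIdeal.comap (algebraMap A' _) :=
      fun j hj => hmem ⟨j, hj, rfl⟩
    apply hP
    show π z ∈ P.asIdeal
    let χ := chi (baseChange F A') z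
    have h0 : Polynomial.aeval (π z) χ ∈ P.asIdeal := by
      have hrad : Polynomial.aeval z χ ∈
          ((PolLaw.ker F.law).map (Algebra.TensorProduct.includeRight : B →ₐ[A] A' ⊗[A] B)).radical := by
        rw [← radical_kerBC_eq F, ← ker_baseChange]
        exact Ideal.le_radical (aeval_chi_mem_ker (baseChange F A') z)
      have hle : ((PolLaw.ker F.law).map (Algebra.TensorProduct.includeRight : B →ₐ[A] A' ⊗[A] B)).radical ≤
          P.asIdeal.comap π.toRingHom := by
        refine (Ideal.IsPrime.comap π.toRingHom).isRadical.radical_le_iff.mpr ?_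
        rw [Ideal.map_le_iff_le_comap]
        intro b hb
        simp only [Ideal.mem_comap, AlgHom.toRingHom_eq_coe, RingHom.coe_coe, π,
          Algebra.TensorProduct.includeRight_apply, Algebra.TensorProduct.map_tmul, map_one,
          Ideal.Quotient.mkₐ_eq_mk, Ideal.Quotient.eq_zero_iff_mem.mpr hb, TensorProduct.tmul_zero]
        exact zero_mem _
      rw [Polynomial.aeval_algHom_apply]
      exact hle hrad
    rw [Polynomial.aeval_def,
      Polynomial.eval₂_eq_sum_range' _ (lt_of_le_of_lt (chi_natDegree_le (baseChange F A') z) (Nat.lt_succ_self d)),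
      Finset.sum_range_succ] at h0
    have h1 : ∑ j ∈ Finset.range d, algebraMap A' _ (χ.coeff j) * π z ^ j ∈ P.asIdeal := by
      refine sum_mem fun j hj => ?_
      exact P.asIdeal.mul_mem_right _ (hsub j (Finset.mem_range.mp hj))
    have h2 := (Ideal.add_mem_iff_right _ h1).mp h0
    rw [chi_coeff_top, map_pow, map_neg, map_one] at h2
    rcases P.isPrime.mem_or_mem h2 with h | h
    · exact absurd (P.isPrime.mem_of_pow_mem _ h) (fun h' => P.isPrime.ne_top
        ((Ideal.eq_top_iff_one _).mpr (by simpa using neg_mem h')))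
    · exact P.isPrime.mem_of_pow_mem _ h
  · intro hq
    by_contra hnot
    apply hq
    rintro _ ⟨j, hj, rfl⟩
    let k := q.asIdeal.ResidueField
    let φ : A' →ₐ[A] k := IsScalarTower.toAlgHom A A' k
    have hrad : tmap φ B z ∈ (PolLaw.ker (baseChange F k).law).radical := by
      rw [ker_baseChange, radical_kerBC_eq F, Ideal.radical_eq_sInf, Ideal.mem_sInf]
      rintro Pk ⟨hle, hprime⟩
      let mk := Ideal.Quotient.mkₐ k Pk
      have hk : ∀ b ∈ PolLaw.ker F.law, mk ((1 : k) ⊗ₜ[A] b) = 0 := fun b hb =>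
        Ideal.Quotient.eq_zero_iff_mem.mpr (hle (Ideal.mem_map_of_mem _ hb))
      let g : PolLaw.image F.law →ₐ[A] (k ⊗[A] B) ⧸ Pk :=
        Ideal.Quotient.liftₐ (PolLaw.ker F.law)
          ((mk.restrictScalars A).comp (Algebra.TensorProduct.includeRight : B →ₐ[A] k ⊗[A] B)) hk
      let h : A' ⊗[A] PolLaw.image F.law →ₐ[A] (k ⊗[A] B) ⧸ Pk :=
        Algebra.TensorProduct.lift ((IsScalarTower.toAlgHom A k _).comp φ) g (fun _ _ => Commute.all _ _)
      haveI := hprime
      let P : PrimeSpectrum (A' ⊗[A] PolLaw.image F.law) := ⟨RingHom.ker h.toRingHom, RingHom.ker_isPrime _⟩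
      have hPq : PrimeSpectrum.comap (algebraMap A' (A' ⊗[A] PolLaw.image F.law)) P = q := by
        refine PrimeSpectrum.ext ?_
        ext a
        show h (algebraMap A' _ a) = 0 ↔ a ∈ q.asIdeal
        rw [Algebra.TensorProduct.algebraMap_apply, Algebra.TensorProduct.lift_tmul, map_one, mul_one]
        show algebraMap k ((k ⊗[A] B) ⧸ Pk) (algebraMap A' k a) = 0 ↔ _
        rw [map_eq_zero_iff _ (algebraMap k ((k ⊗[A] B) ⧸ Pk)).injective, Ideal.algebraMap_residueField_eq_zero]
      have hzP : π z ∈ P.asIdeal := by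
        by_contra hh
        exact hnot ⟨P, hh, hPq⟩
      have hhz : ∀ w, h (π w) = mk (tmap φ B w) := by
        intro w
        induction w using TensorProduct.induction_on with
        | zero => simp
        | tmul a b =>
          simp only [π, h, g, Algebra.TensorProduct.map_tmul, AlgHom.id_apply, Algebra.TensorProduct.lift_tmul,
            AlgHom.comp_apply, IsScalarTower.toAlgHom_apply, Ideal.Quotient.mkₐ_eq_mk]
          erw [Ideal.Quotient.lift_mk]
          show algebraMap k _ (φ a) * Ideal.Quotient.mk Pk ((1 : k) ⊗ₜ[A] b) = Ideal.Quotient.mk Pk (φ a ⊗ₜ[A] b)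
          rw [IsScalarTower.algebraMap_apply k (k ⊗[A] B), Ideal.Quotient.algebraMap_eq, ← map_mul,
            Algebra.TensorProduct.algebraMap_apply]
          simp
        | add x y hx hy => simp [hx, hy]
      have h0 : h (π z) = 0 := hzP
      rw [hhz] at h0
      exact Ideal.Quotient.eq_zero_iff_mem.mp h0
    have := coeff_chi_of_mem_radical _ hrad hj
    rw [chi_baseChange_map, Polynomial.coeff_map] at this
    exact (Ideal.algebraMap_residueField_eq_zero).mp this

theorem isOpen_image_basicOpen (A' : Type u) [CommRing A'] [Algebra A A'] (w : A' ⊗[A] PolLaw.image F.law) :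
    IsOpen (PrimeSpectrum.comap (algebraMap A' (A' ⊗[A] PolLaw.image F.law)) ''
      (PrimeSpectrum.basicOpen w : Set (PrimeSpectrum (A' ⊗[A] PolLaw.image F.law)))) := by
  have hs : Function.Surjective (Algebra.TensorProduct.map (AlgHom.id A' A')
      (Ideal.Quotient.mkₐ A (PolLaw.ker F.law))) := by
    intro w
    induction w using TensorProduct.induction_on with
    | zero => exact ⟨0, map_zero _⟩
    | tmul a b =>
      obtain ⟨b, rfl⟩ := Ideal.Quotient.mk_surjective b
      exact ⟨a ⊗ₜ b, rfl⟩
    | add x y hx hy =>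
      obtain ⟨u, rfl⟩ := hx
      obtain ⟨v, rfl⟩ := hy
      exact ⟨u + v, map_add _ u v⟩
  obtain ⟨z, rfl⟩ := hs w
  rw [image_basicOpen F A' z]
  exact (PrimeSpectrum.isClosed_zeroLocus _).isOpen_compl

theorem universallyOpen_image :
    AlgebraicGeometry.UniversallyOpen
      (AlgebraicGeometry.Spec.map (CommRingCat.ofHom (algebraMap A (PolLaw.image F.law)))) :=
  Groth.FlatMor2.universallyOpen_SpecMap_of_forall fun A' _ _ w => isOpen_image_basicOpen F A' w

end Groth.Cycles
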