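import Groth.Agent.Cycles.PolLawSym
import Groth.Agent.Misc8.Polarisation
import Mathlib.RingTheory.Flat.Basic
import Mathlib.LinearAlgebra.TensorProduct.Pi
import Mathlib.Algebra.Algebra.Rat

/-!
The kernel of a multiplicative law on a finite algebra over a `ℚ`-algebra is the kernel of a linear map,
so it commutes with flat base change.
-/

universe u

open scoped TensorProduct
open PiTensorProduct (tprod)

namespace Groth.Cycles.Sym

variable {A : Type u} [CommRing A] {B : Type u} [CommRing B] [Algebra A B] {d : ℕ}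

/-- The `i`-th insertion on tensor powers, over a test algebra. -/
noncomputable abbrev ins (A : Type u) [CommRing A] (B : Type u) [CommRing B] [Algebra A B] (S : Type u) [CommSemiring S] [Algebra A S] (i : Fin d) :
    S ⊗[A] B →ₐ[S] S ⊗[A] (⨂[A] _ : Fin d, B) :=
  Algebra.TensorProduct.map (AlgHom.id S S) (PiTensorProduct.singleAlgHom (R := A) (A := fun _ : Fin d => B) i)

lemma tpowLaw_eq_prod {S : Type u} [CommSemiring S] [Algebra A S] (x : S ⊗[A] B) :
    (SymTen.tpowLaw A B d).law.toFun' S x = ∏ i, ins A B S i x := rfl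

lemma factorial_nsmul_law {C : Type u} [CommRing C] [Algebra A C] (G : PolLaw.MulLaw A B C d)
    {S : Type u} [CommSemiring S] [Algebra A S] (x : S ⊗[A] B) :
    d.factorial • G.law.toFun' S x = (polar G).lTensor S ((SymTen.tpowLaw A B d).law.toFun' S x) := by
  obtain ⟨y, rfl⟩ := LinearMap.lTensor_surjective S (g := (pres (A := A) B).toLinearMap) pres_surjective x
  have h1 : polar G ∘ₗ (SymTen.tmap A d (pres (A := A) B)).toLinearMap = (presHom G).toLinearMap ∘ₗ sym :=
    LinearMap.ext fun t => polar_tmap G t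
  have h2 : sym ∘ₗ (SymTen.TS A (MvPolynomial B A) d).val.toLinearMap = (d.factorial : A) • LinearMap.id :=
    LinearMap.ext fun z => (sym_val z).trans (Nat.cast_smul_eq_nsmul A _ _).symm
  rw [← tmap_tpow, lT_comp, h1, ← Free.tsLaw_val (bP A B), ← lT_comp, lT_comp S (sym (A := A) (d := d) (B := MvPolynomial B A)) (SymTen.TS A (MvPolynomial B A) d).val.toLinearMap, h2,
    ← presHom_spec]
  rw [LinearMap.lTensor_smul, LinearMap.smul_apply, LinearMap.lTensor_id, LinearMap.id_apply, map_smul,
    Nat.cast_smul_eq_nsmul]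

lemma perm_ins {S : Type u} [CommSemiring S] [Algebra A S] (τ : Equiv.Perm (Fin d)) (i : Fin d) (x : S ⊗[A] B) :
    Algebra.TensorProduct.map (AlgHom.id S S) (SymTen.perm A B d τ) (ins A B S i x) = ins A B S (τ i) x := by
  induction x using TensorProduct.induction_on with
  | zero => simp
  | tmul s b =>
    simp only [Algebra.TensorProduct.map_tmul, AlgHom.id_apply, PiTensorProduct.singleAlgHom_apply,
      SymTen.perm_tprod, MonoidHom.mulSingle_apply]
    congr 2
    funext j
    by_cases h : j = τ i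
    · subst h; simp
    · have : τ.symm j ≠ i := fun e => h (by simp [← e])
      simp [h, this]
  | add x y hx hy => simp [hx, hy]

lemma perm_prod_ins {S : Type u} [CommSemiring S] [Algebra A S] (τ : Equiv.Perm (Fin d)) (v : Fin d → S ⊗[A] B) :
    (SymTen.perm A B d τ).toLinearMap.lTensor S (∏ i, ins A B S i (v i)) = ∏ i, ins A B S i (v (τ.symm i)) := by
  rw [PolLaw.lTensor_algHom_apply, map_prod]
  simp only [perm_ins]
  exact Fintype.prod_equiv τ _ _ fun i => by simp

variable (F : PolLaw.MulLaw A B A d)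

/-- The symmetrised polarisation of a law. -/
noncomputable def Ls : (⨂[A] _ : Fin d, B) →ₗ[A] A :=
  polar F ∘ₗ ∑ σ : Equiv.Perm (Fin d), (SymTen.perm A B d σ).toLinearMap

/-- The symmetrised polarisation over a test algebra. -/
noncomputable def phi (S : Type u) [CommSemiring S] [Algebra A S] : S ⊗[A] (⨂[A] _ : Fin d, B) →ₗ[A] S :=
  (TensorProduct.rid A S).toLinearMap ∘ₗ (Ls F).lTensor S

lemma phi_tmul {S : Type u} [CommSemiring S] [Algebra A S] (s : S) (t : ⨂[A] _ : Fin d, B) :
    phi F S (s ⊗ₜ[A] t) = Ls F t • s := by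
  simp [phi]

lemma phi_eq_sum {S : Type u} [CommSemiring S] [Algebra A S] (W : S ⊗[A] (⨂[A] _ : Fin d, B)) :
    phi F S W = ∑ σ : Equiv.Perm (Fin d),
      TensorProduct.rid A S ((polar F).lTensor S ((SymTen.perm A B d σ).toLinearMap.lTensor S W)) := by
  induction W using TensorProduct.induction_on with
  | zero => simp
  | tmul s t => simp [phi_tmul, Ls, LinearMap.lTensor_tmul, Finset.sum_smul]
  | add x y hx hy => simp [hx, hy, Finset.sum_add_distrib]

lemma phi_tpow {S : Type u} [CommSemiring S] [Algebra A S] (x : S ⊗[A] B) :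
    phi F S ((SymTen.tpowLaw A B d).law.toFun' S x) =
      (d.factorial * d.factorial) • TensorProduct.rid A S (F.law.toFun' S x) := by
  rw [phi_eq_sum]
  simp only [tpowLaw_eq_prod, perm_prod_ins]
  rw [← tpowLaw_eq_prod, ← factorial_nsmul_law]
  rw [Finset.sum_const, Finset.card_univ, Fintype.card_perm, Fintype.card_fin, map_nsmul, mul_smul]

variable {n : ℕ} (g : Fin n → B)

/-- The linear conditions cutting out the kernel. -/
noncomputable def lam : B →ₗ[A] (Fin d × (Fin d → Fin n) → A) :=
  LinearMap.pi fun p => Ls F ∘ₗ LinearMap.mulLeft A (tprod A fun i => g (p.2 i)) ∘ₗ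
    (PiTensorProduct.singleAlgHom (R := A) (A := fun _ : Fin d => B) p.1).toLinearMap

lemma mem_ker_of_lam (hg : Submodule.span A (Set.range g) = ⊤) (hd : IsUnit (d.factorial : A)) {b : B}
    (hb : lam F g b = 0) : b ∈ PolLaw.ker F.law := by
  classical
  let β : Fin d → (⨂[A] _ : Fin d, B) := fun l => PiTensorProduct.singleAlgHom (R := A) (A := fun _ : Fin d => B) l b
  have h0 : ∀ l t, Ls F (t * β l) = 0 := by
    intro l t
    induction t using PiTensorProduct.induction_on with
    | smul_tprod a v =>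
      choose c hc using fun i => (Submodule.mem_span_range_iff_exists_fun A).mp (hg ▸ Submodule.mem_top (x := v i))
      rw [smul_mul_assoc, map_smul, show v = fun i => ∑ j, c i j • g j from funext fun i => (hc i).symm,
        MultilinearMap.map_sum, Finset.sum_mul, map_sum, Finset.sum_eq_zero, smul_zero]
      intro p _
      rw [MultilinearMap.map_smul_univ, smul_mul_assoc, map_smul]
      have h : Ls F ((tprod A fun i => g (p i)) * β l) = 0 := congrFun hb (l, p)
      rw [h, smul_zero]
    | add x y hx hy => rw [add_mul, map_add, hx, hy, add_zero]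
  intro S _ _ x w
  have h1 : ∀ l (W : S ⊗[A] (⨂[A] _ : Fin d, B)), phi F S (W * ((1 : S) ⊗ₜ[A] β l)) = 0 := by
    intro l W
    induction W using TensorProduct.induction_on with
    | zero => simp
    | tmul s t => rw [Algebra.TensorProduct.tmul_mul_tmul, phi_tmul, h0, zero_smul]
    | add p q hp hq => rw [add_mul, map_add, hp, hq, add_zero]
  have h2 : ∀ (T : Finset (Fin d)) (W : S ⊗[A] (⨂[A] _ : Fin d, B)),
      phi F S (W * ∏ i ∈ T, ins A B S i (x + w * ((1 : S) ⊗ₜ[A] b))) = phi F S (W * ∏ i ∈ T, ins A B S i x) := by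
    intro T
    induction T using Finset.induction_on with
    | empty => intro W; simp
    | insert l T hl ih =>
      intro W
      rw [Finset.prod_insert hl, Finset.prod_insert hl, ← mul_assoc, ih, ← mul_assoc,
        map_add (ins A B S l), mul_add, add_mul, map_add (phi F S), map_mul (ins A B S l),
        Algebra.TensorProduct.map_tmul, map_one]
      rw [show W * (ins A B S l w * ((1 : S) ⊗ₜ[A] β l)) * ∏ i ∈ T, ins A B S i x =
        (W * ins A B S l w * ∏ i ∈ T, ins A B S i x) * ((1 : S) ⊗ₜ[A] β l) by ring, h1, add_zero]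
  have h3 := h2 Finset.univ 1
  rw [one_mul, one_mul, ← tpowLaw_eq_prod, ← tpowLaw_eq_prod, phi_tpow, phi_tpow, ← map_nsmul, ← map_nsmul] at h3
  have h4 := (TensorProduct.rid A S).injective h3
  rw [← Nat.cast_smul_eq_nsmul A, ← Nat.cast_smul_eq_nsmul A, Nat.cast_mul] at h4
  exact (hd.mul hd).smul_left_cancel.mp h4

section Reverse

variable {A' : Type u} [CommRing A'] [Algebra A A']

/-- Tensor powers over `A'` against base change of tensor powers. -/
noncomputable def theta : (⨂[A'] _ : Fin d, A' ⊗[A] B) →ₐ[A'] A' ⊗[A] (⨂[A] _ : Fin d, B) :=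
  PiTensorProduct.liftAlgHom
    ((MultilinearMap.mkPiAlgebra A' (Fin d) _).compLinearMap fun i => (ins A B A' i).toLinearMap)
    (by show ∏ i, ins A B A' i 1 = 1; simp only [map_one, Finset.prod_const_one])
    (by intro x y; show ∏ i, ins A B A' i (x i * y i) = _; simp only [map_mul, Finset.prod_mul_distrib]; rfl)

lemma theta_tprod (v : Fin d → A' ⊗[A] B) : theta (A := A) (B := B) (d := d) (tprod A' v) = ∏ i, ins A B A' i (v i) := by
  simp [theta, PiTensorProduct.liftAlgHom]
  rfl

/-- The polarisation over `A'`. -/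
noncomputable def psi' : (⨂[A'] _ : Fin d, A' ⊗[A] B) →ₗ[A'] A' :=
  (Algebra.TensorProduct.rid A A' A').toLinearMap ∘ₗ (TensorProduct.AlgebraTensorModule.map LinearMap.id (polar F)) ∘ₗ
    theta.toLinearMap

lemma psi'_apply (t : ⨂[A'] _ : Fin d, A' ⊗[A] B) :
    psi' F t = TensorProduct.rid A A' ((polar F).lTensor A' (theta (A := A) (B := B) (d := d) t)) := rfl

lemma psi'_diag (x : A' ⊗[A] B) :
    psi' F (tprod A' fun _ => x) = d.factorial • TensorProduct.rid A A' (F.law.toFun' A' x) := by
  rw [psi'_apply, theta_tprod, ← tpowLaw_eq_prod, ← factorial_nsmul_law, map_nsmul]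

lemma psi'_sym_eq_zero {z : A' ⊗[A] B} (hz : z ∈ PolLaw.kerBC F.law A') (v : Fin d → A' ⊗[A] B) (l : Fin d)
    (hl : ∃ e, v l = e * z) : ∑ σ : Equiv.Perm (Fin d), psi' F (tprod A' fun k => v (σ k)) = 0 := by
  classical
  obtain ⟨e, he⟩ := hl
  let I := PolLaw.kerBC F.law A'
  let fst := AlgHom.fst A' (A' ⊗[A] B) (A' ⊗[A] B)
  let snd := AlgHom.snd A' (A' ⊗[A] B) (A' ⊗[A] B)
  let E : Subalgebra A' ((A' ⊗[A] B) × (A' ⊗[A] B)) :=
    AlgHom.equalizer ((Ideal.Quotient.mkₐ A' I).comp fst) ((Ideal.Quotient.mkₐ A' I).comp snd)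
  have hF : ∀ x y : A' ⊗[A] B, x - y ∈ I → F.law.toFun' A' x = F.law.toFun' A' y := by
    intro x y hxy
    have h := hxy A' y 1
    rwa [show IsScalarTower.toAlgHom A A' A' = AlgHom.id A A' from AlgHom.ext fun _ => rfl,
      Algebra.TensorProduct.map_id, AlgHom.id_apply, one_mul, add_sub_cancel] at h
  have hq : ∀ k, (v k, if k = l then 0 else v k) ∈ E := by
    intro k
    show Ideal.Quotient.mk I (v k) = Ideal.Quotient.mk I (if k = l then 0 else v k)
    split_ifs with h
    · subst h
      rw [map_zero, Ideal.Quotient.eq_zero_iff_mem, he]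
      exact I.mul_mem_left _ hz
    · rfl
  let q : Fin d → E := fun k => ⟨_, hq k⟩
  let p0 := fst.comp E.val
  let p1 := snd.comp E.val
  have hspan : ∀ t ∈ Submodule.span A' (Set.range fun r : E => tprod A' (fun _ : Fin d => r)),
      psi' F (SymTen.tmap A' d p0 t) = psi' F (SymTen.tmap A' d p1 t) := by
    intro t ht
    refine LinearMap.eqOn_span (R := A') (f := psi' F ∘ₗ (SymTen.tmap A' d p0).toLinearMap)
      (g := psi' F ∘ₗ (SymTen.tmap A' d p1).toLinearMap) ?_ ht
    rintro _ ⟨r, rfl⟩
    simp only [LinearMap.comp_apply, AlgHom.toLinearMap_apply, SymTen.tmap_tprod, psi'_diag]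
    rw [hF (p0 r) (p1 r) (Ideal.Quotient.eq.mp r.2)]
  have h := hspan _ (Groth.Misc8.Polarisation.sum_perm_tprod_mem q)
  simp only [map_sum, SymTen.tmap_tprod] at h
  rw [show (∑ σ : Equiv.Perm (Fin d), psi' F (tprod A' fun k => v (σ k))) =
    ∑ σ : Equiv.Perm (Fin d), psi' F (tprod A' fun k => p0 (q (σ k))) from rfl, h]
  refine Finset.sum_eq_zero fun σ _ => ?_
  rw [MultilinearMap.map_coord_zero (tprod A') (σ.symm l) (by simp [p1, snd, q]), map_zero]

lemma lTensor_lam_eq_zero {z : A' ⊗[A] B} (hz : z ∈ PolLaw.kerBC F.law A') :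
    (lam F g).lTensor A' z = 0 := by
  classical
  apply (TensorProduct.piScalarRight A A' A' (Fin d × (Fin d → Fin n))).injective
  rw [map_zero]
  funext p
  obtain ⟨l, c⟩ := p
  let v : Fin d → A' ⊗[A] B := Function.update (fun i => (1 : A') ⊗ₜ[A] g (c i)) l (((1 : A') ⊗ₜ[A] g (c l)) * z)
  have h := psi'_sym_eq_zero F hz v l ⟨(1 : A') ⊗ₜ[A] g (c l), by simp [v]⟩
  have h1 : phi F A' (∏ i, ins A B A' i (v i)) = 0 := by
    rw [phi_eq_sum, ← h]
    refine Fintype.sum_equiv (Equiv.inv _) _ _ fun σ => ?_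
    rw [perm_prod_ins, psi'_apply, theta_tprod]
    rfl
  have h2 : ∏ i, ins A B A' i (v i) = ((1 : A') ⊗ₜ[A] (tprod A fun i => g (c i))) * ins A B A' l z := by
    rw [← Finset.mul_prod_erase _ _ (Finset.mem_univ l), ← prod_single (fun i => g (c i)),
      ← Finset.mul_prod_erase _ _ (Finset.mem_univ l)]
    have : ∏ i ∈ Finset.univ.erase l, ins A B A' i (v i) = (1 : A') ⊗ₜ[A] ∏ i ∈ Finset.univ.erase l,
        PiTensorProduct.singleAlgHom (R := A) (A := fun _ : Fin d => B) i (g (c i)) := by
      rw [← Algebra.TensorProduct.includeRight_apply, map_prod]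
      refine Finset.prod_congr rfl fun i hi => ?_
      simp [v, Finset.ne_of_mem_erase hi]
    rw [this, show v l = ((1 : A') ⊗ₜ[A] g (c l)) * z by simp [v], map_mul, Algebra.TensorProduct.map_tmul, AlgHom.id_apply,
      ← Algebra.TensorProduct.includeRight_apply, ← Algebra.TensorProduct.includeRight_apply,
      ← Algebra.TensorProduct.includeRight_apply, map_mul]
    ring
  rw [h2] at h1
  show _ = (0 : A')
  rw [← h1]
  clear h1 h2 h hz v
  induction z using TensorProduct.induction_on with
  | zero => simp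
  | tmul a b => simp [phi_tmul, lam, LinearMap.lTensor_tmul, TensorProduct.piScalarRight_apply, TensorProduct.piScalarRightHom_tmul]
  | add x y hx hy => simp only [map_add, mul_add, Pi.add_apply, hx, hy]

theorem map_ker_eq_kerBC_of_flat [Module.Finite A B] (hd : IsUnit (d.factorial : A)) [Module.Flat A A'] :
    (PolLaw.ker F.law).map (Algebra.TensorProduct.includeRight : B →ₐ[A] A' ⊗[A] B) =
      PolLaw.kerBC F.law A' := by
  refine le_antisymm ?_ fun z hz => ?_
  · rw [Ideal.map_le_iff_le_comap]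
    intro b hb R _ _ _ _ x w
    simp only [Algebra.TensorProduct.includeRight_apply, Algebra.TensorProduct.map_tmul, map_one, AlgHom.id_apply]
    exact hb R x w
  obtain ⟨n, g, hg⟩ := Module.Finite.exists_fin (R := A) (M := B)
  obtain ⟨w, rfl⟩ := (Module.Flat.lTensor_exact A' (LinearMap.exact_subtype_ker_map (lam F g)) z).mp
    (lTensor_lam_eq_zero F g hz)
  clear hz
  induction w using TensorProduct.induction_on with
  | zero => simp
  | tmul a k =>
    rw [LinearMap.lTensor_tmul, Submodule.subtype_apply,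
      show a ⊗ₜ[A] (k : B) = (a ⊗ₜ[A] (1 : B)) * ((1 : A') ⊗ₜ[A] (k : B)) by simp]
    exact Ideal.mul_mem_left _ _ (Ideal.mem_map_of_mem _ (mem_ker_of_lam F g hg hd k.2))
  | add x y hx hy => rw [map_add]; exact Ideal.add_mem _ hx hy

end Reverse

end Groth.Cycles.Sym
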