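import Groth.Agent.Cycles.PolLawKer
import Mathlib.RingTheory.Spectrum.Prime.Topology
import Mathlib.Topology.Connected.Basic

/-!
Multiplicative laws on a product over a connected base.
-/

universe u

open scoped TensorProduct
open Polynomial (X C)

namespace Groth.Cycles

variable {A : Type u} [CommRing A] {B : Type u} [CommRing B] [Algebra A B] {d : ℕ}

lemma eq_zero_or_one [ConnectedSpace (PrimeSpectrum A)] {c : A} (hc : c * c = c) : c = 0 ∨ c = 1 := by
  have he : IsIdempotentElem c := hc
  rcases isClopen_iff.mp (PrimeSpectrum.isClopen_iff.mpr ⟨c, he, rfl⟩) with h | h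
  · exact Or.inl (he.eq_zero_of_isNilpotent ((PrimeSpectrum.basicOpen_eq_bot_iff c).mp (SetLike.coe_injective h)))
  · right
    have hn : IsNilpotent (1 - c) := by
      rw [PrimeSpectrum.basicOpen_eq_zeroLocus_of_isIdempotentElem c he] at h
      rw [← PrimeSpectrum.basicOpen_eq_bot_iff]
      refine SetLike.coe_injective ?_
      rw [PrimeSpectrum.basicOpen_eq_zeroLocus_compl, h, Set.compl_univ]
      rfl
    exact (sub_eq_zero.mp (he.one_sub.eq_zero_of_isNilpotent hn)).symm

/-- The value of a law on `s • e + (1 - e)` for an idempotent `e`, over a connected base. -/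
lemma exists_degree_idem [ConnectedSpace (PrimeSpectrum A)] (F : PolLaw.MulLaw A B A d) (e : B) (he : e * e = e) :
    ∃ k : ℕ, ∀ (S : Type u) [CommSemiring S] [Algebra A S] (s : S),
      F.law.toFun' S (s • ((1 : S) ⊗ₜ[A] e) + (1 : S) ⊗ₜ[A] (1 - e)) = (s ^ k) ⊗ₜ[A] (1 : A) := by
  have : Nontrivial A := by
    obtain ⟨x⟩ := ‹ConnectedSpace (PrimeSpectrum A)›.toNonempty
    exact ⟨0, 1, fun h => x.2.ne_top ((Ideal.eq_top_iff_one _).mpr (h ▸ zero_mem _))⟩
  let el : ∀ (S : Type u) [CommSemiring S] [Algebra A S], S → S ⊗[A] B := fun S _ _ s =>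
    s • ((1 : S) ⊗ₜ[A] e) + (1 : S) ⊗ₜ[A] (1 - e)
  let p : Polynomial A := Algebra.TensorProduct.rid A A (Polynomial A) (F.law.toFun' (Polynomial A) (el _ X))
  have hel : ∀ {S S' : Type u} [CommSemiring S] [Algebra A S] [CommSemiring S'] [Algebra A S'] (φ : S →ₐ[A] S') (s : S),
      tmap φ B (el S s) = el S' (φ s) := by
    intro S S' _ _ _ _ φ s
    simp [el, map_add, tmap_smul]
  have hrid : ∀ {S S' : Type u} [CommSemiring S] [Algebra A S] [CommSemiring S'] [Algebra A S'] (φ : S →ₐ[A] S')
      (w : S ⊗[A] A), φ (Algebra.TensorProduct.rid A A S w) = Algebra.TensorProduct.rid A A S' (tmap φ A w) := by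
    intro S S' _ _ _ _ φ w
    induction w using TensorProduct.induction_on with
    | zero => simp
    | tmul q a => simp
    | add u v hu hv => simp [map_add, hu, hv]
  have hev : ∀ (S : Type u) [CommSemiring S] [Algebra A S] (s : S),
      F.law.toFun' S (el S s) = (Polynomial.aeval s p) ⊗ₜ[A] (1 : A) := by
    intro S _ _ s
    apply (Algebra.TensorProduct.rid A A S).injective
    rw [hrid (Polynomial.aeval s), law_nat, hel, Polynomial.aeval_X]
    simp
  have hmul : ∀ (S : Type u) [CommRing S] [Algebra A S] (s t : S), el S s * el S t = el S (s * t) := by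
    intro S _ _ s t
    have h2 : e * (1 - e) = 0 := by rw [mul_sub, he, mul_one, sub_self]
    have h1 : (1 - e) * (1 - e) = 1 - e := by rw [sub_mul, one_mul, h2, sub_zero]
    simp only [el, add_mul, mul_add, smul_mul_smul_comm, smul_mul_assoc, mul_smul_comm,
      Algebra.TensorProduct.tmul_mul_tmul, one_mul, he, h1, h2, mul_comm (1 - e) e, TensorProduct.tmul_zero,
      smul_zero, add_zero, zero_add]
    rw [smul_smul, mul_comm t s]
  let PP := Polynomial (Polynomial A)
  have key : Polynomial.aeval (C (X : Polynomial A) * (X : PP)) p =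
      Polynomial.aeval (C (X : Polynomial A)) p * Polynomial.aeval (X : PP) p := by
    have h := (F.mult PP).2 (el PP (C (X : Polynomial A))) (el PP X)
    rw [hmul, hev, hev, hev, Algebra.TensorProduct.tmul_mul_tmul, mul_one] at h
    have h' := congrArg (Algebra.TensorProduct.rid A A PP) h
    simpa using h'
  have hcoef : ∀ i j, p.coeff i * p.coeff j = if i = j then p.coeff i else 0 := by
    intro i j
    have h := congrArg (fun q : PP => (q.coeff j).coeff i) key
    have h1 : Polynomial.aeval (C (X : Polynomial A)) p = C p := by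
      induction p using Polynomial.induction_on' with
      | add a b ha hb => simp [map_add, ha, hb]
      | monomial n a =>
        rw [Polynomial.aeval_monomial, ← map_pow, IsScalarTower.algebraMap_apply A (Polynomial A) PP,
          Polynomial.algebraMap_eq, Polynomial.algebraMap_eq, ← map_mul, Polynomial.C_mul_X_pow_eq_monomial]
    have h2 : Polynomial.aeval (X : PP) p = p.map C := by
      induction p using Polynomial.induction_on' with
      | add a b ha hb => simp [map_add, ha, hb]
      | monomial n a =>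
        rw [Polynomial.aeval_monomial, Polynomial.map_monomial, IsScalarTower.algebraMap_apply A (Polynomial A) PP,
          Polynomial.algebraMap_eq, Polynomial.algebraMap_eq, Polynomial.C_mul_X_pow_eq_monomial]
    have h3 : ∀ q : Polynomial A, (Polynomial.aeval (C (X : Polynomial A) * (X : PP)) q).coeff j =
        C (q.coeff j) * X ^ j := by
      intro q
      induction q using Polynomial.induction_on' with
      | add a b ha hb => simp only [map_add, Polynomial.coeff_add, ha, hb, add_mul]
      | monomial n a =>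
        rw [Polynomial.aeval_monomial, mul_pow, ← map_pow, IsScalarTower.algebraMap_apply A (Polynomial A) PP,
          Polynomial.algebraMap_eq, Polynomial.algebraMap_eq, ← mul_assoc, ← map_mul,
          Polynomial.coeff_C_mul_X_pow, Polynomial.coeff_monomial]
        by_cases hn : j = n
        · subst hn; simp
        · simp [hn, Ne.symm hn]
    simp only [h3, h1, h2, Polynomial.coeff_C_mul, Polynomial.coeff_map, Polynomial.coeff_mul_C,
      Polynomial.coeff_X_pow, mul_ite, mul_one, mul_zero] at h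
    rw [← h]
    by_cases hij : i = j
    · subst hij; simp
    · simp [hij]
  have hsum : Polynomial.aeval (1 : A) p = 1 := by
    have h := hev A 1
    rw [show el A 1 = 1 by simp [el, ← TensorProduct.tmul_add, Algebra.TensorProduct.one_def], (F.mult A).1] at h
    have h' := congrArg (Algebra.TensorProduct.rid A A A) h
    simpa using h'.symm
  obtain ⟨k, hk⟩ : ∃ k, p.coeff k ≠ 0 := by
    by_contra h
    push Not at h
    rw [show p = 0 from Polynomial.ext fun i => by simp [h], map_zero] at hsum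
    exact zero_ne_one hsum
  have hk1 : p.coeff k = 1 := (eq_zero_or_one (by simpa using hcoef k k)).resolve_left hk
  have hp : p = X ^ k := by
    ext i
    rw [Polynomial.coeff_X_pow]
    split_ifs with h
    · rw [h, hk1]
    · have := hcoef i k
      rwa [hk1, mul_one, if_neg h] at this
  refine ⟨k, fun S _ _ s => ?_⟩
  show F.law.toFun' S (el S s) = _
  rw [hev, hp, map_pow, Polynomial.aeval_X]

lemma tmul_one_mul_eq_smul {S : Type u} [CommSemiring S] [Algebra A S] (c : S) (w : S ⊗[A] A) :
    (c ⊗ₜ[A] (1 : A)) * w = c • w := by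
  induction w using TensorProduct.induction_on with
  | zero => simp
  | tmul q a => simp [TensorProduct.smul_tmul']
  | add u v hu hv => simp only [mul_add, smul_add, hu, hv]

variable {B₁ B₂ : Type u} [CommRing B₁] [Algebra A B₁] [CommRing B₂] [Algebra A B₂]

lemma lTensor_inl_mul {S : Type u} [CommSemiring S] [Algebra A S] (x y : S ⊗[A] B₁) :
    (LinearMap.inl A B₁ B₂).lTensor S (x * y) =
      (LinearMap.inl A B₁ B₂).lTensor S x * (LinearMap.inl A B₁ B₂).lTensor S y := by
  induction x using TensorProduct.induction_on with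
  | zero => simp
  | tmul s b =>
    induction y using TensorProduct.induction_on with
    | zero => simp
    | tmul t c => simp [LinearMap.lTensor_tmul]
    | add u v hu hv => simp only [mul_add, map_add, hu, hv]
  | add u v hu hv => simp only [add_mul, map_add, hu, hv]

lemma lTensor_inl_mul_one {S : Type u} [CommSemiring S] [Algebra A S] (x : S ⊗[A] B₁) :
    (LinearMap.inl A B₁ B₂).lTensor S x * ((1 : S) ⊗ₜ[A] ((1 : B₁), (0 : B₂))) =
      (LinearMap.inl A B₁ B₂).lTensor S x ∧
    (LinearMap.inl A B₁ B₂).lTensor S x * ((1 : S) ⊗ₜ[A] ((0 : B₁), (1 : B₂))) = 0 := by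
  induction x using TensorProduct.induction_on with
  | zero => simp
  | tmul s b => simp [LinearMap.lTensor_tmul, Prod.mk_zero_zero]
  | add u v hu hv => constructor <;> simp only [map_add, add_mul, hu, hv, add_zero]

lemma lTensor_inr_mul_one {S : Type u} [CommSemiring S] [Algebra A S] (x : S ⊗[A] B₂) :
    (LinearMap.inr A B₁ B₂).lTensor S x * ((1 : S) ⊗ₜ[A] ((0 : B₁), (1 : B₂))) =
      (LinearMap.inr A B₁ B₂).lTensor S x ∧
    (LinearMap.inr A B₁ B₂).lTensor S x * ((1 : S) ⊗ₜ[A] ((1 : B₁), (0 : B₂))) = 0 := by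
  induction x using TensorProduct.induction_on with
  | zero => simp
  | tmul s b => simp [LinearMap.lTensor_tmul, Prod.mk_zero_zero]
  | add u v hu hv => constructor <;> simp only [map_add, add_mul, hu, hv, add_zero]

lemma lTensor_inr_mul {S : Type u} [CommSemiring S] [Algebra A S] (x y : S ⊗[A] B₂) :
    (LinearMap.inr A B₁ B₂).lTensor S (x * y) =
      (LinearMap.inr A B₁ B₂).lTensor S x * (LinearMap.inr A B₁ B₂).lTensor S y := by
  induction x using TensorProduct.induction_on with
  | zero => simp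
  | tmul s b =>
    induction y using TensorProduct.induction_on with
    | zero => simp
    | tmul t c => simp [LinearMap.lTensor_tmul]
    | add u v hu hv => simp only [mul_add, map_add, hu, hv]
  | add u v hu hv => simp only [add_mul, map_add, hu, hv]

/-- A law `B → A` restricted along an affine map `x ↦ l x + e`. -/
noncomputable def affineRestrict (F : PolLaw.MulLaw A B A d) {B' : Type u} [CommRing B'] [Algebra A B']
    (l : B' →ₗ[A] B) (e : B) : B' →ₚₗ[A] A where
  toFun' S _ _ x := F.law.toFun' S (l.lTensor S x + (1 : S) ⊗ₜ[A] e)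
  isCompat' {S} _ _ {S'} _ _ φ := by
    funext x
    simp only [Function.comp_apply]
    have h := congrFun (F.law.isCompat' φ) (l.lTensor S x + (1 : S) ⊗ₜ[A] e)
    simp only [Function.comp_apply] at h
    rw [h, map_add, LinearMap.rTensor_tmul, AlgHom.toLinearMap_apply, map_one, ← LinearMap.comp_apply (LinearMap.rTensor B _),
      LinearMap.rTensor_comp_lTensor, ← LinearMap.lTensor_comp_rTensor, LinearMap.comp_apply]

theorem exists_decomposition [ConnectedSpace (PrimeSpectrum A)] (F : PolLaw.MulLaw A (B₁ × B₂) A d) :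
    ∃ d₁ d₂ : ℕ, d₁ + d₂ = d ∧
      (∃ (F₁ : PolLaw.MulLaw A B₁ A d₁) (F₂ : PolLaw.MulLaw A B₂ A d₂),
        ∀ (S : Type u) [CommSemiring S] [Algebra A S] (x : S ⊗[A] (B₁ × B₂)),
          F.law.toFun' S x = F₁.law.toFun' S (LinearMap.lTensor S (LinearMap.fst A B₁ B₂) x) *
            F₂.law.toFun' S (LinearMap.lTensor S (LinearMap.snd A B₁ B₂) x)) ∧
      ∀ (e₁ e₂ : ℕ) (G₁ : PolLaw.MulLaw A B₁ A e₁) (G₂ : PolLaw.MulLaw A B₂ A e₂),
        (∀ (S : Type u) [CommSemiring S] [Algebra A S] (x : S ⊗[A] (B₁ × B₂)),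
          F.law.toFun' S x = G₁.law.toFun' S (LinearMap.lTensor S (LinearMap.fst A B₁ B₂) x) *
            G₂.law.toFun' S (LinearMap.lTensor S (LinearMap.snd A B₁ B₂) x)) → e₁ = d₁ ∧ e₂ = d₂ := by
  have : Nontrivial A := by
    obtain ⟨x⟩ := ‹ConnectedSpace (PrimeSpectrum A)›.toNonempty
    exact ⟨0, 1, fun h => x.2.ne_top ((Ideal.eq_top_iff_one _).mpr (h ▸ zero_mem _))⟩
  let E₁ : B₁ × B₂ := (1, 0)
  let E₂ : B₁ × B₂ := (0, 1)
  obtain ⟨k, hk⟩ := exists_degree_idem F E₁ (by simp [E₁])
  obtain ⟨l, hl⟩ := exists_degree_idem F E₂ (by simp [E₂])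
  have s1 : (1 : B₁ × B₂) - E₁ = E₂ := by simp [E₁, E₂, Prod.ext_iff]
  have s2 : (1 : B₁ × B₂) - E₂ = E₁ := by simp [E₁, E₂, Prod.ext_iff]
  simp only [s1] at hk
  simp only [s2] at hl
  have hone : ∀ (S : Type u) [CommSemiring S] [Algebra A S],
      (1 : S) ⊗ₜ[A] E₁ + (1 : S) ⊗ₜ[A] E₂ = 1 := fun S _ _ => by
    rw [← TensorProduct.tmul_add, show E₁ + E₂ = 1 by simp [E₁, E₂, Prod.ext_iff]]
    rfl
  have hE : E₁ * E₁ = E₁ ∧ E₂ * E₂ = E₂ ∧ E₁ * E₂ = 0 ∧ E₂ * E₁ = 0 := by simp [E₁, E₂]
  have hkl : k + l = d := by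
    have h := (F.mult (Polynomial A)).2 ((X : Polynomial A) • ((1 : Polynomial A) ⊗ₜ[A] E₁) + (1 : Polynomial A) ⊗ₜ[A] E₂)
      ((X : Polynomial A) • ((1 : Polynomial A) ⊗ₜ[A] E₂) + (1 : Polynomial A) ⊗ₜ[A] E₁)
    rw [hk, hl] at h
    simp only [add_mul, mul_add, smul_mul_smul_comm, smul_mul_assoc, mul_smul_comm,
      Algebra.TensorProduct.tmul_mul_tmul, one_mul, hE.1, hE.2.1, hE.2.2.1, hE.2.2.2, TensorProduct.tmul_zero,
      smul_zero, add_zero, zero_add, mul_one] at h
    rw [← smul_add, add_comm ((1 : Polynomial A) ⊗ₜ[A] E₂), hone, F.homog, (F.mult _).1, ← pow_add] at h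
    have h' := congrArg (fun w => Polynomial.natDegree (Algebra.TensorProduct.rid A A (Polynomial A) w)) h
    simpa [Algebra.TensorProduct.one_def, TensorProduct.smul_tmul'] using h'.symm
  let L₁ := affineRestrict F (LinearMap.inl A B₁ B₂) E₂
  let L₂ := affineRestrict F (LinearMap.inr A B₁ B₂) E₁
  have hsm : ∀ (S : Type u) [CommSemiring S] [Algebra A S] (s : S) (x : S ⊗[A] B₁),
      (LinearMap.inl A B₁ B₂).lTensor S (s • x) + (1 : S) ⊗ₜ[A] E₂ =
        (s • ((1 : S) ⊗ₜ[A] E₁) + (1 : S) ⊗ₜ[A] E₂) * ((LinearMap.inl A B₁ B₂).lTensor S x + (1 : S) ⊗ₜ[A] E₂) := by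
    intro S _ _ s x
    have h := lTensor_inl_mul_one (B₂ := B₂) x
    have hs : (LinearMap.inl A B₁ B₂).lTensor S (s • x) = s • (LinearMap.inl A B₁ B₂).lTensor S x :=
      ((LinearMap.inl A B₁ B₂).baseChange S).map_smul s x
    rw [mul_comm, hs, add_mul, mul_add, mul_add, mul_smul_comm, h.1, h.2, mul_smul_comm,
      Algebra.TensorProduct.tmul_mul_tmul, Algebra.TensorProduct.tmul_mul_tmul, one_mul, hE.2.1, hE.2.2.2,
      TensorProduct.tmul_zero, smul_zero, zero_add, add_zero]
  have hsm2 : ∀ (S : Type u) [CommSemiring S] [Algebra A S] (s : S) (x : S ⊗[A] B₂),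
      (LinearMap.inr A B₁ B₂).lTensor S (s • x) + (1 : S) ⊗ₜ[A] E₁ =
        (s • ((1 : S) ⊗ₜ[A] E₂) + (1 : S) ⊗ₜ[A] E₁) * ((LinearMap.inr A B₁ B₂).lTensor S x + (1 : S) ⊗ₜ[A] E₁) := by
    intro S _ _ s x
    have h := lTensor_inr_mul_one (B₁ := B₁) x
    have hs : (LinearMap.inr A B₁ B₂).lTensor S (s • x) = s • (LinearMap.inr A B₁ B₂).lTensor S x :=
      ((LinearMap.inr A B₁ B₂).baseChange S).map_smul s x
    rw [mul_comm, hs, add_mul, mul_add, mul_add, mul_smul_comm, h.1, h.2, mul_smul_comm,
      Algebra.TensorProduct.tmul_mul_tmul, Algebra.TensorProduct.tmul_mul_tmul, one_mul, hE.1, hE.2.2.1,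
      TensorProduct.tmul_zero, smul_zero, zero_add, add_zero]
  let F₁ : PolLaw.MulLaw A B₁ A k :=
    { law := L₁
      homog := fun S _ _ s x => by
        show F.law.toFun' S _ = s ^ k • F.law.toFun' S _
        rw [hsm S s x, (F.mult S).2, hk, tmul_one_mul_eq_smul]
      mult := fun S _ _ => by
        refine ⟨?_, fun x y => ?_⟩
        · show F.law.toFun' S _ = 1
          rw [Algebra.TensorProduct.one_def, LinearMap.lTensor_tmul, LinearMap.inl_apply, hone, (F.mult S).1]
        · show F.law.toFun' S _ = F.law.toFun' S _ * F.law.toFun' S _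
          rw [← (F.mult S).2, add_mul, mul_add, mul_add, (lTensor_inl_mul_one x).2,
            mul_comm ((1 : S) ⊗ₜ[A] E₂) ((LinearMap.inl A B₁ B₂).lTensor S y), (lTensor_inl_mul_one y).2,
            ← lTensor_inl_mul, Algebra.TensorProduct.tmul_mul_tmul, one_mul, hE.2.1, add_zero, zero_add] }
  let F₂ : PolLaw.MulLaw A B₂ A l :=
    { law := L₂
      homog := fun S _ _ s x => by
        show F.law.toFun' S _ = s ^ l • F.law.toFun' S _
        rw [hsm2 S s x, (F.mult S).2, hl, tmul_one_mul_eq_smul]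
      mult := fun S _ _ => by
        refine ⟨?_, fun x y => ?_⟩
        · show F.law.toFun' S _ = 1
          rw [Algebra.TensorProduct.one_def, LinearMap.lTensor_tmul, LinearMap.inr_apply, add_comm, hone, (F.mult S).1]
        · show F.law.toFun' S _ = F.law.toFun' S _ * F.law.toFun' S _
          rw [← (F.mult S).2, add_mul, mul_add, mul_add, (lTensor_inr_mul_one x).2,
            mul_comm ((1 : S) ⊗ₜ[A] E₁) ((LinearMap.inr A B₁ B₂).lTensor S y), (lTensor_inr_mul_one y).2,
            ← lTensor_inr_mul, Algebra.TensorProduct.tmul_mul_tmul, one_mul, hE.1, add_zero, zero_add] }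
  refine ⟨k, l, hkl, ⟨F₁, F₂, fun S _ _ x => ?_⟩, fun e₁ e₂ G₁ G₂ hG => ?_⟩
  · show _ = F.law.toFun' S _ * F.law.toFun' S _
    rw [← (F.mult S).2, add_mul, mul_add, mul_add, (lTensor_inl_mul_one _).1,
      mul_comm ((1 : S) ⊗ₜ[A] E₂) _, (lTensor_inr_mul_one _).1, Algebra.TensorProduct.tmul_mul_tmul, hE.2.2.2,
      TensorProduct.tmul_zero, add_zero]
    congr 1
    induction x using TensorProduct.induction_on with
    | zero => simp
    | tmul s b => simp [LinearMap.lTensor_tmul, Prod.mk_zero_zero, ← TensorProduct.tmul_add]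
    | add u v hu hv =>
      simp only [map_add]
      have hu' := hu
      have hv' := hv
      rw [add_mul, mul_add, mul_add]
      have z1 : ∀ (a : S ⊗[A] B₁) (b : S ⊗[A] B₂),
          (LinearMap.inl A B₁ B₂).lTensor S a * (LinearMap.inr A B₁ B₂).lTensor S b = 0 := by
        intro a b
        rw [← (lTensor_inl_mul_one (B₂ := B₂) a).1, mul_assoc, mul_comm ((1 : S) ⊗ₜ[A] _), (lTensor_inr_mul_one b).2,
          mul_zero]
      simp only [z1, add_zero, zero_add] at hu' hv' ⊢
      conv_lhs => rw [hu', hv']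
      abel
  · have ha := fun x => hG (Polynomial A) x
    have h1 := ha ((X : Polynomial A) • ((1 : Polynomial A) ⊗ₜ[A] E₁) + (1 : Polynomial A) ⊗ₜ[A] E₂)
    have h2 := ha ((X : Polynomial A) • ((1 : Polynomial A) ⊗ₜ[A] E₂) + (1 : Polynomial A) ⊗ₜ[A] E₁)
    rw [hk] at h1
    rw [hl] at h2
    simp only [map_add, TensorProduct.smul_tmul', smul_eq_mul, mul_one, LinearMap.lTensor_tmul, E₁, E₂,
      LinearMap.fst_apply, LinearMap.snd_apply, TensorProduct.tmul_zero, add_zero, zero_add] at h1 h2
    have hx : ∀ {B' : Type u} [CommRing B'] [Algebra A B'] {e : ℕ} (G : PolLaw.MulLaw A B' A e),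
        G.law.toFun' (Polynomial A) ((X : Polynomial A) ⊗ₜ[A] (1 : B')) = (X ^ e : Polynomial A) ⊗ₜ[A] (1 : A) := by
      intro B' _ _ e G
      rw [show ((X : Polynomial A) ⊗ₜ[A] (1 : B')) = (X : Polynomial A) • (1 : Polynomial A ⊗[A] B') by
        rw [Algebra.TensorProduct.one_def, TensorProduct.smul_tmul', smul_eq_mul, mul_one], G.homog, (G.mult _).1,
        Algebra.TensorProduct.one_def, TensorProduct.smul_tmul', smul_eq_mul, mul_one]
    have hone' : ∀ {B' : Type u} [CommRing B'] [Algebra A B'] {e : ℕ} (G : PolLaw.MulLaw A B' A e),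
        G.law.toFun' (Polynomial A) ((1 : Polynomial A) ⊗ₜ[A] (1 : B')) = (1 : Polynomial A) ⊗ₜ[A] (1 : A) :=
      fun G => by rw [← Algebra.TensorProduct.one_def, (G.mult _).1, Algebra.TensorProduct.one_def]
    rw [hx, hone', Algebra.TensorProduct.tmul_mul_tmul, mul_one, mul_one] at h1
    rw [hx, hone', Algebra.TensorProduct.tmul_mul_tmul, one_mul, mul_one] at h2
    have a1 := congrArg (fun w => Polynomial.natDegree (Algebra.TensorProduct.rid A A (Polynomial A) w)) h1
    have a2 := congrArg (fun w => Polynomial.natDegree (Algebra.TensorProduct.rid A A (Polynomial A) w)) h2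
    simp at a1 a2
    exact ⟨a1.symm, a2.symm⟩

end Groth.Cycles
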