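import Groth.Agent.Cycles.PolLawSym
import Mathlib.RingTheory.LocalRing.ResidueField.Ideal
import Mathlib.RingTheory.TensorProduct.Maps

/-!
Residue fields of symmetric tensors against those of the divided powers.
-/

universe u

open scoped TensorProduct
open PiTensorProduct (tprod)

namespace Groth.Cycles.Sym

variable {A : Type u} [CommRing A] {d : ℕ} {B : Type u} [CommRing B] [Algebra A B]

lemma perm_single (σ : Equiv.Perm (Fin d)) (i : Fin d) (b : B) :
    SymTen.perm A B d σ (PiTensorProduct.singleAlgHom (R := A) (A := fun _ : Fin d => B) i b) =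
      PiTensorProduct.singleAlgHom (R := A) (A := fun _ : Fin d => B) (σ i) b := by
  simp only [PiTensorProduct.singleAlgHom_apply, MonoidHom.mulSingle_apply, SymTen.perm_tprod]
  congr 1
  funext j
  rcases eq_or_ne j (σ i) with rfl | hj
  · simp
  · rw [Pi.mulSingle_eq_of_ne hj, Pi.mulSingle_eq_of_ne]
    intro h
    exact hj (by rw [← h]; simp)

lemma tmap_single {B' : Type u} [CommRing B'] [Algebra A B'] (f : B →ₐ[A] B') (i : Fin d) (b : B) :
    SymTen.tmap A d f (PiTensorProduct.singleAlgHom (R := A) (A := fun _ : Fin d => B) i b) =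
      PiTensorProduct.singleAlgHom (R := A) (A := fun _ : Fin d => B') i (f b) := by
  simp only [PiTensorProduct.singleAlgHom_apply, MonoidHom.mulSingle_apply, SymTen.tmap_tprod]
  congr 1
  funext j
  rcases eq_or_ne j i with rfl | hj
  · simp
  · simp [Pi.mulSingle_eq_of_ne hj]

lemma exists_lin_of_lins {R' : Type u} [CommRing R'] [Algebra A R'] (h : Fin d → B →ₗ[A] R') :
    ∃ G : (⨂[A] _ : Fin d, B) →ₗ[A] R', ∀ g : Fin d → B, G (tprod A g) = ∏ i, h i (g i) :=
  ⟨PiTensorProduct.lift ((MultilinearMap.mkPiAlgebra A (Fin d) R').compLinearMap h), fun g => by simp⟩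

lemma exists_equivariant_section (k : Type u) [Field k] [Algebra A k] :
    ∃ G : (⨂[A] _ : Fin d, B) →ₗ[A] k ⊗[A] (⨂[A] _ : Fin d, MvPolynomial B A),
      (∀ t, (SymTen.tmap A d (pres B)).toLinearMap.lTensor k (G t) = (1 : k) ⊗ₜ[A] t) ∧
      ∀ (σ : Equiv.Perm (Fin d)) t,
        (SymTen.perm A (MvPolynomial B A) d σ).toLinearMap.lTensor k (G t) = G (SymTen.perm A B d σ t) := by
  have hsurj : Function.Surjective ((pres (A := A) B).toLinearMap.baseChange k) := by
    rw [LinearMap.baseChange_eq_ltensor]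
    exact LinearMap.lTensor_surjective k pres_surjective
  obtain ⟨ℓ, hℓ⟩ := LinearMap.exists_rightInverse_of_surjective _ (LinearMap.range_eq_top.mpr hsurj)
  let w : B → k ⊗[A] MvPolynomial B A := fun b => ℓ ((1 : k) ⊗ₜ[A] b)
  let h : Fin d → (B →ₗ[A] k ⊗[A] (⨂[A] _ : Fin d, MvPolynomial B A)) := fun i =>
    (PiTensorProduct.singleAlgHom (R := A) (A := fun _ : Fin d => MvPolynomial B A) i).toLinearMap.lTensor k ∘ₗ
      (ℓ.restrictScalars A) ∘ₗ (TensorProduct.mk A k B 1)
  obtain ⟨G, hG'⟩ := @exists_lin_of_lins A _ d B _ _ (k ⊗[A] (⨂[A] _ : Fin d, MvPolynomial B A)) Algebra.TensorProduct.instCommRing inferInstance h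
  have hG : ∀ g : Fin d → B, G (tprod A g) = ∏ i,
      (PiTensorProduct.singleAlgHom (R := A) (A := fun _ : Fin d => MvPolynomial B A) i).toLinearMap.lTensor k
        (w (g i)) := fun g => hG' g
  refine ⟨G, fun t => ?_, fun σ t => ?_⟩
  · induction t using PiTensorProduct.induction_on with
    | smul_tprod r g =>
      rw [map_smul, map_smul, hG, PolLaw.lTensor_algHom_apply, map_prod, TensorProduct.tmul_smul]
      congr 1
      calc _ = ∏ i, (1 : k) ⊗ₜ[A] PiTensorProduct.singleAlgHom (R := A) (A := fun _ : Fin d => B) i (g i) :=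
            Finset.prod_congr rfl fun i _ => by
              rw [← PolLaw.lTensor_algHom_apply, lT_comp,
                show (SymTen.tmap A d (pres B)).toLinearMap ∘ₗ
                  (PiTensorProduct.singleAlgHom (R := A) (A := fun _ : Fin d => MvPolynomial B A) i).toLinearMap =
                  (PiTensorProduct.singleAlgHom (R := A) (A := fun _ : Fin d => B) i).toLinearMap ∘ₗ
                    (pres B).toLinearMap from LinearMap.ext fun b => tmap_single (pres B) i b, ← lT_comp,
                show (pres B).toLinearMap.lTensor k (w (g i)) = (1 : k) ⊗ₜ[A] g i from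
                  LinearMap.congr_fun hℓ _]
              rfl
        _ = _ := by rw [tmul_prod, prod_single, Finset.prod_const_one]
    | add x y hx hy => simp [hx, hy, TensorProduct.tmul_add]
  · induction t using PiTensorProduct.induction_on with
    | smul_tprod r g =>
      simp only [map_smul, SymTen.perm_tprod]
      congr 1
      rw [hG, hG, PolLaw.lTensor_algHom_apply, map_prod]
      rw [← Equiv.prod_comp σ (fun i => (PiTensorProduct.singleAlgHom (R := A)
        (A := fun _ : Fin d => MvPolynomial B A) i).toLinearMap.lTensor k (w (g (σ.symm i))))]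
      refine Finset.prod_congr rfl fun i _ => ?_
      rw [← PolLaw.lTensor_algHom_apply, lT_comp, Equiv.symm_apply_apply,
        show (SymTen.perm A (MvPolynomial B A) d σ).toLinearMap ∘ₗ
          (PiTensorProduct.singleAlgHom (R := A) (A := fun _ : Fin d => MvPolynomial B A) i).toLinearMap =
          (PiTensorProduct.singleAlgHom (R := A) (A := fun _ : Fin d => MvPolynomial B A) (σ i)).toLinearMap
        from LinearMap.ext fun b => perm_single σ i b]
    | add x y hx hy => simp [hx, hy]

variable {C : Type u} [CommRing C] [Algebra A C] (γ : PolLaw.MulLaw A B C d)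
  (φ : C →ₐ[A] SymTen.TS A B d)
  (hφ : ∀ (S : Type u) [CommSemiring S] [Algebra A S] (n : ℕ) (s : Fin n → S) (b : Fin n → B),
    ((SymTen.TS A B d).val.comp φ).toLinearMap.lTensor S (γ.law.toFun' S (∑ j, s j ⊗ₜ[A] b j)) =
      ∑ c : Fin d → Fin n, (∏ i, s (c i)) ⊗ₜ[A] PiTensorProduct.tprod A (fun i => b (c i)))

omit hφ in
lemma exists_clear_denom (q : Ideal A) [q.IsPrime] (w : q.ResidueField ⊗[A] C) :
    ∃ (a : A) (c : C), a ∉ q ∧ a • w = (1 : q.ResidueField) ⊗ₜ[A] c := by
  induction w using TensorProduct.induction_on with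
  | zero => exact ⟨1, 0, Ideal.IsPrime.one_notMem ‹q.IsPrime›, by simp⟩
  | tmul x c =>
    obtain ⟨p, s, hs, rfl⟩ := IsFractionRing.div_surjective (A ⧸ q) x
    obtain ⟨p, rfl⟩ := Ideal.Quotient.mk_surjective p
    obtain ⟨s, rfl⟩ := Ideal.Quotient.mk_surjective s
    have hs' : s ∉ q := fun h => nonZeroDivisors.ne_zero hs (Ideal.Quotient.eq_zero_iff_mem.mpr h)
    refine ⟨s, p • c, hs', ?_⟩
    have hne : algebraMap A q.ResidueField s ≠ 0 := by simpa using hs'
    rw [TensorProduct.smul_tmul', TensorProduct.tmul_smul, TensorProduct.smul_tmul', Algebra.smul_def,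
      Algebra.smul_def, mul_one]
    congr 1
    show algebraMap A q.ResidueField s * (algebraMap A q.ResidueField p / algebraMap A q.ResidueField s) = _
    rw [mul_div_cancel₀ _ hne]
  | add x y hx hy =>
    obtain ⟨a, c, ha, hx⟩ := hx
    obtain ⟨a', c', ha', hy⟩ := hy
    refine ⟨a * a', a' • c + a • c', Ideal.IsPrime.mul_notMem ‹_› ha ha', ?_⟩
    rw [smul_add, TensorProduct.tmul_add, TensorProduct.tmul_smul, TensorProduct.tmul_smul, ← hx, ← hy,
      smul_smul, smul_smul, mul_comm a' a]

include hφ in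
theorem exists_frac_mem (p : Ideal (SymTen.TS A B d)) [p.IsPrime] (y : SymTen.TS A B d) :
    ∃ c s : C, φ s ∉ p ∧ φ s * y - φ c ∈ p := by
  let q := p.comap (algebraMap A (SymTen.TS A B d))
  let k := q.ResidueField
  obtain ⟨G, hG, hGσ⟩ := exists_equivariant_section (A := A) (d := d) (B := B) k
  let w := (Free.proj (bP A B) d).lTensor k (G (y : ⨂[A] _ : Fin d, B))
  have hw : (SymTen.TS A (MvPolynomial B A) d).val.toLinearMap.lTensor k w = G (y : ⨂[A] _ : Fin d, B) :=
    val_proj_of_fixed (bP A B) _ fun σ => by rw [hGσ, perm_val]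
  obtain ⟨a, c, ha, hc⟩ := exists_clear_denom q ((presHom γ).toLinearMap.lTensor k w)
  refine ⟨c, algebraMap A C a, by rw [AlgHom.commutes]; exact ha, ?_⟩
  have hz : (SymTen.TS A B d).val.toLinearMap.lTensor k
      ((1 : k) ⊗ₜ[A] (a • y - φ c : SymTen.TS A B d)) = 0 := by
    have h1 : ((SymTen.TS A B d).val.comp φ).toLinearMap.lTensor k ((1 : k) ⊗ₜ[A] c) =
        a • ((1 : k) ⊗ₜ[A] (y : ⨂[A] _ : Fin d, B)) := by
      rw [← hc, map_smul, lT_comp, show ((SymTen.TS A B d).val.comp φ).toLinearMap ∘ₗ (presHom γ).toLinearMap =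
        (SymTen.tmap A d (pres B)).toLinearMap ∘ₗ (SymTen.TS A (MvPolynomial B A) d).val.toLinearMap from
        LinearMap.ext (val_phi_pres γ φ hφ), ← lT_comp, hw, hG]
    rw [LinearMap.lTensor_tmul] at h1 ⊢
    rw [map_sub, map_smul, TensorProduct.tmul_sub, TensorProduct.tmul_smul]
    exact sub_eq_zero.mpr h1.symm
  have h2 : (1 : k) ⊗ₜ[A] (bigLaw γ).law.ground ((a • y - φ c : SymTen.TS A B d) : ⨂[A] _ : Fin d, B) = 0 := by
    rw [PolynomialLaw.one_tmul_ground_apply']
    rw [LinearMap.lTensor_tmul] at hz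
    erw [hz]
    have := (bigLaw γ).homog k 0 0
    rwa [smul_zero, zero_pow (Nat.factorial_ne_zero d), zero_smul] at this
  have h3 := congrArg (φ.toLinearMap.lTensor k) h2
  rw [LinearMap.lTensor_tmul, map_zero, AlgHom.toLinearMap_apply, phi_pow_eq γ φ hφ] at h3
  let L : k ⊗[A] SymTen.TS A B d →ₐ[A] p.ResidueField :=
    Algebra.TensorProduct.lift (Ideal.ResidueField.mapₐ q p (Algebra.ofId A _) rfl)
      (IsScalarTower.toAlgHom A _ _) (fun _ _ => Commute.all _ _)
  have h4 := congrArg L h3
  simp only [L, Algebra.TensorProduct.lift_tmul, map_one, one_mul, map_zero, IsScalarTower.coe_toAlgHom,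
    IsScalarTower.coe_toAlgHom', Ideal.algebraMap_residueField_eq_zero] at h4
  have := Ideal.IsPrime.mem_of_pow_mem ‹_› _ h4
  rwa [AlgHom.commutes, ← Algebra.smul_def]

end Groth.Cycles.Sym
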