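import Groth.Agent.Cycles.PolLawFree
import Groth.Agent.Cycles.PolLawLift
import Groth.Agent.Cycles.PolLawCH
import Groth.Agent.S13717
import Mathlib.LinearAlgebra.TensorProduct.Finiteness

/-!
Divided powers against symmetric tensors: the presentation, the descent of the symmetrisation law to a
multiplicative law `T^d(B) → Γ^d(B)` of degree `d!`.
-/

universe u

open scoped TensorProduct
open PiTensorProduct (tprod)

namespace Groth.Cycles.Sym

variable {A : Type u} [CommRing A] {d : ℕ}
  {B : Type u} [CommRing B] [Algebra A B] {B' : Type u} [CommRing B'] [Algebra A B']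
  {B'' : Type u} [CommRing B''] [Algebra A B'']

section Basics

variable {M N O : Type u} [AddCommGroup M] [Module A M] [AddCommGroup N] [Module A N] [AddCommGroup O] [Module A O]

lemma lT_comp (S : Type u) [CommSemiring S] [Algebra A S] (g : N →ₗ[A] O) (f : M →ₗ[A] N) (x : S ⊗[A] M) :
    g.lTensor S (f.lTensor S x) = (g ∘ₗ f).lTensor S x := by
  rw [LinearMap.lTensor_comp, LinearMap.comp_apply]

lemma exists_fin_sum {S : Type u} [CommSemiring S] [Algebra A S] (x : S ⊗[A] M) :
    ∃ (n : ℕ) (s : Fin n → S) (b : Fin n → M), x = ∑ j, s j ⊗ₜ[A] b j := by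
  classical
  obtain ⟨F, rfl⟩ := TensorProduct.exists_finset x
  refine ⟨F.card, fun j => (F.equivFin.symm j).1.1, fun j => (F.equivFin.symm j).1.2, ?_⟩
  rw [← Finset.sum_coe_sort F]
  exact (F.equivFin.symm.sum_comp (fun i : F => i.1.1 ⊗ₜ[A] i.1.2)).symm

end Basics

lemma tmul_prod {S : Type u} [CommSemiring S] [Algebra A S] {ι : Type} (F : Finset ι) (s : ι → S) (b : ι → B) :
    ∏ i ∈ F, s i ⊗ₜ[A] b i = (∏ i ∈ F, s i) ⊗ₜ[A] ∏ i ∈ F, b i := by
  classical
  induction F using Finset.induction_on with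
  | empty => simp [Algebra.TensorProduct.one_def]
  | insert i F hi ih => rw [Finset.prod_insert hi, Finset.prod_insert hi, Finset.prod_insert hi, ih,
      Algebra.TensorProduct.tmul_mul_tmul]

lemma prod_single (f : Fin d → B) :
    ∏ i, PiTensorProduct.singleAlgHom (R := A) (A := fun _ : Fin d => B) i (f i) = tprod A f := by
  simp only [PiTensorProduct.singleAlgHom_apply, MonoidHom.mulSingle_apply]
  rw [← PiTensorProduct.tprod_prod]
  exact congrArg _ (Finset.univ_prod_mulSingle f)

lemma tpow_fin_sum {S : Type u} [CommSemiring S] [Algebra A S] {n : ℕ} (s : Fin n → S) (b : Fin n → B) :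
    (SymTen.tpowLaw A B d).law.toFun' S (∑ j, s j ⊗ₜ[A] b j) =
      ∑ c : Fin d → Fin n, (∏ i, s (c i)) ⊗ₜ[A] tprod A (fun i => b (c i)) := by
  rw [SymTen.tpowLaw, PolLaw.MulLaw.prodMap_toFun']
  simp only [map_sum, Algebra.TensorProduct.map_tmul, AlgHom.id_apply]
  rw [Fintype.prod_sum]
  refine Finset.sum_congr rfl fun c _ => ?_
  rw [tmul_prod, prod_single]

lemma exists_lin_of_homs {R' : Type u} [CommRing R'] [Algebra A R'] (h : Fin d → B →ₐ[A] R') :
    ∃ G : (⨂[A] _ : Fin d, B) →ₗ[A] R', ∀ g : Fin d → B, G (tprod A g) = ∏ i, h i (g i) :=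
  ⟨PiTensorProduct.lift
      ((MultilinearMap.mkPiAlgebra A (Fin d) R').compLinearMap fun i => (h i).toLinearMap),
    fun g => by simp⟩

lemma tmap_comp_apply (f : B →ₐ[A] B') (g : B' →ₐ[A] B'') (t : ⨂[A] _ : Fin d, B) :
    SymTen.tmap A d g (SymTen.tmap A d f t) = SymTen.tmap A d (g.comp f) t := by
  induction t using PiTensorProduct.induction_on with
  | smul_tprod r h => simp
  | add x y hx hy => simp [hx, hy]

lemma tmap_id_apply (t : ⨂[A] _ : Fin d, B) : SymTen.tmap A d (AlgHom.id A B) t = t := by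
  induction t using PiTensorProduct.induction_on with
  | smul_tprod r h => simp
  | add x y hx hy => simp [hx, hy]

lemma tmap_perm (f : B →ₐ[A] B') (σ : Equiv.Perm (Fin d)) (t : ⨂[A] _ : Fin d, B) :
    SymTen.tmap A d f (SymTen.perm A B d σ t) = SymTen.perm A B' d σ (SymTen.tmap A d f t) := by
  rw [SymTen.perm_apply, SymTen.perm_apply, SymTen.tmap_reindex]

lemma perm_perm (τ σ : Equiv.Perm (Fin d)) (t : ⨂[A] _ : Fin d, B) :
    SymTen.perm A B d τ (SymTen.perm A B d σ t) = SymTen.perm A B d (τ * σ) t := by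
  induction t using PiTensorProduct.induction_on with
  | smul_tprod r h => simp only [map_smul, SymTen.perm_tprod]; rfl
  | add x y hx hy => simp [hx, hy]

lemma perm_val (σ : Equiv.Perm (Fin d)) (z : SymTen.TS A B d) :
    SymTen.perm A B d σ (z : ⨂[A] _ : Fin d, B) = z := by
  rw [SymTen.perm_apply]; exact z.2 σ

lemma tmap_tpow (f : B →ₐ[A] B') {S : Type u} [CommSemiring S] [Algebra A S] (x : S ⊗[A] B) :
    (SymTen.tmap A d f).toLinearMap.lTensor S ((SymTen.tpowLaw A B d).law.toFun' S x) =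
      (SymTen.tpowLaw A B' d).law.toFun' S (f.toLinearMap.lTensor S x) := by
  obtain ⟨n, s, b, rfl⟩ := exists_fin_sum x
  simp only [tpow_fin_sum, map_sum, LinearMap.lTensor_tmul, AlgHom.toLinearMap_apply, SymTen.tmap_tprod]

lemma TSmap_tsLaw {κ κ' : Type u} (e : Module.Basis κ A B) (e' : Module.Basis κ' A B') (f : B →ₐ[A] B')
    {S : Type u} [CommSemiring S] [Algebra A S] (x : S ⊗[A] B) :
    (SymTen.TSmap A d f).toLinearMap.lTensor S ((Free.tsLaw e d).law.toFun' S x) =
      (Free.tsLaw e' d).law.toFun' S (f.toLinearMap.lTensor S x) := by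
  apply Free.lTensor_val_injective e' d S
  rw [Free.tsLaw_val, lT_comp, show (SymTen.TS A B' d).val.toLinearMap ∘ₗ (SymTen.TSmap A d f).toLinearMap =
    (SymTen.tmap A d f).toLinearMap ∘ₗ (SymTen.TS A B d).val.toLinearMap from rfl, ← lT_comp, Free.tsLaw_val,
    tmap_tpow]

/-- The linear symmetrisation. -/
noncomputable def sym : (⨂[A] _ : Fin d, B) →ₗ[A] SymTen.TS A B d :=
  LinearMap.codRestrict (Subalgebra.toSubmodule (SymTen.TS A B d))
    (∑ σ : Equiv.Perm (Fin d), (SymTen.perm A B d σ).toLinearMap) fun t => by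
      rw [Subalgebra.mem_toSubmodule, SymTen.mem_TS_iff]
      intro τ
      simp only [LinearMap.coe_sum, Finset.sum_apply, AlgHom.toLinearMap_apply]
      rw [← SymTen.perm_apply, map_sum]
      simp only [perm_perm]
      exact Equiv.sum_comp (Equiv.mulLeft τ) (fun σ => SymTen.perm A B d σ t)

lemma val_sym (t : ⨂[A] _ : Fin d, B) :
    ((sym t : SymTen.TS A B d) : ⨂[A] _ : Fin d, B) = ∑ σ, SymTen.perm A B d σ t := by
  show (∑ σ : Equiv.Perm (Fin d), (SymTen.perm A B d σ).toLinearMap) t = _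
  simp

lemma sym_val (z : SymTen.TS A B d) : sym (z : ⨂[A] _ : Fin d, B) = d.factorial • z := by
  apply Subtype.ext
  rw [val_sym, AddSubmonoidClass.coe_nsmul]
  simp [perm_val, Fintype.card_perm]

lemma TSmap_sym (f : B →ₐ[A] B') (t : ⨂[A] _ : Fin d, B) :
    SymTen.TSmap A d f (sym t) = sym (SymTen.tmap A d f t) := by
  apply Subtype.ext
  show SymTen.tmap A d f ((sym t : SymTen.TS A B d) : ⨂[A] _ : Fin d, B) = _
  simp only [val_sym, map_sum, tmap_perm]

section Fixed

variable {κ : Type u} (e : Module.Basis κ A B)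

lemma repr_perm (σ : Equiv.Perm (Fin d)) (t : ⨂[A] _ : Fin d, B) (g : Fin d → κ) :
    (Free.tpBasis e d).repr (SymTen.perm A B d σ t) g = (Free.tpBasis e d).repr t (fun i => g (σ i)) := by
  classical
  have := (Free.tpBasis e d).ext
    (f₁ := Finsupp.lapply g ∘ₗ (Free.tpBasis e d).repr.toLinearMap ∘ₗ (SymTen.perm A B d σ).toLinearMap)
    (f₂ := Finsupp.lapply (fun i => g (σ i)) ∘ₗ (Free.tpBasis e d).repr.toLinearMap) fun h => by
      simp only [LinearMap.comp_apply, LinearEquiv.coe_coe, Finsupp.lapply_apply, AlgHom.toLinearMap_apply,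
        SymTen.perm_apply, Free.reindex_tpBasis, Module.Basis.repr_self, Finsupp.single_apply]
      refine if_congr ⟨fun he => funext fun i => ?_, fun he => funext fun i => ?_⟩ rfl rfl
      · rw [← he]; simp
      · rw [he]; simp
  exact LinearMap.congr_fun this t

lemma val_proj_of_fixed {S : Type u} [CommSemiring S] [Algebra A S] (z : S ⊗[A] (⨂[A] _ : Fin d, B))
    (hz : ∀ σ : Equiv.Perm (Fin d), (SymTen.perm A B d σ).toLinearMap.lTensor S z = z) :
    (SymTen.TS A B d).val.toLinearMap.lTensor S ((Free.proj e d).lTensor S z) = z := by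
  classical
  let b := Algebra.TensorProduct.basis S (Free.tpBasis e d)
  have hperm : ∀ (σ : Equiv.Perm (Fin d)) (w : S ⊗[A] (⨂[A] _ : Fin d, B)) (g : Fin d → κ),
      b.repr ((SymTen.perm A B d σ).toLinearMap.lTensor S w) g = b.repr w (fun i => g (σ i)) := by
    intro σ w g
    induction w using TensorProduct.induction_on with
    | zero => simp
    | tmul s t =>
      rw [LinearMap.lTensor_tmul, Algebra.TensorProduct.basis_repr_tmul, Algebra.TensorProduct.basis_repr_tmul]
      simp only [Finsupp.smul_apply, Finsupp.mapRange_apply, AlgHom.toLinearMap_apply, repr_perm]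
    | add x y hx hy => simp only [map_add, Finsupp.add_apply, hx, hy]
  have hinv : ∀ f g : Fin d → κ, Free.key f = Free.key g → b.repr z f = b.repr z g := by
    intro f g h
    obtain ⟨σ, hσ⟩ := Free.exists_perm_of_key_eq h
    have := hperm σ z g
    rw [hz σ, show (fun i => g (σ i)) = f from funext hσ] at this
    exact this.symm
  rw [lT_comp]
  apply b.repr.injective
  ext g
  let L := (SymTen.TS A B d).val.toLinearMap ∘ₗ Free.proj e d
  have hL : ∀ f, L (Free.tpBasis e d f) =
      if Free.rep d (Free.key f) = some f then ∑ h ∈ Free.orbit d (Free.key f), Free.tpBasis e d h else 0 := by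
    intro f
    show ((Free.onReps e d (Free.o e d) (Free.tpBasis e d f) : SymTen.TS A B d) : ⨂[A] _ : Fin d, B) = _
    rw [Free.onReps, Module.Basis.constr_basis]
    split_ifs
    · rfl
    · rfl
  have hb : ∀ f, b f = (1 : S) ⊗ₜ[A] Free.tpBasis e d f := fun f => Algebra.TensorProduct.basis_apply _ f
  have hzsum : z = ∑ f ∈ (b.repr z).support, b.repr z f • b f := by
    conv_lhs => rw [← b.linearCombination_repr z, Finsupp.linearCombination_apply, Finsupp.sum]
  have hcoord : ∀ (f : Fin d → κ) (t : S), b.repr (L.lTensor S (t • b f)) g =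
      if Free.rep d (Free.key f) = some f ∧ Free.key g = Free.key f then t else 0 := by
    intro f t
    rw [hb, TensorProduct.smul_tmul', smul_eq_mul, mul_one, LinearMap.lTensor_tmul,
      Algebra.TensorProduct.basis_repr_tmul, hL]
    by_cases hr : Free.rep d (Free.key f) = some f
    · rw [if_pos hr]
      by_cases hk : Free.key g = Free.key f
      · rw [if_pos ⟨hr, hk⟩]
        simp [map_sum, Finsupp.single_apply, Free.mem_orbit, hk]
      · rw [if_neg (fun h => hk h.2)]
        simp [map_sum, Finsupp.single_apply, Free.mem_orbit, hk]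
    · rw [if_neg hr, if_neg (fun h => hr h.1)]
      simp
  show b.repr (L.lTensor S z) g = b.repr z g
  conv_lhs => rw [hzsum]
  rw [map_sum, map_sum, Finsupp.finsetSum_apply]
  simp only [hcoord]
  obtain ⟨g₀, hg₀, hk⟩ := Free.rep_key g
  rw [Finset.sum_eq_single g₀]
  · rw [if_pos ⟨by rw [hk]; exact hg₀, hk.symm⟩, hinv g₀ g hk]
  · intro f _ hf
    rw [if_neg]
    rintro ⟨h1, h2⟩
    exact hf (Option.some_injective _ (h1.symm.trans (h2 ▸ hg₀)))
  · intro h
    rw [Finsupp.notMem_support_iff] at h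
    simp [h]

lemma symmLaw_fixed {S : Type u} [CommSemiring S] [Algebra A S] (x : S ⊗[A] (⨂[A] _ : Fin d, B))
    (τ : Equiv.Perm (Fin d)) :
    (SymTen.perm A B d τ).toLinearMap.lTensor S ((SymTen.symmLaw A B d).law.toFun' S x) =
      (SymTen.symmLaw A B d).law.toFun' S x := by
  simp only [SymTen.symmLaw, PolLaw.MulLaw.prodMap_toFun', PolLaw.lTensor_algHom_apply, map_prod]
  rw [← Equiv.prod_comp (Equiv.mulLeft τ)
    (fun σ => Algebra.TensorProduct.map (AlgHom.id S S) (SymTen.perm A B d σ) x)]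
  refine Finset.prod_congr rfl fun σ _ => ?_
  rw [← PolLaw.lTensor_algHom_apply, ← PolLaw.lTensor_algHom_apply, ← PolLaw.lTensor_algHom_apply, lT_comp]
  congr 2
  exact LinearMap.ext fun t => perm_perm τ σ t

lemma val_symLaw_aux {S : Type u} [CommSemiring S] [Algebra A S] (x : S ⊗[A] (⨂[A] _ : Fin d, B)) :
    (SymTen.TS A B d).val.toLinearMap.lTensor S ((Free.proj e d).lTensor S
      ((SymTen.symmLaw A B d).law.toFun' S x)) = (SymTen.symmLaw A B d).law.toFun' S x :=
  val_proj_of_fixed e _ (symmLaw_fixed x)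

/-- The symmetrisation law with values in the symmetric tensors. -/
noncomputable def symLaw : PolLaw.MulLaw A (⨂[A] _ : Fin d, B) (SymTen.TS A B d) d.factorial where
  law := PolLaw.postcomp (Free.proj e d) (SymTen.symmLaw A B d).law
  homog S _ _ r x := by
    apply Free.lTensor_val_injective e d S
    show (SymTen.TS A B d).val.toLinearMap.lTensor S ((Free.proj e d).lTensor S _) =
      (SymTen.TS A B d).val.toLinearMap.lTensor S (r ^ d.factorial • (Free.proj e d).lTensor S _)
    rw [val_symLaw_aux, (SymTen.symmLaw A B d).homog S r x, PolLaw.lTensor_algHom_apply, map_smul,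
      ← PolLaw.lTensor_algHom_apply, val_symLaw_aux]
  mult S _ _ := by
    refine ⟨Free.lTensor_val_injective e d S ?_, fun x y => Free.lTensor_val_injective e d S ?_⟩
    · show (SymTen.TS A B d).val.toLinearMap.lTensor S ((Free.proj e d).lTensor S _) = _
      rw [val_symLaw_aux, ((SymTen.symmLaw A B d).mult S).1, PolLaw.lTensor_algHom_apply, map_one]
    · show (SymTen.TS A B d).val.toLinearMap.lTensor S ((Free.proj e d).lTensor S _) =
        (SymTen.TS A B d).val.toLinearMap.lTensor S
          (((Free.proj e d).lTensor S _) * ((Free.proj e d).lTensor S _))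
      rw [val_symLaw_aux, ((SymTen.symmLaw A B d).mult S).2 x y, PolLaw.lTensor_algHom_apply, map_mul,
        ← PolLaw.lTensor_algHom_apply, ← PolLaw.lTensor_algHom_apply, val_symLaw_aux, val_symLaw_aux]

lemma val_symLaw {S : Type u} [CommSemiring S] [Algebra A S] (x : S ⊗[A] (⨂[A] _ : Fin d, B)) :
    (SymTen.TS A B d).val.toLinearMap.lTensor S ((symLaw e).law.toFun' S x) =
      (SymTen.symmLaw A B d).law.toFun' S x :=
  val_symLaw_aux e x

end Fixed

lemma tmap_symmLaw (f : B →ₐ[A] B') {S : Type u} [CommSemiring S] [Algebra A S]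
    (x : S ⊗[A] (⨂[A] _ : Fin d, B)) :
    (SymTen.tmap A d f).toLinearMap.lTensor S ((SymTen.symmLaw A B d).law.toFun' S x) =
      (SymTen.symmLaw A B' d).law.toFun' S ((SymTen.tmap A d f).toLinearMap.lTensor S x) := by
  simp only [SymTen.symmLaw, PolLaw.MulLaw.prodMap_toFun', PolLaw.lTensor_algHom_apply, map_prod]
  refine Finset.prod_congr rfl fun σ _ => ?_
  simp only [← PolLaw.lTensor_algHom_apply, lT_comp]
  congr 2
  exact LinearMap.ext fun t => tmap_perm f σ t

lemma TSmap_symLaw {κ κ' : Type u} (e : Module.Basis κ A B) (e' : Module.Basis κ' A B') (f : B →ₐ[A] B')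
    {S : Type u} [CommSemiring S] [Algebra A S] (x : S ⊗[A] (⨂[A] _ : Fin d, B)) :
    (SymTen.TSmap A d f).toLinearMap.lTensor S ((symLaw e).law.toFun' S x) =
      (symLaw e').law.toFun' S ((SymTen.tmap A d f).toLinearMap.lTensor S x) := by
  apply Free.lTensor_val_injective e' d S
  rw [val_symLaw, lT_comp, show (SymTen.TS A B' d).val.toLinearMap ∘ₗ (SymTen.TSmap A d f).toLinearMap =
    (SymTen.tmap A d f).toLinearMap ∘ₗ (SymTen.TS A B d).val.toLinearMap from rfl, ← lT_comp, val_symLaw,
    tmap_symmLaw]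

section Pres

variable (A B) in
/-- The basis of the presentation. -/
noncomputable abbrev bP : Module.Basis (B →₀ ℕ) A (MvPolynomial B A) := MvPolynomial.basisMonomials B A

variable (A B) in
/-- Pairs with the same image. -/
abbrev R2 : Type u := {p : MvPolynomial B A × MvPolynomial B A // pres B p.1 = pres B p.2}

variable (A B) in
/-- The algebra covering the kernel pair of the presentation. -/
abbrev Q : Type u := MvPolynomial (R2 A B) A

/-- First projection. -/
noncomputable def e0 : Q A B →ₐ[A] MvPolynomial B A := MvPolynomial.aeval fun r => r.1.1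

/-- Second projection. -/
noncomputable def e1 : Q A B →ₐ[A] MvPolynomial B A := MvPolynomial.aeval fun r => r.1.2

/-- Diagonal section. -/
noncomputable def sec : MvPolynomial B A →ₐ[A] Q A B :=
  MvPolynomial.aeval fun b => MvPolynomial.X ⟨(MvPolynomial.X b, MvPolynomial.X b), rfl⟩

lemma e0_sec : (e0 (A := A) (B := B)).comp sec = AlgHom.id A _ :=
  MvPolynomial.algHom_ext fun b => by simp [e0, sec]

lemma e1_sec : (e1 (A := A) (B := B)).comp sec = AlgHom.id A _ :=
  MvPolynomial.algHom_ext fun b => by simp [e1, sec]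

lemma pres_comp_e : (pres B).comp (e0 (A := A) (B := B)) = (pres B).comp e1 :=
  MvPolynomial.algHom_ext fun r => by simpa [e0, e1] using r.2

variable (d) in
lemma tmap_pres_surjective : Function.Surjective (SymTen.tmap A d (pres (A := A) B)) := by
  intro t
  induction t using PiTensorProduct.induction_on with
  | smul_tprod r h =>
    choose g hg using fun i => pres_surjective (A := A) (B := B) (h i)
    exact ⟨r • tprod A g, by simp [hg]⟩
  | add x y hx hy =>
    obtain ⟨a, rfl⟩ := hx
    obtain ⟨b, rfl⟩ := hy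
    exact ⟨a + b, map_add _ a b⟩

lemma exists_kernel_lift {t : ⨂[A] _ : Fin d, MvPolynomial B A} (ht : SymTen.tmap A d (pres B) t = 0) :
    ∃ X : ⨂[A] _ : Fin d, Q A B, SymTen.tmap A d e0 X = 0 ∧ SymTen.tmap A d e1 X = t := by
  let t0 := SymTen.tmap A d (e0 (A := A) (B := B))
  let t1 := SymTen.tmap A d (e1 (A := A) (B := B))
  have hs : Function.Surjective t1 := fun u => ⟨SymTen.tmap A d sec u, by
    simp [t1, tmap_comp_apply, e1_sec, tmap_id_apply]⟩
  let N : Ideal (⨂[A] _ : Fin d, MvPolynomial B A) := (RingHom.ker t0).map t1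
  have hsingle : ∀ (i : Fin d) (u : MvPolynomial B A), pres B u = 0 →
      Ideal.Quotient.mk N (PiTensorProduct.singleAlgHom (R := A) (A := fun _ : Fin d => MvPolynomial B A) i u) = 0 := by
    intro i u hu
    rw [Ideal.Quotient.eq_zero_iff_mem]
    let q : Q A B := MvPolynomial.X ⟨(0, u), by simp [hu]⟩
    have h : ∀ (f : Q A B →ₐ[A] MvPolynomial B A),
        SymTen.tmap A d f (PiTensorProduct.singleAlgHom (R := A) (A := fun _ : Fin d => Q A B) i q) =
        PiTensorProduct.singleAlgHom (R := A) (A := fun _ : Fin d => MvPolynomial B A) i (f q) := by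
      intro f
      simp only [PiTensorProduct.singleAlgHom_apply, MonoidHom.mulSingle_apply, SymTen.tmap_tprod]
      congr 1
      funext j
      rcases eq_or_ne j i with rfl | hj
      · simp
      · simp [Pi.mulSingle_eq_of_ne hj]
    have hq : PiTensorProduct.singleAlgHom (R := A) (A := fun _ : Fin d => Q A B) i q ∈ RingHom.ker t0 := by
      rw [RingHom.mem_ker, h, show e0 q = 0 by simp [e0, q], map_zero]
    have := Ideal.mem_map_of_mem t1 hq
    rwa [show t1 _ = _ from h e1, show e1 q = u by simp [e1, q]] at this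
  let hh : Fin d → (B →ₐ[A] (⨂[A] _ : Fin d, MvPolynomial B A) ⧸ N) := fun i =>
    (Ideal.Quotient.liftₐ (RingHom.ker (pres (A := A) B))
      ((Ideal.Quotient.mkₐ A N).comp
        (PiTensorProduct.singleAlgHom (R := A) (A := fun _ : Fin d => MvPolynomial B A) i))
      fun u hu => hsingle i u hu).comp
      (Ideal.quotientKerAlgEquivOfSurjective (pres_surjective (A := A) (B := B))).symm.toAlgHom
  have hhp : ∀ i u, hh i (pres B u) =
      Ideal.Quotient.mk N (PiTensorProduct.singleAlgHom (R := A) (A := fun _ : Fin d => MvPolynomial B A) i u) := by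
    intro i u
    have : (Ideal.quotientKerAlgEquivOfSurjective (pres_surjective (A := A) (B := B))).symm (pres B u) =
        Ideal.Quotient.mk _ u := by
      rw [AlgEquiv.symm_apply_eq]
      rfl
    simp only [hh, AlgHom.comp_apply, AlgEquiv.coe_toAlgHom, this]
    rfl
  letI : CommRing ((⨂[A] _ : Fin d, MvPolynomial B A) ⧸ N) := Ideal.Quotient.commRing N
  obtain ⟨G, hG'⟩ := @exists_lin_of_homs A _ d B _ _ ((⨂[A] _ : Fin d, MvPolynomial B A) ⧸ N) (Ideal.Quotient.commRing N) (Ideal.instAlgebraQuotient A N) hh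
  have hG : ∀ u, G (SymTen.tmap A d (pres B) u) = Ideal.Quotient.mk N u := by
    intro u
    induction u using PiTensorProduct.induction_on with
    | smul_tprod r g =>
      rw [map_smul, map_smul, SymTen.tmap_tprod, hG']
      simp only [hhp, ← map_prod, prod_single]
      rw [← Ideal.Quotient.mkₐ_eq_mk A N, map_smul]
    | add x y hx hy => simp [hx, hy]
  have htN : t ∈ N := by
    rw [← Ideal.Quotient.eq_zero_iff_mem, ← hG, ht, map_zero]
  obtain ⟨X, hX, hX'⟩ := (Ideal.mem_map_iff_of_surjective t1 hs).mp htN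
  exact ⟨X, hX, hX'⟩

lemma exists_pair_lift {S : Type u} [CommSemiring S] [Algebra A S]
    (x y : S ⊗[A] (⨂[A] _ : Fin d, MvPolynomial B A))
    (h : (SymTen.tmap A d (pres B)).toLinearMap.lTensor S x = (SymTen.tmap A d (pres B)).toLinearMap.lTensor S y) :
    ∃ X : S ⊗[A] (⨂[A] _ : Fin d, Q A B),
      (SymTen.tmap A d e0).toLinearMap.lTensor S X = x ∧ (SymTen.tmap A d e1).toLinearMap.lTensor S X = y := by
  letI : CommRing S := { Algebra.semiringToRing A (A := S), ‹CommSemiring S› with }
  let K := LinearMap.ker (SymTen.tmap A d (e0 (A := A) (B := B))).toLinearMap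
  have hex : Function.Exact ((SymTen.tmap A d (e1 (A := A) (B := B))).toLinearMap ∘ₗ K.subtype)
      (SymTen.tmap A d (pres (A := A) B)).toLinearMap := by
    intro t
    constructor
    · intro ht
      obtain ⟨X, h0, h1⟩ := exists_kernel_lift ht
      exact ⟨⟨X, h0⟩, h1⟩
    · rintro ⟨⟨X, hX⟩, rfl⟩
      show SymTen.tmap A d (pres B) (SymTen.tmap A d e1 X) = 0
      rw [tmap_comp_apply, ← pres_comp_e, ← tmap_comp_apply, show SymTen.tmap A d e0 X = 0 from hX, map_zero]
  obtain ⟨Z, hZ⟩ := (lTensor_exact S hex (tmap_pres_surjective d) (y - x)).mp (by rw [map_sub, h, sub_self])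
  refine ⟨(SymTen.tmap A d (sec (A := A) (B := B))).toLinearMap.lTensor S x + K.subtype.lTensor S Z, ?_, ?_⟩
  · rw [map_add, lT_comp, lT_comp,
      show (SymTen.tmap A d (e0 (A := A) (B := B))).toLinearMap ∘ₗ K.subtype = 0 from LinearMap.ext fun w => w.2,
      LinearMap.lTensor_zero, LinearMap.zero_apply, add_zero,
      show (SymTen.tmap A d (e0 (A := A) (B := B))).toLinearMap ∘ₗ (SymTen.tmap A d sec).toLinearMap = LinearMap.id
        from LinearMap.ext fun w => by simp [tmap_comp_apply, e0_sec, tmap_id_apply],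
      LinearMap.lTensor_id, LinearMap.id_apply]
  · rw [map_add, lT_comp, lT_comp, hZ,
      show (SymTen.tmap A d (e1 (A := A) (B := B))).toLinearMap ∘ₗ (SymTen.tmap A d sec).toLinearMap = LinearMap.id
        from LinearMap.ext fun w => by simp [tmap_comp_apply, e1_sec, tmap_id_apply],
      LinearMap.lTensor_id, LinearMap.id_apply, add_sub_cancel]

variable {C : Type u} [CommRing C] [Algebra A C] (γ : PolLaw.MulLaw A B C d)

lemma presHom_TSmap {B₀ : Type u} [CommRing B₀] [Algebra A B₀] {κ : Type u} (e : Module.Basis κ A B₀)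
    (f g : B₀ →ₐ[A] MvPolynomial B A) (h : (pres B).comp f = (pres B).comp g) :
    (presHom γ).comp (SymTen.TSmap A d f) = (presHom γ).comp (SymTen.TSmap A d g) := by
  refine AlgHom.toLinearMap_injective (Free.lin_ext e _ _ fun S _ _ x => ?_)
  rw [AlgHom.comp_toLinearMap, AlgHom.comp_toLinearMap, ← lT_comp, ← lT_comp, TSmap_tsLaw e (bP A B),
    TSmap_tsLaw e (bP A B), presHom_spec, presHom_spec, lT_comp, lT_comp, ← AlgHom.comp_toLinearMap,
    ← AlgHom.comp_toLinearMap, h]

set_option maxHeartbeats 1000000 in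
lemma presHom_symLaw_congr {S : Type u} [CommSemiring S] [Algebra A S]
    (x y : S ⊗[A] (⨂[A] _ : Fin d, MvPolynomial B A))
    (h : (SymTen.tmap A d (pres B)).toLinearMap.lTensor S x = (SymTen.tmap A d (pres B)).toLinearMap.lTensor S y) :
    ((symLaw (bP A B)).postcomp (presHom γ)).law.toFun' S x =
      ((symLaw (bP A B)).postcomp (presHom γ)).law.toFun' S y := by
  obtain ⟨X, rfl, rfl⟩ := exists_pair_lift x y h
  show (presHom γ).toLinearMap.lTensor S ((symLaw (bP A B)).law.toFun' S _) =
    (presHom γ).toLinearMap.lTensor S ((symLaw (bP A B)).law.toFun' S _)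
  rw [← TSmap_symLaw (MvPolynomial.basisMonomials (R2 A B) A) (bP A B),
    ← TSmap_symLaw (MvPolynomial.basisMonomials (R2 A B) A) (bP A B), lT_comp, lT_comp,
    ← AlgHom.comp_toLinearMap, ← AlgHom.comp_toLinearMap,
    presHom_TSmap γ (MvPolynomial.basisMonomials (R2 A B) A) e0 e1 pres_comp_e]

/-- The law `T^d(B) → Γ^d(B)` of degree `d!`. -/
noncomputable def bigLaw : PolLaw.MulLaw A (⨂[A] _ : Fin d, B) C d.factorial :=
  descendLaw (SymTen.tmap A d (pres B)) (tmap_pres_surjective d)
    ((symLaw (bP A B)).postcomp (presHom γ)) (fun _ _ _ x y h => presHom_symLaw_congr γ x y h)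

lemma bigLaw_spec {S : Type u} [CommSemiring S] [Algebra A S] (x : S ⊗[A] (⨂[A] _ : Fin d, MvPolynomial B A)) :
    (bigLaw γ).law.toFun' S ((SymTen.tmap A d (pres B)).toLinearMap.lTensor S x) =
      (presHom γ).toLinearMap.lTensor S ((symLaw (bP A B)).law.toFun' S x) :=
  descendLaw_toFun _ _ _ _ S x

lemma presHom_sym_ker : LinearMap.ker (SymTen.tmap A d (pres (A := A) B)).toLinearMap ≤
    LinearMap.ker ((presHom γ).toLinearMap ∘ₗ sym) := by
  intro t ht
  obtain ⟨X, h0, h1⟩ := exists_kernel_lift (t := t) ht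
  show presHom γ (sym t) = 0
  rw [← h1, ← TSmap_sym]
  have := AlgHom.congr_fun (presHom_TSmap γ (MvPolynomial.basisMonomials (R2 A B) A) e0 e1 pres_comp_e) (sym X)
  simp only [AlgHom.comp_apply] at this
  rw [← this, TSmap_sym, h0, map_zero, map_zero]

/-- The polarisation `T^d(B) → Γ^d(B)`. -/
noncomputable def polar : (⨂[A] _ : Fin d, B) →ₗ[A] C :=
  (Submodule.liftQ _ _ (presHom_sym_ker γ)) ∘ₗ
    (LinearMap.quotKerEquivOfSurjective (SymTen.tmap A d (pres (A := A) B)).toLinearMap
      (tmap_pres_surjective d)).symm.toLinearMap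

lemma polar_tmap (t : ⨂[A] _ : Fin d, MvPolynomial B A) :
    polar γ (SymTen.tmap A d (pres B) t) = presHom γ (sym t) := by
  have : (LinearMap.quotKerEquivOfSurjective (SymTen.tmap A d (pres (A := A) B)).toLinearMap
      (tmap_pres_surjective d)).symm (SymTen.tmap A d (pres B) t) = Submodule.Quotient.mk t := by
    rw [LinearEquiv.symm_apply_eq]
    rfl
  simp only [polar, LinearMap.comp_apply, LinearEquiv.coe_coe, this]
  rfl

lemma presHom_surjective (hγ : PolLaw.IsGammaD γ) : Function.Surjective (presHom γ) :=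
  Groth.Agent.S13717.result (Free.tsLaw (bP A B) d) (Free.isGammaD_tsLaw (bP A B)) γ hγ (pres B)
    pres_surjective (presHom γ)
    (PolynomialLaw.ext (funext fun _ => funext fun _ => funext fun _ => funext fun x => presHom_spec γ x))

section Phi

variable (φ : C →ₐ[A] SymTen.TS A B d)
  (hφ : ∀ (S : Type u) [CommSemiring S] [Algebra A S] (n : ℕ) (s : Fin n → S) (b : Fin n → B),
    ((SymTen.TS A B d).val.comp φ).toLinearMap.lTensor S (γ.law.toFun' S (∑ j, s j ⊗ₜ[A] b j)) =
      ∑ c : Fin d → Fin n, (∏ i, s (c i)) ⊗ₜ[A] PiTensorProduct.tprod A (fun i => b (c i)))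

include hφ

lemma val_phi_law {S : Type u} [CommSemiring S] [Algebra A S] (x : S ⊗[A] B) :
    ((SymTen.TS A B d).val.comp φ).toLinearMap.lTensor S (γ.law.toFun' S x) =
      (SymTen.tpowLaw A B d).law.toFun' S x := by
  obtain ⟨n, s, b, rfl⟩ := exists_fin_sum x
  rw [hφ, tpow_fin_sum]

lemma val_phi_pres (z : SymTen.TS A (MvPolynomial B A) d) :
    ((φ (presHom γ z) : SymTen.TS A B d) : ⨂[A] _ : Fin d, B) =
      SymTen.tmap A d (pres B) (z : ⨂[A] _ : Fin d, MvPolynomial B A) := by
  refine LinearMap.congr_fun (Free.lin_ext (bP A B)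
    (((SymTen.TS A B d).val.comp φ).toLinearMap ∘ₗ (presHom γ).toLinearMap)
    ((SymTen.tmap A d (pres B)).toLinearMap ∘ₗ (SymTen.TS A (MvPolynomial B A) d).val.toLinearMap)
    fun S _ _ x => ?_) z
  rw [← lT_comp, ← lT_comp, presHom_spec, val_phi_law γ φ hφ, Free.tsLaw_val, tmap_tpow]

lemma val_phi_polar (t : ⨂[A] _ : Fin d, B) :
    ((φ (polar γ t) : SymTen.TS A B d) : ⨂[A] _ : Fin d, B) = ∑ σ, SymTen.perm A B d σ t := by
  obtain ⟨t, rfl⟩ := tmap_pres_surjective d t
  rw [polar_tmap, val_phi_pres γ φ hφ, val_sym, map_sum]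
  simp only [tmap_perm]

lemma polar_val_phi (hγ : PolLaw.IsGammaD γ) (c : C) :
    polar γ ((φ c : SymTen.TS A B d) : ⨂[A] _ : Fin d, B) = d.factorial • c := by
  obtain ⟨z, rfl⟩ := presHom_surjective γ hγ c
  rw [val_phi_pres γ φ hφ, polar_tmap, sym_val, map_nsmul]

lemma val_phi_bigLaw {S : Type u} [CommSemiring S] [Algebra A S] (w : S ⊗[A] (⨂[A] _ : Fin d, B)) :
    ((SymTen.TS A B d).val.comp φ).toLinearMap.lTensor S ((bigLaw γ).law.toFun' S w) =
      (SymTen.symmLaw A B d).law.toFun' S w := by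
  obtain ⟨x, rfl⟩ := LinearMap.lTensor_surjective S (g := (SymTen.tmap A d (pres (A := A) B)).toLinearMap)
    (tmap_pres_surjective d) w
  rw [bigLaw_spec, lT_comp, show ((SymTen.TS A B d).val.comp φ).toLinearMap ∘ₗ (presHom γ).toLinearMap =
    (SymTen.tmap A d (pres B)).toLinearMap ∘ₗ (SymTen.TS A (MvPolynomial B A) d).val.toLinearMap from
    LinearMap.ext (val_phi_pres γ φ hφ), ← lT_comp, val_symLaw, tmap_symmLaw]

lemma bigLaw_phi (hγ : PolLaw.IsGammaD γ) {S : Type u} [CommSemiring S] [Algebra A S] (c : S ⊗[A] C) :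
    (bigLaw γ).law.toFun' S (((SymTen.TS A B d).val.comp φ).toLinearMap.lTensor S c) = c ^ d.factorial := by
  obtain ⟨z, rfl⟩ := LinearMap.lTensor_surjective S (g := (presHom γ).toLinearMap) (presHom_surjective γ hγ) c
  rw [lT_comp, show ((SymTen.TS A B d).val.comp φ).toLinearMap ∘ₗ (presHom γ).toLinearMap =
    (SymTen.tmap A d (pres B)).toLinearMap ∘ₗ (SymTen.TS A (MvPolynomial B A) d).val.toLinearMap from
    LinearMap.ext (val_phi_pres γ φ hφ), ← lT_comp, bigLaw_spec]
  rw [show (symLaw (bP A B)).law.toFun' S ((SymTen.TS A (MvPolynomial B A) d).val.toLinearMap.lTensor S z) =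
    z ^ d.factorial from ?_]
  · rw [PolLaw.lTensor_algHom_apply, PolLaw.lTensor_algHom_apply, map_pow]
  apply Free.lTensor_val_injective (bP A B) d S
  rw [val_symLaw, SymTen.symmLaw, PolLaw.MulLaw.prodMap_toFun', PolLaw.lTensor_algHom_apply,
    PolLaw.lTensor_algHom_apply, map_pow]
  rw [Finset.prod_congr rfl (g := fun _ => Algebra.TensorProduct.map (AlgHom.id S S)
    (SymTen.TS A (MvPolynomial B A) d).val z) fun σ _ => ?_]
  · rw [Finset.prod_const, Finset.card_univ, Fintype.card_perm, Fintype.card_fin]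
  rw [← PolLaw.lTensor_algHom_apply, ← PolLaw.lTensor_algHom_apply, lT_comp,
    show (SymTen.perm A (MvPolynomial B A) d σ).toLinearMap ∘ₗ (SymTen.TS A (MvPolynomial B A) d).val.toLinearMap
      = (SymTen.TS A (MvPolynomial B A) d).val.toLinearMap from LinearMap.ext fun w => perm_val σ w]

lemma phi_bigLaw_val : PolLaw.MulLaw.postcomp φ ((bigLaw γ).precomp (SymTen.TS A B d).val) =
    PolLaw.MulLaw.pow A (SymTen.TS A B d) d.factorial := by
  let L := PolLaw.MulLaw.postcomp φ ((bigLaw γ).precomp (SymTen.TS A B d).val)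
  let R := PolLaw.MulLaw.pow A (SymTen.TS A B d) d.factorial
  refine PolLaw.MulLaw.ext (PolynomialLaw.ext ?_)
  funext S _ _ y
  show L.law.toFun' S y = R.law.toFun' S y
  obtain ⟨Y, rfl⟩ := rTensor_evalAll_surjective (A := A) S (SymTen.TS A B d) y
  have h1 := congrFun (L.law.isCompat' (evalAll S)) Y
  have h2 := congrFun (R.law.isCompat' (evalAll S)) Y
  simp only [Function.comp_apply] at h1 h2
  rw [← h1, ← h2]
  congr 1
  apply Module.Flat.lTensor_preserves_injective_linearMap (M := MvPolynomial S A)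
    (SymTen.TS A B d).val.toLinearMap Subtype.val_injective
  show _ = (SymTen.TS A B d).val.toLinearMap.lTensor _ (Y ^ d.factorial)
  show (SymTen.TS A B d).val.toLinearMap.lTensor _
    (φ.toLinearMap.lTensor _ ((bigLaw γ).law.toFun' _ ((SymTen.TS A B d).val.toLinearMap.lTensor _ Y))) = _
  rw [lT_comp, ← AlgHom.comp_toLinearMap, val_phi_bigLaw γ φ hφ, SymTen.symmLaw, PolLaw.MulLaw.prodMap_toFun',
    PolLaw.lTensor_algHom_apply, PolLaw.lTensor_algHom_apply, map_pow]
  rw [Finset.prod_congr rfl (g := fun _ => Algebra.TensorProduct.map (AlgHom.id (MvPolynomial S A) _)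
    (SymTen.TS A B d).val Y) fun σ _ => ?_]
  · rw [Finset.prod_const, Finset.card_univ, Fintype.card_perm, Fintype.card_fin]
  rw [← PolLaw.lTensor_algHom_apply, ← PolLaw.lTensor_algHom_apply, lT_comp,
    show (SymTen.perm A B d σ).toLinearMap ∘ₗ (SymTen.TS A B d).val.toLinearMap
      = (SymTen.TS A B d).val.toLinearMap from LinearMap.ext fun w => perm_val σ w]

lemma bigLaw_phi_law (hγ : PolLaw.IsGammaD γ) :
    PolLaw.MulLaw.precomp ((bigLaw γ).precomp (SymTen.TS A B d).val) φ = PolLaw.MulLaw.pow A C d.factorial := by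
  refine PolLaw.MulLaw.ext (PolynomialLaw.ext ?_)
  funext S _ _ c
  show (bigLaw γ).law.toFun' S ((SymTen.TS A B d).val.toLinearMap.lTensor S (φ.toLinearMap.lTensor S c)) =
    c ^ d.factorial
  rw [lT_comp, ← AlgHom.comp_toLinearMap, bigLaw_phi γ φ hφ hγ]

lemma phi_pow_eq (y : SymTen.TS A B d) :
    φ ((bigLaw γ).law.ground (y : ⨂[A] _ : Fin d, B)) = y ^ d.factorial := by
  have := congrArg (fun F : PolLaw.MulLaw A (SymTen.TS A B d) (SymTen.TS A B d) d.factorial => F.law.toFun' A
    ((1 : A) ⊗ₜ[A] y)) (phi_bigLaw_val γ φ hφ)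
  replace this : φ.toLinearMap.lTensor A ((bigLaw γ).law.toFun' A
      ((SymTen.TS A B d).val.toLinearMap.lTensor A ((1 : A) ⊗ₜ[A] y))) = ((1 : A) ⊗ₜ[A] y) ^ d.factorial := this
  rw [LinearMap.lTensor_tmul, ← PolynomialLaw.one_tmul_ground_apply', LinearMap.lTensor_tmul,
    Algebra.TensorProduct.tmul_pow, one_pow] at this
  simpa using congrArg (TensorProduct.lid A _) this

lemma pow_eq_bigLaw (hγ : PolLaw.IsGammaD γ) (c : C) :
    (bigLaw γ).law.ground ((φ c : SymTen.TS A B d) : ⨂[A] _ : Fin d, B) = c ^ d.factorial := by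
  have := bigLaw_phi γ φ hφ hγ ((1 : A) ⊗ₜ[A] c)
  rw [LinearMap.lTensor_tmul, ← PolynomialLaw.one_tmul_ground_apply', Algebra.TensorProduct.tmul_pow,
    one_pow] at this
  simpa using congrArg (TensorProduct.lid A _) this

omit hφ in
lemma bigLaw_ground_zero : (bigLaw γ).law.ground 0 = 0 := by
  have := (bigLaw γ).homog A 0 0
  rw [smul_zero, zero_pow (Nat.factorial_ne_zero d), zero_smul] at this
  rw [PolynomialLaw.ground_apply, TensorProduct.tmul_zero, this, map_zero]

end Phi

end Pres

end Groth.Cycles.Sym
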