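import Groth.Agent.Cycles.PolLawSym
import Mathlib.RingTheory.Adjoin.Tower
import Mathlib.RingTheory.FiniteStability
import Mathlib.RingTheory.IntegralClosure.IsIntegralClosure.Basic

/-!
Symmetric tensors of a polynomial algebra in finitely many variables are finitely presented:
Artin–Tate over `ℤ` and base change.
-/

universe u

open scoped TensorProduct
open PiTensorProduct (tprod)

namespace Groth.Cycles.Sym

open scoped Classical

section Noeth

variable (A : Type u) [CommRing A] (B : Type u) [CommRing B] [Algebra A B] (d : ℕ)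

lemma finiteType_tensorPower [Algebra.FiniteType A B] : Algebra.FiniteType A (⨂[A] _ : Fin d, B) := by
  obtain ⟨s, hs⟩ := (‹Algebra.FiniteType A B›).out
  let E : Fin d → B →ₐ[A] (⨂[A] _ : Fin d, B) := fun i => PiTensorProduct.singleAlgHom (A := fun _ : Fin d => B) i
  refine ⟨⟨Finset.univ.biUnion fun i => s.image (E i), top_le_iff.mp fun t _ => ?_⟩⟩
  let U := Algebra.adjoin A (↑(Finset.univ.biUnion fun i => s.image (E i)) : Set (⨂[A] _ : Fin d, B))
  have hE : ∀ i b, E i b ∈ U := by
    intro i b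
    have hb : b ∈ Algebra.adjoin A (s : Set B) := hs ▸ Algebra.mem_top
    have := (AlgHom.map_adjoin (E i) (s : Set B)).le ⟨b, hb, rfl⟩
    refine Algebra.adjoin_mono ?_ this
    rintro _ ⟨c, hc, rfl⟩
    exact Finset.mem_coe.mpr (Finset.mem_biUnion.mpr ⟨i, Finset.mem_univ _, Finset.mem_image_of_mem _ hc⟩)
  induction t using PiTensorProduct.induction_on with
  | smul_tprod a f => exact U.smul_mem (by rw [← prod_single f]; exact prod_mem fun i _ => hE i _) a
  | add x y hx hy => exact U.add_mem (hx trivial) (hy trivial)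

lemma isIntegral_over_TS : Algebra.IsIntegral (SymTen.TS A B d) (⨂[A] _ : Fin d, B) := by
  refine ⟨fun t => ?_⟩
  let T := ⨂[A] _ : Fin d, B
  let p : Polynomial T := ∏ σ : Equiv.Perm (Fin d), (Polynomial.X - Polynomial.C (SymTen.perm A B d σ t))
  have hp : p.Monic := Polynomial.monic_prod_of_monic _ _ fun σ _ => Polynomial.monic_X_sub_C _
  have hfix : ∀ τ : Equiv.Perm (Fin d), p.map (SymTen.perm A B d τ : T →+* T) = p := by
    intro τ
    simp only [p, Polynomial.map_prod, Polynomial.map_sub, Polynomial.map_X, Polynomial.map_C]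
    refine Fintype.prod_equiv (Equiv.mulLeft τ) _ _ fun σ => ?_
    simp only [RingHom.coe_coe, Equiv.coe_mulLeft]
    rw [perm_perm]
  have hl : p ∈ Polynomial.lifts (algebraMap (SymTen.TS A B d) T) := by
    rw [Polynomial.lifts_iff_coeff_lifts]
    intro n
    refine ⟨⟨p.coeff n, fun τ => ?_⟩, rfl⟩
    rw [← SymTen.perm_apply]
    conv_rhs => rw [← hfix τ]
    rw [Polynomial.coeff_map]
    rfl
  obtain ⟨q, hq, -, hqm⟩ := Polynomial.lifts_and_natDegree_eq_and_monic hl hp
  refine ⟨q, hqm, ?_⟩
  rw [← Polynomial.eval_map, hq, Polynomial.eval_prod]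
  refine Finset.prod_eq_zero (Finset.mem_univ 1) ?_
  have h1 : SymTen.perm A B d (1 : Equiv.Perm (Fin d)) t = t := by
    rw [SymTen.perm_apply, show (1 : Equiv.Perm (Fin d)) = Equiv.refl _ from rfl, PiTensorProduct.reindex_refl]
    rfl
  simp [h1]

lemma finiteType_TS [IsNoetherianRing A] [Algebra.FiniteType A B] :
    Algebra.FiniteType A (SymTen.TS A B d) := by
  have := finiteType_tensorPower A B d
  have := isIntegral_over_TS A B d
  have : Algebra.FiniteType (SymTen.TS A B d) (⨂[A] _ : Fin d, B) := Algebra.FiniteType.of_restrictScalars_finiteType A _ _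
  have : Module.Finite (SymTen.TS A B d) (⨂[A] _ : Fin d, B) := Algebra.IsIntegral.finite
  exact ⟨fg_of_fg_of_fg A (SymTen.TS A B d) (⨂[A] _ : Fin d, B) Algebra.FiniteType.out Module.Finite.fg_top
    Subtype.val_injective⟩

end Noeth

section BaseChange

variable (A : Type u) [CommRing A] (n d : ℕ)

/-- The polynomial ring in `n` variables over `ℤ`. -/
abbrev PZ : Type := MvPolynomial (Fin n) ℤ

/-- The monomial basis, indexed in the universe of `A`. -/
noncomputable def eMon : Module.Basis (ULift.{u} (Fin n →₀ ℕ)) A (MvPolynomial (Fin n) A) :=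
  (MvPolynomial.basisMonomials (Fin n) A).reindex Equiv.ulift.symm

/-- The monomial basis over `ℤ`. -/
noncomputable def eZ : Module.Basis (Fin n →₀ ℕ) ℤ (PZ n) := MvPolynomial.basisMonomials (Fin n) ℤ

/-- Reduction of tensor powers from `ℤ` to `A`. -/
noncomputable def jT : (⨂[ℤ] _ : Fin d, PZ n) →ₐ[ℤ] (⨂[A] _ : Fin d, MvPolynomial (Fin n) A) :=
  PiTensorProduct.liftAlgHom
    (((PiTensorProduct.tprod A).restrictScalars ℤ).compLinearMap fun _ : Fin d =>
      (MvPolynomial.map (Int.castRingHom A) : PZ n →+* MvPolynomial (Fin n) A).toIntAlgHom.toLinearMap)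
    (by simp [PiTensorProduct.one_def]; rfl)
    (by intro x y; simp [PiTensorProduct.tprod_mul_tprod]; rfl)

lemma jT_tprod (v : Fin d → PZ n) :
    jT A n d (tprod ℤ v) = tprod A fun i => MvPolynomial.map (Int.castRingHom A) (v i) := by
  simp [jT, PiTensorProduct.liftAlgHom]

lemma jT_basis (f : Fin d → (Fin n →₀ ℕ)) :
    jT A n d (Free.tpBasis (eZ n) d f) = Free.tpBasis (eMon A n) d fun i => ULift.up (f i) := by
  rw [Free.tpBasis_apply, Free.tpBasis_apply, jT_tprod]
  congr 1
  funext i
  simp [eZ, eMon, MvPolynomial.map_monomial]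

lemma jT_perm (σ : Equiv.Perm (Fin d)) (t : ⨂[ℤ] _ : Fin d, PZ n) :
    jT A n d (PiTensorProduct.reindex ℤ (fun _ : Fin d => PZ n) σ t) =
      PiTensorProduct.reindex A (fun _ : Fin d => MvPolynomial (Fin n) A) σ (jT A n d t) := by
  induction t using PiTensorProduct.induction_on with
  | smul_tprod a f =>
    simp only [map_zsmul, PiTensorProduct.reindex_tprod, jT_tprod]
  | add x y hx hy => simp only [map_add, hx, hy]

/-- The comparison of symmetric tensors. -/
noncomputable def jTS : SymTen.TS ℤ (PZ n) d →ₐ[ℤ] SymTen.TS A (MvPolynomial (Fin n) A) d :=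
  ((SymTen.TS A (MvPolynomial (Fin n) A) d).restrictScalars ℤ).val.codRestrict
    ((SymTen.TS A (MvPolynomial (Fin n) A) d).restrictScalars ℤ) (fun z => z.2) |>.comp
  ((jT A n d).comp (SymTen.TS ℤ (PZ n) d).val |>.codRestrict
    ((SymTen.TS A (MvPolynomial (Fin n) A) d).restrictScalars ℤ) fun t σ => by
      show PiTensorProduct.reindex A _ σ (jT A n d t.1) = jT A n d t.1
      rw [← jT_perm, t.2 σ])

lemma val_jTS (z : SymTen.TS ℤ (PZ n) d) :
    ((jTS A n d z : SymTen.TS A (MvPolynomial (Fin n) A) d) : ⨂[A] _ : Fin d, MvPolynomial (Fin n) A) =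
      jT A n d z.1 := rfl

/-- The base change map on symmetric tensors. -/
noncomputable def psi : A ⊗[ℤ] SymTen.TS ℤ (PZ n) d →ₐ[A] SymTen.TS A (MvPolynomial (Fin n) A) d :=
  Algebra.TensorProduct.lift (Algebra.ofId A _) (jTS A n d) fun _ _ => Commute.all _ _

/-- The base change map on tensor powers. -/
noncomputable def psiT : A ⊗[ℤ] (⨂[ℤ] _ : Fin d, PZ n) →ₐ[A] (⨂[A] _ : Fin d, MvPolynomial (Fin n) A) :=
  Algebra.TensorProduct.lift (Algebra.ofId A _) (jT A n d) fun _ _ => Commute.all _ _

lemma psiT_injective : Function.Injective (psiT A n d) := by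
  let bL := (Free.tpBasis (eZ n) d).baseChange A
  let bR := (Free.tpBasis (eMon A n) d).reindex
    (Equiv.piCongrRight fun _ : Fin d => Equiv.ulift)
  have h : (psiT A n d).toLinearMap = (bL.equiv bR (Equiv.refl _)).toLinearMap := by
    refine bL.ext fun f => ?_
    rw [LinearEquiv.coe_coe, Module.Basis.equiv_apply]
    simp [bL, bR, psiT, jT_basis, Module.Basis.baseChange_apply]
    rfl
  intro x y hxy
  apply (bL.equiv bR (Equiv.refl _)).injective
  rw [← LinearEquiv.coe_coe, ← h]
  exact hxy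

lemma psi_injective : Function.Injective (psi A n d) := by
  intro x y hxy
  have hcomm : ∀ z, psiT A n d ((SymTen.TS ℤ (PZ n) d).val.toLinearMap.lTensor A z) = (psi A n d z).1 := by
    intro z
    induction z using TensorProduct.induction_on with
    | zero => simp
    | tmul a t => simp [psi, psiT, LinearMap.lTensor_tmul, val_jTS]
    | add u v hu hv => simp only [map_add, hu, hv]; rfl
  have h1 : psiT A n d ((SymTen.TS ℤ (PZ n) d).val.toLinearMap.lTensor A x) =
      psiT A n d ((SymTen.TS ℤ (PZ n) d).val.toLinearMap.lTensor A y) := by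
    rw [hcomm, hcomm, hxy]
  have h2 := congrArg ((Free.proj (eZ n) d).lTensor A) (psiT_injective A n d h1)
  have h3 : Free.proj (eZ n) d ∘ₗ (SymTen.TS ℤ (PZ n) d).val.toLinearMap = LinearMap.id :=
    LinearMap.ext fun z => Free.proj_val (eZ n) d z
  rwa [← LinearMap.comp_apply, ← LinearMap.comp_apply, ← LinearMap.lTensor_comp, h3, LinearMap.lTensor_id] at h2

lemma psi_surjective : Function.Surjective (psi A n d) := by
  intro z
  obtain ⟨M, c, hM, rfl⟩ := Free.TS_eq_sum (eMon A n) d z
  refine AlgHom.mem_range (psi A n d) |>.mp (Subalgebra.sum_mem _ fun m hm => Subalgebra.smul_mem _ ?_ _)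
  obtain ⟨f, rfl⟩ := hM m hm
  refine ⟨1 ⊗ₜ[ℤ] Free.o (eZ n) d (Free.key fun i => (f i).down), ?_⟩
  apply Subtype.ext
  simp only [psi, AlgHom.toRingHom_eq_coe, RingHom.coe_coe, Algebra.TensorProduct.lift_tmul, map_one, one_mul, val_jTS]
  show jT A n d (∑ g ∈ Free.orbit d (Free.key fun i => (f i).down), Free.tpBasis (eZ n) d g) =
    ∑ g ∈ Free.orbit d (Free.key f), Free.tpBasis (eMon A n) d g
  rw [map_sum]
  refine Finset.sum_nbij' (fun g i => ULift.up (g i)) (fun g i => (g i).down) ?_ ?_ ?_ ?_ ?_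
  · intro g hg
    rw [Free.mem_orbit] at hg ⊢
    obtain ⟨σ, hσ⟩ := Free.exists_perm_of_key_eq hg
    rw [← Free.key_comp_perm f σ]
    congr 1
    funext i
    simp [← hσ]
  · intro g hg
    rw [Free.mem_orbit] at hg ⊢
    obtain ⟨σ, hσ⟩ := Free.exists_perm_of_key_eq hg
    rw [← Free.key_comp_perm (fun i => (f i).down) σ]
    congr 1
    funext i
    simp [← hσ]
  · intro g _; rfl
  · intro g _; rfl
  · intro g _; exact jT_basis A n d g

lemma finitePresentation_TS : Algebra.FinitePresentation A (SymTen.TS A (MvPolynomial (Fin n) A) d) := by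
  have h1 : Algebra.FiniteType ℤ (SymTen.TS ℤ (PZ n) d) := finiteType_TS ℤ (PZ n) d
  have h2 : Algebra.FinitePresentation ℤ (SymTen.TS ℤ (PZ n) d) := Algebra.FinitePresentation.of_finiteType.mp h1
  exact Algebra.FinitePresentation.equiv (AlgEquiv.ofBijective (psi A n d) ⟨psi_injective A n d, psi_surjective A n d⟩)

end BaseChange

end Groth.Cycles.Sym
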