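import Groth.Agent.Cycles.PolLawSym
import Groth.Agent.Misc8.SymOrbit

/-!
The law `x ↦ x ⊗ ⋯ ⊗ x` into symmetric tensors, and when it is the universal one.
-/

universe u

open scoped TensorProduct
open PiTensorProduct (tprod)
open Groth.Misc8

namespace Groth.Cycles.Sym

variable {A : Type u} [CommRing A] {d : ℕ} {B : Type u} [CommRing B] [Algebra A B]

lemma val_TSmap_tsLaw {S : Type u} [CommSemiring S] [Algebra A S] (x : S ⊗[A] MvPolynomial B A) :
    (SymTen.TS A B d).val.toLinearMap.lTensor S ((SymTen.TSmap A d (pres B)).toLinearMap.lTensor S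
      ((Free.tsLaw (bP A B) d).law.toFun' S x)) =
      (SymTen.tpowLaw A B d).law.toFun' S ((pres B).toLinearMap.lTensor S x) := by
  rw [lT_comp, show (SymTen.TS A B d).val.toLinearMap ∘ₗ (SymTen.TSmap A d (pres B)).toLinearMap =
    (SymTen.tmap A d (pres B)).toLinearMap ∘ₗ (SymTen.TS A (MvPolynomial B A) d).val.toLinearMap from rfl,
    ← lT_comp, Free.tsLaw_val, tmap_tpow]

variable (A B d) in
/-- The diagonal law into the symmetric tensors. -/
noncomputable def tau : PolLaw.MulLaw A B (SymTen.TS A B d) d :=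
  descendLaw (pres B) pres_surjective ((Free.tsLaw (bP A B) d).postcomp (SymTen.TSmap A d (pres B)))
    (fun S _ _ => law_congr_of_postcomp_injective (pres B).toLinearMap pres_surjective _
      (SymTen.TS A B d).val.toLinearMap Subtype.val_injective (SymTen.tpowLaw A B d).law
      (fun S _ _ x => val_TSmap_tsLaw x) S)

lemma tau_pres {S : Type u} [CommSemiring S] [Algebra A S] (x : S ⊗[A] MvPolynomial B A) :
    (tau A d B).law.toFun' S ((pres B).toLinearMap.lTensor S x) =
      (SymTen.TSmap A d (pres B)).toLinearMap.lTensor S ((Free.tsLaw (bP A B) d).law.toFun' S x) :=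
  descendLaw_toFun _ _ _ _ S x

lemma val_tau {S : Type u} [CommSemiring S] [Algebra A S] (x : S ⊗[A] B) :
    (SymTen.TS A B d).val.toLinearMap.lTensor S ((tau A d B).law.toFun' S x) =
      (SymTen.tpowLaw A B d).law.toFun' S x := by
  obtain ⟨z, rfl⟩ := LinearMap.lTensor_surjective S (g := (pres (A := A) B).toLinearMap) pres_surjective x
  rw [tau_pres, val_TSmap_tsLaw]

theorem isGammaD_tau (hs : Function.Surjective (SymTen.TSmap A d (pres (A := A) B)))
    (hk : ∀ (C' : Type u) [CommRing C'] [Algebra A C'] (F : PolLaw.MulLaw A B C' d)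
      (u : SymTen.TS A (MvPolynomial B A) d), SymTen.TSmap A d (pres B) u = 0 → presHom F u = 0) :
    PolLaw.IsGammaD (tau A d B) := by
  intro C' _ _ F
  let f : SymTen.TS A B d →ₐ[A] C' :=
    (Ideal.Quotient.liftₐ (RingHom.ker (SymTen.TSmap A d (pres (A := A) B))) (presHom F)
      fun u hu => hk C' F u hu).comp (Ideal.quotientKerAlgEquivOfSurjective hs).symm.toAlgHom
  have hf : ∀ u, f (SymTen.TSmap A d (pres B) u) = presHom F u := by
    intro u
    have : (Ideal.quotientKerAlgEquivOfSurjective hs).symm (SymTen.TSmap A d (pres B) u) =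
        Ideal.Quotient.mk _ u := by
      rw [AlgEquiv.symm_apply_eq]
      rfl
    simp only [f, AlgHom.comp_apply, AlgEquiv.coe_toAlgHom, this]
    rfl
  refine ⟨f, PolynomialLaw.ext ?_, fun g hg => ?_⟩
  · funext S _ _ x
    obtain ⟨z, rfl⟩ := LinearMap.lTensor_surjective S (g := (pres (A := A) B).toLinearMap) pres_surjective x
    show f.toLinearMap.lTensor S ((tau A d B).law.toFun' S _) = _
    rw [tau_pres, lT_comp, show f.toLinearMap ∘ₗ (SymTen.TSmap A d (pres B)).toLinearMap =
      (presHom F).toLinearMap from LinearMap.ext hf, presHom_spec]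
  · have : g.toLinearMap ∘ₗ (SymTen.TSmap A d (pres B)).toLinearMap = (presHom F).toLinearMap := by
      refine Free.lin_ext (bP A B) _ _ fun S _ _ x => ?_
      rw [presHom_spec, ← lT_comp, ← tau_pres]
      exact congrArg (fun G : B →ₚₗ[A] C' => G.toFun' S ((pres B).toLinearMap.lTensor S x)) hg
    refine AlgHom.ext fun y => ?_
    obtain ⟨u, rfl⟩ := hs y
    rw [hf]
    exact LinearMap.congr_fun this u

section Unit

variable (hu : IsUnit ((d.factorial : ℕ) : A))
include hu

lemma TSmap_surjective_of_isUnit : Function.Surjective (SymTen.TSmap A d (pres (A := A) B)) := by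
  intro y
  obtain ⟨r, hr⟩ := isUnit_iff_exists_inv'.mp hu
  obtain ⟨t, ht⟩ := tmap_pres_surjective (A := A) (B := B) d (y : ⨂[A] _ : Fin d, B)
  refine ⟨r • sym t, ?_⟩
  rw [map_smul, TSmap_sym, ht, sym_val, ← Nat.cast_smul_eq_nsmul A, smul_smul, hr, one_smul]

lemma ker_le_of_isUnit (C' : Type u) [CommRing C'] [Algebra A C'] (F : PolLaw.MulLaw A B C' d)
    (u : SymTen.TS A (MvPolynomial B A) d) (h : SymTen.TSmap A d (pres B) u = 0) : presHom F u = 0 := by
  have h1 : polar F (SymTen.tmap A d (pres B) (u : ⨂[A] _ : Fin d, MvPolynomial B A)) =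
      d.factorial • presHom F u := by rw [polar_tmap, sym_val, map_nsmul]
  rw [show SymTen.tmap A d (pres B) (u : ⨂[A] _ : Fin d, MvPolynomial B A) = 0 from congrArg Subtype.val h,
    map_zero, ← Nat.cast_smul_eq_nsmul A] at h1
  exact (hu.smul_eq_zero).mp h1.symm

end Unit

lemma Tmap_eq_tmap {B' : Type u} [CommRing B'] [Algebra A B'] (f : B →ₐ[A] B') (t : ⨂[A] _ : Fin d, B) :
    FlatTensor.Tmap d f.toLinearMap t = SymTen.tmap A d f t := by
  induction t using PiTensorProduct.induction_on with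
  | smul_tprod r h => simp [PiTensorProduct.map_tprod]
  | add x y hx hy => simp [hx, hy]

section Flat

variable [Module.Flat A B]

lemma TSmap_surjective_of_flat : Function.Surjective (SymTen.TSmap A d (pres (A := A) B)) := by
  intro y
  obtain ⟨s, hs, hsy⟩ := SymOrbit.lift_surjective (pres (A := A) B).toLinearMap pres_surjective
    (y : ⨂[A] _ : Fin d, B) (fun σ => y.2 σ)
  refine ⟨⟨s, fun σ => hs σ⟩, Subtype.ext ?_⟩
  show SymTen.tmap A d (pres B) s = _
  rw [← hsy, Tmap_eq_tmap]

lemma ker_le_of_flat (C' : Type u) [CommRing C'] [Algebra A C'] (F : PolLaw.MulLaw A B C' d)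
    (u : SymTen.TS A (MvPolynomial B A) d) (h : SymTen.TSmap A d (pres B) u = 0) : presHom F u = 0 := by
  classical
  obtain ⟨l, x, s, hs, hxs⟩ := SymOrbit.exists_sym_lift_one (R := A)
    (u : ⨂[A] _ : Fin d, MvPolynomial B A) (fun σ => u.2 σ)
  have h0 : FlatTensor.Tmap d ((pres (A := A) B).toLinearMap ∘ₗ x) s = 0 := by
    rw [FlatTensor.Tmap_comp, hxs, Tmap_eq_tmap]
    exact congrArg Subtype.val h
  obtain ⟨l', a, y, hxy, ha⟩ := FlatTensor.exists_factor (R := A) d ((pres (A := A) B).toLinearMap ∘ₗ x)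
    ({()} : Finset Unit) (fun _ => s) (fun _ _ => h0)
  obtain ⟨y', hy'⟩ := Module.projective_lifting_property (pres (A := A) B).toLinearMap y pres_surjective
  let Ql := MvPolynomial (ULift.{u} (Fin l)) A
  let j : (Fin l → A) →ₗ[A] Ql := Fintype.linearCombination A fun i => MvPolynomial.X ⟨i⟩
  let ex : Ql →ₐ[A] MvPolynomial B A := MvPolynomial.aeval fun i => x (Pi.single i.down 1)
  let ey : Ql →ₐ[A] MvPolynomial B A := MvPolynomial.aeval fun i => y' (a (Pi.single i.down 1))
  have hex : ex.toLinearMap ∘ₗ j = x := by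
    refine LinearMap.pi_ext' fun i => LinearMap.ext_ring ?_
    show ex (j (Pi.single i 1)) = _
    rw [show j (Pi.single i 1) = MvPolynomial.X ⟨i⟩ by simp [j, Fintype.linearCombination_apply, Pi.single_apply]]
    exact MvPolynomial.aeval_X _ _
  have hey : ey.toLinearMap ∘ₗ j = y' ∘ₗ a := by
    refine LinearMap.pi_ext' fun i => LinearMap.ext_ring ?_
    show ey (j (Pi.single i 1)) = _
    rw [show j (Pi.single i 1) = MvPolynomial.X ⟨i⟩ by simp [j, Fintype.linearCombination_apply, Pi.single_apply]]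
    exact MvPolynomial.aeval_X _ _
  have hpe : (pres B).comp ex = (pres B).comp ey := by
    refine MvPolynomial.algHom_ext fun i => ?_
    simp only [AlgHom.comp_apply, ex, ey, MvPolynomial.aeval_X]
    exact (LinearMap.congr_fun hxy (Pi.single i.down 1)).trans (LinearMap.congr_fun hy' _).symm
  let w : SymTen.TS A Ql d := ⟨FlatTensor.Tmap d j s, fun σ => SymOrbit.isSym_map j hs σ⟩
  have h1 : SymTen.TSmap A d ex w = u := Subtype.ext (by
    show SymTen.tmap A d ex (FlatTensor.Tmap d j s) = _
    rw [← hxs, ← Tmap_eq_tmap, ← FlatTensor.Tmap_comp, hex])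
  have h2 : SymTen.TSmap A d ey w = 0 := Subtype.ext (by
    show SymTen.tmap A d ey (FlatTensor.Tmap d j s) = _
    rw [← Tmap_eq_tmap, ← FlatTensor.Tmap_comp, hey, FlatTensor.Tmap_comp,
      ha () (Finset.mem_singleton_self _), map_zero]
    rfl)
  have h3 := AlgHom.congr_fun
    (presHom_TSmap F (MvPolynomial.basisMonomials (ULift.{u} (Fin l)) A) ex ey hpe) w
  simp only [AlgHom.comp_apply, h1, h2, map_zero] at h3
  exact h3

end Flat

end Groth.Cycles.Sym
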