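import Groth.Agent.Variety2.LinearForms
import Groth.Agent.Smt.GradedDim
import Mathlib

/-!
The cone over a closed subset of projective space: dimension and parameters.
-/

universe u

set_option autoImplicit false

open MvPolynomial TopologicalSpace

namespace Groth.Cycles.ProjCone

open Groth.Variety2

variable {k : Type u} [Field k] {n : ℕ}

local notation "Sk" => MvPolynomial (Fin (n + 1)) k
local notation "𝐆" => CohB1.polyGrading n k

/-- The ideal of the vertex. -/
noncomputable def vertex (n : ℕ) (k : Type u) [Field k] : Ideal (MvPolynomial (Fin (n + 1)) k) :=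
  RingHom.ker (MvPolynomial.constantCoeff (R := k) (σ := Fin (n + 1)))

instance vertex_isMaximal : (vertex n k).IsMaximal :=
  RingHom.ker_isMaximal_of_surjective _ fun c => ⟨C c, constantCoeff_C _ c⟩

theorem vertex_eq_span : vertex n k = Ideal.span (Set.range (X : Fin (n + 1) → Sk)) := by
  refine le_antisymm (fun f hf => ?_) (Ideal.span_le.2 ?_)
  · rw [← Set.image_univ, MvPolynomial.mem_ideal_span_X_image]
    intro m hm
    by_contra hc
    push Not at hc
    have h0 : m = 0 := Finsupp.ext fun i => hc i (Set.mem_univ i)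
    subst h0
    exact (MvPolynomial.mem_support_iff.1 hm) hf
  · rintro _ ⟨i, rfl⟩
    exact constantCoeff_X k i

theorem mem_vertex_of_isHomogeneous {f : Sk} {d : ℕ} (hf : f.IsHomogeneous d) (hd : 0 < d) :
    f ∈ vertex n k := by
  show constantCoeff f = 0
  rw [constantCoeff_eq]
  exact hf.coeff_eq_zero (by simp [Finsupp.degree]; omega)

theorem le_vertex {p : Ideal Sk} (hph : p.IsHomogeneous 𝐆) (hp : p ≠ ⊤) : p ≤ vertex n k := by
  intro f hf
  show constantCoeff f = 0
  by_contra h
  refine hp (Ideal.eq_top_of_isUnit_mem _ ((MvPolynomial.mem_iff_homogeneousComponent_mem hph f).1 hf 0) ?_)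
  rw [homogeneousComponent_zero]
  exact (IsUnit.mk0 _ h).map C

/-- `dim T + 1 ≤ dim S/p`. -/
theorem krullDim_zeroLocus_add_one_le {p : Ideal Sk} [p.IsPrime] (hph : p.IsHomogeneous 𝐆)
    [Nonempty (ProjectiveSpectrum.zeroLocus 𝐆 (p : Set Sk))] :
    Order.krullDim (ProjectiveSpectrum.zeroLocus 𝐆 (p : Set Sk)) + 1 ≤ ringKrullDim (Sk ⧸ p) := by
  rw [← Order.krullDim_WithTop, ringKrullDim_quotient]
  have hv : p ≤ vertex n k := le_vertex hph (Ideal.IsPrime.ne_top ‹_›)
  let F : WithTop (ProjectiveSpectrum.zeroLocus 𝐆 (p : Set Sk)) → PrimeSpectrum.zeroLocus (R := Sk) p :=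
    fun y => WithTop.recTopCoe ⟨⟨vertex n k, inferInstance⟩, hv⟩
      (fun y => ⟨⟨y.1.asHomogeneousIdeal.toIdeal, y.1.isPrime⟩, fun a ha => y.2 ha⟩) y
  refine Order.krullDim_le_of_strictMono F fun a b hab => ?_
  induction b using WithTop.recTopCoe with
  | top =>
    induction a using WithTop.recTopCoe with
    | top => exact absurd hab (lt_irrefl _)
    | coe a =>
      have hle : a.1.asHomogeneousIdeal.toIdeal ≤ vertex n k :=
        le_vertex a.1.asHomogeneousIdeal.isHomogeneous a.1.isPrime.ne_top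
      refine lt_of_le_of_ne (show a.1.asHomogeneousIdeal.toIdeal ≤ vertex n k from hle) fun e => ?_
      obtain ⟨i, hi⟩ := PSpace.exists_X_notMem a.1
      exact hi ((congrArg (fun q => X i ∈ q.1.asIdeal) e).mpr (constantCoeff_X k i))
  | coe b =>
    induction a using WithTop.recTopCoe with
    | top => exact absurd hab not_top_lt
    | coe a =>
      have h := WithTop.coe_lt_coe.1 hab
      exact lt_of_le_of_ne (show a.1.asHomogeneousIdeal.toIdeal ≤ b.1.asHomogeneousIdeal.toIdeal from h.le)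
        fun e => h.ne (Subtype.ext (ProjectiveSpectrum.ext (HomogeneousIdeal.toIdeal_injective
          (congrArg (fun q => q.1.asIdeal) e))))

/-- Topological dimension and dimension of the set of points ordered by inclusion agree. -/
theorem topologicalKrullDim_eq {T : Set (ProjectiveSpectrum 𝐆)} (hT : IsClosed T) :
    topologicalKrullDim T = Order.krullDim T := by
  have : QuasiSober ↥(CohB1.ProjSpace n k) := inferInstance
  have : QuasiSober (ProjectiveSpectrum 𝐆) := ‹QuasiSober ↥(CohB1.ProjSpace n k)›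
  have := hT.isClosedEmbedding_subtypeVal.quasiSober
  let e : Tᵒᵈ ≃o IrreducibleCloseds T :=
    { toEquiv := OrderDual.ofDual.trans (RelIso.toEquiv (irreducibleSetEquivPoints (α := T))).symm
      map_rel_iff' := by
        intro a b
        show closure {OrderDual.ofDual a} ⊆ closure {OrderDual.ofDual b} ↔ _
        rw [← specializes_iff_closure_subset, subtype_specializes_iff, PSpace.specializes_iff]
        rfl }
  exact (Order.krullDim_eq_of_orderIso e).symm.trans Order.krullDim_orderDual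

theorem ht_le {p : Ideal Sk} {x : ProjectiveSpectrum 𝐆}
    (hx : x ∈ ProjectiveSpectrum.zeroLocus 𝐆 (p : Set Sk)) :
    (PSpace.ht x : WithBot ℕ∞) ≤ Order.krullDim (ProjectiveSpectrum.zeroLocus 𝐆 (p : Set Sk)) := by
  rw [PSpace.ht, Order.height_eq_krullDim_Iic, ← Order.krullDim_orderDual (α := ProjectiveSpectrum.zeroLocus 𝐆 (p : Set Sk))]
  refine Order.krullDim_le_of_strictMono (fun y => OrderDual.toDual
    ⟨(y.1 : ProjectiveSpectrum 𝐆), fun a ha => (PSpace.specializes_iff x y.1).1 y.2 (hx ha)⟩) fun a b hab => ?_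
  have h : a.1 < b.1 := hab
  exact OrderDual.toDual_lt_toDual.2 (lt_of_le_of_ne ((PSpace.specializes_iff b.1 a.1).1 h.le)
    fun e => h.ne (congrArg Subtype.val e).symm)

/-- The radical of a homogeneous ideal without zeros contains the variables. -/
theorem X_mem_radical {J : Ideal Sk} (hJ : J.IsHomogeneous 𝐆)
    (h : ∀ x : ProjectiveSpectrum 𝐆, ¬ J ≤ x.asHomogeneousIdeal.toIdeal) (i : Fin (n + 1)) :
    X i ∈ J.radical := by
  rw [hJ.radical_eq]
  refine Submodule.mem_sInf.2 ?_
  rintro q ⟨hq, hJq, hqp⟩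
  by_contra hi
  refine h ⟨⟨q, hq⟩, hqp, fun hle => hi (hle ?_)⟩ hJq
  exact HomogeneousIdeal.mem_irrelevant_of_mem 𝐆 one_pos (isHomogeneous_X k i)

theorem vertex_le_radical {p : Ideal Sk} (hph : p.IsHomogeneous 𝐆) {r : ℕ} (h : Fin r → Sk)
    (hh : ∀ j, ∃ d, 0 < d ∧ (h j).IsHomogeneous d)
    (hcov : ∀ x ∈ ProjectiveSpectrum.zeroLocus 𝐆 (p : Set Sk), ∃ j, h j ∉ x.asHomogeneousIdeal) :
    vertex n k ≤ (p ⊔ Ideal.span (Set.range h)).radical := by
  rw [vertex_eq_span, Ideal.span_le]
  rintro _ ⟨i, rfl⟩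
  refine X_mem_radical (hph.sup (Ideal.homogeneous_span 𝐆 _ ?_)) (fun x hx => ?_) i
  · rintro _ ⟨j, rfl⟩
    obtain ⟨d, -, hd⟩ := hh j
    exact ⟨d, hd⟩
  · obtain ⟨j, hj⟩ := hcov x (fun a ha => hx (Ideal.mem_sup_left ha))
    exact hj (hx (Ideal.mem_sup_right (Ideal.subset_span ⟨j, rfl⟩)))

/-- The dimension of an integral cone. -/
theorem ringKrullDim_cone {p : Ideal Sk} [p.IsPrime] (hph : p.IsHomogeneous 𝐆)
    (hrel : ¬ (HomogeneousIdeal.irrelevant 𝐆).toIdeal ≤ p) :
    ringKrullDim (Sk ⧸ p) = topologicalKrullDim (ProjectiveSpectrum.zeroLocus 𝐆 (p : Set Sk)) + 1 := by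
  set T := ProjectiveSpectrum.zeroLocus 𝐆 (p : Set Sk)
  have hT : IsClosed T := ProjectiveSpectrum.isClosed_zeroLocus 𝐆 _
  have : Nonempty T := ⟨⟨⟨⟨p, hph⟩, ‹_›, hrel⟩, fun a ha => ha⟩⟩
  rw [topologicalKrullDim_eq hT]
  refine le_antisymm ?_ (krullDim_zeroLocus_add_one_le hph)
  -- the dimension of the set of points is finite
  have hfin : ringKrullDim (Sk ⧸ p) ≤ ((n + 1 : ℕ) : WithBot ℕ∞) := by
    refine (ringKrullDim_le_of_surjective (Ideal.Quotient.mk p) Ideal.Quotient.mk_surjective).trans ?_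
    rw [MvPolynomial.ringKrullDim_of_isNoetherianRing, ringKrullDim_eq_zero_of_field, zero_add]
    simp
  obtain ⟨d, hd⟩ : ∃ d : ℕ, Order.krullDim T = d := by
    have h1 := (krullDim_zeroLocus_add_one_le (k := k) hph).trans hfin
    cases hK : Order.krullDim T with
    | bot => exact absurd hK Order.bot_lt_krullDim.ne'
    | coe a =>
      rw [hK] at h1
      cases a with
      | top =>
        have h2 : (⊤ : ℕ∞) + 1 ≤ ((n + 1 : ℕ) : ℕ∞) := by exact_mod_cast h1
        rw [top_add, top_le_iff] at h2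
        exact absurd h2 (ENat.natCast_ne_top _)
      | coe m => exact ⟨m, rfl⟩
  rw [hd]
  obtain ⟨h, h1, -, h3⟩ := PSpace.exists_cover (Y := (∅ : Set (ProjectiveSpectrum 𝐆))) isClosed_empty d hT
    fun x hx _ => by
      have := ht_le hx
      rw [hd] at this
      exact WithBot.coe_le_coe.1 this
  have hv : p ≤ vertex n k := le_vertex hph (Ideal.IsPrime.ne_top ‹_›)
  set π := Ideal.Quotient.mk p
  have hmax : ((vertex n k).map π).IsMaximal :=
    (Ideal.map_eq_top_or_isMaximal_of_surjective _ Ideal.Quotient.mk_surjective vertex_isMaximal).resolve_left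
      fun e => (vertex_isMaximal (n := n) (k := k)).ne_top (by
        have := congrArg (Ideal.comap π) e
        rwa [Ideal.comap_map_of_surjective _ Ideal.Quotient.mk_surjective, ← RingHom.ker_eq_comap_bot,
          Ideal.mk_ker, sup_eq_left.2 hv, Ideal.comap_top] at this)
  rw [← Groth.Smt.height_eq_ringKrullDim_of_isMaximal k (Sk ⧸ p) ((vertex n k).map π)]
  have hmin : (vertex n k).map π ∈ (Ideal.span (Set.range (π ∘ h))).minimalPrimes := by
    refine ⟨⟨hmax.isPrime, Ideal.span_le.2 ?_⟩, fun q hq hle => ?_⟩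
    · rintro _ ⟨j, rfl⟩
      obtain ⟨e, he, hj⟩ := h1 j
      exact Ideal.mem_map_of_mem _ (mem_vertex_of_isHomogeneous hj he)
    · have := hq.1
      rw [Ideal.map_le_iff_le_comap]
      refine (vertex_le_radical hph h h1 fun x hx => h3 x hx (by simp)).trans ?_
      refine (Ideal.IsPrime.radical_le_iff inferInstance).2 (sup_le (fun a ha => ?_) (Ideal.span_le.2 ?_))
      · rw [Ideal.mem_comap, Ideal.Quotient.eq_zero_iff_mem.2 ha]
        exact zero_mem _
      · rintro _ ⟨j, rfl⟩
        exact hq.2 (Ideal.subset_span ⟨j, rfl⟩)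
  classical
  have hht : ((vertex n k).map π).height ≤ ((d + 1 : ℕ) : ℕ∞) := by
    have hspan : Ideal.span (Set.range (π ∘ h)) = Ideal.span ((Finset.univ.image (π ∘ h) : Finset _) : Set (Sk ⧸ p)) := by
      rw [Finset.coe_image, Finset.coe_univ, Set.image_univ]
    rw [hspan] at hmin
    exact (Ideal.height_le_card_of_mem_minimalPrimes_span_finset hmin).trans
      (Nat.cast_le.2 (Finset.card_image_le.trans (by simp)))
  exact (WithBot.coe_le_coe.2 hht).trans (by push_cast; exact le_rfl)

/-- Linear parameters for a cone. -/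
theorem exists_linear_forms [Infinite k] {p : Ideal Sk} [p.IsPrime] (hph : p.IsHomogeneous 𝐆) (r : ℕ)
    (hdim : ringKrullDim (Sk ⧸ p) = (r : WithBot ℕ∞) + 1) :
    ∃ h : Fin (r + 1) → Sk, (∀ i, (h i).IsHomogeneous 1) ∧
      ∃ N : ℕ, (Ideal.span (Set.range (X : Fin (n + 1) → Sk))) ^ N ≤ p ⊔ Ideal.span (Set.range h) := by
  obtain ⟨h, h1, h3⟩ := PSpace.exists_linear_cover r (T := ProjectiveSpectrum.zeroLocus 𝐆 (p : Set Sk))
    (ProjectiveSpectrum.isClosed_zeroLocus 𝐆 _) fun x hx => by
      have : Nonempty (ProjectiveSpectrum.zeroLocus 𝐆 (p : Set Sk)) := ⟨⟨x, hx⟩⟩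
      have h1 := (add_le_add (ht_le hx) (le_refl (1 : WithBot ℕ∞))).trans
        ((krullDim_zeroLocus_add_one_le hph).trans hdim.le)
      cases hh : PSpace.ht x with
      | top =>
        rw [hh] at h1
        have h2 : (⊤ : ℕ∞) + 1 ≤ ((r + 1 : ℕ) : ℕ∞) := by exact_mod_cast h1
        rw [top_add, top_le_iff] at h2
        exact absurd h2 (ENat.natCast_ne_top _)
      | coe a =>
        rw [hh] at h1
        have h2 : a + 1 ≤ r + 1 := by exact_mod_cast h1
        exact_mod_cast (show a ≤ r by omega)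
  refine ⟨h, h1, ?_⟩
  exact Ideal.exists_pow_le_of_le_radical_of_fg
    ((vertex_eq_span (n := n) (k := k)).symm.le.trans
      (vertex_le_radical hph h (fun j => ⟨1, one_pos, h1 j⟩) h3))
    (Submodule.fg_span (Set.finite_range _))

end Groth.Cycles.ProjCone
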