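import Groth.Prelude.Def_PolLaw
import Groth.Prelude.Def_PolLaw2
import Groth.Agent.Cycles.PolLawKer
import Mathlib.RingTheory.Finiteness.Projective
import Mathlib.RingTheory.Spectrum.Prime.FreeLocus
import Mathlib.RingTheory.LocalRing.Module
import Mathlib.RingTheory.LocalProperties.Basic
import Mathlib.LinearAlgebra.Matrix.SchurComplement

/-!
The determinant law of a finitely generated projective module.
-/

universe u

open scoped TensorProduct

namespace Groth.Cycles.ProjDet

variable {A : Type u} [CommRing A] {B : Type u} [CommRing B] [Algebra A B]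
  {M : Type u} [AddCommGroup M] [Module A M] [Module B M] [IsScalarTower A B M]
  {n : ℕ} (π : (Fin n → A) →ₗ[A] M) (j : M →ₗ[A] (Fin n → A))

section Ring

variable (R : Type u) [CommRing R] [Algebra A R]

/-- The basis of the base-changed free module. -/
noncomputable def bF : Module.Basis (Fin n) R (R ⊗[A] (Fin n → A)) :=
  Algebra.TensorProduct.basis R (Pi.basisFun A (Fin n))

/-- The action, extended by the identity on a complement. -/
noncomputable def ext' (x : R ⊗[A] B) : Module.End R (R ⊗[A] (Fin n → A)) :=
  j.baseChange R ∘ₗ (PolLaw.actEnd M R x - 1) ∘ₗ π.baseChange R + 1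

/-- The value of the law over a ring. -/
noncomputable def val (x : R ⊗[A] B) : R := LinearMap.det (ext' π j R x)

lemma val_one : val (B := B) π j R 1 = 1 := by
  have h : PolLaw.actEnd M R (1 : R ⊗[A] B) - 1 = 0 := LinearMap.ext fun z => by
    rw [LinearMap.sub_apply, map_one, sub_self, LinearMap.zero_apply]
  rw [val, ext', h, LinearMap.zero_comp, LinearMap.comp_zero, zero_add, map_one]

variable {π j}

lemma baseChange_comp_id (hπj : π ∘ₗ j = LinearMap.id) :
    π.baseChange R ∘ₗ j.baseChange R = LinearMap.id := by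
  rw [← LinearMap.baseChange_comp, hπj, LinearMap.baseChange_id]

lemma val_mul (hπj : π ∘ₗ j = LinearMap.id) (x y : R ⊗[A] B) :
    val π j R (x * y) = val π j R x * val π j R y := by
  have h : ext' π j R (x * y) = ext' π j R x * ext' π j R y := by
    refine LinearMap.ext fun z => ?_
    have hc : ∀ w, π.baseChange R (j.baseChange R w) = w := fun w =>
      LinearMap.congr_fun (baseChange_comp_id R hπj) w
    simp only [ext', Module.End.mul_apply, LinearMap.add_apply, LinearMap.comp_apply, Module.End.one_apply,
      LinearMap.sub_apply, map_add, map_sub, map_mul, hc]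
    abel
  rw [val, h, map_mul]
  rfl

lemma detAct_eq_val (hπj : π ∘ₗ j = LinearMap.id) [Module.Free R (R ⊗[A] M)] [Module.Finite R (R ⊗[A] M)]
    (x : R ⊗[A] B) : val π j R x = PolLaw.detAct M R x := by
  classical
  let bM := Module.Free.chooseBasis R (R ⊗[A] M)
  rw [val, PolLaw.detAct, ← LinearMap.det_toMatrix (bF R), ← LinearMap.det_toMatrix bM, ext', map_add,
    LinearMap.toMatrix_one, LinearMap.toMatrix_comp (bF R) bM (bF R), LinearMap.toMatrix_comp (bF R) bM bM,
    ← Matrix.mul_assoc, add_comm, Matrix.det_one_add_mul_comm, ← Matrix.mul_assoc,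
    ← LinearMap.toMatrix_comp bM (bF R) bM, baseChange_comp_id R hπj, LinearMap.toMatrix_id, Matrix.one_mul,
    ← LinearMap.toMatrix_one bM, ← map_add]
  exact congrArg (fun f => ((LinearMap.toMatrix bM bM) f).det) (add_sub_cancel (1 : Module.End R (R ⊗[A] M)) _)

variable (π j)

lemma rTensor_baseChange {M' N' : Type u} [AddCommGroup M'] [Module A M'] [AddCommGroup N'] [Module A N']
    (f : M' →ₗ[A] N') {R' : Type u} [CommRing R'] [Algebra A R'] (φ : R →ₐ[A] R') (z : R ⊗[A] M') :
    φ.toLinearMap.rTensor N' (f.baseChange R z) = f.baseChange R' (φ.toLinearMap.rTensor M' z) := by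
  induction z using TensorProduct.induction_on with
  | zero => simp
  | tmul r m => simp [LinearMap.rTensor_tmul]
  | add x y hx hy => simp only [map_add, hx, hy]

lemma repr_rTensor {R' : Type u} [CommRing R'] [Algebra A R'] (φ : R →ₐ[A] R') (z : R ⊗[A] (Fin n → A)) (i : Fin n) :
    (bF R').repr (φ.toLinearMap.rTensor _ z) i = φ ((bF R).repr z i) := by
  induction z using TensorProduct.induction_on with
  | zero => simp
  | tmul r m => simp [bF, LinearMap.rTensor_tmul, Algebra.TensorProduct.basis_repr_tmul]
  | add x y hx hy => simp only [map_add, Finsupp.add_apply, hx, hy]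

lemma val_map {R' : Type u} [CommRing R'] [Algebra A R'] (φ : R →ₐ[A] R') (x : R ⊗[A] B) :
    φ (val π j R x) = val π j R' (Algebra.TensorProduct.map φ (AlgHom.id A B) x) := by
  classical
  rw [val, val, ← LinearMap.det_toMatrix (bF R), ← LinearMap.det_toMatrix (bF R'), AlgHom.map_det]
  congr 1
  ext a b
  simp only [AlgHom.mapMatrix_apply, Matrix.map_apply, LinearMap.toMatrix_apply]
  rw [← repr_rTensor R φ]
  congr 2
  have hb : φ.toLinearMap.rTensor _ (bF R b) = bF R' b := by simp [bF, LinearMap.rTensor_tmul]
  simp only [ext', LinearMap.add_apply, LinearMap.comp_apply, Module.End.one_apply, LinearMap.sub_apply, map_add,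
    map_sub]
  rw [rTensor_baseChange, rTensor_baseChange, PolLaw.rTensor_actEnd M φ, rTensor_baseChange, hb]

end Ring

variable {π j}

/-- Two laws into `A` that agree over local rings are equal. -/
lemma law_ext_local (G G' : B →ₚₗ[A] A)
    (h : ∀ (S : Type u) [CommRing S] [IsLocalRing S] [Algebra A S] (x : S ⊗[A] B), G.toFun' S x = G'.toFun' S x) :
    G = G' := by
  have key : ∀ (R : Type u) [CommRing R] [Algebra A R] (x : R ⊗[A] B), G.toFun' R x = G'.toFun' R x := by
    intro R _ _ x
    apply (Algebra.TensorProduct.rid A A R).injective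
    rw [← sub_eq_zero]
    refine eq_zero_of_localization _ fun J hJ => ?_
    let φ : R →ₐ[A] Localization.AtPrime J := IsScalarTower.toAlgHom A R (Localization.AtPrime J)
    have e : ∀ w : R ⊗[A] A, φ (Algebra.TensorProduct.rid A A R w) =
        Algebra.TensorProduct.rid A A _ (φ.toLinearMap.rTensor A w) := by
      intro w
      induction w using TensorProduct.induction_on with
      | zero => simp
      | tmul q a => simp [LinearMap.rTensor_tmul]
      | add u v hu hv => simp [map_add, hu, hv]
    show φ _ = 0
    have hG := congrFun (G.isCompat' φ) x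
    have hG' := congrFun (G'.isCompat' φ) x
    simp only [Function.comp_apply] at hG hG'
    rw [map_sub, e, e, hG, hG', h, sub_self]
  refine PolynomialLaw.ext (funext fun S => funext fun _ => funext fun _ => funext fun x => ?_)
  letI : CommRing S := { Algebra.semiringToRing A (A := S), ‹CommSemiring S› with }
  exact key S x

/-- The value on a test algebra. -/
noncomputable def fun' (π : (Fin n → A) →ₗ[A] M) (j : M →ₗ[A] (Fin n → A)) (S : Type u) [CommSemiring S] [Algebra A S]
    (x : S ⊗[A] B) : S ⊗[A] A :=
  Algebra.TensorProduct.lid A S (val π j (A ⊗[A] S) (PolLaw.toRing A B S x)) ⊗ₜ[A] (1 : A)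

lemma fun'_compat {S S' : Type u} [CommSemiring S] [Algebra A S] [CommSemiring S'] [Algebra A S']
    (φ : S →ₐ[A] S') (x : S ⊗[A] B) :
    φ.toLinearMap.rTensor A (fun' π j S x) = fun' π j S' (φ.toLinearMap.rTensor B x) := by
  let ψ : A ⊗[A] S →ₐ[A] A ⊗[A] S' := Algebra.TensorProduct.map (AlgHom.id A A) φ
  have hψ : Algebra.TensorProduct.map ψ (AlgHom.id A B) (PolLaw.toRing A B S x) =
      PolLaw.toRing A B S' (φ.toLinearMap.rTensor B x) := by
    induction x using TensorProduct.induction_on with
    | zero => simp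
    | tmul s b => simp [ψ, Algebra.TensorProduct.lid_symm_apply, LinearMap.rTensor_tmul]
    | add x y hx hy => simp only [map_add, hx, hy]
  have hlid : ∀ r : A ⊗[A] S,
      Algebra.TensorProduct.lid A S' (ψ r) = φ (Algebra.TensorProduct.lid A S r) := by
    intro r
    induction r using TensorProduct.induction_on with
    | zero => simp
    | tmul a s => simp [ψ, Algebra.TensorProduct.lid_tmul]
    | add x y hx hy => simp only [map_add, hx, hy]
  unfold fun'
  rw [LinearMap.rTensor_tmul, ← hψ, ← val_map π j _ ψ, AlgHom.toLinearMap_apply, hlid]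

variable (π j) in
/-- The determinant law. -/
noncomputable def pLaw : B →ₚₗ[A] A where
  toFun' S _ _ := fun' π j S
  isCompat' φ := funext (fun'_compat φ)

lemma pLaw_ring (R : Type u) [CommRing R] [Algebra A R] (x : R ⊗[A] B) :
    (pLaw (B := B) π j).toFun' R x = val π j R x ⊗ₜ[A] (1 : A) := by
  have h1 : Algebra.TensorProduct.map (Algebra.TensorProduct.lid A R).toAlgHom (AlgHom.id A B)
      (PolLaw.toRing A B R x) = x := by
    induction x using TensorProduct.induction_on with
    | zero => simp
    | tmul s b => simp [Algebra.TensorProduct.lid_symm_apply]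
    | add x y hx hy => simp only [map_add, hx, hy]
  have h2 := val_map π j (A ⊗[A] R) (Algebra.TensorProduct.lid A R).toAlgHom (PolLaw.toRing A B R x)
  rw [h1] at h2
  show fun' π j R x = _
  rw [fun', ← h2]
  rfl

lemma pLaw_local (hπj : π ∘ₗ j = LinearMap.id) [Module.Finite A M] [Module.Projective A M]
    (S : Type u) [CommRing S] [IsLocalRing S] [Algebra A S] (x : S ⊗[A] B) :
    (pLaw (B := B) π j).toFun' S x = PolLaw.detAct M S x ⊗ₜ[A] (1 : A) := by
  have : Module.Free S (S ⊗[A] M) := Module.free_of_flat_of_isLocalRing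
  rw [pLaw_ring, detAct_eq_val S hπj]

lemma isMult_pLaw (hπj : π ∘ₗ j = LinearMap.id) : PolLaw.IsMult (pLaw (B := B) π j) := by
  intro S _ _
  refine ⟨?_, fun x y => ?_⟩
  · show fun' π j S 1 = 1
    have h : PolLaw.toRing A B S 1 = 1 := by
      first
        | exact map_one (PolLaw.toRing A B S)
        | simp [Algebra.TensorProduct.one_def, Algebra.TensorProduct.map_tmul, Algebra.TensorProduct.lid_symm_apply]
    rw [fun', h, val_one, Algebra.TensorProduct.one_def, Algebra.TensorProduct.lid_tmul, one_smul]
    rfl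
  · show fun' π j S (x * y) = fun' π j S x * fun' π j S y
    simp only [fun', map_mul, val_mul _ hπj, Algebra.TensorProduct.tmul_mul_tmul, mul_one]

lemma isHomog_pLaw (hπj : π ∘ₗ j = LinearMap.id) [Module.Finite A M] [Module.Projective A M] (d : ℕ)
    (hd : ∀ p : PrimeSpectrum A, Module.rankAtStalk M p = d) : PolLaw.IsHomog (pLaw (B := B) π j) d := by
  have key : ∀ (R : Type u) [CommRing R] [Algebra A R] (r : R) (x : R ⊗[A] B),
      val π j R (r • x) = r ^ d * val π j R x := by
    intro R _ _ r x
    rw [← sub_eq_zero]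
    refine eq_zero_of_localization _ fun J hJ => ?_
    let L := Localization.AtPrime J
    let φ : R →ₐ[A] L := IsScalarTower.toAlgHom A R L
    show φ _ = 0
    rw [map_sub, map_mul, map_pow, val_map π j R φ, val_map π j R φ, sub_eq_zero, tmap_smul φ]
    have : Module.Free L (L ⊗[A] M) := Module.free_of_flat_of_isLocalRing
    rw [detAct_eq_val L hπj, detAct_eq_val L hπj, PolLaw.detAct, PolLaw.detAct, map_smul, LinearMap.det_smul]
    congr 2
    let p : PrimeSpectrum L := ⟨IsLocalRing.maximalIdeal L, inferInstance⟩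
    have h1 := Module.rankAtStalk_baseChange (R := A) (M := M) (S := L) p
    rw [Module.rankAtStalk_eq_finrank_of_free, hd] at h1
    simpa using h1
  intro S _ _ s x
  show fun' π j S (s • x) = s ^ d • fun' π j S x
  have hx : PolLaw.toRing A B S (s • x) = ((1 : A) ⊗ₜ[A] s) • PolLaw.toRing A B S x := by
    induction x using TensorProduct.induction_on with
    | zero => simp
    | tmul t b => simp [TensorProduct.smul_tmul', Algebra.TensorProduct.lid_symm_apply,
        Algebra.TensorProduct.tmul_mul_tmul]
    | add x y hx hy => simp only [smul_add, map_add, hx, hy]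
  simp only [fun', hx, key, map_mul, map_pow, Algebra.TensorProduct.lid_tmul, one_smul,
    TensorProduct.smul_tmul', smul_eq_mul]

variable (A B M) in
theorem existsUnique_mult [Module.Finite A M] [Module.Projective A M] :
    ∃! N : B →ₚₗ[A] A, PolLaw.IsMult N ∧ ∀ (S : Type u) [CommRing S] [IsLocalRing S] [Algebra A S] (x : S ⊗[A] B),
      N.toFun' S x = PolLaw.detAct M S x ⊗ₜ[A] (1 : A) := by
  obtain ⟨n, π, j, -, -, hπj⟩ := Module.Finite.exists_comp_eq_id_of_projective A M
  refine ⟨pLaw π j, ⟨isMult_pLaw hπj, fun S _ _ _ x => pLaw_local hπj S x⟩, fun N hN => law_ext_local _ _ fun S _ _ _ x => ?_⟩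
  rw [hN.2, pLaw_local hπj]

variable (A B M) in
theorem existsUnique_homog [Module.Finite A M] [Module.Projective A M] (d : ℕ)
    (hd : ∀ p : PrimeSpectrum A, Module.rankAtStalk M p = d) :
    ∃! N : PolLaw.MulLaw A B A d, ∀ (S : Type u) [CommRing S] [IsLocalRing S] [Algebra A S] (x : S ⊗[A] B),
      N.law.toFun' S x = PolLaw.detAct M S x ⊗ₜ[A] (1 : A) := by
  obtain ⟨n, π, j, -, -, hπj⟩ := Module.Finite.exists_comp_eq_id_of_projective A M
  refine ⟨⟨pLaw π j, isHomog_pLaw hπj d hd, isMult_pLaw hπj⟩, fun S _ _ _ x => pLaw_local hπj S x, fun N hN => ?_⟩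
  have : N.law = pLaw π j := law_ext_local _ _ fun S _ _ _ x => by rw [hN, pLaw_local hπj]
  cases N
  simp only at this
  subst this
  rfl

end Groth.Cycles.ProjDet
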