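import Groth.Agent.Cycles.ProjSep
import Groth.Agent.Chow.ToPn
import Groth.Agent.Variety2.LinearForms
import Groth.Agent.PicAux.GenLocus
import Groth.Agent.PicAux.GenLocusAffine

/-!
Linear projection of a projective scheme from a linear subspace missing it.
-/

universe u

set_option autoImplicit false

open CategoryTheory AlgebraicGeometry IsLocalRing MvPolynomial
open Groth.PicAux Groth.Ega2Proj Groth.RefRank Groth.QCohMod

namespace Groth.Cycles.ProjSep

variable {k : Type u} [Field k] {n : ℕ}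

local notation "𝐆" => CohB1.polyGrading n k
local notation "Sk" => MvPolynomial (Fin (n + 1)) k

theorem exists_eq_lin {l : Sk} (hl : l.IsHomogeneous 1) : ∃ c : Fin (n + 1) → k, l = lin c := by
  have h : l ∈ Submodule.span k (Set.range (MvPolynomial.X : Fin (n + 1) → Sk)) := by
    rw [← MvPolynomial.homogeneousSubmodule_one_eq_span_X]; exact hl
  obtain ⟨c, rfl⟩ := (Submodule.mem_span_range_iff_exists_fun k).1 h
  exact ⟨c, Finset.sum_congr rfl fun j _ => (smul_eq_C_mul _ _)⟩

variable {X : Scheme.{u}} (f : X ⟶ CohB1.ProjSpace n k) (pX : X ⟶ Spec (CommRingCat.of k))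

/-- A combination of the coordinates generates exactly off the zeros of its linear form. -/
theorem genLocus_comb (hf : f ≫ CohB1.ProjSpace.toSpec n k = pX) (c : Fin (n + 1) → k) :
    CohB1.genLocus _ (homOfSection (comb f pX c)) = f ⁻¹ᵁ Proj.basicOpen 𝐆 (lin c) := by
  have h0 : gsec (homOfSection (comb f pX c)) = comb f pX c := gsec_homOfSection _
  refine le_antisymm (fun x hx => ?_) ?_
  · have hg := (le_genLocus_iff (homOfSection (comb f pX c)) _).1 le_rfl
    rw [h0] at hg
    have ht := isStalkBasis_germ_of_gen hg hx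
    intro hmem
    have h1 := (comb_mem_iff f pX hf x c).2 hmem
    rw [← TopCat.Presheaf.germ_res_apply _ (homOfLE (le_top : CohB1.genLocus _ (homOfSection (comb f pX c)) ≤ ⊤))
      x hx (comb f pX c)] at h1
    have h2 := (smul_mem_smul_top_iff ht (maximalIdeal _) 1).1 (by rw [one_smul]; exact h1)
    exact (maximalIdeal.isMaximal _).ne_top ((Ideal.eq_top_iff_one _).2 h2)
  · rw [le_genLocus_iff, h0, comb_eq f pX hf]
    have hgen : Groth.PicAux.Gen (Twist.twistProjSpace n k 1) (Proj.basicOpen 𝐆 (lin c))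
        (Groth.PicAux.res _ le_top (Twist.globalOf 𝐆 ⟨lin c, lin_isHomogeneous c⟩)) :=
      gen_fracGen (lin_isHomogeneous c : lin c ∈ 𝐆 1) SetLike.GradedOne.one_mem (by simp) _
        (fun y _ => Groth.Ega2Proj.one_notMem y) fun _ hy => hy
    exact (congrArg (Groth.PicAux.Gen _ _)
      (Groth.PicAux.res_pullSec f _ (le_top : Proj.basicOpen 𝐆 (lin c) ≤ ⊤) _)).mpr (hgen.pull f)

theorem exists_projection [Infinite k] (hf : f ≫ CohB1.ProjSpace.toSpec n k = pX) [IsClosedImmersion f] {d : ℕ}
    (hdim : topologicalKrullDim X = (d : WithBot ℕ∞)) :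
    ∃ π : X ⟶ CohB1.ProjSpace d k, π ≫ CohB1.ProjSpace.toSpec d k = pX ∧ IsFinite π ∧
      Nonempty ((Scheme.Modules.pullback π).obj (Twist.twistProjSpace d k 1) ≅
        (Scheme.Modules.pullback f).obj (Twist.twistProjSpace n k 1)) := by
  subst hf
  have hd : ∀ x : X, Order.height x ≤ (d : ℕ∞) := fun x => by
    rw [Groth.Variety2.Dim.dim_eq_iSup_height] at hdim
    exact WithBot.coe_le_coe.1
      ((le_iSup (fun z : X => ((Order.height z : ℕ∞) : WithBot ℕ∞)) x).trans hdim.le)
  let T : Set (ProjectiveSpectrum (CohB1.polyGrading n k)) := Set.range f.base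
  have hht : ∀ x : X, Groth.Variety2.PSpace.ht (n := n) (k := k) (f x) = Order.height x := fun x =>
    Groth.Variety2.Dim.height_eq_of_isPreimmersion (f ≫ CohB1.ProjSpace.toSpec n k)
      (CohB1.ProjSpace.toSpec n k) f rfl x
  obtain ⟨l, hl, hcov⟩ := Groth.Variety2.PSpace.exists_linear_cover d (T := T)
    f.isClosedEmbedding.isClosed_range (by rintro _ ⟨x, rfl⟩; exact (hht x).trans_le (hd x))
  choose c hc using fun j => exists_eq_lin (hl j)
  let L := (Scheme.Modules.pullback f).obj (Twist.twistProjSpace n k 1)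
  let s : Fin (d + 1) → ProjUP.Γm L := fun j => comb f (f ≫ CohB1.ProjSpace.toSpec n k) (c j)
  have hUs : ∀ j, Groth.Chow.ToPn.U L s j = f ⁻¹ᵁ Proj.basicOpen 𝐆 (l j) := fun j => by
    rw [hc j]; exact genLocus_comb f _ rfl (c j)
  have hU : ⨆ j, Groth.Chow.ToPn.U L s j = ⊤ := top_le_iff.1 fun x _ =>
    TopologicalSpace.Opens.mem_iSup.2 (by
      obtain ⟨j, hj⟩ := hcov (f x) ⟨x, rfl⟩
      exact ⟨j, (hUs j).ge hj⟩)
  obtain ⟨π, hr⟩ := Groth.Chow.ToPn.exists_r (f ≫ CohB1.ProjSpace.toSpec n k) L s hU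
  obtain ⟨τ, -⟩ := Groth.Chow.ToPn.exists_tau hr hU
  have hπ := Groth.Chow.ToPn.r_toSpec hr hU
  have : IsProper (π ≫ CohB1.ProjSpace.toSpec d k) := hπ ▸ inferInstance
  have : IsProper π := IsProper.of_comp π (CohB1.ProjSpace.toSpec d k)
  have : IsAffineHom π := by
    refine (IsZariskiLocalAtTarget.iff_of_iSup_eq_top (P := @IsAffineHom) (f := π)
      (fun i : ULift.{u} (Fin (d + 1)) => (Proj.basicOpen (CohB1.polyGrading d k) (MvPolynomial.X i.down) :
        (CohB1.ProjSpace d k).Opens))
      (top_le_iff.1 fun x _ => TopologicalSpace.Opens.mem_iSup.2 (by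
        obtain ⟨i, hi⟩ := Groth.Variety2.PSpace.exists_X_notMem x
        exact ⟨⟨i⟩, hi⟩))).2 ?_
    intro i
    have hA : IsAffineOpen (X := CohB1.ProjSpace d k)
        (Proj.basicOpen (CohB1.polyGrading d k) (MvPolynomial.X i.down)) :=
      Proj.isAffineOpen_basicOpen _ _ (isHomogeneous_X k i.down) one_pos
    have hB : IsAffineOpen (X := CohB1.ProjSpace n k) (Proj.basicOpen 𝐆 (l i.down)) :=
      Proj.isAffineOpen_basicOpen _ _ (hl i.down) one_pos
    have hP : IsAffineOpen (π ⁻¹ᵁ Proj.basicOpen (CohB1.polyGrading d k) (MvPolynomial.X i.down)) :=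
      (congrArg IsAffineOpen ((Groth.Chow.ToPn.preimage_D hr hU i.down).trans (hUs i.down))).mpr
        (hB.preimage f)
    exact @isAffineHom_of_isAffine _ _ _ hP hA
  exact ⟨π, hπ, IsFinite.iff_isProper_and_isAffineHom.2 ⟨inferInstance, inferInstance⟩, ⟨τ⟩⟩

theorem surjective_of_isFinite {d : ℕ} (π : X ⟶ CohB1.ProjSpace d k)
    (hπ : π ≫ CohB1.ProjSpace.toSpec d k = pX) [IsFinite π]
    (hd : topologicalKrullDim X = (d : WithBot ℕ∞)) : Function.Surjective π.base := by
  intro y
  have : LocallyOfFiniteType pX := hπ ▸ inferInstance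
  rw [Groth.Variety2.Dim.dim_eq_iSup_height] at hd
  obtain ⟨x, hx⟩ : ∃ x : X, Order.height x = (d : ℕ∞) := by
    by_contra hno
    push Not at hno
    have hle : ∀ x : X, Order.height x ≤ (d : ℕ∞) := fun x => WithBot.coe_le_coe.1
      ((le_iSup (fun z : X => ((Order.height z : ℕ∞) : WithBot ℕ∞)) x).trans hd.le)
    rcases Nat.eq_zero_or_pos d with rfl | hd0
    · cases isEmpty_or_nonempty X
      · simp at hd
      · obtain ⟨x⟩ := ‹Nonempty X›
        exact hno x (le_antisymm (hle x) bot_le)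
    · have h : ⨆ x : X, ((Order.height x : ℕ∞) : WithBot ℕ∞) ≤ (((d - 1 : ℕ) : ℕ∞) : WithBot ℕ∞) :=
        iSup_le fun x => WithBot.coe_le_coe.2 (Order.le_of_lt_add_one (by
          rw [← Nat.cast_succ, show (d - 1).succ = d by omega]
          exact lt_of_le_of_ne (hle x) (hno x)))
      rw [hd] at h
      have : d ≤ d - 1 := by exact_mod_cast WithBot.coe_le_coe.1 h
      omega
  have hfib : Finite (π.fiber (π x)) := by
    have : Finite ↥(π.base ⁻¹' {π x}) := (π.finite_preimage_singleton (π x)).to_subtype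
    exact Finite.of_equiv _ (π.fiberHomeo (π x)).toEquiv.symm
  have : JacobsonSpace (π.fiber (π x)) :=
    LocallyOfFiniteType.jacobsonSpace (π.fiberToSpecResidueField (π x))
  have hz : Order.height (π.asFiber x) = 0 := by
    rw [Groth.Variety2.Dim.height_eq_zero_iff]
    exact isClosed_discrete _
  have hadd := Groth.Variety2.Dim.height_fiber_add pX (CohB1.ProjSpace.toSpec d k) π hπ (π x) (π.asFiber x)
  replace hadd := (((congrArg (· + _) hz).symm.trans hadd))
  replace hadd := (zero_add _).symm.trans hadd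
  replace hadd := hadd.trans ((congrArg Order.height (π.fiberι_asFiber x)).trans hx)
  have heta : Groth.Variety2.PSpace.eta d k ⤳ π x := Groth.Variety2.PSpace.eta_specializes _
  have he : π x = Groth.Variety2.PSpace.eta d k := by
    by_contra hne
    have h1 := Groth.Variety2.PSpace.ht_lt heta hne
    rw [Groth.Variety2.PSpace.ht_eta] at h1
    exact (ne_of_lt h1) hadd
  exact (Groth.Variety2.PSpace.eta_specializes y).mem_closed π.isClosedMap.isClosed_range ⟨x, he⟩

end Groth.Cycles.ProjSep
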