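import Groth.Agent.Pi1Quot.Local
import Mathlib.AlgebraicGeometry.ProjectiveSpectrum.Basic
import Mathlib.AlgebraicGeometry.Morphisms.Affine

/-!
The morphism `Proj A ⟶ Proj A^G` is a quotient by the finite group `G`.
-/

universe u

set_option autoImplicit false

open CategoryTheory Limits AlgebraicGeometry TopologicalSpace

namespace Groth.Cycles.ProjQuot

open Groth

/-- Sections over the range of an open immersion from an affine scheme. -/
noncomputable def secHom {X : Scheme.{u}} {A : CommRingCat.{u}} (a : Spec A ⟶ X) [IsOpenImmersion a]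
    (V : X.Opens) (hV : a.opensRange = V) : Γ(X, V) ⟶ A :=
  a.appLE V ⊤ (fun z _ => hV ▸ ⟨z, rfl⟩) ≫ (Scheme.ΓSpecIso A).hom

theorem secHom_bijective {X : Scheme.{u}} {A : CommRingCat.{u}} (a : Spec A ⟶ X) [IsOpenImmersion a]
    (V : X.Opens) (hV : a.opensRange = V) : Function.Bijective (secHom a V hV).hom := by
  subst hV
  have h := a.isIso_app a.opensRange le_rfl
  have : IsIso (secHom a a.opensRange rfl) := by
    unfold secHom Scheme.Hom.appLE
    have e : a ⁻¹ᵁ a.opensRange = ⊤ := top_le_iff.mp fun z _ => ⟨z, rfl⟩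
    rw [Subsingleton.elim (homOfLE _) (eqToHom e.symm)]
    infer_instance
  exact ConcreteCategory.bijective_of_isIso (secHom a a.opensRange rfl)

theorem appLE_comp_secHom {X Y : Scheme.{u}} {A B : CommRingCat.{u}} (a : Spec A ⟶ X) [IsOpenImmersion a]
    (b : Spec B ⟶ Y) [IsOpenImmersion b]
    (f : X ⟶ Y) (θ : B ⟶ A) (h : a ≫ f = Spec.map θ ≫ b) (V : X.Opens) (hV : a.opensRange = V)
    (U : Y.Opens) (hU : b.opensRange = U) (e : V ≤ f ⁻¹ᵁ U) :
    f.appLE U V e ≫ secHom a V hV = secHom b U hU ≫ θ := by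
  simp only [secHom]
  rw [Category.assoc, ← Scheme.ΓSpecIso_naturality, ← Category.assoc, Scheme.Hom.appLE_comp_appLE,
    Pi1Quot.appLE_congr_hom h _ _ _ (show (⊤ : (Spec A).Opens) ≤ (Spec.map θ ≫ b) ⁻¹ᵁ U from
      fun z _ => hU ▸ ⟨Spec.map θ z, rfl⟩)]
  rw [← Category.assoc]
  congr 1

section Norm

variable {R A : Type u} [CommRing R] [CommRing A] [Algebra R A] (𝒜 : ℕ → Submodule R A) [GradedAlgebra 𝒜]
  {G : Type u} [Group G] [Finite G] [MulSemiringAction G A]

/-- A homogeneous prime containing all invariants of positive degree contains everything of positive degree. -/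
theorem exists_invariant_notMem (hGdeg : ∀ (σ : G) (i : ℕ) (a : A), a ∈ 𝒜 i → σ • a ∈ 𝒜 i)
    (P : Ideal A) [P.IsPrime] {n : ℕ} (hn : 0 < n) {a : A} (ha : a ∈ 𝒜 n) (haP : a ∉ P) :
    ∃ m, 0 < m ∧ ∃ b ∈ 𝒜 m, (∀ σ : G, σ • b = b) ∧ b ∉ P := by
  classical
  cases nonempty_fintype G
  by_contra! h
  let e : ℕ → A := fun j => ∑ t ∈ (Finset.univ : Finset G).powersetCard j, ∏ σ ∈ t, -(σ • a)
  have hdeg : ∀ j, e j ∈ 𝒜 (j * n) := fun j => by
    refine sum_mem fun t ht => ?_
    have : ∏ σ ∈ t, -(σ • a) ∈ 𝒜 (∑ _σ ∈ t, n) :=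
      SetLike.prod_mem_graded 𝒜 _ _ fun σ _ => neg_mem (hGdeg σ n a ha)
    simpa [(Finset.mem_powersetCard.mp ht).2] using this
  have hinv : ∀ j (τ : G), τ • e j = e j := fun j τ => by
    simp only [e, Finset.smul_sum, Finset.smul_prod', smul_neg, ← mul_smul]
    conv_rhs => rw [← Finset.map_univ_equiv (Equiv.mulLeft τ), Finset.powersetCard_map, Finset.sum_map]
    refine Finset.sum_congr rfl fun t _ => ?_
    simp [Finset.mapEmbedding_apply, Finset.prod_map]
  have hmem : ∀ j, 0 < j → e j ∈ P := fun j hj => h (j * n) (Nat.mul_pos hj hn) _ (hdeg j) (hinv j)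
  have h0 : ∏ σ : G, (-(σ • a) + a) = 0 := Finset.prod_eq_zero (Finset.mem_univ 1) (by simp)
  rw [Finset.prod_add, Finset.sum_powerset, Finset.sum_range_succ'] at h0
  simp only [Finset.powersetCard_zero, Finset.sum_singleton, Finset.prod_empty, one_mul,
    Finset.sdiff_empty, Finset.prod_const] at h0
  refine haP (Ideal.IsPrime.mem_of_pow_mem ‹_› (Finset.univ : Finset G).card ?_)
  rw [eq_neg_of_add_eq_zero_right h0]
  refine neg_mem (sum_mem fun j _ => ?_)
  have : ∑ t ∈ (Finset.univ : Finset G).powersetCard (j + 1),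
      (∏ σ ∈ t, -(σ • a)) * a ^ (Finset.univ \ t).card =
      e (j + 1) * a ^ ((Finset.univ : Finset G).card - (j + 1)) := by
    rw [Finset.sum_mul]
    refine Finset.sum_congr rfl fun t ht => ?_
    rw [Finset.card_sdiff_of_subset (Finset.mem_powersetCard.mp ht).1,
      (Finset.mem_powersetCard.mp ht).2]
  rw [this]
  exact P.mul_mem_right _ (hmem _ (Nat.succ_pos j))

end Norm

/-- A point of `Proj` misses some homogeneous element of positive degree. -/
theorem exists_homogeneous_notMem {R A : Type u} [CommRing R] [CommRing A] [Algebra R A]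
    (𝒜 : ℕ → Submodule R A) [GradedAlgebra 𝒜] (x : Proj 𝒜) :
    ∃ n, 0 < n ∧ ∃ a ∈ 𝒜 n, a ∉ x.asHomogeneousIdeal := by
  classical
  by_contra! h
  refine x.not_irrelevant_le fun a ha => ?_
  rw [← DirectSum.sum_support_decompose 𝒜 a]
  refine sum_mem fun i _ => ?_
  rcases Nat.eq_zero_or_pos i with rfl | hi
  · rw [(GradedRing.proj_apply 𝒜 0 a).symm.trans ((HomogeneousIdeal.mem_irrelevant_iff _ _).mp ha)]
    exact zero_mem _
  · exact h i hi _ (SetLike.coe_mem _)

/-- A degree preserving ring map induces maps on homogeneous localizations. -/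
theorem exists_awayHom {R S A B : Type u} [CommRing R] [CommRing S] [CommRing A] [CommRing B] [Algebra R A]
    [Algebra S B] (𝒜 : ℕ → Submodule R A) [GradedAlgebra 𝒜] (ℬ : ℕ → Submodule S B) [GradedAlgebra ℬ]
    (φ : A →+* B) (hφ : ∀ (i : ℕ) (x : A), x ∈ 𝒜 i → φ x ∈ ℬ i) (n : ℕ) (f : A) (hf : f ∈ 𝒜 n) :
    ∃ θ : CommRingCat.of (HomogeneousLocalization.Away 𝒜 f) ⟶
        CommRingCat.of (HomogeneousLocalization.Away ℬ (φ f)),
      (∀ (k : ℕ) (x : A) (hx : x ∈ 𝒜 (k • n)),
        θ.hom (HomogeneousLocalization.Away.mk 𝒜 hf k x hx) =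
          HomogeneousLocalization.Away.mk ℬ (hφ n f hf) k (φ x) (hφ _ x hx)) ∧
      (algebraMap (HomogeneousLocalization.Away ℬ (φ f)) (Localization.Away (φ f))).comp θ.hom =
        (Localization.awayMap φ f).comp
          (algebraMap (HomogeneousLocalization.Away 𝒜 f) (Localization.Away f)) := by
  let g : 𝒜 →+*ᵍ ℬ := { φ with map_mem := fun {i x} hx => hφ i x hx }
  let θ : CommRingCat.of (HomogeneousLocalization.Away 𝒜 f) ⟶
      CommRingCat.of (HomogeneousLocalization.Away ℬ (φ f)) :=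
    CommRingCat.ofHom (HomogeneousLocalization.Away.map g f)
  have hmk : ∀ (k : ℕ) (x : A) (hx : x ∈ 𝒜 (k • n)),
      θ.hom (HomogeneousLocalization.Away.mk 𝒜 hf k x hx) =
        HomogeneousLocalization.Away.mk ℬ (hφ n f hf) k (φ x) (hφ _ x hx) := fun k x hx =>
    HomogeneousLocalization.Away.map_mk g f hf k x hx
  refine ⟨θ, hmk, RingHom.ext fun z => ?_⟩
  obtain ⟨k, x, hx, rfl⟩ := HomogeneousLocalization.Away.mk_surjective 𝒜 hf z
  rw [RingHom.comp_apply, RingHom.comp_apply, hmk, HomogeneousLocalization.algebraMap_apply,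
    HomogeneousLocalization.algebraMap_apply, HomogeneousLocalization.Away.val_mk,
    HomogeneousLocalization.Away.val_mk, Localization.mk_eq_mk', Localization.mk_eq_mk']
  refine Eq.trans ?_ (IsLocalization.map_mk' _ _ _).symm
  congr 1
  exact Subtype.ext (map_pow φ f k).symm

/-- If two fractions agree then the numerators agree after multiplying by a power of `f`. -/
theorem exists_pow_mul_eq {R A : Type u} [CommRing R] [CommRing A] [Algebra R A]
    (𝒜 : ℕ → Submodule R A) [GradedAlgebra 𝒜] {n : ℕ} {f : A} (hf : f ∈ 𝒜 n) {k l : ℕ} {x y : A}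
    {hx : x ∈ 𝒜 (k • n)} {hy : y ∈ 𝒜 (l • n)}
    (h : HomogeneousLocalization.Away.mk 𝒜 hf k x hx = HomogeneousLocalization.Away.mk 𝒜 hf l y hy) :
    ∃ m : ℕ, f ^ m * (f ^ l * x) = f ^ m * (f ^ k * y) := by
  rw [HomogeneousLocalization.ext_iff_val, HomogeneousLocalization.Away.val_mk,
    HomogeneousLocalization.Away.val_mk, Localization.mk_eq_mk_iff, Localization.r_iff_exists] at h
  obtain ⟨⟨_, m, rfl⟩, hm⟩ := h
  exact ⟨m, hm⟩

theorem mk_eq_mk {R A : Type u} [CommRing R] [CommRing A] [Algebra R A]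
    (𝒜 : ℕ → Submodule R A) [GradedAlgebra 𝒜] {n : ℕ} {f : A} (hf : f ∈ 𝒜 n) {k l : ℕ} {x y : A}
    {hx : x ∈ 𝒜 (k • n)} {hy : y ∈ 𝒜 (l • n)} (m : ℕ)
    (h : f ^ m * (f ^ l * x) = f ^ m * (f ^ k * y)) :
    HomogeneousLocalization.Away.mk 𝒜 hf k x hx = HomogeneousLocalization.Away.mk 𝒜 hf l y hy := by
  rw [HomogeneousLocalization.ext_iff_val, HomogeneousLocalization.Away.val_mk,
    HomogeneousLocalization.Away.val_mk, Localization.mk_eq_mk_iff, Localization.r_iff_exists]
  exact ⟨⟨_, m, rfl⟩, h⟩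

end Groth.Cycles.ProjQuot
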