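import Groth.Agent.Cycles.ProjSepPoints
import Groth.Agent.PicAux.Pullback
import Groth.Agent.S10867
import Groth.Prelude.Def_FlatMod2

/-!
A morphism to projective space is a closed immersion iff the linear forms separate points and tangents.
-/

universe u

set_option autoImplicit false

open CategoryTheory AlgebraicGeometry IsLocalRing MvPolynomial
open Groth.PicAux Groth.Ega2Proj Groth.RefRank Groth.QCohMod

namespace Groth.Cycles.ProjSep

variable {k : Type u} [Field k] {n : ℕ}

local notation "𝐆" => CohB1.polyGrading n k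
local notation "Sk" => MvPolynomial (Fin (n + 1)) k
local notation "𝐏" => CohB1.ProjSpace n k

/-- A linear combination of the coordinates is the section of its linear form. -/
theorem sum_coord (c : Fin (n + 1) → k) :
    (∑ j, ProjUP.toGlobal (CohB1.ProjSpace.toSpec n k) (c j) • ProjUP.coord n k j :
        ProjUP.Γm (Twist.twistProjSpace n k 1)) =
      Twist.globalOf 𝐆 ⟨lin c, lin_isHomogeneous c⟩ := by
  refine wval_ext fun y hy => ?_
  refine (map_sum (AddMonoidHom.mk' (fun s : Γ(Twist.twist 𝐆 1, ⊤) => wval s y hy) fun a b => rfl) _ _).trans ?_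
  change ∑ j, wval (U := ⊤) _ y hy = Localization.mk (lin c) _
  rw [lin, Localization.mk_sum]
  refine Finset.sum_congr rfl fun j _ => ?_
  refine (wval_smul _ _ y hy).trans ?_
  rw [toGlobal_val]
  change Localization.mk _ _ * Localization.mk _ _ = _
  rw [Localization.mk_mul, one_mul]

variable {X : Scheme.{u}} (f : X ⟶ CohB1.ProjSpace n k) (pX : X ⟶ Spec (CommRingCat.of k))

/-- The combination of the pulled back coordinates. -/
noncomputable abbrev comb (c : Fin (n + 1) → k) :
    ProjUP.Γm ((Scheme.Modules.pullback f).obj (Twist.twistProjSpace n k 1)) :=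
  ∑ j, ProjUP.toGlobal pX (c j) • ProjUP.pullSec f (Twist.twistProjSpace n k 1) (ProjUP.coord n k j)

theorem comb_eq (hf : f ≫ CohB1.ProjSpace.toSpec n k = pX) (c : Fin (n + 1) → k) :
    comb f pX c = Groth.PicAux.pullSec f (Twist.twistProjSpace n k 1) (U := ⊤)
      (Twist.globalOf 𝐆 ⟨lin c, lin_isHomogeneous c⟩) := by
  rw [← sum_coord]
  subst hf
  refine Eq.trans ?_ (map_sum (((Scheme.Modules.pullbackPushforwardAdjunction f).unit.app
    (Twist.twistProjSpace n k 1)).app ⊤).hom _ _).symm
  refine Finset.sum_congr rfl fun j _ => ?_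
  refine Eq.trans ?_ (Groth.PicAux.pullSec_smul f (Twist.twistProjSpace n k 1) (U := ⊤) _ _).symm
  congr 1

theorem smul_mem_smul_top_iff {R M : Type*} [CommRing R] [AddCommGroup M] [Module R M] {t : M}
    (ht : Function.Bijective fun a : R => a • t) (I : Ideal R) (φ : R) :
    φ • t ∈ I • (⊤ : Submodule R M) ↔ φ ∈ I := by
  refine ⟨fun h => ?_, fun h => Submodule.smul_mem_smul h trivial⟩
  have key : ∀ v ∈ I • (⊤ : Submodule R M), ∃ m ∈ I, v = m • t := by
    intro v hv
    refine Submodule.smul_induction_on hv (fun m hm w _ => ?_) ?_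
    · obtain ⟨a, rfl⟩ := ht.2 w
      exact ⟨m * a, Ideal.mul_mem_right _ _ hm, (mul_smul m a t).symm⟩
    · rintro _ _ ⟨m, hm, rfl⟩ ⟨m', hm', rfl⟩
      exact ⟨m + m', add_mem hm hm', (add_smul m m' t).symm⟩
  obtain ⟨m, hm, he⟩ := key _ h
  rwa [ht.1 he]

/-- At every point the combinations are multiples of one basis, by the fractions of their linear forms. -/
theorem exists_local (hf : f ≫ CohB1.ProjSpace.toSpec n k = pX) (P : X) (i : Fin (n + 1))
    (hi : (MvPolynomial.X i : Sk) ∉ (show ProjectiveSpectrum 𝐆 from f P).asHomogeneousIdeal) :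
    ∃ t : ((Scheme.Modules.pullback f).obj (Twist.twistProjSpace n k 1)).presheaf.stalk P,
      IsStalkBasis _ P t ∧ ∀ c,
        (((Scheme.Modules.pullback f).obj (Twist.twistProjSpace n k 1)).presheaf.germ ⊤ P trivial).hom
            (comb f pX c) = f.stalkMap P (ratio (f P) i hi c) • t := by
  let U : 𝐏.Opens := Proj.basicOpen 𝐆 (MvPolynomial.X i : Sk)
  have hU : f P ∈ U := hi
  let g : Γ(Twist.twistProjSpace n k 1, ⊤) :=
    Twist.globalOf 𝐆 ⟨MvPolynomial.X i, isHomogeneous_X k i⟩
  have hgen : Groth.PicAux.Gen (Twist.twistProjSpace n k 1) U (Groth.PicAux.res _ le_top g) :=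
    gen_fracGen (isHomogeneous_X k i : (MvPolynomial.X i : Sk) ∈ 𝐆 1) SetLike.GradedOne.one_mem (by simp) _
      (fun y _ => Groth.Ega2Proj.one_notMem y) fun _ hy => hy
  refine ⟨germ _ P (U := f ⁻¹ᵁ U) hU (Groth.PicAux.pullSec f _ (Groth.PicAux.res _ le_top g)),
    isStalkBasis_germ_of_gen (hgen.pull f) hU, fun c => ?_⟩
  obtain ⟨r, hr⟩ := hgen.exists_coeff le_rfl (Groth.PicAux.res _ (le_top : U ≤ ⊤)
    (Twist.globalOf 𝐆 ⟨lin c, lin_isHomogeneous c⟩ : Γ(Twist.twistProjSpace n k 1, ⊤)))
  rw [Groth.PicAux.res_self] at hr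
  have hratio : 𝐏.presheaf.germ U (f P) hU r = ratio (f P) i hi c := by
    refine sval_injective _ ?_
    rw [sval_germ, sval_ratio]
    have h1 := congrArg (fun s => wval s (show ProjectiveSpectrum 𝐆 from f P) hU) hr
    simp only [wval_smul] at h1
    change Localization.mk (lin c) _ = _ * Localization.mk (MvPolynomial.X i : Sk) _ at h1
    refine (lfrac_isUnit 𝐆 (show ProjectiveSpectrum 𝐆 from f P) hi
      (Groth.Ega2Proj.one_notMem _)).mul_left_injective ?_
    beta_reduce
    change _ * Localization.mk (MvPolynomial.X i : Sk) _ = Localization.mk (lin c) _ * Localization.mk (MvPolynomial.X i : Sk) _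
    rw [← h1, Localization.mk_mul]
    refine Localization.mk_eq_mk_iff.mpr (Localization.r_iff_exists.mpr ⟨1, ?_⟩)
    simp only [Submonoid.coe_one, Submonoid.coe_mul]
    ring
  have h2 := congrArg (fun m => germ _ P (U := f ⁻¹ᵁ U) hU (Groth.PicAux.pullSec f _ m)) hr
  beta_reduce at h2
  rw [Groth.PicAux.pullSec_smul, germ_smul, ← Groth.PicAux.res_pullSec f _ (le_top : U ≤ ⊤)] at h2
  erw [germ_res] at h2
  rw [← hratio, Scheme.Hom.germ_stalkMap_apply, comb_eq f pX hf c]
  exact h2

theorem comb_mem_iff (hf : f ≫ CohB1.ProjSpace.toSpec n k = pX) (P : X) (c : Fin (n + 1) → k) :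
    (((Scheme.Modules.pullback f).obj (Twist.twistProjSpace n k 1)).presheaf.germ ⊤ P trivial).hom
        (comb f pX c) ∈ maximalIdeal (X.presheaf.stalk P) •
      (⊤ : Submodule (X.presheaf.stalk P) _) ↔
      lin c ∈ (show ProjectiveSpectrum 𝐆 from f P).asHomogeneousIdeal := by
  obtain ⟨i, hi⟩ := Groth.Variety2.PSpace.exists_X_notMem (show ProjectiveSpectrum 𝐆 from f P)
  obtain ⟨t, ht, hc⟩ := exists_local f pX hf P i hi
  rw [hc, smul_mem_smul_top_iff ht, ← ratio_mem_iff (f P) i hi c]
  rw [mem_maximalIdeal, mem_maximalIdeal, mem_nonunits_iff, mem_nonunits_iff, isUnit_map_iff (f.stalkMap P).hom]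

variable [IsAlgClosed k]

/-- The tangent condition says that the cotangent map is surjective. -/
theorem tangent_iff (hf : f ≫ CohB1.ProjSpace.toSpec n k = pX) (P : X)
    (hy : IsClosed ({f P} : Set ↥𝐏)) :
    (maximalIdeal (X.presheaf.stalk P) • (⊤ : Submodule (X.presheaf.stalk P)
        (((Scheme.Modules.pullback f).obj (Twist.twistProjSpace n k 1)).presheaf.stalk P))) ≤
      Submodule.span (X.presheaf.stalk P)
          {v | ∃ c : Fin (n + 1) → k,
            v = (((Scheme.Modules.pullback f).obj (Twist.twistProjSpace n k 1)).presheaf.germ ⊤ P trivial).hom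
                  (comb f pX c) ∧
              v ∈ maximalIdeal (X.presheaf.stalk P) • (⊤ : Submodule (X.presheaf.stalk P)
                (((Scheme.Modules.pullback f).obj (Twist.twistProjSpace n k 1)).presheaf.stalk P))} ⊔
        (maximalIdeal (X.presheaf.stalk P) ^ 2 • (⊤ : Submodule (X.presheaf.stalk P)
          (((Scheme.Modules.pullback f).obj (Twist.twistProjSpace n k 1)).presheaf.stalk P))) ↔
    Ideal.map (f.stalkMap P).hom (maximalIdeal (𝐏.presheaf.stalk (f P))) ⊔
      maximalIdeal (X.presheaf.stalk P) ^ 2 = maximalIdeal (X.presheaf.stalk P) := by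
  obtain ⟨i, hi⟩ := Groth.Variety2.PSpace.exists_X_notMem (show ProjectiveSpectrum 𝐆 from f P)
  obtain ⟨t, ht, hc⟩ := exists_local f pX hf P i hi
  set J := Ideal.map (f.stalkMap P).hom (maximalIdeal (𝐏.presheaf.stalk (f P))) with hJ
  set S := Submodule.span (X.presheaf.stalk P)
    {v | ∃ c : Fin (n + 1) → k,
      v = (((Scheme.Modules.pullback f).obj (Twist.twistProjSpace n k 1)).presheaf.germ ⊤ P trivial).hom
            (comb f pX c) ∧
        v ∈ maximalIdeal (X.presheaf.stalk P) • (⊤ : Submodule (X.presheaf.stalk P)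
          (((Scheme.Modules.pullback f).obj (Twist.twistProjSpace n k 1)).presheaf.stalk P))}
  have hJle : J ≤ maximalIdeal (X.presheaf.stalk P) :=
    Ideal.map_le_iff_le_comap.2 fun a ha => by
      rw [Ideal.mem_comap, mem_maximalIdeal, mem_nonunits_iff, isUnit_map_iff (f.stalkMap P).hom]
      exact (mem_maximalIdeal a).1 ha
  have hS : S = J • ⊤ := by
    refine le_antisymm (Submodule.span_le.2 ?_) ?_
    · rintro _ ⟨c, rfl, hm⟩
      rw [SetLike.mem_coe, hc]
      exact Submodule.smul_mem_smul
        (Ideal.mem_map_of_mem _ ((ratio_mem_iff _ i hi c).2 ((comb_mem_iff f pX hf P c).1 hm))) trivial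
    · have hI : J ≤ S.comap (LinearMap.toSpanSingleton _ _ t) := by
        rw [hJ, maximalIdeal_eq_span hy i hi, Ideal.map_span]
        refine Ideal.span_le.2 ?_
        rintro _ ⟨_, ⟨c, hl, rfl⟩, rfl⟩
        exact Submodule.subset_span ⟨c, (hc c).symm, (smul_mem_smul_top_iff ht _ _).2
          (hJle (Ideal.mem_map_of_mem _ ((ratio_mem_iff _ i hi c).2 hl)))⟩
      refine Submodule.smul_le.2 fun a ha w _ => ?_
      obtain ⟨b, rfl⟩ := ht.2 w
      rw [← mul_smul]
      exact hI (Ideal.mul_mem_right _ _ ha)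
  rw [hS, ← Submodule.sup_smul]
  constructor
  · intro h
    refine le_antisymm (sup_le hJle (Ideal.pow_le_self two_ne_zero)) fun a ha => ?_
    exact (smul_mem_smul_top_iff ht _ a).1 (h (Submodule.smul_mem_smul ha trivial))
  · intro h
    rw [h]

theorem isClosed_image_point [IsProper f] {P : X} (hP : IsClosed ({P} : Set X)) :
    IsClosed ({f P} : Set ↥𝐏) := by
  have := f.isClosedMap _ hP
  rwa [Set.image_singleton] at this

theorem isProper_of_comp (hf : f ≫ CohB1.ProjSpace.toSpec n k = pX) [IsProper pX] : IsProper f := by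
  have : IsProper (f ≫ CohB1.ProjSpace.toSpec n k) := hf ▸ inferInstance
  exact IsProper.of_comp f (CohB1.ProjSpace.toSpec n k)

theorem separates_of_isClosedImmersion (hf : f ≫ CohB1.ProjSpace.toSpec n k = pX) [IsClosedImmersion f]
    {P Q : X} (hP : IsClosed ({P} : Set X)) (hne : P ≠ Q) :
    ∃ c : Fin (n + 1) → k,
      (((Scheme.Modules.pullback f).obj (Twist.twistProjSpace n k 1)).presheaf.germ ⊤ P trivial).hom
          (comb f pX c) ∈ maximalIdeal (X.presheaf.stalk P) • (⊤ : Submodule (X.presheaf.stalk P) _) ∧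
      (((Scheme.Modules.pullback f).obj (Twist.twistProjSpace n k 1)).presheaf.germ ⊤ Q trivial).hom
          (comb f pX c) ∉ maximalIdeal (X.presheaf.stalk Q) • (⊤ : Submodule (X.presheaf.stalk Q) _) := by
  obtain ⟨c, h1, h2⟩ := exists_lin_separating (isClosed_image_point f hP)
    (fun e : f Q = f P => hne (f.isEmbedding.injective e.symm))
  exact ⟨c, (comb_mem_iff f pX hf P c).2 h1, fun h => h2 ((comb_mem_iff f pX hf Q c).1 h)⟩

theorem tangent_of_isClosedImmersion (hf : f ≫ CohB1.ProjSpace.toSpec n k = pX) [IsClosedImmersion f]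
    {P : X} (hP : IsClosed ({P} : Set X)) :
    (maximalIdeal (X.presheaf.stalk P) • (⊤ : Submodule (X.presheaf.stalk P)
        (((Scheme.Modules.pullback f).obj (Twist.twistProjSpace n k 1)).presheaf.stalk P))) ≤
      Submodule.span (X.presheaf.stalk P)
          {v | ∃ c : Fin (n + 1) → k,
            v = (((Scheme.Modules.pullback f).obj (Twist.twistProjSpace n k 1)).presheaf.germ ⊤ P trivial).hom
                  (comb f pX c) ∧
              v ∈ maximalIdeal (X.presheaf.stalk P) • (⊤ : Submodule (X.presheaf.stalk P)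
                (((Scheme.Modules.pullback f).obj (Twist.twistProjSpace n k 1)).presheaf.stalk P))} ⊔
        (maximalIdeal (X.presheaf.stalk P) ^ 2 • (⊤ : Submodule (X.presheaf.stalk P)
          (((Scheme.Modules.pullback f).obj (Twist.twistProjSpace n k 1)).presheaf.stalk P))) := by
  refine (tangent_iff f pX hf P (isClosed_image_point f hP)).2 ?_
  have hs := f.stalkMap_surjective P
  rw [← ((IsLocalRing.local_hom_TFAE (f.stalkMap P).hom).out 0 4 :
      IsLocalHom (f.stalkMap P).hom ↔ (maximalIdeal _).comap (f.stalkMap P).hom = maximalIdeal _).1 inferInstance,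
    Ideal.map_comap_of_surjective _ hs]
  exact sup_eq_left.2 (Ideal.pow_le_self two_ne_zero)

theorem isClosedImmersion_of_separates (hf : f ≫ CohB1.ProjSpace.toSpec n k = pX) [IsProper pX]
    (hsep : ∀ P Q : ↥X, IsClosed ({P} : Set ↥X) → IsClosed ({Q} : Set ↥X) → P ≠ Q →
      ∃ c : Fin (n + 1) → k,
        ((((Scheme.Modules.pullback f).obj (Twist.twistProjSpace n k 1)).presheaf.germ ⊤ P trivial).hom
            (comb f pX c) ∈ maximalIdeal (X.presheaf.stalk P) • (⊤ : Submodule (X.presheaf.stalk P) _) ∧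
          (((Scheme.Modules.pullback f).obj (Twist.twistProjSpace n k 1)).presheaf.germ ⊤ Q trivial).hom
            (comb f pX c) ∉ maximalIdeal (X.presheaf.stalk Q) • (⊤ : Submodule (X.presheaf.stalk Q) _)) ∨
        ((((Scheme.Modules.pullback f).obj (Twist.twistProjSpace n k 1)).presheaf.germ ⊤ Q trivial).hom
            (comb f pX c) ∈ maximalIdeal (X.presheaf.stalk Q) • (⊤ : Submodule (X.presheaf.stalk Q) _) ∧
          (((Scheme.Modules.pullback f).obj (Twist.twistProjSpace n k 1)).presheaf.germ ⊤ P trivial).hom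
            (comb f pX c) ∉ maximalIdeal (X.presheaf.stalk P) • (⊤ : Submodule (X.presheaf.stalk P) _)))
    (htan : ∀ P : ↥X, IsClosed ({P} : Set ↥X) →
      (maximalIdeal (X.presheaf.stalk P) • (⊤ : Submodule (X.presheaf.stalk P)
          (((Scheme.Modules.pullback f).obj (Twist.twistProjSpace n k 1)).presheaf.stalk P))) ≤
        Submodule.span (X.presheaf.stalk P)
            {v | ∃ c : Fin (n + 1) → k,
              v = (((Scheme.Modules.pullback f).obj (Twist.twistProjSpace n k 1)).presheaf.germ ⊤ P trivial).hom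
                    (comb f pX c) ∧
                v ∈ maximalIdeal (X.presheaf.stalk P) • (⊤ : Submodule (X.presheaf.stalk P)
                  (((Scheme.Modules.pullback f).obj (Twist.twistProjSpace n k 1)).presheaf.stalk P))} ⊔
          (maximalIdeal (X.presheaf.stalk P) ^ 2 • (⊤ : Submodule (X.presheaf.stalk P)
            (((Scheme.Modules.pullback f).obj (Twist.twistProjSpace n k 1)).presheaf.stalk P)))) :
    IsClosedImmersion f := by
  have := isProper_of_comp f pX hf
  have : LocallyOfFiniteType (f ≫ CohB1.ProjSpace.toSpec n k) := hf ▸ inferInstance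
  refine Groth.Agent.S10867.result k f (CohB1.ProjSpace.toSpec n k) (fun P hP Q hQ he => ?_) fun P hP =>
    (tangent_iff f pX hf P (isClosed_image_point f hP)).1 (htan P hP)
  by_contra hne
  have he' : f P = f Q := he
  obtain ⟨c, h | h⟩ := hsep P Q hP hQ hne
  · exact h.2 ((comb_mem_iff f pX hf Q c).2 (he' ▸ (comb_mem_iff f pX hf P c).1 h.1))
  · exact h.2 ((comb_mem_iff f pX hf P c).2 (he'.symm ▸ (comb_mem_iff f pX hf Q c).1 h.1))

end Groth.Cycles.ProjSep
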