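import Groth.Agent.RelTwist.BaseFun
import Groth.Agent.Ega2Proj.TwistSheaf
import Groth.Prelude.Def_ProjUP
import Mathlib.AlgebraicGeometry.AlgClosed.Basic

/-!
Constants at closed points of projective space over an algebraically closed field.
-/

universe u

set_option autoImplicit false

open CategoryTheory AlgebraicGeometry IsLocalRing

namespace Groth.Cycles.ProjSep

/-- The residue class of a constant at a closed point. -/
theorem gammaEvaluation_toGlobal_surjective {k : Type u} [Field k] [IsAlgClosed k] {X : Scheme.{u}}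
    (q : X ⟶ Spec (CommRingCat.of k)) [LocallyOfFiniteType q] {x : X} (hx : IsClosed ({x} : Set X))
    (v : X.presheaf.stalk x) :
    ∃ c : k, v - X.presheaf.germ ⊤ x trivial (ProjUP.toGlobal q c) ∈ maximalIdeal (X.presheaf.stalk x) := by
  set φ := (residueFieldIsoBase q x hx).inv
  have h1 : (X.fromSpecResidueField x ≫ q).appTop = (Spec.map φ).appTop := by
    rw [SpecMap_residueFieldIsoBase_inv]
  have h2 : (Scheme.ΓSpecIso (CommRingCat.of k)).inv ≫ q.appTop ≫ X.Γevaluation x = φ := by
    rw [← cancel_mono (Scheme.ΓSpecIso (X.residueField x)).inv]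
    rw [Scheme.ΓSpecIso_inv_naturality φ, ← h1]
    simp [Scheme.fromSpecResidueField, Scheme.fromSpecStalk_appTop, Scheme.Γevaluation,
      Scheme.evaluation, Scheme.ΓSpecIso_inv_naturality]
  obtain ⟨c, hc⟩ := (ConcreteCategory.bijective_of_isIso φ).2 (X.residue x v)
  refine ⟨c, (residue_eq_zero_iff _).mp ?_⟩
  refine (map_sub (X.residue x).hom _ _).trans (sub_eq_zero.mpr ?_)
  rw [← hc, ← h2]
  rfl

variable {n : ℕ} {k : Type u} [CommRing k]

/-- The value of a constant function on projective space. -/
theorem toGlobal_val (c : k) (y : ProjectiveSpectrum (CohB1.polyGrading n k)) :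
    ((ProjUP.toGlobal (CohB1.ProjSpace.toSpec n k) c).1 ⟨y, trivial⟩).val =
      (Localization.mk (MvPolynomial.C c) 1 : Twist.Loc (CohB1.polyGrading n k) y) := by
  refine Eq.trans ?_ (Groth.RelTw.toSpecZero_appTop_val (CohB1.polyGrading n k)
    (algebraMap k (CohB1.polyGrading n k 0) c) y)
  refine congrArg (fun s : Γ(CohB1.ProjSpace n k, ⊤) => (s.1 ⟨y, trivial⟩).val) ?_
  show (Proj.toSpecZero (CohB1.polyGrading n k) ≫
      Spec.map (CommRingCat.ofHom (algebraMap k (CohB1.polyGrading n k 0)))).appTop
      ((Scheme.ΓSpecIso (CommRingCat.of k)).inv c) = _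
  rw [Scheme.Hom.comp_appTop, CommRingCat.comp_apply]
  exact congrArg _ (congr(($(Scheme.ΓSpecIso_inv_naturality
    (CommRingCat.ofHom (algebraMap k (CohB1.polyGrading n k 0))))) c)).symm

end Groth.Cycles.ProjSep
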