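import Groth.Agent.Cycles.ProjSepConst
import Groth.Agent.Ega2Proj.TwistGen
import Groth.Agent.RefRank.Rank1
import Groth.Agent.Variety2.ProjPoints
import Groth.Agent.Variety2.LinearForms

/-!
Closed points of projective space over an algebraically closed field: linear forms generate
the maximal ideals and separate the points.
-/

universe u

set_option autoImplicit false

open CategoryTheory AlgebraicGeometry IsLocalRing MvPolynomial
open Groth.PicAux Groth.Ega2Proj Groth.Variety2

namespace Groth.Cycles.ProjSep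

variable {k : Type u} [Field k] {n : ℕ}

local notation "𝐆" => CohB1.polyGrading n k
local notation "Sk" => MvPolynomial (Fin (n + 1)) k
local notation "𝐏" => CohB1.ProjSpace n k

/-- The value of an element of the local ring at a point of projective space. -/
noncomputable def sval (y : ↥𝐏) (v : 𝐏.presheaf.stalk y) : Twist.Loc 𝐆 y :=
  (Proj.stalkIso' 𝐆 y v).val

theorem sval_injective (y : ↥𝐏) : Function.Injective (sval (k := k) (n := n) y) :=
  (HomogeneousLocalization.val_injective _).comp (Proj.stalkIso' 𝐆 y).injective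

theorem sval_germ (y : ↥𝐏) {U : 𝐏.Opens} (hy : y ∈ U) (s : Γ(𝐏, U)) :
    sval y (𝐏.presheaf.germ U y hy s) = (s.1 ⟨y, hy⟩).val :=
  congrArg _ (Proj.stalkIso'_germ 𝐆 U y hy s)

theorem sval_add (y : ↥𝐏) (a b : 𝐏.presheaf.stalk y) : sval y (a + b) = sval y a + sval y b := by
  rw [sval, sval, sval, ← HomogeneousLocalization.val_add, ← map_add]; rfl

theorem sval_sub (y : ↥𝐏) (a b : 𝐏.presheaf.stalk y) : sval y (a - b) = sval y a - sval y b := by
  rw [sval, sval, sval, ← HomogeneousLocalization.val_sub, ← map_sub]; rfl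

theorem sval_mul (y : ↥𝐏) (a b : 𝐏.presheaf.stalk y) : sval y (a * b) = sval y a * sval y b := by
  rw [sval, sval, sval, ← HomogeneousLocalization.val_mul, ← map_mul]; rfl

theorem mem_maximalIdeal_iff (y : ↥𝐏) (v : 𝐏.presheaf.stalk y) {a b : Sk}
    (hb : b ∉ (show ProjectiveSpectrum 𝐆 from y).asHomogeneousIdeal) (h : sval y v = lfrac 𝐆 y a hb) :
    v ∈ maximalIdeal (𝐏.presheaf.stalk y) ↔ a ∈ (show ProjectiveSpectrum 𝐆 from y).asHomogeneousIdeal := by
  rw [mem_maximalIdeal, mem_nonunits_iff]
  have e : IsUnit v ↔ IsUnit (lfrac 𝐆 y a hb) := by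
    rw [← h]
    exact (MulEquiv.isUnit_map (f := Proj.stalkIso' 𝐆 y) (x := v)).symm.trans (HomogeneousLocalization.isUnit_iff_isUnit_val _ _ _).symm
  rw [e, lfrac, Localization.mk_eq_mk']
  exact ((IsLocalization.AtPrime.isUnit_mk'_iff _
    (show ProjectiveSpectrum 𝐆 from y).asHomogeneousIdeal.toIdeal _ _).not.trans not_not)

/-- The linear form with given coefficients. -/
noncomputable def lin (c : Fin (n + 1) → k) : Sk := ∑ j, C (c j) * X j

theorem lin_isHomogeneous (c : Fin (n + 1) → k) : (lin c).IsHomogeneous 1 :=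
  IsHomogeneous.sum _ _ _ fun j _ => (isHomogeneous_X k j).C_mul (c j)

/-- The degree-one fraction `lin c / X i`. -/
noncomputable def ratio (y : ↥𝐏) (i : Fin (n + 1))
    (hi : (X i : Sk) ∉ (show ProjectiveSpectrum 𝐆 from y).asHomogeneousIdeal) (c : Fin (n + 1) → k) :
    𝐏.presheaf.stalk y :=
  (Proj.stalkIso' 𝐆 y).symm (.mk ⟨1, ⟨lin c, lin_isHomogeneous c⟩, ⟨X i, isHomogeneous_X k i⟩, hi⟩)

theorem sval_ratio (y : ↥𝐏) (i : Fin (n + 1))
    (hi : (X i : Sk) ∉ (show ProjectiveSpectrum 𝐆 from y).asHomogeneousIdeal) (c : Fin (n + 1) → k) :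
    sval y (ratio y i hi c) = lfrac 𝐆 y (lin c) hi := by
  rw [sval, ratio, RingEquiv.apply_symm_apply]
  exact HomogeneousLocalization.val_mk _

theorem ratio_mem_iff (y : ↥𝐏) (i : Fin (n + 1))
    (hi : (X i : Sk) ∉ (show ProjectiveSpectrum 𝐆 from y).asHomogeneousIdeal) (c : Fin (n + 1) → k) :
    ratio y i hi c ∈ maximalIdeal (𝐏.presheaf.stalk y) ↔
      lin c ∈ (show ProjectiveSpectrum 𝐆 from y).asHomogeneousIdeal :=
  mem_maximalIdeal_iff y _ hi (sval_ratio y i hi c)

variable [IsAlgClosed k]

/-- At a closed point every variable is congruent to a multiple of one outside the point. -/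
theorem exists_coord {y : ↥𝐏} (hy : IsClosed ({y} : Set ↥𝐏)) (i : Fin (n + 1))
    (hi : (X i : Sk) ∉ (show ProjectiveSpectrum 𝐆 from y).asHomogeneousIdeal) :
    ∃ a : Fin (n + 1) → k, ∀ j, lin (fun l => (if l = j then 1 else 0) - a j * if l = i then 1 else 0) ∈
      (show ProjectiveSpectrum 𝐆 from y).asHomogeneousIdeal := by
  refine ⟨fun j => (gammaEvaluation_toGlobal_surjective (CohB1.ProjSpace.toSpec n k) hy
    (ratio y i hi fun l => if l = j then 1 else 0)).choose, fun j => ?_⟩
  have h := (gammaEvaluation_toGlobal_surjective (CohB1.ProjSpace.toSpec n k) hy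
    (ratio y i hi fun l => if l = j then 1 else 0)).choose_spec
  beta_reduce
  set a := (gammaEvaluation_toGlobal_surjective (CohB1.ProjSpace.toSpec n k) hy
    (ratio y i hi fun l => if l = j then 1 else 0)).choose
  rw [← ratio_mem_iff y i hi]
  convert h using 1
  refine sval_injective y ?_
  rw [sval_sub, sval_ratio, sval_ratio, sval_germ, toGlobal_val, lfrac, lfrac, Localization.sub_mk]
  refine Localization.mk_eq_mk_iff.mpr (Localization.r_iff_exists.mpr ⟨1, ?_⟩)
  have e1 : lin (n := n) (fun l => (if l = j then (1 : k) else 0) - a * if l = i then 1 else 0) =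
      lin (fun l => if l = j then 1 else 0) - C a * X i := by
    simp [lin, sub_mul, Finset.sum_sub_distrib, apply_ite (C (σ := Fin (n + 1)) (R := k))]
  simp only [Submonoid.coe_one, Submonoid.coe_mul, one_mul, e1]
  ring

omit [IsAlgClosed k] in
theorem sub_scaled_mem (a : Fin (n + 1) → k) (i : Fin (n + 1)) (p : Sk) :
    p - MvPolynomial.aeval (fun j => C (a j) * X i) p ∈ Ideal.span
      (Set.range fun j => (lin (fun l => (if l = j then (1 : k) else 0) - a j * if l = i then 1 else 0) : Sk)) := by
  induction p using MvPolynomial.induction_on with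
  | C c => simp
  | add p q hp hq =>
    rw [map_add, add_sub_add_comm]
    exact add_mem hp hq
  | mul_X p j hp =>
    rw [map_mul, aeval_X]
    have e1 : lin (n := n) (fun l => (if l = j then (1 : k) else 0) - a j * if l = i then 1 else 0) =
        X j - C (a j) * X i := by
      simp [lin, sub_mul, Finset.sum_sub_distrib, apply_ite (C (σ := Fin (n + 1)) (R := k))]
    have hj : X j - C (a j) * X i ∈ Ideal.span
        (Set.range fun j => (lin (fun l => (if l = j then (1 : k) else 0) - a j * if l = i then 1 else 0) : Sk)) :=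
      Ideal.subset_span ⟨j, e1⟩
    have e2 : p * X j - aeval (fun j => C (a j) * X i) p * (C (a j) * X i) =
        (p - aeval (fun j => C (a j) * X i) p) * X j +
          aeval (fun j => C (a j) * X i) p * (X j - C (a j) * X i) := by ring
    rw [e2]
    exact add_mem (Ideal.mul_mem_right _ _ hp) (Ideal.mul_mem_left _ _ hj)

omit [IsAlgClosed k] in
theorem aeval_scaled (a : Fin (n + 1) → k) (i : Fin (n + 1)) {d : ℕ} {p : Sk} (hp : p.IsHomogeneous d) :
    MvPolynomial.aeval (fun j => (C (a j) * X i : Sk)) p = C (eval a p) * X i ^ d := by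
  conv_lhs => rw [p.as_sum]
  conv_rhs => rw [p.as_sum]
  simp only [map_sum, Finset.sum_mul]
  refine Finset.sum_congr rfl fun m hm => ?_
  have hdeg : ∑ j ∈ m.support, m j = d := by
    have := hp (MvPolynomial.mem_support_iff.mp hm)
    simpa [Finsupp.weight_apply, Finsupp.sum] using this
  rw [aeval_monomial, eval_monomial, map_mul, Finsupp.prod, Finsupp.prod, map_prod]
  simp only [mul_pow, map_pow, Finset.prod_mul_distrib, Finset.prod_pow_eq_pow_sum, hdeg]
  show C _ * _ = _
  ring

/-- The ideal of a closed point is generated by linear forms. -/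
theorem exists_linear_span {y : ↥𝐏} (hy : IsClosed ({y} : Set ↥𝐏)) :
    ∃ c : Fin (n + 1) → Fin (n + 1) → k,
      (∀ j, lin (c j) ∈ (show ProjectiveSpectrum 𝐆 from y).asHomogeneousIdeal) ∧
        ∀ (d : ℕ) (p : Sk), p.IsHomogeneous d → p ∈ (show ProjectiveSpectrum 𝐆 from y).asHomogeneousIdeal →
          p ∈ Ideal.span (Set.range fun j => lin (c j)) := by
  obtain ⟨i, hi⟩ := PSpace.exists_X_notMem (show ProjectiveSpectrum 𝐆 from y)
  obtain ⟨a, ha⟩ := exists_coord hy i hi
  refine ⟨_, ha, fun d p hp hpy => ?_⟩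
  have h1 := sub_scaled_mem a i p
  rw [aeval_scaled a i hp] at h1
  have h2 : C (eval a p) * X i ^ d ∈ (show ProjectiveSpectrum 𝐆 from y).asHomogeneousIdeal.toIdeal := by
    rw [← sub_sub_cancel p (C (eval a p) * X i ^ d)]
    refine Ideal.sub_mem _ hpy (Ideal.span_le.2 ?_ h1)
    rintro _ ⟨j, rfl⟩
    exact ha j
  have h3 : eval a p = 0 := by
    by_contra hne
    rcases (show ProjectiveSpectrum 𝐆 from y).isPrime.mem_or_mem h2 with h | h
    · exact (show ProjectiveSpectrum 𝐆 from y).isPrime.ne_top
        (Ideal.eq_top_of_isUnit_mem _ h ((IsUnit.mk0 _ hne).map C))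
    · exact hi ((show ProjectiveSpectrum 𝐆 from y).isPrime.mem_of_pow_mem _ h)
  simpa [h3] using h1

/-- Linear forms separate the closed points. -/
theorem exists_lin_separating {y y' : ↥𝐏} (hy : IsClosed ({y} : Set ↥𝐏)) (hne : y' ≠ y) :
    ∃ c : Fin (n + 1) → k, lin c ∈ (show ProjectiveSpectrum 𝐆 from y).asHomogeneousIdeal ∧
      lin c ∉ (show ProjectiveSpectrum 𝐆 from y').asHomogeneousIdeal := by
  obtain ⟨c, hc, hspan⟩ := exists_linear_span hy
  by_contra hcon
  push Not at hcon
  have hle : (show ProjectiveSpectrum 𝐆 from y).asHomogeneousIdeal.toIdeal ≤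
      (show ProjectiveSpectrum 𝐆 from y').asHomogeneousIdeal.toIdeal := by
    intro p hp
    rw [← sum_homogeneousComponent p]
    refine Ideal.sum_mem _ fun d _ => ?_
    refine Ideal.span_le.2 ?_ (hspan d _ (homogeneousComponent_isHomogeneous d p)
      ((mem_iff_homogeneousComponent_mem (show ProjectiveSpectrum 𝐆 from y).asHomogeneousIdeal.isHomogeneous p).1 hp d))
    rintro _ ⟨j, rfl⟩
    exact hcon _ (hc j)
  exact hne (Set.mem_singleton_iff.mp
    ((((PSpace.specializes_iff (show ProjectiveSpectrum 𝐆 from y) y').2 hle) : y ⤳ y').mem_closed hy rfl))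

/-- The maximal ideal of a closed point is generated by fractions of linear forms. -/
theorem maximalIdeal_eq_span {y : ↥𝐏} (hy : IsClosed ({y} : Set ↥𝐏)) (i : Fin (n + 1))
    (hi : (X i : Sk) ∉ (show ProjectiveSpectrum 𝐆 from y).asHomogeneousIdeal) :
    maximalIdeal (𝐏.presheaf.stalk y) =
      Ideal.span {v | ∃ c, lin c ∈ (show ProjectiveSpectrum 𝐆 from y).asHomogeneousIdeal ∧ v = ratio y i hi c} := by
  refine le_antisymm (fun v hv => ?_) (Ideal.span_le.2 ?_)
  swap
  · rintro _ ⟨c, hc, rfl⟩
    exact (ratio_mem_iff y i hi c).2 hc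
  obtain ⟨c, hc, hspan⟩ := exists_linear_span hy
  obtain ⟨⟨d, ⟨a, ha⟩, ⟨b, hb⟩, hby⟩, hv'⟩ := HomogeneousLocalization.mk_surjective (Proj.stalkIso' 𝐆 y v)
  have hval : sval y v = lfrac 𝐆 y a hby := by
    rw [sval, ← hv']; exact HomogeneousLocalization.val_mk _
  have hay := (mem_maximalIdeal_iff y v hby hval).1 hv
  cases d with
  | zero =>
    have ha' : a = C (coeff 0 a) := maximalIdeal_eq_span.eq_C_of_isHomogeneous_zero ha
    have ha0 : coeff 0 a = 0 := by
      by_contra hne
      exact (show ProjectiveSpectrum 𝐆 from y).isPrime.ne_top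
        (Ideal.eq_top_of_isUnit_mem _ (ha' ▸ hay) ((IsUnit.mk0 _ hne).map C))
    have hv0 : v = 0 := by
      refine sval_injective y (hval.trans ?_)
      rw [ha', ha0, map_zero, lfrac, Localization.mk_zero, sval]
      exact ((congrArg HomogeneousLocalization.val (map_zero (Proj.stalkIso' 𝐆 y))).trans (HomogeneousLocalization.val_zero)).symm
    rw [hv0]
    exact zero_mem _
  | succ e =>
    obtain ⟨g, hg⟩ := Submodule.mem_span_range_iff_exists_fun Sk |>.1 (hspan _ a ha hay)
    simp only [smul_eq_mul] at hg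
    have hsum : a = ∑ j, homogeneousComponent e (g j) * lin (c j) := by
      conv_lhs => rw [← DirectSum.decompose_of_mem_same 𝐆 ha, ← GradedRing.proj_apply, ← hg, map_sum]
      refine Finset.sum_congr rfl fun j _ => ?_
      rw [GradedRing.proj_apply,
        DirectSum.coe_decompose_mul_of_right_mem 𝐆 (e + 1) (lin_isHomogeneous (c j) : lin (c j) ∈ 𝐆 1),
        if_pos (Nat.le_add_left 1 e), Nat.add_sub_cancel]
      congr 1
      exact MvPolynomial.decomposition.decompose'_apply (g j) e
    have hw : ∀ j, ∃ w : 𝐏.presheaf.stalk y,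
        sval y w = lfrac 𝐆 y (homogeneousComponent e (g j) * X i) hby := fun j =>
      ⟨(Proj.stalkIso' 𝐆 y).symm (.mk ⟨e + 1,
          ⟨homogeneousComponent e (g j) * X i, (homogeneousComponent_isHomogeneous e (g j)).mul (isHomogeneous_X k i)⟩,
          ⟨b, hb⟩, hby⟩),
        by rw [sval, RingEquiv.apply_symm_apply]; exact HomogeneousLocalization.val_mk _⟩
    choose w hw using hw
    have hv2 : v = ∑ j, w j * ratio y i hi (c j) := by
      refine sval_injective y ?_
      have hs : sval y (∑ j, w j * ratio y i hi (c j)) = ∑ j, sval y (w j * ratio y i hi (c j)) :=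
        map_sum (AddMonoidHom.mk' (sval y) (sval_add y)) _ _
      rw [hs, hval, hsum]
      simp only [lfrac, Localization.mk_sum]
      refine Finset.sum_congr rfl fun j _ => ?_
      rw [sval_mul, hw, sval_ratio, lfrac, lfrac, Localization.mk_mul]
      refine Localization.mk_eq_mk_iff.mpr (Localization.r_iff_exists.mpr ⟨1, ?_⟩)
      simp only [Submonoid.coe_one, Submonoid.coe_mul]
      ring
    rw [hv2]
    exact Ideal.sum_mem _ fun j _ => Ideal.mul_mem_left _ _ (Ideal.subset_span ⟨_, hc j, rfl⟩)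
where
  eq_C_of_isHomogeneous_zero {p : Sk} (hp : p.IsHomogeneous 0) : p = C (coeff 0 p) := by
    rw [← homogeneousComponent_zero]
    exact ((homogeneousComponent_of_mem hp).trans (if_pos rfl)).symm

end Groth.Cycles.ProjSep
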