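import Groth.Agent.Pi1Quot.Basic

/-! Transporting quotients along isomorphisms of the source. -/

set_option autoImplicit false
set_option backward.isDefEq.respectTransparency false

universe u

open CategoryTheory AlgebraicGeometry

namespace Groth.Cycles.QuotTransport

theorem isQuot_iso_comp {X X' Y : Scheme.{u}} {G : Type u} [Group G] {ρ : G →* Aut X} {ρ' : G →* Aut X'}
    {p : X ⟶ Y} (hp : SGA1.IsQuot ρ p) (θ : X' ⟶ X) [IsIso θ]
    (hθ : ∀ g, (ρ' g).hom ≫ θ = θ ≫ (ρ g).hom) : SGA1.IsQuot ρ' (θ ≫ p) := by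
  have := hp.affine
  have hinv : ∀ g, (ρ' g).hom ≫ θ ≫ p = θ ≫ p := fun g => by
    rw [← Category.assoc, hθ, Category.assoc, hp.inv]
  have hbij : ∀ U : Y.Opens, Function.Bijective (θ.app (p ⁻¹ᵁ U)) := fun U =>
    ConcreteCategory.bijective_of_isIso _
  refine ⟨inferInstance, hinv, fun U => ?_, fun U s => ⟨?_, fun hs => ?_⟩⟩
  · rw [Scheme.Hom.comp_app]
    exact (hbij U).1.comp (hp.injective U)
  · rintro ⟨b, rfl⟩
    exact (Groth.Pi1Quot.forall_smul_iff hinv U _).1 fun g => Groth.Pi1Quot.sectionHom_app hinv U g b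
  · obtain ⟨s₀, rfl⟩ := (hbij U).2 s
    obtain ⟨b, rfl⟩ := (hp.range_iff U s₀).2 fun g => by
      refine (hbij U).1 (Eq.trans ?_ (hs g))
      show ((ρ g).hom.appLE _ _ _ ≫ θ.app (p ⁻¹ᵁ U)) s₀ = (θ.app (p ⁻¹ᵁ U) ≫ (ρ' g).hom.appLE _ _ _) s₀
      rw [← Scheme.Hom.appLE_eq_app, Scheme.Hom.appLE_comp_appLE, Scheme.Hom.appLE_comp_appLE]
      exact RingHom.congr_fun (congrArg CommRingCat.Hom.hom
        (Groth.Pi1Quot.appLE_congr_hom (hθ g).symm _ _ _ _)) s₀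
    exact ⟨b, by rw [Scheme.Hom.comp_app]; rfl⟩

end Groth.Cycles.QuotTransport
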