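import Groth.Agent.Pi1Quot.Basic
import Groth.Agent.Pi1Quot.Residue
import Groth.Agent.HTopHyper.UnivHomeo
import Mathlib.AlgebraicGeometry.Morphisms.SchemeTheoreticallyDominant

/-!
Comparison morphisms of quotients by finite groups are universal homeomorphisms.
-/

universe u

set_option autoImplicit false

open CategoryTheory CategoryTheory.Limits AlgebraicGeometry

namespace Groth.Cycles.QuotUH

/-- `m` is universally injective if field points of the source of a surjection with the same image agree after it. -/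
theorem universallyInjective_of_fieldPoint {X Y Z : Scheme.{u}} (r : X ⟶ Y) (m : Y ⟶ Z) [Surjective r]
    (h : ∀ (K : Type u) [Field K] (a b : Spec (CommRingCat.of K) ⟶ X),
      a ≫ r ≫ m = b ≫ r ≫ m → a ≫ r = b ≫ r) : UniversallyInjective m := by
  rw [UniversallyInjective.iff_diagonal, surjective_iff]
  intro z
  let F := pullback.map (r ≫ m) (r ≫ m) m m r r (𝟙 Z) (by simp) (by simp)
  have : MorphismProperty.IsStableUnderComposition @Surjective.{u} :=
    { comp_mem := fun a b (h₁ : Surjective a) (h₂ : Surjective b) =>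
        (inferInstance : Surjective (a ≫ b)) }
  have : MorphismProperty.IsStableUnderBaseChange @Surjective.{u} := inferInstance
  have hF : Surjective F := MorphismProperty.pullbackMap (P := @Surjective.{u}) ‹_› ‹_› rfl rfl
  obtain ⟨w, rfl⟩ := hF.surj z
  let φ := (pullback (r ≫ m) (r ≫ m)).fromSpecResidueField w
  have he := h _ (φ ≫ pullback.fst _ _) (φ ≫ pullback.snd _ _) (by simp [pullback.condition])
  have h2 : φ ≫ F = (φ ≫ pullback.fst _ _ ≫ r) ≫ pullback.diagonal m := by
    apply pullback.hom_ext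
    · simp only [Category.assoc, pullback.diagonal_fst, Category.comp_id, F, pullback.map, pullback.lift_fst]
    · simp only [Category.assoc, pullback.diagonal_snd, Category.comp_id, F, pullback.map, pullback.lift_snd]
      exact (Category.assoc _ _ _).symm.trans (he.symm.trans (Category.assoc _ _ _))
  refine ⟨(φ ≫ pullback.fst _ _ ≫ r) (IsLocalRing.closedPoint _), ?_⟩
  rw [← Scheme.Hom.comp_apply, ← h2, Scheme.Hom.comp_apply, Scheme.fromSpecResidueField_apply]

theorem baseChange {X Y S S' Y' : Scheme.{u}} {G : Type u} [Group G] [Finite G]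
    (ρ : G →* Aut X) (f : X ⟶ S) (q : X ⟶ Y) (h : Y ⟶ S) (hq : q ≫ h = f) (hquot : SGA1.IsQuot ρ q)
    (g : S' ⟶ S) (ρ' : G →* Aut (pullback f g))
    (hρ' : ∀ σ : G, (ρ' σ).hom ≫ pullback.fst f g = pullback.fst f g ≫ (ρ σ).hom ∧
      (ρ' σ).hom ≫ pullback.snd f g = pullback.snd f g)
    (r : pullback f g ⟶ Y') (hr : SGA1.IsQuot ρ' r) (m : Y' ⟶ pullback h g)
    (hm1 : r ≫ m ≫ pullback.fst h g = pullback.fst f g ≫ q)
    (hm2 : r ≫ m ≫ pullback.snd h g = pullback.snd f g) :
    FlatMor.IsUnivHomeo m := by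
  subst hq
  have := Groth.Pi1Quot.surjective hr
  have := Groth.Pi1Quot.surjective hquot
  have := Groth.Pi1Quot.isIntegralHom hquot
  have hPB : IsPullback (pullback.fst (q ≫ h) g) (r ≫ m) q (pullback.fst h g) := by
    refine IsPullback.of_bot (v₂₁ := pullback.snd h g) ?_ (by rw [Category.assoc, hm1])
      (IsPullback.of_hasPullback h g)
    rw [Category.assoc, hm2]
    exact IsPullback.of_hasPullback (q ≫ h) g
  have hsurj : Surjective (r ≫ m) := MorphismProperty.of_isPullback hPB ‹Surjective q›
  have hint : IsIntegralHom (r ≫ m) := MorphismProperty.of_isPullback hPB ‹IsIntegralHom q›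
  have : Surjective m := Surjective.of_comp r m
  have : UniversallyClosed (r ≫ m) := (IsIntegralHom.iff_universallyClosed_and_isAffineHom.mp hint).1
  have : UniversallyClosed m := .of_comp_surjective r m
  have : UniversallyInjective m := by
    refine universallyInjective_of_fieldPoint r m fun K _ a b hab => ?_
    have h1 : (a ≫ pullback.fst _ _) ≫ q = (b ≫ pullback.fst _ _) ≫ q := by
      simpa only [Category.assoc, hm1] using hab =≫ pullback.fst h g
    have h2 : a ≫ pullback.snd _ _ = b ≫ pullback.snd _ _ := by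
      simpa only [Category.assoc, hm2] using hab =≫ pullback.snd h g
    obtain ⟨σ, hσ⟩ := Groth.Pi1Quot.exists_fieldPoint_smul hquot _ _ h1
    have h3 : a ≫ (ρ' σ).hom = b := by
      apply pullback.hom_ext
      · rw [Category.assoc, (hρ' σ).1, ← Category.assoc, hσ]
      · rw [Category.assoc, (hρ' σ).2, h2]
    rw [← h3, Category.assoc, hr.inv σ]
  exact Groth.HTopHyper.isUnivHomeo_of_closed m

theorem isSchemeTheoreticallyDominant_toImage {X Y : Scheme.{u}} (f : X ⟶ Y) [QuasiCompact f] :
    IsSchemeTheoreticallyDominant f.toImage := by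
  rw [isSchemeTheoreticallyDominant_iff]
  refine Scheme.IdealSheafData.ext_of_iSup_eq_top
    (fun U : Y.affineOpens => ⟨_, U.2.preimage f.imageι⟩) ?_ fun U => ?_
  · exact (Scheme.Hom.preimage_iSup f.imageι _).symm.trans (by rw [iSup_affineOpens_eq_top]; rfl)
  · rw [Scheme.Hom.ker_apply]
    simp only [Scheme.IdealSheafData.ideal_bot, Pi.bot_apply]
    exact (RingHom.injective_iff_ker_eq_bot _).1 (f.toImage_app_injective U)

theorem closedSub {X Y Z W : Scheme.{u}} {G : Type u} [Group G] [Finite G]
    (ρ : G →* Aut X) (q : X ⟶ Y) (hquot : SGA1.IsQuot ρ q)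
    (i : Z ⟶ X) [IsClosedImmersion i] (ρZ : G →* Aut Z) (hρZ : ∀ σ : G, (ρZ σ).hom ≫ i = i ≫ (ρ σ).hom)
    (r : Z ⟶ W) (hr : SGA1.IsQuot ρZ r)
    (m : W ⟶ (i ≫ q).ker.subscheme) (hm : r ≫ m ≫ (i ≫ q).ker.subschemeι = i ≫ q) :
    FlatMor.IsUnivHomeo m ∧ IsSchemeTheoreticallyDominant m := by
  have := Groth.Pi1Quot.surjective hr
  have := Groth.Pi1Quot.isIntegralHom hquot
  have : UniversallyClosed q := (IsIntegralHom.iff_universallyClosed_and_isAffineHom.mp ‹_›).1
  have he : r ≫ m = (i ≫ q).toImage := by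
    rw [← cancel_mono (i ≫ q).imageι]
    exact (Category.assoc _ _ _).trans (hm.trans (i ≫ q).toImage_imageι.symm)
  have : UniversallyClosed (i ≫ q) := inferInstance
  have hc : UniversallyClosed ((r ≫ m) ≫ (i ≫ q).ker.subschemeι) := by
    rw [Category.assoc, hm]; infer_instance
  have : UniversallyClosed (r ≫ m) := .of_comp_of_isSeparated _ (i ≫ q).ker.subschemeι
  have : UniversallyClosed m := .of_comp_surjective r m
  have hd : IsDominant (r ≫ m) := he ▸ inferInstance
  have : Surjective (r ≫ m) := ⟨Set.range_eq_univ.mp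
    ((r ≫ m).isClosedMap.isClosed_range.closure_eq.symm.trans hd.denseRange.closure_range)⟩
  have : Surjective m := Surjective.of_comp r m
  have : UniversallyInjective m := by
    refine universallyInjective_of_fieldPoint r m fun K _ a b hab => ?_
    have h1 : (a ≫ i) ≫ q = (b ≫ i) ≫ q := by
      simpa only [Category.assoc, hm] using hab =≫ (i ≫ q).ker.subschemeι
    obtain ⟨σ, hσ⟩ := Groth.Pi1Quot.exists_fieldPoint_smul hquot _ _ h1
    have h3 : a ≫ (ρZ σ).hom = b := by
      rw [← cancel_mono i, Category.assoc, hρZ, ← Category.assoc, hσ]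
    rw [← h3, Category.assoc, hr.inv σ]
  refine ⟨Groth.HTopHyper.isUnivHomeo_of_closed m, ?_⟩
  have h4 := isSchemeTheoreticallyDominant_toImage (i ≫ q)
  rw [← he, isSchemeTheoreticallyDominant_iff] at h4
  rw [isSchemeTheoreticallyDominant_iff, eq_bot_iff, ← h4]
  exact Scheme.Hom.le_ker_comp r m

end Groth.Cycles.QuotUH
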