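import Groth.Agent.Misc8.SymOrbit
import Mathlib.GroupTheory.Coset.Basic
import Mathlib.GroupTheory.Perm.Basic
import Mathlib.Data.Fintype.Perm

/-! Invariants of a mixed tensor power under the permutations preserving the type. -/

set_option autoImplicit false

universe u

open scoped TensorProduct
open PiTensorProduct Groth.Misc8.FlatTensor Groth.Misc8.SymOrbit

namespace Groth.Cycles.SymCoset

section Coset

variable {G : Type*} [Group G] [Fintype G] (H : Subgroup G) {A : Type*} [AddCommMonoid A]

/-- the sum of the conjugates over the left cosets -/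
noncomputable def cosetSum (τ : G → A → A) (a : A) : A := by
  classical exact ∑ x : G ⧸ H, τ x.out a

theorem cosetSum_def [Fintype (G ⧸ H)] (τ : G → A → A) (a : A) :
    cosetSum H τ a = ∑ x : G ⧸ H, τ x.out a := by
  unfold cosetSum
  congr 1
  exact Finset.ext fun x => by simp

theorem apply_cosetSum {F : Type*} [FunLike F A A] [AddMonoidHomClass F A A] (τ : G → F)
    (hmul : ∀ g h a, τ (g * h) a = τ g (τ h a)) {a : A} (ha : ∀ h ∈ H, τ h a = a) (g : G) :
    τ g (cosetSum H (fun g => τ g) a) = cosetSum H (fun g => τ g) a := by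
  classical
  rw [cosetSum_def, map_sum]
  refine Fintype.sum_equiv (MulAction.toPerm g) _ _ fun x => ?_
  rw [← hmul]
  have hmem : (g • x).out⁻¹ * (g * x.out) ∈ H := by
    rw [← QuotientGroup.eq, QuotientGroup.out_eq']
    conv_lhs => rw [← QuotientGroup.out_eq' x]
    rfl
  calc τ (g * x.out) a = τ ((g • x).out * ((g • x).out⁻¹ * (g * x.out))) a := by group
    _ = _ := by rw [hmul, ha _ hmem]; rfl

theorem map_cosetSum {B : Type*} [AddCommMonoid B] {F : Type*} [FunLike F A B] [AddMonoidHomClass F A B]
    (φ : F) (τ : G → A → A) (τ' : G → B → B) (h : ∀ g a, φ (τ g a) = τ' g (φ a)) (a : A) :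
    φ (cosetSum H τ a) = cosetSum H τ' (φ a) := by
  classical
  simp only [cosetSum_def, map_sum, h]

end Coset

variable {R : Type u} [CommRing R] {κ : Type} {d : ℕ} (c : Fin d → κ)

/-- permutations preserving the type `c` -/
def stab : Subgroup (Equiv.Perm (Fin d)) where
  carrier := {σ | ∀ i, c (σ i) = c i}
  one_mem' := fun _ => rfl
  mul_mem' := fun {σ τ} hσ hτ i => (hσ (τ i)).trans (hτ i)
  inv_mem' := fun {σ} hσ i => by
    conv_rhs => rw [← σ.apply_symm_apply i]
    exact (hσ (σ.symm i)).symm

theorem mem_stab {σ : Equiv.Perm (Fin d)} : σ ∈ stab c ↔ ∀ i, c (σ i) = c i := Iff.rfl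

theorem stab_symm {σ : Equiv.Perm (Fin d)} (h : σ ∈ stab c) (i : Fin d) : c (σ.symm i) = c i :=
  (stab c).inv_mem h i

variable [Fintype κ] [DecidableEq κ] {M : κ → Type u} [∀ k, AddCommGroup (M k)] [∀ k, Module R (M k)]

theorem single_eq_of_eq {k k' : κ} (h : k = k') (v : ∀ k, M k) : Pi.single k (v k) k' = v k' := by
  subst h; exact Pi.single_eq_same _ _

theorem single_single {k k' : κ} (h : k = k') (x : M k) : Pi.single k' (Pi.single k x k') = Pi.single k x := by
  subst h; rw [Pi.single_eq_same]

variable {W : Type u} [AddCommGroup W] [Module R W] (Φ : (⨂[R] i, M (c i)) ≃ₗ[R] W)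
  (τ : Equiv.Perm (Fin d) → W →ₗ[R] W)

/-- the section into the tensor power of the product -/
noncomputable def incl : W →ₗ[R] T R d (∀ k, M k) :=
  PiTensorProduct.map (fun i => LinearMap.single R M (c i)) ∘ₗ Φ.symm.toLinearMap

/-- the projection from the tensor power of the product -/
noncomputable def proj : T R d (∀ k, M k) →ₗ[R] W :=
  Φ.toLinearMap ∘ₗ PiTensorProduct.map (fun i => LinearMap.proj (c i))

/-- symmetrisation -/
noncomputable def symm : W →ₗ[R] T R d (∀ k, M k) := by
  classical
  exact ∑ x : Equiv.Perm (Fin d) ⧸ stab c,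
    (PiTensorProduct.reindex R (fun _ : Fin d => ∀ k, M k) x.out).toLinearMap ∘ₗ incl c Φ

theorem proj_tprod (v : Fin d → ∀ k, M k) : proj c Φ (tprod R v) = Φ (tprod R fun i => v i (c i)) := by
  simp [proj, PiTensorProduct.map_tprod]

variable (hτ : ∀ σ ∈ stab c, ∀ x : ∀ i, M (c i), τ σ (Φ (tprod R x)) =
  Φ (tprod R fun j => Pi.single (c (σ.symm j)) (x (σ.symm j)) (c j)))

include hτ

theorem proj_reindex {σ : Equiv.Perm (Fin d)} (hσ : σ ∈ stab c) (t : T R d (∀ k, M k)) :
    proj c Φ (PiTensorProduct.reindex R (fun _ : Fin d => ∀ k, M k) σ t) = τ σ (proj c Φ t) := by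
  induction t using PiTensorProduct.induction_on with
  | add a b ha hb => simp [ha, hb]
  | smul_tprod r v =>
    simp only [map_smul, PiTensorProduct.reindex_tprod, proj_tprod, hτ σ hσ]
    refine congrArg (fun w => r • Φ (tprod R w)) (funext fun j => ?_)
    exact (single_eq_of_eq (stab_symm c hσ j) _).symm

theorem incl_apply_perm {σ : Equiv.Perm (Fin d)} (hσ : σ ∈ stab c) (z : W) :
    incl c Φ (τ σ z) = PiTensorProduct.reindex R (fun _ : Fin d => ∀ k, M k) σ (incl c Φ z) := by
  obtain ⟨t, rfl⟩ := Φ.surjective z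
  induction t using PiTensorProduct.induction_on with
  | add a b ha hb => simp only [map_add, ha, hb]
  | smul_tprod r x =>
    simp only [map_smul, hτ σ hσ]
    simp only [incl, LinearMap.comp_apply, LinearEquiv.coe_coe, LinearEquiv.symm_apply_apply,
      PiTensorProduct.map_tprod]
    congr 1
    rw [PiTensorProduct.reindex_tprod]
    refine congrArg (PiTensorProduct.tprod R) (funext fun j => ?_)
    exact single_single (stab_symm c hσ j) _

omit hτ in
theorem proj_reindex_incl_of_not_mem {σ : Equiv.Perm (Fin d)} (hσ : σ ∉ stab c) (z : W) :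
    proj c Φ (PiTensorProduct.reindex R (fun _ : Fin d => ∀ k, M k) σ (incl c Φ z)) = 0 := by
  obtain ⟨t, rfl⟩ := Φ.surjective z
  induction t using PiTensorProduct.induction_on with
  | add a b ha hb => simp only [map_add, ha, hb, add_zero]
  | smul_tprod r x =>
    obtain ⟨i, hi⟩ : ∃ i, c (σ i) ≠ c i := by simpa [mem_stab] using hσ
    simp only [map_smul, incl, LinearMap.comp_apply, LinearEquiv.coe_coe, LinearEquiv.symm_apply_apply,
      PiTensorProduct.map_tprod, PiTensorProduct.reindex_tprod, proj_tprod]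
    rw [MultilinearMap.map_coord_zero _ (σ i) (Pi.single_eq_of_ne
      (show c (σ i) ≠ c (σ.symm (σ i)) by simpa using hi) _), map_zero, smul_zero]

omit hτ in
theorem proj_incl (z : W) : proj c Φ (incl c Φ z) = z := by
  simp only [proj, incl, LinearMap.comp_apply, ← LinearMap.comp_apply (PiTensorProduct.map _)
    (PiTensorProduct.map _), ← PiTensorProduct.map_comp]
  have : (fun i => (LinearMap.proj (c i) : (∀ k, M k) →ₗ[R] M (c i)) ∘ₗ LinearMap.single R M (c i)) =
      fun i => LinearMap.id := funext fun i => LinearMap.ext fun x => by simp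
  simp [this, PiTensorProduct.map_id]

theorem isSym_symm {z : W} (hz : ∀ σ ∈ stab c, τ σ z = z) : IsSym (symm c Φ z) := by
  classical
  intro g
  have h := apply_cosetSum (stab c)
    (fun σ => (PiTensorProduct.reindex R (fun _ : Fin d => ∀ k, M k) σ).toLinearMap) (a := incl c Φ z)
    (fun g h a => by
      induction a using PiTensorProduct.induction_on with
      | add a b ha hb => simp only [map_add, ha, hb]
      | smul_tprod r x =>
        simp only [map_smul, LinearEquiv.coe_coe, PiTensorProduct.reindex_tprod]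
        rfl)
    (fun h hh => by
      show PiTensorProduct.reindex R (fun _ : Fin d => ∀ k, M k) h _ = _
      rw [← incl_apply_perm c Φ τ hτ hh, hz h hh]) g
  simpa [cosetSum_def, symm] using h

theorem proj_symm {z : W} (hz : ∀ σ ∈ stab c, τ σ z = z) : proj c Φ (symm c Φ z) = z := by
  classical
  simp only [symm, LinearMap.coe_sum, Finset.sum_apply, LinearMap.comp_apply, LinearEquiv.coe_coe, map_sum]
  rw [Finset.sum_eq_single (QuotientGroup.mk 1)]
  · have hmem : (QuotientGroup.mk 1 : Equiv.Perm (Fin d) ⧸ stab c).out ∈ stab c := by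
      simpa using (QuotientGroup.eq.1 (QuotientGroup.out_eq' (QuotientGroup.mk 1 : Equiv.Perm (Fin d) ⧸ stab c)))
    rw [proj_reindex c Φ τ hτ hmem, proj_incl, hz _ hmem]
  · intro x _ hx
    refine proj_reindex_incl_of_not_mem c Φ (fun hm => hx ?_) z
    rw [← QuotientGroup.out_eq' x, QuotientGroup.eq]
    simpa using hm
  · simp

/-- the fixed elements -/
noncomputable def fixed : Submodule R W :=
  ⨅ σ ∈ stab c, LinearMap.eqLocus (τ σ) LinearMap.id

omit hτ in
theorem mem_fixed {z : W} : z ∈ fixed c τ ↔ ∀ σ ∈ stab c, τ σ z = z := by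
  simp [fixed, Submodule.mem_iInf]

theorem flat_fixed [∀ k, Module.Flat R (M k)] : Module.Flat R (fixed c τ) := by
  have : Module.Flat R (∀ k, M k) := Module.Flat.of_linearEquiv (DirectSum.linearEquivFunOnFintype R κ M).symm
  have := flat (R := R) (M := ∀ k, M k) d
  let i : fixed c τ →ₗ[R] Sym R (∀ k, M k) d := ((symm c Φ).comp (fixed c τ).subtype).codRestrict _ fun z =>
    mem_Sym.2 (isSym_symm c Φ τ hτ ((mem_fixed c τ).1 z.2))
  let r : Sym R (∀ k, M k) d →ₗ[R] fixed c τ := ((proj c Φ).comp (Sym R (∀ k, M k) d).subtype).codRestrict _ fun t =>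
    (mem_fixed c τ).2 fun σ hσ => by
      show τ σ (proj c Φ t) = proj c Φ t
      rw [← proj_reindex c Φ τ hτ hσ, mem_Sym.1 t.2 σ]
  exact Module.Flat.of_retract i r (LinearMap.ext fun z => Subtype.ext
    (proj_symm c Φ τ hτ ((mem_fixed c τ).1 z.2)))

/-- fixed elements are combinations of orbit sums of given generators -/
theorem mem_span_of_fixed [∀ k, Module.Flat R (M k)] {B : κ → Type u} [∀ k, Zero (B k)] (φ : ∀ k, B k → M k)
    (hφ0 : ∀ k, φ k 0 = 0) (hgen : ∀ k, Submodule.span R (Set.range (φ k)) = ⊤) {z : W}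
    (hz : ∀ σ ∈ stab c, τ σ z = z) :
    z ∈ Submodule.span R {w : W | ∃ (l : ℕ) (b : Fin l → ∀ k, B k) (v : Fin l → ℕ),
      w = ∑ h ∈ Finset.univ.filter (fun h : Fin d → Fin l => mult h = v),
        Φ (tprod R fun i => φ (c i) (b (h i) (c i)))} := by
  classical
  have : Module.Flat R (∀ k, M k) := Module.Flat.of_linearEquiv (DirectSum.linearEquivFunOnFintype R κ M).symm
  let φp : (∀ k, B k) → ∀ k, M k := fun b k => φ k (b k)
  have hgenp : Submodule.span R (Set.range φp) = ⊤ := by
    refine eq_top_iff.2 fun v _ => ?_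
    rw [← Finset.univ_sum_single v]
    refine Submodule.sum_mem _ fun k _ => ?_
    have hk : ∀ m ∈ Submodule.span R (Set.range (φ k)),
        (LinearMap.single R M k) m ∈ Submodule.span R (Set.range φp) := by
      intro m hm
      induction hm using Submodule.span_induction with
      | mem x hx =>
        obtain ⟨b, rfl⟩ := hx
        refine Submodule.subset_span ⟨Pi.single k b, funext fun k' => ?_⟩
        rcases eq_or_ne k' k with rfl | hne
        · simp [φp]
        · simp [φp, Pi.single_eq_of_ne hne, hφ0]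
      | zero => simp
      | add x y _ _ hx hy => rw [map_add]; exact Submodule.add_mem _ hx hy
      | smul a x _ hx => rw [map_smul]; exact Submodule.smul_mem _ _ hx
    exact hk _ (by rw [hgen k]; trivial)
  obtain ⟨l, x, s, hs, hxs⟩ := exists_sym_lift_one _ (isSym_symm c Φ τ hτ hz)
  choose a ha using fun j : Fin l => Finsupp.mem_span_range_iff_exists_finsupp.1
    (show x (Pi.single j 1) ∈ Submodule.span R (Set.range φp) by rw [hgenp]; trivial)
  let F := Finset.univ.biUnion fun j => (a j).support
  let e := F.equivFin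
  let g : (Fin l → R) →ₗ[R] (Fin F.card → R) := Fintype.linearCombination R fun j p => a j (e.symm p).1
  let p : (Fin F.card → R) →ₗ[R] (∀ k, M k) := Fintype.linearCombination R fun p => φp (e.symm p).1
  have hpg : p ∘ₗ g = x := by
    refine LinearMap.pi_ext' fun j => LinearMap.ext_ring ?_
    simp only [LinearMap.comp_apply, LinearMap.coe_single, g, p, Fintype.linearCombination_apply_single, one_smul]
    rw [Fintype.linearCombination_apply, ← ha j,
      e.symm.sum_comp fun q : F => a j q.1 • φp q.1, Finset.sum_coe_sort F fun q => a j q • φp q]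
    exact (Finsupp.sum_of_support_subset (a j) (Finset.subset_biUnion_of_mem (fun j => (a j).support)
        (Finset.mem_univ j)) (fun q t => t • φp q) (fun _ _ => zero_smul R _)).symm
  rw [← proj_symm c Φ τ hτ hz, ← hxs, ← hpg, Tmap, PiTensorProduct.map_comp, LinearMap.comp_apply]
  have e2 := eq_sum_esum _ (isSym_map g hs)
  simp only [Tmap] at e2
  rw [e2]
  simp only [map_sum, map_smul]
  refine Submodule.sum_mem _ fun v _ => Submodule.smul_mem _ _ (Submodule.subset_span
    ⟨F.card, fun q => (e.symm q).1, v, ?_⟩)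
  have h3 := map_esum (n := d) (R := R) p (fun q => Pi.basisFun R (Fin F.card) q) v
  simp only [Tmap] at h3
  rw [h3, esum, map_sum]
  refine Finset.sum_congr rfl fun h _ => ?_
  rw [proj_tprod]
  refine congrArg (fun w => Φ (tprod R w)) (funext fun i => ?_)
  simp [p, φp, Fintype.linearCombination_apply_single]

end Groth.Cycles.SymCoset
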