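import Groth.Prelude.Def_SymProd
import Groth.Agent.Pi1Quot.Basic
import Groth.Agent.Cycles.SymCoset
import Mathlib.RingTheory.PiTensorProduct
import Mathlib.AlgebraicGeometry.Restrict

/-! Boxes in a fibre power, their sections, and the permutations preserving their type. -/

set_option autoImplicit false
set_option backward.isDefEq.respectTransparency false

universe u

open CategoryTheory CategoryTheory.Limits AlgebraicGeometry
open scoped TensorProduct

namespace Groth.Cycles.SymBox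

variable {X S : Scheme.{u}} (f : X ⟶ S) {d : ℕ} {κ : Type} (c : Fin d → κ) (U : κ → X.Opens) (V : S.Opens)

/-- points with `i`-th component in `U (c i)` lying over `V` -/
noncomputable def boxOpen : (SymProd.fibPow f d).Opens :=
  ⟨⋂ i : Fin d, (WidePullback.π (fun _ : Fin d => f) i).base ⁻¹' (U (c i) : Set X),
    isOpen_iInter_of_finite fun i => (U (c i)).2.preimage (WidePullback.π (fun _ : Fin d => f) i).continuous⟩ ⊓
  (WidePullback.base (fun _ : Fin d => f)) ⁻¹ᵁ V

theorem mem_boxOpen {x : ↥(SymProd.fibPow f d)} :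
    x ∈ boxOpen f c U V ↔ (∀ i, (WidePullback.π (fun _ : Fin d => f) i).base x ∈ U (c i)) ∧
      (WidePullback.base (fun _ : Fin d => f)).base x ∈ V := by
  show x ∈ (_ : Set ↥(SymProd.fibPow f d)) ∩ _ ↔ _
  exact and_congr Set.mem_iInter Iff.rfl

theorem boxOpen_le_π (i : Fin d) : boxOpen f c U V ≤ (WidePullback.π (fun _ : Fin d => f) i) ⁻¹ᵁ U (c i) :=
  fun _ hx => ((mem_boxOpen f c U V).1 hx).1 i

theorem boxOpen_le_base : boxOpen f c U V ≤ (WidePullback.base (fun _ : Fin d => f)) ⁻¹ᵁ V :=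
  fun _ hx => ((mem_boxOpen f c U V).1 hx).2

theorem π_permHom (σ : Equiv.Perm (Fin d)) (x : ↥(SymProd.fibPow f d)) (i : Fin d) :
    (WidePullback.π (fun _ : Fin d => f) i).base ((SymProd.permHom f d σ).base x) =
      (WidePullback.π (fun _ : Fin d => f) (σ.symm i)).base x := by
  rw [← SymProd.permHom_π f d σ i]; rfl

theorem boxOpen_le_perm {σ : Equiv.Perm (Fin d)} (hσ : σ ∈ SymCoset.stab c) :
    boxOpen f c U V ≤ SymProd.permHom f d σ ⁻¹ᵁ boxOpen f c U V := by
  intro x hx
  obtain ⟨h1, h2⟩ := (mem_boxOpen f c U V).1 hx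
  refine (mem_boxOpen f c U V).2 ⟨fun i => ?_, ?_⟩
  · rw [π_permHom]
    have := h1 (σ.symm i)
    rwa [SymCoset.stab_symm c hσ i] at this
  · rw [← Scheme.Hom.comp_apply, SymProd.permHom_base]
    exact h2

variable {f c U V}

theorem isAffineOpen_boxOpen (hU : ∀ k, IsAffineOpen (U k)) (hV : IsAffineOpen V)
    (hUV : ∀ k, U k ≤ f ⁻¹ᵁ V) : IsAffineOpen (boxOpen f c U V) := by
  classical
  have : ∀ k, IsAffine (U k) := hU
  have : IsAffine V := hV
  let fU : ∀ i : Fin d, (U (c i) : Scheme.{u}) ⟶ V := fun i => f.resLE V (U (c i)) (hUV _)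
  have hfU : ∀ i, fU i ≫ V.ι = (U (c i)).ι ≫ f := fun i => Scheme.Hom.resLE_comp_ι f (hUV _)
  let P := widePullback (V : Scheme.{u}) (fun i : Fin d => (U (c i) : Scheme.{u})) fU
  have : IsAffine P := by
    have : ∀ i, IsAffine ((WidePullbackShape.wideCospan (V : Scheme.{u}) (fun i : Fin d => (U (c i) : Scheme.{u}))
        fU).obj i) := fun i => by
      cases i with
      | none => exact ‹IsAffine (V : Scheme.{u})›
      | some j => exact ‹∀ k, IsAffine (U k : Scheme.{u})› _
    exact Scheme.isAffine_of_isLimit _ (limit.isLimit _)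
  let W := boxOpen f c U V
  let toX : P ⟶ SymProd.fibPow f d :=
    WidePullback.lift (WidePullback.base fU ≫ V.ι)
      (fun i => WidePullback.π fU i ≫ (U (c i)).ι)
      (fun i => by rw [Category.assoc, ← hfU, WidePullback.π_arrow_assoc])
  have hπ : ∀ i, toX ≫ WidePullback.π (fun _ : Fin d => f) i = WidePullback.π fU i ≫ (U (c i)).ι :=
    WidePullback.lift_π _ _ _ _
  have hbase : toX ≫ WidePullback.base (fun _ : Fin d => f) = WidePullback.base fU ≫ V.ι :=
    WidePullback.lift_base _ _ _ _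
  have htoX : Set.range toX.base ⊆ (W : Set ↥(SymProd.fibPow f d)) := by
    rintro _ ⟨z, rfl⟩
    refine (mem_boxOpen f c U V).2 ⟨fun i => ?_, ?_⟩
    · rw [← Scheme.Hom.comp_apply toX, hπ, Scheme.Hom.comp_apply]
      exact ((WidePullback.π fU i).base z).2
    · rw [← Scheme.Hom.comp_apply toX, hbase, Scheme.Hom.comp_apply]
      exact ((WidePullback.base fU).base z).2
  let b : P ⟶ W := IsOpenImmersion.lift W.ι toX (by rw [Scheme.Opens.range_ι]; exact htoX)
  have hb : b ≫ W.ι = toX := IsOpenImmersion.lift_fac _ _ _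
  let p : ∀ i, (W : Scheme.{u}) ⟶ U (c i) := fun i =>
    (WidePullback.π (fun _ : Fin d => f) i).resLE (U (c i)) W (boxOpen_le_π f c U V i)
  have hp : ∀ i, p i ≫ (U (c i)).ι = W.ι ≫ WidePullback.π (fun _ : Fin d => f) i :=
    fun i => Scheme.Hom.resLE_comp_ι _ _
  let pb : (W : Scheme.{u}) ⟶ V :=
    (WidePullback.base (fun _ : Fin d => f)).resLE V W (boxOpen_le_base f c U V)
  have hpb : pb ≫ V.ι = W.ι ≫ WidePullback.base (fun _ : Fin d => f) := Scheme.Hom.resLE_comp_ι _ _
  let a : (W : Scheme.{u}) ⟶ P := WidePullback.lift pb p fun i => by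
    rw [← cancel_mono V.ι, Category.assoc, hfU, ← Category.assoc, hp, Category.assoc, WidePullback.π_arrow, hpb]
  have hab : a ≫ b = 𝟙 _ := by
    rw [← cancel_mono W.ι, Category.assoc, hb, Category.id_comp]
    apply WidePullback.hom_ext
    · intro i
      rw [Category.assoc, hπ, ← Category.assoc, WidePullback.lift_π, hp]
    · rw [Category.assoc, hbase, ← Category.assoc, WidePullback.lift_base, hpb]
  have hba : b ≫ a = 𝟙 _ := by
    apply WidePullback.hom_ext
    · intro i
      rw [Category.assoc, WidePullback.lift_π, Category.id_comp, ← cancel_mono (U (c i)).ι, Category.assoc, hp,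
        ← Category.assoc, hb, hπ]
    · rw [Category.assoc, WidePullback.lift_base, Category.id_comp, ← cancel_mono V.ι, Category.assoc, hpb,
        ← Category.assoc, hb, hbase]
  have : IsIso a := ⟨b, hab, hba⟩
  exact IsAffine.of_isIso a

variable (f c U V) in
/-- the structure of algebra over the base on the sections over the members of a family of opens -/
@[implicit_reducible]
noncomputable def algU (hUV : ∀ k, U k ≤ f ⁻¹ᵁ V) (k : κ) : Algebra Γ(S, V) Γ(X, U k) :=
  (f.appLE V (U k) (hUV k)).hom.toAlgebra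

variable (f c U V) in
/-- the structure of algebra over the base on the sections over a box -/
@[implicit_reducible]
noncomputable def algBox : Algebra Γ(S, V) Γ(SymProd.fibPow f d, boxOpen f c U V) :=
  ((WidePullback.base (fun _ : Fin d => f)).appLE V _ (boxOpen_le_base f c U V)).hom.toAlgebra

/-- sections over a box are the tensor product of the sections over its sides -/
theorem exists_algEquiv_box (hU : ∀ k, IsAffineOpen (U k)) (hV : IsAffineOpen V) (hUV : ∀ k, U k ≤ f ⁻¹ᵁ V) :
    letI := algU f U V hUV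
    letI := algBox f c U V
    ∃ Φ : (⨂[Γ(S, V)] i : Fin d, Γ(X, U (c i))) ≃ₐ[Γ(S, V)] Γ(SymProd.fibPow f d, boxOpen f c U V),
      ∀ x : ∀ i, Γ(X, U (c i)), Φ (PiTensorProduct.tprod Γ(S, V) x) =
        ∏ i, (WidePullback.π (fun _ : Fin d => f) i).appLE (U (c i)) _ (boxOpen_le_π f c U V i) (x i) := by
  classical
  letI := algU f U V hUV
  letI := algBox f c U V
  let R := Γ(S, V)
  let T := ⨂[R] i : Fin d, Γ(X, U (c i))
  let W := boxOpen f c U V
  have hW : IsAffineOpen W := isAffineOpen_boxOpen hU hV hUV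
  have hWV : W ≤ (WidePullback.base (fun _ : Fin d => f)) ⁻¹ᵁ V := boxOpen_le_base f c U V
  have hWU : ∀ i, W ≤ (WidePullback.π (fun _ : Fin d => f) i) ⁻¹ᵁ U (c i) := boxOpen_le_π f c U V
  let π := fun i => WidePullback.π (fun _ : Fin d => f) i
  let base := WidePullback.base (fun _ : Fin d => f)
  have hφ : ∀ i, f.appLE V (U (c i)) (hUV _) ≫ (π i).appLE (U (c i)) W (hWU i) = base.appLE V W hWV := fun i => by
    rw [Scheme.Hom.appLE_comp_appLE]
    exact Groth.Pi1Quot.appLE_congr_hom (WidePullback.π_arrow _ i) _ _ _ _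
  let φ : ∀ i : Fin d, (Γ(X, U (c i)) →ₐ[R] Γ(SymProd.fibPow f d, W)) := fun i =>
    { ((π i).appLE (U (c i)) W (hWU i)).hom with
      commutes' := fun r => RingHom.congr_fun (congrArg CommRingCat.Hom.hom (hφ i)) r }
  let Φ : T →ₐ[R] Γ(SymProd.fibPow f d, W) := PiTensorProduct.liftAlgHom
    ((MultilinearMap.mkPiAlgebra R (Fin d) Γ(SymProd.fibPow f d, W)).compLinearMap fun i => (φ i).toLinearMap)
    (by simp) (fun x y => by simp [Finset.prod_mul_distrib])
  have hΦ : ∀ x, Φ (PiTensorProduct.tprod R x) = ∏ i, φ i (x i) := fun x => by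
    show PiTensorProduct.lift _ (PiTensorProduct.tprod R x) = _
    rw [PiTensorProduct.lift.tprod]
    simp
  have hΦs : ∀ i x, Φ (PiTensorProduct.singleAlgHom i x) = φ i x := fun i x => by
    rw [PiTensorProduct.singleAlgHom_apply, hΦ, Finset.prod_eq_single i]
    · simp
    · intro j _ hji; simp [Pi.mulSingle_eq_of_ne hji]
    · simp
  let σi : ∀ i, Γ(X, U (c i)) ⟶ CommRingCat.of T := fun i =>
    CommRingCat.ofHom (PiTensorProduct.singleAlgHom (R := R) (A := fun i : Fin d => Γ(X, U (c i))) i).toRingHom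
  let ρ : Γ(S, V) ⟶ CommRingCat.of T := CommRingCat.ofHom (algebraMap R T)
  have hσ : ∀ i, f.appLE V (U (c i)) (hUV _) ≫ σi i = ρ := fun i =>
    CommRingCat.hom_ext (PiTensorProduct.singleAlgHom (R := R) (A := fun i : Fin d => Γ(X, U (c i))) i).comp_algebraMap
  let k : Spec (CommRingCat.of T) ⟶ SymProd.fibPow f d :=
    WidePullback.lift (Spec.map ρ ≫ hV.fromSpec) (fun i => Spec.map (σi i) ≫ (hU (c i)).fromSpec) (fun i => by
      rw [Category.assoc, ← IsAffineOpen.SpecMap_appLE_fromSpec f hV (hU _) (hUV _), ← Spec.map_comp_assoc, hσ])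
  have hkπ : ∀ i, k ≫ π i = Spec.map (σi i) ≫ (hU (c i)).fromSpec := WidePullback.lift_π _ _ _ _
  have hkb : k ≫ base = Spec.map ρ ≫ hV.fromSpec := WidePullback.lift_base _ _ _ _
  have hk : Set.range k.base ⊆ Set.range hW.fromSpec.base := by
    rw [IsAffineOpen.range_fromSpec]
    rintro _ ⟨z, rfl⟩
    refine (mem_boxOpen f c U V).2 ⟨fun i => ?_, ?_⟩
    · show (π i).base (k.base z) ∈ (U (c i) : Set X)
      rw [← Scheme.Hom.comp_apply, hkπ, ← (hU (c i)).range_fromSpec, Scheme.Hom.comp_apply]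
      exact Set.mem_range_self _
    · show base.base (k.base z) ∈ (V : Set S)
      rw [← Scheme.Hom.comp_apply, hkb, ← hV.range_fromSpec, Scheme.Hom.comp_apply]
      exact Set.mem_range_self _
  let ψ := Spec.preimage (IsOpenImmersion.lift hW.fromSpec k hk)
  have hψ : Spec.map ψ ≫ hW.fromSpec = k := by
    rw [Spec.map_preimage]; exact IsOpenImmersion.lift_fac _ _ _
  have hψπ : ∀ i, (π i).appLE (U (c i)) W (hWU i) ≫ ψ = σi i := fun i => by
    refine Spec.map_injective ((cancel_mono (hU (c i)).fromSpec).1 ?_)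
    rw [Spec.map_comp, Category.assoc, IsAffineOpen.SpecMap_appLE_fromSpec (π i) (hU _) hW, ← Category.assoc, hψ,
      hkπ]
  have hψb : base.appLE V W hWV ≫ ψ = ρ := by
    refine Spec.map_injective ((cancel_mono hV.fromSpec).1 ?_)
    rw [Spec.map_comp, Category.assoc, IsAffineOpen.SpecMap_appLE_fromSpec base hV hW, ← Category.assoc, hψ,
      hkb]
  let Ψ : Γ(SymProd.fibPow f d, W) →ₐ[R] T :=
    { ψ.hom with commutes' := fun r => RingHom.congr_fun (congrArg CommRingCat.Hom.hom hψb) r }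
  have h1 : Ψ.comp Φ = AlgHom.id R T := by
    refine PiTensorProduct.algHom_ext fun i => AlgHom.ext fun x => ?_
    show Ψ (Φ (PiTensorProduct.singleAlgHom i x)) = PiTensorProduct.singleAlgHom i x
    rw [hΦs]
    exact RingHom.congr_fun (congrArg CommRingCat.Hom.hom (hψπ i)) x
  have h2 : ψ ≫ CommRingCat.ofHom Φ.toRingHom = 𝟙 _ := by
    refine Spec.map_injective ((cancel_mono hW.fromSpec).1 ?_)
    rw [Spec.map_comp, Category.assoc, hψ, Spec.map_id]
    refine Eq.trans ?_ (Category.id_comp _).symm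
    apply WidePullback.hom_ext
    · intro i
      rw [Category.assoc]
      show _ ≫ k ≫ π i = hW.fromSpec ≫ π i
      rw [hkπ, ← Spec.map_comp_assoc, ← IsAffineOpen.SpecMap_appLE_fromSpec (π i) (hU _) hW (hWU i)]
      congr 2
      exact CommRingCat.hom_ext (RingHom.ext fun x => hΦs i x)
    · rw [Category.assoc]
      show _ ≫ k ≫ base = hW.fromSpec ≫ base
      rw [hkb, ← Spec.map_comp_assoc, ← IsAffineOpen.SpecMap_appLE_fromSpec base hV hW hWV]
      congr 2
      exact CommRingCat.hom_ext Φ.comp_algebraMap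
  exact ⟨AlgEquiv.ofAlgHom Φ Ψ (AlgHom.ext fun b => RingHom.congr_fun (congrArg CommRingCat.Hom.hom h2) b) h1,
    fun x => hΦ x⟩

variable (f) in
/-- the action of a permutation on the sections over an open stable under it -/
noncomputable def pAct (E : (SymProd.fibPow f d).Opens) (σ : Equiv.Perm (Fin d))
    (e : E ≤ SymProd.permHom f d σ.symm ⁻¹ᵁ E) : Γ(SymProd.fibPow f d, E) →+* Γ(SymProd.fibPow f d, E) :=
  ((SymProd.permHom f d σ.symm).appLE E E e).hom

theorem pAct_base {E : (SymProd.fibPow f d).Opens} (σ : Equiv.Perm (Fin d))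
    (e : E ≤ SymProd.permHom f d σ.symm ⁻¹ᵁ E) (hE : E ≤ (WidePullback.base (fun _ : Fin d => f)) ⁻¹ᵁ V)
    (r : Γ(S, V)) :
    pAct f E σ e ((WidePullback.base (fun _ : Fin d => f)).appLE V E hE r) =
      (WidePullback.base (fun _ : Fin d => f)).appLE V E hE r := by
  show (((WidePullback.base (fun _ : Fin d => f)).appLE V E hE) ≫
    (SymProd.permHom f d σ.symm).appLE E E e) r = _
  rw [Scheme.Hom.appLE_comp_appLE, Groth.Pi1Quot.appLE_congr_hom (SymProd.permHom_base f d σ.symm) V E _ hE]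

theorem pAct_π {E : (SymProd.fibPow f d).Opens} (σ : Equiv.Perm (Fin d))
    (e : E ≤ SymProd.permHom f d σ.symm ⁻¹ᵁ E) (i : Fin d) {O : X.Opens}
    (h : E ≤ (WidePullback.π (fun _ : Fin d => f) i) ⁻¹ᵁ O)
    (h' : E ≤ (WidePullback.π (fun _ : Fin d => f) (σ i)) ⁻¹ᵁ O) (x : Γ(X, O)) :
    pAct f E σ e ((WidePullback.π (fun _ : Fin d => f) i).appLE O E h x) =
      (WidePullback.π (fun _ : Fin d => f) (σ i)).appLE O E h' x := by
  show (((WidePullback.π (fun _ : Fin d => f) i).appLE O E h) ≫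
    (SymProd.permHom f d σ.symm).appLE E E e) x = _
  rw [Scheme.Hom.appLE_comp_appLE,
    Groth.Pi1Quot.appLE_congr_hom (SymProd.permHom_π f d σ.symm i) O E _ h']
  rfl

theorem pAct_box [DecidableEq κ] {σ : Equiv.Perm (Fin d)} (hσ : σ ∈ SymCoset.stab c) (x : ∀ i, Γ(X, U (c i))) :
    pAct f (boxOpen f c U V) σ (boxOpen_le_perm f c U V ((SymCoset.stab c).inv_mem hσ))
      (∏ i, (WidePullback.π (fun _ : Fin d => f) i).appLE (U (c i)) _ (boxOpen_le_π f c U V i) (x i)) =
    ∏ j, (WidePullback.π (fun _ : Fin d => f) j).appLE (U (c j)) _ (boxOpen_le_π f c U V j)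
      (Pi.single (M := fun k => Γ(X, U k)) (c (σ.symm j)) (x (σ.symm j)) (c j)) := by
  rw [map_prod]
  refine Fintype.prod_equiv σ _ _ fun i => ?_
  rw [pAct_π σ _ i _ ((boxOpen_le_π f c U V (σ i)).trans (by rw [hσ i]))]
  have key : ∀ (k k' : κ) (h : k = k') (y : Γ(X, U k))
      (e₁ : boxOpen f c U V ≤ (WidePullback.π (fun _ : Fin d => f) (σ i)) ⁻¹ᵁ U k)
      (e₂ : boxOpen f c U V ≤ (WidePullback.π (fun _ : Fin d => f) (σ i)) ⁻¹ᵁ U k'),
      (WidePullback.π (fun _ : Fin d => f) (σ i)).appLE (U k) _ e₁ y =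
        (WidePullback.π (fun _ : Fin d => f) (σ i)).appLE (U k') _ e₂
          (Pi.single (M := fun k => Γ(X, U k)) k y k') := by
    intro k k' h y e₁ e₂
    subst h
    rw [Pi.single_eq_same]
  have key2 : ∀ (i' : Fin d) (hi : i' = i),
      (Pi.single (M := fun k => Γ(X, U k)) (c i') (x i') : ∀ k, Γ(X, U k)) = Pi.single (c i) (x i) := by
    rintro i' rfl; rfl
  rw [key2 _ (σ.symm_apply_apply i)]
  exact key _ _ (hσ i).symm _ _ _

end Groth.Cycles.SymBox
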