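import Groth.Agent.Cycles.SymBox
import Groth.Agent.Misc5Sym.BaseChangeSquare
import Mathlib.AlgebraicGeometry.Morphisms.ClosedImmersion
import Mathlib.AlgebraicGeometry.IdealSheaf.Functorial

/-! Comparison data for fibre powers: closed subschemes of base changes. -/

set_option autoImplicit false
set_option backward.isDefEq.respectTransparency false

universe u

open CategoryTheory CategoryTheory.Limits AlgebraicGeometry
open scoped TensorProduct

namespace Groth.Cycles.SymClosed

/-- fibre powers of closed immersions are closed immersions -/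
theorem isClosedImmersion_fibPowMap {X' X S : Scheme.{u}} (f' : X' ⟶ S) (f : X ⟶ S) (d : ℕ) (l : X' ⟶ X)
    (w : l ≫ f = f') [IsClosedImmersion l] : IsClosedImmersion (SymProd.fibPowMap f' d f l w) := by
  let π := fun i => WidePullback.π (fun _ : Fin d => f) i
  let m := SymProd.fibPowMap f' d f l w
  let I : (SymProd.fibPow f d).IdealSheafData := ⨆ i, l.ker.comap (π i)
  let j := I.subschemeι
  have hj : ∀ i, l.ker ≤ (j ≫ π i).ker := fun i => by
    rw [← Scheme.IdealSheafData.map_ker, Scheme.IdealSheafData.ker_subschemeι,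
      Scheme.IdealSheafData.le_map_iff_comap_le]
    exact le_iSup (fun i => l.ker.comap (π i)) i
  let u : I.subscheme ⟶ SymProd.fibPow f' d :=
    WidePullback.lift (j ≫ WidePullback.base (fun _ : Fin d => f))
      (fun i => IsClosedImmersion.lift l (j ≫ π i) (hj i)) (fun i => by
        conv_lhs => rw [← w, ← Category.assoc, IsClosedImmersion.lift_fac, Category.assoc]
        simp [π, WidePullback.π_arrow])
  have hI : j.ker ≤ m.ker := by
    rw [Scheme.IdealSheafData.ker_subschemeι]
    refine iSup_le fun i => ?_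
    rw [← Scheme.IdealSheafData.le_map_iff_comap_le, Scheme.IdealSheafData.map_ker,
      show m ≫ π i = WidePullback.π (fun _ : Fin d => f') i ≫ l from SymProd.fibPowMap_π _ _ _ _ _ i]
    exact Scheme.Hom.le_ker_comp _ _
  let v := IsClosedImmersion.lift j m hI
  have hv : v ≫ j = m := IsClosedImmersion.lift_fac _ _ _
  have hu : u ≫ m = j := by
    apply WidePullback.hom_ext
    · intro i
      rw [Category.assoc]
      show u ≫ SymProd.fibPowMap f' d f l w ≫ _ = _
      rw [SymProd.fibPowMap_π, WidePullback.lift_π_assoc, IsClosedImmersion.lift_fac]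
    · rw [Category.assoc]
      show u ≫ SymProd.fibPowMap f' d f l w ≫ _ = _
      rw [SymProd.fibPowMap_base, WidePullback.lift_base]
  have h1 : u ≫ v = 𝟙 _ := by rw [← cancel_mono j, Category.assoc, hv, hu, Category.id_comp]
  have h2 : v ≫ u = 𝟙 _ := by
    have h : (v ≫ u) ≫ m = m := by rw [Category.assoc, hu, hv]
    apply WidePullback.hom_ext
    · intro i
      rw [← cancel_mono l, Category.id_comp, Category.assoc, ← SymProd.fibPowMap_π f' d f l w i, ← Category.assoc, h]
    · rw [Category.id_comp, ← SymProd.fibPowMap_base f' d f l w, ← Category.assoc, h]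
  have : IsIso v := ⟨u, h2, h1⟩
  show IsClosedImmersion m
  rw [← hv]
  infer_instance

/-- affineness and generation of sections for a closed subscheme of a fibre product -/
theorem sections_closed {P S S' P' : Scheme.{u}} {p : P ⟶ S} {b : S' ⟶ S} {p' : P' ⟶ S'} {Φ : P' ⟶ P}
    (w : Φ ≫ p = p' ≫ b) [IsClosedImmersion (pullback.lift Φ p' w)] {O : P.Opens} {V : S.Opens} {V' : S'.Opens}
    (hO : IsAffineOpen O) (hV : IsAffineOpen V) (hV' : IsAffineOpen V') (hOV : O ≤ p ⁻¹ᵁ V)
    (hV'V : V' ≤ b ⁻¹ᵁ V) :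
    IsAffineOpen (Φ ⁻¹ᵁ O ⊓ p' ⁻¹ᵁ V') ∧
      ∀ z : Γ(P', Φ ⁻¹ᵁ O ⊓ p' ⁻¹ᵁ V'), z ∈ AddSubgroup.closure
        {x | ∃ (r : Γ(S', V')) (o : Γ(P, O)),
          x = p'.appLE V' (Φ ⁻¹ᵁ O ⊓ p' ⁻¹ᵁ V') inf_le_right r * Φ.appLE O (Φ ⁻¹ᵁ O ⊓ p' ⁻¹ᵁ V') inf_le_left o} := by
  let l := pullback.lift Φ p' w
  let D := (pullback.fst p b) ⁻¹ᵁ O ⊓ (pullback.snd p b) ⁻¹ᵁ V'
  have hD : IsAffineOpen D := by
    have : IsAffine (O : Scheme.{u}) := hO
    have : IsAffine (V' : Scheme.{u}) := hV'
    have : IsAffine (V : Scheme.{u}) := hV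
    exact .of_isIso (Scheme.Hom.isPullback_resLE (IsPullback.of_hasPullback p b) (US := V) (UT := V') (UX := O)
      hV'V hOV (UY := D) rfl).isoPullback.hom
  have hE : l ⁻¹ᵁ D = Φ ⁻¹ᵁ O ⊓ p' ⁻¹ᵁ V' := by
    rw [Scheme.Hom.preimage_inf, ← Scheme.Hom.comp_preimage, ← Scheme.Hom.comp_preimage, pullback.lift_fst,
      pullback.lift_snd]
  refine ⟨hE ▸ hD.preimage l, fun z => ?_⟩
  letI : Algebra Γ(S, V) Γ(S', V') := (b.appLE V V' hV'V).hom.toAlgebra
  letI : Algebra Γ(S, V) Γ(P, O) := (p.appLE V O hOV).hom.toAlgebra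
  obtain ⟨e, he⟩ := Groth.Misc5Sym.exists_sections_tensor (IsPullback.of_hasPullback p b) hV'V hOV hV hV' hO
    (UY := D) rfl inf_le_left inf_le_right
  have hsurj : Function.Surjective (l.appLE D (Φ ⁻¹ᵁ O ⊓ p' ⁻¹ᵁ V') hE.ge) := by
    have : IsIso (P'.presheaf.map (homOfLE hE.ge).op) := by
      rw [Subsingleton.elim (homOfLE hE.ge).op (eqToHom hE.symm).op]
      infer_instance
    exact (ConcreteCategory.bijective_of_isIso (P'.presheaf.map (homOfLE hE.ge).op)).2.comp
      (Scheme.Hom.app_surjective l D hD)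
  obtain ⟨t, rfl⟩ := hsurj z
  obtain ⟨t, rfl⟩ := e.surjective t
  induction t using TensorProduct.induction_on with
  | zero => simp only [map_zero]; exact zero_mem _
  | add x y hx hy => rw [map_add, map_add]; exact add_mem hx hy
  | tmul r o =>
    refine AddSubgroup.subset_closure ⟨r, o, ?_⟩
    rw [he, map_mul]
    congr 1
    · show ((pullback.snd p b).appLE V' D _ ≫ l.appLE D (Φ ⁻¹ᵁ O ⊓ p' ⁻¹ᵁ V') hE.ge) r = _
      rw [Scheme.Hom.appLE_comp_appLE,
        Groth.Pi1Quot.appLE_congr_hom (show l ≫ pullback.snd p b = p' from pullback.lift_snd _ _ _) _ _ _ inf_le_right]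
    · show ((pullback.fst p b).appLE O D _ ≫ l.appLE D (Φ ⁻¹ᵁ O ⊓ p' ⁻¹ᵁ V') hE.ge) o = _
      rw [Scheme.Hom.appLE_comp_appLE,
        Groth.Pi1Quot.appLE_congr_hom (show l ≫ pullback.fst p b = Φ from pullback.lift_fst _ _ _) _ _ _ inf_le_left]

/-- a closed subscheme of a base change of `X`, and the induced map of fibre powers -/
structure Cmp {X S : Scheme.{u}} (f : X ⟶ S) (d : ℕ) where
  X' : Scheme.{u}
  S' : Scheme.{u}
  f' : X' ⟶ S'
  h : X' ⟶ X
  b : S' ⟶ S
  w : h ≫ f = f' ≫ b
  closed : IsClosedImmersion (pullback.lift h f' w)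

namespace Cmp

variable {X S : Scheme.{u}} {f : X ⟶ S} {d : ℕ} (C : Cmp f d)

/-- the map of fibre powers -/
noncomputable def Φ : SymProd.fibPow C.f' d ⟶ SymProd.fibPow f d :=
  WidePullback.lift (WidePullback.base (fun _ : Fin d => C.f') ≫ C.b)
    (fun i => WidePullback.π (fun _ : Fin d => C.f') i ≫ C.h)
    (fun i => by rw [Category.assoc, C.w, WidePullback.π_arrow_assoc])

theorem Φ_π (i : Fin d) :
    C.Φ ≫ WidePullback.π (fun _ : Fin d => f) i = WidePullback.π (fun _ : Fin d => C.f') i ≫ C.h :=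
  WidePullback.lift_π _ _ _ _ i

theorem Φ_base :
    C.Φ ≫ WidePullback.base (fun _ : Fin d => f) = WidePullback.base (fun _ : Fin d => C.f') ≫ C.b :=
  WidePullback.lift_base _ _ _ _

theorem perm_Φ (σ : Equiv.Perm (Fin d)) :
    SymProd.permHom C.f' d σ ≫ C.Φ = C.Φ ≫ SymProd.permHom f d σ := by
  apply WidePullback.hom_ext
  · intro i
    simp only [Category.assoc, SymProd.permHom_π, Φ_π, SymProd.permHom_π_assoc]
  · simp only [Category.assoc, SymProd.permHom_base, Φ_base, SymProd.permHom_base_assoc]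

theorem isClosedImmersion_lift_Φ :
    IsClosedImmersion (pullback.lift C.Φ (WidePullback.base (fun _ : Fin d => C.f')) C.Φ_base) := by
  have := C.closed
  let l := pullback.lift C.h C.f' C.w
  let c : SymProd.fibPow (pullback.snd f C.b) d ⟶ SymProd.fibPow f d :=
    WidePullback.lift (WidePullback.base (fun _ : Fin d => pullback.snd f C.b) ≫ C.b)
      (fun i => WidePullback.π (fun _ : Fin d => pullback.snd f C.b) i ≫ pullback.fst f C.b)
      (fun i => by rw [Category.assoc, pullback.condition, WidePullback.π_arrow_assoc])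
  have hc := Groth.Misc5Sym.isPullback_fibPow f C.b d c (fun i => WidePullback.lift_π _ _ _ _ i)
    (WidePullback.lift_base _ _ _ _)
  have := isClosedImmersion_fibPowMap C.f' (pullback.snd f C.b) d l (pullback.lift_snd _ _ _)
  have e : pullback.lift C.Φ (WidePullback.base (fun _ : Fin d => C.f')) C.Φ_base =
      SymProd.fibPowMap C.f' d (pullback.snd f C.b) l (pullback.lift_snd _ _ _) ≫ hc.isoPullback.hom := by
    apply pullback.hom_ext
    · rw [pullback.lift_fst, Category.assoc, IsPullback.isoPullback_hom_fst]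
      apply WidePullback.hom_ext
      · intro i
        rw [Category.assoc, WidePullback.lift_π, SymProd.fibPowMap_π_assoc, pullback.lift_fst, Φ_π]
      · rw [Category.assoc, WidePullback.lift_base, SymProd.fibPowMap_base_assoc, Φ_base]
    · rw [pullback.lift_snd, Category.assoc, IsPullback.isoPullback_hom_snd, SymProd.fibPowMap_base]
  rw [e]
  infer_instance

end Cmp

end Groth.Cycles.SymClosed
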