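import Groth.Agent.Cycles.SymInv
import Groth.Agent.Misc5Sym.QuotAffine
import Mathlib.AlgebraicGeometry.Morphisms.IsIso
import Mathlib.AlgebraicGeometry.Fiber

/-! Comparison morphisms out of symmetric products of closed subschemes of base changes. -/

set_option autoImplicit false
set_option backward.isDefEq.respectTransparency false

universe u

open CategoryTheory CategoryTheory.Limits AlgebraicGeometry
open Groth.Cycles.SymBox Groth.Cycles.SymCoset Groth.Cycles.SymLocal Groth.Cycles.SymClosed Groth.Cycles.SymInv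

namespace Groth.Cycles.SymCompare

theorem residueFieldMap_range_le {A B T : Scheme.{u}} {t : A ⟶ T} {s : T ⟶ B} {w : A ⟶ B} (h : t ≫ s = w) (x : A) :
    Set.range (w.residueFieldMap x) ⊆ Set.range (t.residueFieldMap x) := by
  subst h
  rintro _ ⟨r, rfl⟩
  exact ⟨s.residueFieldMap (t x) r, by rw [Scheme.residueFieldMap_comp]; rfl⟩

theorem residueFieldMap_surjective_of_preimmersion {A B : Scheme.{u}} (ι : A ⟶ B) [IsPreimmersion ι] (x : A) :
    Function.Surjective (ι.residueFieldMap x) := by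
  intro z
  obtain ⟨a, rfl⟩ := A.residue_surjective x z
  obtain ⟨b, rfl⟩ := ι.stalkMap_surjective x a
  exact ⟨B.residue (ι x) b, RingHom.congr_fun (congrArg CommRingCat.Hom.hom (Scheme.residue_residueFieldMap ι x)) b⟩

theorem evaluation_appLE {A B : Scheme.{u}} (w : A ⟶ B) {U : B.Opens} {E : A.Opens} (e : E ≤ w ⁻¹ᵁ U)
    (x : A) (hx : x ∈ E) (b : Γ(B, U)) :
    A.evaluation E x hx (w.appLE U E e b) = w.residueFieldMap x (B.evaluation U (w x) (e hx) b) := by
  rw [Scheme.evaluation_naturality_apply]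
  show A.residue x (A.presheaf.germ E x hx (A.presheaf.map (homOfLE e).op (w.app U b))) =
    A.residue x (A.presheaf.germ (w ⁻¹ᵁ U) x (e hx) (w.app U b))
  rw [TopCat.Presheaf.germ_res_apply]

variable {X S : Scheme.{u}} {f : X ⟶ S} {d : ℕ} {C : Cmp f d}
  {Y : Scheme.{u}} {q : SymProd.fibPow f d ⟶ Y} (hq : SGA1.IsQuot (SymProd.permActU f d) q)
  {g : Y ⟶ S} (hg : q ≫ g = WidePullback.base (fun _ : Fin d => f))
  {T : Scheme.{u}} (t : SymProd.fibPow C.f' d ⟶ T) (σT : T ⟶ C.S') (tY : T ⟶ Y)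
  (hσT : t ≫ σT = WidePullback.base (fun _ : Fin d => C.f')) (htY : t ≫ tY = C.Φ ≫ q)
  {W₀ : Y.Opens} {V : S.Opens} {V' : C.S'.Opens}
  (hV : IsAffineOpen V) (hW₀ : IsAffineOpen W₀) (hWV : W₀ ≤ g ⁻¹ᵁ V) (hV'a : IsAffineOpen V')
  (hV' : V' ≤ C.b ⁻¹ᵁ V)

include hσT htY in
theorem preimage_eq : t ⁻¹ᵁ (tY ⁻¹ᵁ W₀ ⊓ σT ⁻¹ᵁ V') = part C (q := q) W₀ V' := by
  rw [Scheme.Hom.preimage_inf, ← Scheme.Hom.comp_preimage, ← Scheme.Hom.comp_preimage, hσT, htY,
    Scheme.Hom.comp_preimage]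

include hq hg hσT htY hV hW₀ hWV hV'a hV'

/-- invariant sections in the generated subring come from the target -/
theorem exists_appLE_eq (e : part C (q := q) W₀ V' ≤ t ⁻¹ᵁ (tY ⁻¹ᵁ W₀ ⊓ σT ⁻¹ᵁ V'))
    {a : Γ(SymProd.fibPow C.f' d, part C (q := q) W₀ V')} (ha : a ∈ gen C (q := q) W₀ V') :
    ∃ d₀, t.appLE _ _ e d₀ = a := by
  suffices gen C (q := q) W₀ V' ≤ (t.appLE _ _ e).hom.range from this ha
  refine Subring.closure_le.2 ?_
  rintro _ (⟨r, rfl⟩ | ⟨b, rfl⟩)
  · refine ⟨σT.appLE V' _ inf_le_right r, ?_⟩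
    show (σT.appLE V' _ _ ≫ t.appLE _ _ e) r = _
    rw [Scheme.Hom.appLE_comp_appLE, Groth.Pi1Quot.appLE_congr_hom hσT _ _ _ inf_le_right]
  · refine ⟨tY.appLE W₀ _ inf_le_left b, ?_⟩
    show (tY.appLE W₀ _ _ ≫ t.appLE _ _ e) b = (q.app W₀ ≫ C.Φ.appLE _ _ _) b
    rw [Scheme.Hom.appLE_comp_appLE, ← Scheme.Hom.appLE_eq_app, Scheme.Hom.appLE_comp_appLE,
      Groth.Pi1Quot.appLE_congr_hom htY _ _ _]

/-- in characteristic zero invariant sections come from the quotient and the base -/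
theorem mem_gen_of_isUnit (hn : IsUnit ((Nat.factorial d : ℕ) : Γ(C.S', V')))
    (a : Γ(SymProd.fibPow C.f' d, part C (q := q) W₀ V'))
    (ha : ∀ σ, pAct C.f' _ σ (part_le_perm C hq W₀ V' _) a = a) : a ∈ gen C (q := q) W₀ V' := by
  classical
  let E := part C (q := q) W₀ V'
  let τ' : Equiv.Perm (Fin d) → Γ(SymProd.fibPow C.f' d, E) →+* Γ(SymProd.fibPow C.f' d, E) :=
    fun σ => pAct C.f' E σ (part_le_perm C hq W₀ V' _)
  let tr : Γ(SymProd.fibPow C.f' d, E) →+ Γ(SymProd.fibPow C.f' d, E) :=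
    ∑ σ : Equiv.Perm (Fin d), (τ' σ).toAddMonoidHom
  have htr : ∀ x, tr x = ∑ σ : Equiv.Perm (Fin d), τ' σ x := fun x => by
    simp [tr, AddMonoidHom.finsetSum_apply]
  have h1 : tr a ∈ gen C (q := q) W₀ V' := by
    refine (AddSubgroup.closure_le ((gen C (q := q) W₀ V').toAddSubgroup.comap tr)).2 ?_
      ((isAffineOpen_part C hq W₀ V' hg hV hW₀ hWV hV'a hV').2 a)
    rintro _ ⟨r, o, rfl⟩
    show tr (_ * _) ∈ gen C (q := q) W₀ V'
    have hinv : ∀ ρ, pAct f (q ⁻¹ᵁ W₀) ρ (preimage_le_perm f hq W₀ _)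
        (∑ σ : Equiv.Perm (Fin d), pAct f (q ⁻¹ᵁ W₀) σ (preimage_le_perm f hq W₀ _) o) =
        ∑ σ : Equiv.Perm (Fin d), pAct f (q ⁻¹ᵁ W₀) σ (preimage_le_perm f hq W₀ _) o := by
      intro ρ
      rw [map_sum]
      refine Fintype.sum_equiv (Equiv.mulLeft ρ) _ _ fun σ => ?_
      exact (pAct_mul f ρ σ (fun σ => preimage_le_perm f hq W₀ σ) o).symm
    obtain ⟨b, hb⟩ := exists_app_eq f hq W₀ hinv
    rw [show tr (_ * _) = (WidePullback.base (fun _ : Fin d => C.f')).appLE V' E inf_le_right r *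
        C.Φ.appLE (q ⁻¹ᵁ W₀) E inf_le_left (q.app W₀ b) by
      rw [htr, hb, map_sum, Finset.mul_sum]
      refine Finset.sum_congr rfl fun σ _ => ?_
      rw [map_mul]
      congr 1
      · exact pAct_base σ _ inf_le_right r
      · exact pAct_Φ C inf_le_left σ _ _ o]
    exact mul_mem (Subring.subset_closure (Or.inl ⟨r, rfl⟩)) (Subring.subset_closure (Or.inr ⟨b, rfl⟩))
  obtain ⟨w, hw⟩ := hn.exists_left_inv
  have h2 : tr a = (Nat.factorial d : ℕ) * a := by
    rw [htr]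
    rw [Finset.sum_congr rfl fun σ _ => (show τ' σ a = a from ha σ), Finset.sum_const, Finset.card_univ,
      Fintype.card_perm, Fintype.card_fin, nsmul_eq_mul]
  let β := (WidePullback.base (fun _ : Fin d => C.f')).appLE V' E inf_le_right
  have h3 : β w * tr a = a := by
    rw [h2, ← mul_assoc, ← map_natCast β.hom, ← map_mul, hw, map_one, one_mul]
  rw [← h3]
  exact mul_mem (Subring.subset_closure (Or.inl ⟨w, rfl⟩)) h1

omit hV hW₀ hWV hV'a hV'

/-- values of invariant sections lie in the residue field of the target -/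
theorem evaluation_mem_range (hV : IsAffineOpen V) (hW₀ : IsAffineOpen W₀) (hWV : W₀ ≤ g ⁻¹ᵁ V)
    (hV'a : IsAffineOpen V') (hV' : V' ≤ C.b ⁻¹ᵁ V) (a : Γ(SymProd.fibPow C.f' d, part C (q := q) W₀ V'))
    (ha : ∀ σ, pAct C.f' _ σ (part_le_perm C hq W₀ V' _) a = a) {ξ : ↥(SymProd.fibPow C.f' d)}
    (hξ : ξ ∈ part C (q := q) W₀ V') :
    (SymProd.fibPow C.f' d).evaluation _ ξ hξ a ∈ Set.range (t.residueFieldMap ξ) := by
  let base' := WidePullback.base (fun _ : Fin d => C.f')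
  let s' := base'.base ξ
  let ι := C.S'.fromSpecResidueField s'
  let f₃ := pullback.snd C.f' ι
  have : Flat f₃ := inferInstance
  let C₂ : Cmp C.f' d :=
    { X' := pullback C.f' ι, S' := _, f' := f₃, h := pullback.fst C.f' ι, b := ι, w := pullback.condition
      closed := by
        rw [show pullback.lift (pullback.fst C.f' ι) f₃ pullback.condition = 𝟙 _ by
          apply pullback.hom_ext <;> simp [f₃]]
        infer_instance }
  have w₃ : (pullback.fst C.f' ι ≫ C.h) ≫ f = f₃ ≫ ι ≫ C.b := by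
    rw [Category.assoc, C.w, pullback.condition_assoc]
  let C₃ : Cmp f d :=
    { X' := pullback C.f' ι, S' := _, f' := f₃, h := pullback.fst C.f' ι ≫ C.h, b := ι ≫ C.b, w := w₃
      closed := by
        have hmap : IsPullback (pullback.map f (ι ≫ C.b) f C.b (𝟙 _) ι (𝟙 _) (by simp) (by simp))
            (pullback.snd f (ι ≫ C.b)) (pullback.snd f C.b) ι := by
          refine IsPullback.of_right (h₁₂ := pullback.fst f C.b) (v₁₃ := f) (h₂₂ := C.b) ?_ (by simp [pullback.map])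
            (IsPullback.of_hasPullback f C.b)
          simpa [pullback.map] using IsPullback.of_hasPullback f (ι ≫ C.b)
        have hsq : IsPullback (pullback.fst C.f' ι) (pullback.lift (pullback.fst C.f' ι ≫ C.h) f₃ w₃)
            (pullback.lift C.h C.f' C.w)
            (pullback.map f (ι ≫ C.b) f C.b (𝟙 _) ι (𝟙 _) (by simp) (by simp)) := by
          refine IsPullback.of_bot (v₂₁ := pullback.snd f (ι ≫ C.b)) (v₂₂ := pullback.snd f C.b) ?_ ?_ hmap
          · simpa [f₃] using IsPullback.of_hasPullback C.f' ι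
          · apply pullback.hom_ext
            · simp [pullback.map]
            · simp [pullback.map, f₃, pullback.condition]
        exact MorphismProperty.of_isPullback (P := @IsClosedImmersion) hsq C.closed }
  have : Flat C₃.f' := ‹Flat f₃›
  let Ψ : SymProd.fibPow f₃ d ⟶ SymProd.fibPow C.f' d := C₂.Φ
  have hC₃ : C₃.Φ = Ψ ≫ C.Φ := by
    apply WidePullback.hom_ext
    · intro i
      rw [C₃.Φ_π, Category.assoc, C.Φ_π]
      exact ((Category.assoc _ _ _).symm).trans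
        ((congrArg (· ≫ C.h) (C₂.Φ_π i)).symm.trans (Category.assoc _ _ _))
    · rw [C₃.Φ_base, Category.assoc, C.Φ_base]
      exact ((Category.assoc _ _ _).symm).trans
        ((congrArg (· ≫ C.b) C₂.Φ_base).symm.trans (Category.assoc _ _ _))
  have hcomp : ∀ i, ((SymProd.fibPow C.f' d).fromSpecResidueField ξ ≫ WidePullback.π (fun _ => C.f') i) ≫ C.f' =
      Spec.map (base'.residueFieldMap ξ) ≫ ι := fun i => by
    rw [Scheme.Hom.SpecMap_residueFieldMap_fromSpecResidueField, Category.assoc, WidePullback.π_arrow]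
  let p : Spec ((SymProd.fibPow C.f' d).residueField ξ) ⟶ SymProd.fibPow f₃ d :=
    WidePullback.lift (Spec.map (base'.residueFieldMap ξ))
      (fun i => pullback.lift _ _ (hcomp i)) (fun i => pullback.lift_snd _ _ _)
  have hp : p ≫ Ψ = (SymProd.fibPow C.f' d).fromSpecResidueField ξ := by
    apply WidePullback.hom_ext
    · intro i
      rw [Category.assoc, show Ψ ≫ _ = _ from C₂.Φ_π i, ← Category.assoc, WidePullback.lift_π]
      exact pullback.lift_fst _ _ _
    · rw [Category.assoc, show Ψ ≫ _ = _ from C₂.Φ_base, ← Category.assoc, WidePullback.lift_base]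
      exact Scheme.Hom.SpecMap_residueFieldMap_fromSpecResidueField base' ξ
  let ξ₃ := p.base default
  have hξ₃ : Ψ.base ξ₃ = ξ := by
    show Ψ.base (p.base default) = ξ
    rw [← Scheme.Hom.comp_apply, hp, Scheme.fromSpecResidueField_apply]
  let V₃ : C₃.S'.Opens := ⊤
  let E₃ := part C₃ (q := q) W₀ V₃
  have hV₃ : V₃ ≤ C₃.b ⁻¹ᵁ V := fun z _ => by
    show (ι ≫ C.b).base z ∈ V
    rw [Scheme.Hom.comp_apply, show ι z = s' from Scheme.fromSpecResidueField_apply _ z]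
    exact hV' hξ.2
  have hE₃ : E₃ ≤ Ψ ⁻¹ᵁ part C (q := q) W₀ V' := by
    rintro z ⟨h1, -⟩
    refine ⟨?_, ?_⟩
    · show C.Φ.base (Ψ.base z) ∈ q ⁻¹ᵁ W₀
      rw [← Scheme.Hom.comp_apply, ← hC₃]
      exact h1
    · show base'.base (Ψ.base z) ∈ V'
      rw [← Scheme.Hom.comp_apply, show Ψ ≫ base' = _ from C₂.Φ_base, Scheme.Hom.comp_apply]
      show ι.base _ ∈ V'
      rw [show ι.base _ = s' from Scheme.fromSpecResidueField_apply _ _]
      exact hξ.2
  have hξE₃ : ξ₃ ∈ E₃ := ⟨by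
    show C₃.Φ.base ξ₃ ∈ q ⁻¹ᵁ W₀
    rw [hC₃, Scheme.Hom.comp_apply, hξ₃]
    exact hξ.1, trivial⟩
  let a₃ := Ψ.appLE _ E₃ hE₃ a
  have ha₃ : ∀ σ, pAct C₃.f' E₃ σ (part_le_perm C₃ hq W₀ V₃ _) a₃ = a₃ := fun σ =>
    (pAct_Φ C₂ hE₃ σ _ _ a).trans (congrArg _ (ha σ))
  have hmem := mem_gen_of_invariant C₃ hq W₀ V₃ hg hV hW₀ hWV (isAffineOpen_top _) hV₃ a₃ ha₃
  have key : (SymProd.fibPow f₃ d).evaluation E₃ ξ₃ hξE₃ a₃ ∈ Set.range ((Ψ ≫ t).residueFieldMap ξ₃) := by
    suffices gen C₃ (q := q) W₀ V₃ ≤ (((Ψ ≫ t).residueFieldMap ξ₃).hom.range).comap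
        ((SymProd.fibPow f₃ d).evaluation E₃ ξ₃ hξE₃).hom from this hmem
    refine Subring.closure_le.2 ?_
    rintro _ (⟨r, rfl⟩ | ⟨b, rfl⟩)
    · show (SymProd.fibPow f₃ d).evaluation E₃ ξ₃ hξE₃ _ ∈ Set.range ((Ψ ≫ t).residueFieldMap ξ₃)
      rw [evaluation_appLE]
      obtain ⟨r', hr'⟩ := residueFieldMap_surjective_of_preimmersion ι
        ((WidePullback.base (fun _ : Fin d => f₃)).base ξ₃)
        (C₃.S'.evaluation V₃ ((WidePullback.base (fun _ : Fin d => f₃)).base ξ₃) trivial r)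
      refine residueFieldMap_range_le (s := σT) (w := WidePullback.base (fun _ : Fin d => f₃) ≫ ι) ?_ ξ₃ ⟨r', ?_⟩
      · rw [Category.assoc, hσT]
        exact C₂.Φ_base
      · rw [Scheme.residueFieldMap_comp]
        exact congrArg ((WidePullback.base (fun _ : Fin d => f₃)).residueFieldMap ξ₃) hr'
    · show (SymProd.fibPow f₃ d).evaluation E₃ ξ₃ hξE₃ _ ∈ Set.range ((Ψ ≫ t).residueFieldMap ξ₃)
      show (SymProd.fibPow f₃ d).evaluation E₃ ξ₃ hξE₃ (C₃.Φ.appLE _ E₃ inf_le_left (q.app W₀ b)) ∈ _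
      rw [show C₃.Φ.appLE _ E₃ inf_le_left (q.app W₀ b) = (C₃.Φ ≫ q).appLE W₀ E₃ inf_le_left b by
        show (q.app W₀ ≫ C₃.Φ.appLE _ _ _) b = _
        rw [← Scheme.Hom.appLE_eq_app, Scheme.Hom.appLE_comp_appLE]]
      rw [evaluation_appLE]
      refine residueFieldMap_range_le (s := tY) (w := C₃.Φ ≫ q) ?_ ξ₃ ⟨_, rfl⟩
      rw [Category.assoc, htY, hC₃, Category.assoc]
  rw [evaluation_appLE, Scheme.residueFieldMap_comp] at key
  obtain ⟨r, hr⟩ := key
  have hmove : ∀ (x : ↥(SymProd.fibPow C.f' d)), x = ξ → ∀ hx : x ∈ part C (q := q) W₀ V',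
      (SymProd.fibPow C.f' d).evaluation _ x hx a ∈ Set.range (t.residueFieldMap x) →
      (SymProd.fibPow C.f' d).evaluation _ ξ hξ a ∈ Set.range (t.residueFieldMap ξ) := by
    intro x hx' hx hm
    subst hx'
    exact hm
  exact hmove _ hξ₃ (hE₃ hξE₃) ⟨r, RingHom.injective (Ψ.residueFieldMap ξ₃).hom hr⟩

end Groth.Cycles.SymCompare
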