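import Groth.Agent.Cycles.SymTrace
import Mathlib.AlgebraicGeometry.Morphisms.Flat
import Mathlib.RingTheory.Flat.EquationalCriterion

/-! Flatness of fibre powers and symmetric products of flat morphisms. -/

set_option autoImplicit false
set_option backward.isDefEq.respectTransparency false

universe u

open CategoryTheory CategoryTheory.Limits AlgebraicGeometry
open scoped TensorProduct
open Groth.Cycles.SymBox Groth.Cycles.SymCoset Groth.Cycles.SymLocal Groth.Cycles.SymTrace

namespace Groth.Cycles.SymFlat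

variable {X S : Scheme.{u}} {f : X ⟶ S} {d : ℕ} {κ : Type} [Fintype κ] [DecidableEq κ]

/-- the invariant sections over a box form a flat module -/
theorem exists_flat_fixed [Flat f] (c : Fin d → κ) {U : κ → X.Opens} {V : S.Opens}
    (hU : ∀ j, IsAffineOpen (U j)) (hV : IsAffineOpen V) (hUV : ∀ j, U j ≤ f ⁻¹ᵁ V) :
    letI := algBox f c U V
    ∃ M : Submodule Γ(S, V) Γ(SymProd.fibPow f d, boxOpen f c U V), Module.Flat Γ(S, V) M ∧
      ∀ z, z ∈ M ↔ ∀ (σ) (hσ : σ ∈ stab c),
        pAct f (boxOpen f c U V) σ (boxOpen_le_perm f c U V ((stab c).inv_mem hσ)) z = z := by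
  classical
  let := algU f U V hUV
  let := algBox f c U V
  have : ∀ j, Module.Flat Γ(S, V) Γ(X, U j) := fun j => Flat.flat_appLE f hV (hU j) (hUV j)
  obtain ⟨Φ₁, hΦ₁⟩ := exists_algEquiv_box (f := f) (c := c) hU hV hUV
  let τ : Equiv.Perm (Fin d) → Γ(SymProd.fibPow f d, boxOpen f c U V) →ₗ[Γ(S, V)]
      Γ(SymProd.fibPow f d, boxOpen f c U V) := fun σ =>
    if hσ : σ ∈ stab c then
      { toFun := pAct f (boxOpen f c U V) σ (boxOpen_le_perm f c U V ((stab c).inv_mem hσ))
        map_add' := map_add _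
        map_smul' := fun r x => by
          rw [Algebra.smul_def, Algebra.smul_def, map_mul, RingHom.id_apply]
          congr 1
          exact pAct_base σ _ _ r }
    else 0
  refine ⟨fixed c τ, flat_fixed (M := fun k => Γ(X, U k)) c Φ₁.toLinearEquiv τ ?_, fun z => ?_⟩
  · intro σ hσ x
    simp only [τ, dif_pos hσ, AlgEquiv.toLinearEquiv_apply, hΦ₁]
    exact pAct_box hσ x
  · rw [mem_fixed]
    exact forall₂_congr fun σ hσ => by simp [τ, hσ]

/-- fibre powers of flat morphisms are flat -/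
theorem flat_base [Flat f] : Flat (WidePullback.base (fun _ : Fin d => f)) := by
  rw [HasRingHomProperty.iff_exists_appLE (P := @Flat)
    ((RingHom.Flat.stableUnderComposition.stableUnderCompositionWithLocalizationAway
      RingHom.Flat.holdsForLocalizationAway).left)]
  intro x
  obtain ⟨_, ⟨V, hV, rfl⟩, hxV, -⟩ := S.isBasis_affineOpens.exists_subset_of_mem_open
    (Set.mem_univ ((WidePullback.base (fun _ : Fin d => f)).base x)) isOpen_univ
  have hex : ∀ i : Fin d, ∃ U : X.Opens, IsAffineOpen U ∧ U ≤ f ⁻¹ᵁ V ∧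
      (WidePullback.π (fun _ : Fin d => f) i).base x ∈ U := fun i => by
    obtain ⟨_, ⟨U, hU, rfl⟩, hxU, hUV⟩ := X.isBasis_affineOpens.exists_subset_of_mem_open
      (show (WidePullback.π (fun _ : Fin d => f) i).base x ∈ (f ⁻¹ᵁ V : X.Opens) by
        show f.base _ ∈ V
        rw [← Scheme.Hom.comp_apply, WidePullback.π_arrow]
        exact hxV) (f ⁻¹ᵁ V).2
    exact ⟨U, hU, hUV, hxU⟩
  choose U hU hUV hxU using hex
  refine ⟨⟨V, hV⟩, ⟨boxOpen f id U V, isAffineOpen_boxOpen hU hV hUV⟩,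
    (mem_boxOpen f id U V).2 ⟨hxU, hxV⟩, boxOpen_le_base f id U V, ?_⟩
  let := algBox f (id : Fin d → Fin d) U V
  obtain ⟨M, hM, hmem⟩ := exists_flat_fixed (f := f) (id : Fin d → Fin d) hU hV hUV
  have htop : M = ⊤ := eq_top_iff.2 fun z _ => (hmem z).2 fun σ hσ => by
    have h1 : σ = 1 := Equiv.ext fun i => hσ i
    subst h1
    show (SymProd.permHom f d _).appLE (boxOpen f id U V) _ _ z = z
    rw [Groth.Pi1Quot.appLE_congr_hom (show SymProd.permHom f d (Equiv.symm 1) = 𝟙 _ from SymProd.permHom_one f d)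
      (boxOpen f id U V) (boxOpen f id U V) _ le_rfl]
    simp only [Scheme.Hom.appLE, Scheme.Hom.id_app, Category.id_comp]
    rw [Subsingleton.elim (homOfLE _).op (𝟙 (Opposite.op (boxOpen f id U V)))]
    erw [(SymProd.fibPow f d).presheaf.map_id]
    rfl
  subst htop
  exact Module.Flat.of_linearEquiv Submodule.topEquiv.symm

variable {Y : Scheme.{u}} {q : SymProd.fibPow f d ⟶ Y} {g : Y ⟶ S} {V : S.Opens} (W₀ : Y.Opens)

/-- the symmetric product of a flat morphism is flat over affine opens -/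
theorem flat_quot [Flat f] (hq : SGA1.IsQuot (SymProd.permActU f d) q)
    (hg : q ≫ g = WidePullback.base (fun _ : Fin d => f)) (hV : IsAffineOpen V) (hW₀ : IsAffineOpen W₀)
    (hWV : W₀ ≤ g ⁻¹ᵁ V) :
    letI := algQ W₀ hWV
    Module.Flat Γ(S, V) Γ(Y, W₀) := by
  classical
  have := hq.affine
  let P := SymProd.fibPow f d
  let W := q ⁻¹ᵁ W₀
  have hW : IsAffineOpen W := hW₀.preimage q
  have hWb : W ≤ (WidePullback.base (fun _ : Fin d => f)) ⁻¹ᵁ V := by
    rw [← hg, Scheme.Hom.comp_preimage]; exact q.preimage_mono hWV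
  let := algQ W₀ hWV
  let := algP (f := f) (q := q) W₀ hWb
  obtain ⟨l, hl⟩ := exists_qlin W₀ hg hWV hWb
  refine Module.Flat.of_forall_isTrivialRelation fun {m r x} hrel => ?_
  let J : Ideal Γ(Y, W₀) :=
    { carrier := {b | Module.IsTrivialRelation r fun j => b * x j}
      zero_mem' := ⟨0, fun _ i => i.elim0, fun i => i.elim0, fun i => by simp, fun i => i.elim0⟩
      add_mem' := by
        rintro b b' ⟨k, A, y, h1, h2⟩ ⟨k', A', y', h1', h2'⟩
        refine ⟨k + k', fun i => Fin.append (A i) (A' i), Fin.append y y', fun i => ?_, fun j => ?_⟩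
        · simp only [Fin.sum_univ_add, Fin.append_left, Fin.append_right, ← h1, ← h1', add_mul]
        · induction j using Fin.addCases with
          | left j => simpa using h2 j
          | right j => simpa using h2' j
      smul_mem' := by
        rintro t b ⟨k, A, y, h1, h2⟩
        refine ⟨k, A, fun j => t * y j, fun i => ?_, h2⟩
        simp only [smul_eq_mul, mul_assoc, h1, Finset.mul_sum, mul_smul_comm] }
  suffices J = ⊤ by simpa [J] using (Ideal.eq_top_iff_one J).1 this
  rw [← Ideal.span_eq J, ← hW₀.iSup_basicOpen_eq_self_iff]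
  refine le_antisymm (iSup_le fun b => Y.basicOpen_le _) fun y hy => ?_
  obtain ⟨k, c, U, cc, p, hU, hUV, hcc, hp, hD, htr⟩ := exists_local f hq W₀ hg hV hW₀ hWV hy
  let B := boxOpen f c U V
  have hB : IsAffineOpen B := isAffineOpen_boxOpen hU hV hUV
  let D := P.basicOpen cc
  have hDW : D ≤ W := P.basicOpen_le _
  have hDB : D ≤ B := hD.trans_le (P.basicOpen_le p)
  let := algBox f c U V
  obtain ⟨M, hM, hmem⟩ := exists_flat_fixed (f := f) c hU hV hUV
  have eD : ∀ σ ∈ stab c, D ≤ SymProd.permHom f d σ ⁻¹ᵁ D := by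
    intro σ hσ z hz
    have h := hcc σ⁻¹ ((stab c).inv_mem hσ)
    have hz' : z ∈ P.basicOpen (pAct f W σ⁻¹ (preimage_le_perm f hq W₀ _) cc) := h.symm ▸ hz
    exact (mem_basicOpen_pAct f σ⁻¹ _ cc (P.basicOpen_le _ hz)).1 hz'
  let rW := P.presheaf.map (homOfLE hDW).op
  let rB := P.presheaf.map (homOfLE hDB).op
  let act : stab c → Γ(P, D) →+* Γ(P, D) := fun σ => pAct f D σ.1 (eD _ ((stab c).inv_mem σ.2))
  have hrW : ∀ (σ : stab c) z, rW (pAct f W σ.1 (preimage_le_perm f hq W₀ _) z) = act σ (rW z) :=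
    fun σ z => pAct_res f hDW σ.1 _ _ z
  have hrB : ∀ (σ : stab c) z,
      rB (pAct f B σ.1 (boxOpen_le_perm f c U V ((stab c).inv_mem σ.2)) z) = act σ (rB z) :=
    fun σ z => pAct_res f hDB σ.1 _ _ z
  have hbaseD : ∀ t : Γ(S, V), rB ((WidePullback.base (fun _ : Fin d => f)).appLE V B (boxOpen_le_base f c U V) t) =
      rW ((WidePullback.base (fun _ : Fin d => f)).appLE V W hWb t) := fun t => by
    show (_ ≫ P.presheaf.map _) t = (_ ≫ P.presheaf.map _) t
    rw [Scheme.Hom.appLE_map, Scheme.Hom.appLE_map]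
  -- extend to the box with a common exponent
  have hex : ∀ j, ∃ n z, z ∈ M ∧ rB z = rB p ^ n * rW (l (x j)) := fun j => by
    obtain ⟨n, z, hz, hzr⟩ := exists_extend hB p (D := D) hD hDB (ι := stab c)
      (fun σ => pAct f B σ.1 (boxOpen_le_perm f c U V ((stab c).inv_mem σ.2))) act hrB
      (fun σ => hp σ.1 σ.2) (x := rW (l (x j)))
      (fun σ => by rw [← hrW, hl, pAct_app f hq W₀ σ.1 (x j)])
    exact ⟨n, z, (hmem z).2 fun σ hσ => hz ⟨σ, hσ⟩, hzr⟩
  choose n z hz hzr using hex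
  let N := Finset.univ.sup n
  let z' : Fin m → M := fun j => ⟨p ^ (N - n j) * z j, (hmem _).2 fun σ hσ => by
    rw [map_mul, map_pow, hp σ hσ, (hmem _).1 (hz j) σ hσ]⟩
  have hz' : ∀ j, rB (z' j : Γ(P, B)) = rB p ^ N * rW (l (x j)) := fun j => by
    show rB (p ^ (N - n j) * z j) = _
    rw [map_mul, map_pow, hzr, ← mul_assoc, ← pow_add, Nat.sub_add_cancel (Finset.le_sup (Finset.mem_univ j))]
  have hsum : rB (∑ j, r j • (z' j : Γ(P, B))) = 0 := by
    have h0 : rW (l (∑ j, r j • x j)) = 0 := by rw [hrel, map_zero, map_zero]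
    rw [map_sum]
    calc ∑ j, rB (r j • (z' j : Γ(P, B)))
        = ∑ j, rB p ^ N * rW (l (r j • x j)) := by
          refine Finset.sum_congr rfl fun j _ => ?_
          rw [Algebra.smul_def, map_mul, hz', map_smul, Algebra.smul_def (r j), map_mul rW.hom,
            show rB (algebraMap Γ(S, V) Γ(P, B) (r j)) = rW (algebraMap Γ(S, V) Γ(P, W) (r j)) from hbaseD (r j)]
          ring
      _ = 0 := by rw [← Finset.mul_sum, ← map_sum, ← map_sum, h0, mul_zero]
  obtain ⟨M', hM'⟩ := eq_zero_of_res hB p (D := D) hD hDB hsum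
  let z'' : Fin m → M := fun j => ⟨p ^ M' * z' j, (hmem _).2 fun σ hσ => by
    rw [map_mul, map_pow, hp σ hσ, (hmem _).1 (z' j).2 σ hσ]⟩
  have hsum'' : ∑ j, r j • z'' j = 0 := Subtype.ext (by
    rw [Submodule.coe_sum, Submodule.coe_zero, ← hM', Finset.mul_sum]
    exact Finset.sum_congr rfl fun j _ => (mul_smul_comm _ _ _).symm)
  obtain ⟨k', A, w, hw, hA⟩ := Module.Flat.isTrivialRelation_of_sum_smul_eq_zero hsum''
  -- back to the invariant affine open
  have hpD : IsUnit (rB p) := isUnit_res hB p hD hDB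
  obtain ⟨u, hu⟩ := (hpD.pow (M' + N)).exists_right_inv
  have huinv : ∀ σ : stab c, act σ u = u := fun σ => by
    have h1 : act σ (rB p) = rB p := by rw [← hrB, hp σ.1 σ.2]
    have h2 := congrArg (act σ) hu
    rw [map_mul, map_pow, h1, map_one, ← hu] at h2
    exact (hpD.pow _).mul_left_cancel h2
  have hex2 : ∀ i, ∃ n o, (∀ σ : stab c, pAct f W σ.1 (preimage_le_perm f hq W₀ _) o = o) ∧
      rW o = rW cc ^ n * (rB (w i : Γ(P, B)) * u) := fun i =>
    exists_extend hW cc (D := D) rfl hDW (ι := stab c)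
      (fun σ => pAct f W σ.1 (preimage_le_perm f hq W₀ _)) act hrW (fun σ => hcc σ.1 σ.2)
      (x := rB (w i : Γ(P, B)) * u) fun σ => by rw [map_mul, huinv, ← hrB, (hmem _).1 (w i).2 σ.1 σ.2]
  choose n' o ho hor using hex2
  let N' := Finset.univ.sup n'
  let o' : Fin k' → Γ(P, W) := fun i => cc ^ (N' - n' i) * o i
  have hdiff : ∀ j, rW (cc ^ N' * l (x j) - ∑ i, A j i • o' i) = 0 := fun j => by
    rw [map_sub, map_mul, map_pow, map_sum, sub_eq_zero]
    have h1 : rB (z'' j : Γ(P, B)) = rB p ^ (M' + N) * rW (l (x j)) := by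
      show rB (p ^ M' * (z' j : Γ(P, B))) = _
      rw [map_mul, map_pow, hz', ← mul_assoc, ← pow_add]
    have h2 : rW (l (x j)) = rB (z'' j : Γ(P, B)) * u := by
      rw [h1, mul_comm _ u, ← mul_assoc, mul_comm u, hu, one_mul]
    rw [h2, hw j, Submodule.coe_sum, map_sum, Finset.sum_mul, Finset.mul_sum]
    refine Finset.sum_congr rfl fun i _ => ?_
    rw [Submodule.coe_smul, Algebra.smul_def, map_mul, Algebra.smul_def, map_mul rW.hom]
    show _ = _ * rW (cc ^ (N' - n' i) * o i)
    rw [map_mul, map_pow, hor, show rB (algebraMap Γ(S, V) Γ(P, B) (A j i)) =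
      rW (algebraMap Γ(S, V) Γ(P, W) (A j i)) from hbaseD (A j i),
      ← mul_assoc (rW cc ^ (N' - n' i)), ← pow_add, Nat.sub_add_cancel (Finset.le_sup (Finset.mem_univ i))]
    ring
  choose e he using fun j => eq_zero_of_res hW cc (D := D) rfl hDW (hdiff j)
  let E := Finset.univ.sup e + 1
  let o'' : Fin k' → Γ(P, W) := fun i => cc ^ E * o' i
  have ho'' : ∀ i, ∀ σ ∈ stab c, pAct f W σ (preimage_le_perm f hq W₀ _) (o'' i) = o'' i := fun i σ hσ => by
    simp only [o'', o', map_mul, map_pow, ho i ⟨σ, hσ⟩]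
    rw [hcc σ hσ]
  have heq : ∀ j, cc ^ (E + N') * l (x j) = ∑ i, A j i • o'' i := fun j => by
    obtain ⟨s, hs⟩ := Nat.exists_eq_add_of_le (show e j ≤ E from Nat.le_succ_of_le (Finset.le_sup (f := e) (Finset.mem_univ j)))
    have h := congrArg (cc ^ s * ·) (he j)
    simp only [mul_zero, ← mul_assoc, ← pow_add] at h
    rw [add_comm s, ← hs, mul_sub, sub_eq_zero, ← mul_assoc, ← pow_add, Finset.mul_sum] at h
    rw [h]
    exact Finset.sum_congr rfl fun i _ => mul_smul_comm _ _ _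
  obtain ⟨b, hb⟩ := pAct_cosetSum f hq W₀ (stab c) (a := cc ^ (E + N')) fun σ hσ => by rw [map_pow, hcc σ hσ]
  choose b' hb' using fun i => pAct_cosetSum f hq W₀ (stab c) (ho'' i)
  refine TopologicalSpace.Opens.mem_iSup.2 ⟨⟨b, k', A, b', fun j => hq.injective W₀ ?_, hA⟩, htr (Finset.univ.sup e + N') b ?_⟩
  · show q.app W₀ (b * x j) = q.app W₀ (∑ i, A j i • b' i)
    rw [map_mul, hb, ← hl (∑ i, A j i • b' i), map_sum]
    rw [Finset.sum_congr rfl fun i _ => map_smul l (A j i) (b' i)]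
    simp only [hl, hb', cosetSum_def, Finset.smul_sum]
    rw [Finset.sum_comm, Finset.sum_mul]
    refine Finset.sum_congr rfl fun t _ => ?_
    rw [← pAct_app f hq W₀ t.out (x j), ← map_mul, ← hl (x j), heq j, map_sum]
    refine Finset.sum_congr rfl fun i _ => ?_
    rw [Algebra.smul_def, Algebra.smul_def, map_mul]
    congr 1
    exact pAct_base t.out _ hWb (A j i)
  · rw [hb, show E + N' = Finset.univ.sup e + N' + 1 by omega]

end Groth.Cycles.SymFlat
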