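import Groth.Agent.Cycles.SymLocal
import Groth.Agent.Cycles.SymClosed
import Mathlib.AlgebraicGeometry.Morphisms.Flat

/-! Invariant sections on a closed subscheme of a base change of a fibre power come from the quotient. -/

set_option autoImplicit false
set_option backward.isDefEq.respectTransparency false

universe u

open CategoryTheory CategoryTheory.Limits AlgebraicGeometry
open scoped TensorProduct
open Groth.Cycles.SymBox Groth.Cycles.SymCoset Groth.Cycles.SymLocal Groth.Cycles.SymClosed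
open Groth.Misc8.SymOrbit (mult mult_comp)

namespace Groth.Cycles.SymInv

variable {X S : Scheme.{u}} {f : X ⟶ S} {d : ℕ} (C : Cmp f d)

section Span

variable {κ : Type} [Fintype κ] [DecidableEq κ] {c : Fin d → κ} {U : κ → X.Opens} {V : S.Opens} {V' : C.S'.Opens}

/-- the sides over `V'` -/
noncomputable abbrev side (U : κ → X.Opens) (V' : C.S'.Opens) (j : κ) : C.X'.Opens :=
  C.h ⁻¹ᵁ U j ⊓ C.f' ⁻¹ᵁ V'

theorem box_le (hV' : V' ≤ C.b ⁻¹ᵁ V) :
    boxOpen C.f' c (side C U V') V' ≤ C.Φ ⁻¹ᵁ boxOpen f c U V := by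
  intro x hx
  obtain ⟨h1, h2⟩ := (mem_boxOpen _ _ _ _).1 hx
  refine (mem_boxOpen _ _ _ _).2 ⟨fun i => ?_, ?_⟩
  · rw [← Scheme.Hom.comp_apply, C.Φ_π, Scheme.Hom.comp_apply]
    exact (h1 i).1
  · rw [← Scheme.Hom.comp_apply, C.Φ_base, Scheme.Hom.comp_apply]
    exact hV' h2

theorem le_box : C.Φ ⁻¹ᵁ boxOpen f c U V ⊓ (WidePullback.base (fun _ : Fin d => C.f')) ⁻¹ᵁ V' ≤
    boxOpen C.f' c (side C U V') V' := by
  rintro x ⟨h1, h2⟩
  obtain ⟨h3, -⟩ := (mem_boxOpen _ _ _ _).1 h1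
  refine (mem_boxOpen _ _ _ _).2 ⟨fun i => ⟨?_, ?_⟩, h2⟩
  · show C.h.base _ ∈ U (c i)
    rw [← Scheme.Hom.comp_apply, ← C.Φ_π, Scheme.Hom.comp_apply]
    exact h3 i
  · show C.f'.base _ ∈ V'
    rw [← Scheme.Hom.comp_apply, WidePullback.π_arrow]
    exact h2

/-- invariant sections over a box are spanned by those coming from the original fibre power -/
theorem box_mem_closure [Flat C.f'] (hU : ∀ j, IsAffineOpen (U j)) (hV : IsAffineOpen V) (hUV : ∀ j, U j ≤ f ⁻¹ᵁ V)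
    (hV'a : IsAffineOpen V') (hV' : V' ≤ C.b ⁻¹ᵁ V) {z : Γ(SymProd.fibPow C.f' d, boxOpen C.f' c (side C U V') V')}
    (hz : ∀ (σ) (hσ : σ ∈ stab c), pAct C.f' (boxOpen C.f' c (side C U V') V') σ
      (boxOpen_le_perm C.f' c _ V' ((stab c).inv_mem hσ)) z = z) :
    z ∈ AddSubgroup.closure {x | ∃ (r : Γ(C.S', V')) (w : Γ(SymProd.fibPow f d, boxOpen f c U V)),
      (∀ (σ) (hσ : σ ∈ stab c),
        pAct f (boxOpen f c U V) σ (boxOpen_le_perm f c U V ((stab c).inv_mem hσ)) w = w) ∧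
      x = (WidePullback.base (fun _ : Fin d => C.f')).appLE V' _ (boxOpen_le_base C.f' c _ V') r *
        C.Φ.appLE _ _ (box_le C hV') w} := by
  classical
  have := C.closed
  have hside : ∀ j, IsAffineOpen (side C U V' j) := fun j =>
    (sections_closed C.w (hU j) hV hV'a (hUV j) hV').1
  have hsV : ∀ j, side C U V' j ≤ C.f' ⁻¹ᵁ V' := fun j => inf_le_right
  letI := algU C.f' (side C U V') V' hsV
  letI := algBox C.f' c (side C U V') V'
  have : ∀ j, Module.Flat Γ(C.S', V') Γ(C.X', side C U V' j) := fun j =>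
    Flat.flat_appLE C.f' hV'a (hside j) (hsV j)
  obtain ⟨Φ₁, hΦ₁⟩ := exists_algEquiv_box (f := C.f') (c := c) hside hV'a hsV
  let τ : Equiv.Perm (Fin d) → Γ(SymProd.fibPow C.f' d, boxOpen C.f' c (side C U V') V') →ₗ[Γ(C.S', V')]
      Γ(SymProd.fibPow C.f' d, boxOpen C.f' c (side C U V') V') := fun σ =>
    if hσ : σ ∈ stab c then
      { toFun := pAct C.f' (boxOpen C.f' c (side C U V') V') σ
          (boxOpen_le_perm C.f' c _ V' ((stab c).inv_mem hσ))
        map_add' := map_add _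
        map_smul' := fun r x => by
          rw [Algebra.smul_def, Algebra.smul_def, map_mul, RingHom.id_apply]
          congr 1
          exact pAct_base σ _ _ r }
    else 0
  have hτ : ∀ σ ∈ stab c, ∀ x : ∀ i, Γ(C.X', side C U V' (c i)),
      τ σ (Φ₁.toLinearEquiv (PiTensorProduct.tprod _ x)) = Φ₁.toLinearEquiv (PiTensorProduct.tprod _
        fun j => Pi.single (M := fun k => Γ(C.X', side C U V' k)) (c (σ.symm j)) (x (σ.symm j)) (c j)) := by
    intro σ hσ x
    simp only [τ, dif_pos hσ, AlgEquiv.toLinearEquiv_apply, hΦ₁]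
    exact pAct_box hσ x
  have hspan := mem_span_of_fixed c Φ₁.toLinearEquiv τ hτ (B := fun j => Γ(X, U j))
    (fun j => C.h.appLE (U j) (side C U V' j) inf_le_left) (fun j => map_zero _)
    (fun j => eq_top_iff.2 fun t _ => by
      have ht := (sections_closed C.w (hU j) hV hV'a (hUV j) hV').2 t
      induction ht using AddSubgroup.closure_induction with
      | mem x hx =>
        obtain ⟨r, o, rfl⟩ := hx
        exact Submodule.smul_mem _ r (Submodule.subset_span ⟨o, rfl⟩)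
      | zero => exact zero_mem _
      | add x y _ _ hx hy => exact add_mem (hx trivial) (hy trivial)
      | neg x _ hx => exact neg_mem (hx trivial))
    (z := z) (fun σ hσ => by simpa [τ, hσ] using hz σ hσ)
  clear hz
  induction hspan using Submodule.span_induction with
  | mem x hx =>
    obtain ⟨l, b, v, rfl⟩ := hx
    let w : Γ(SymProd.fibPow f d, boxOpen f c U V) :=
      ∑ h ∈ Finset.univ.filter (fun h : Fin d → Fin l => mult h = v),
        ∏ i, (WidePullback.π (fun _ : Fin d => f) i).appLE (U (c i)) _ (boxOpen_le_π f c U V i) (b (h i) (c i))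
    refine AddSubgroup.subset_closure ⟨1, w, fun σ hσ => ?_, ?_⟩
    · simp only [w, map_sum, pAct_box hσ]
      refine Finset.sum_equiv (Equiv.arrowCongr σ (Equiv.refl _)) (fun h => ?_) (fun h _ => ?_)
      · simp only [Finset.mem_filter, Finset.mem_univ, true_and]
        rw [← mult_comp h σ.symm]
        rfl
      · refine Finset.prod_congr rfl fun j _ => ?_
        exact congrArg _ (single_eq_of_eq (stab_symm c hσ j) (b (h (σ.symm j))))
    · rw [map_one, one_mul]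
      simp only [w, map_sum, AlgEquiv.toLinearEquiv_apply, hΦ₁]
      refine Finset.sum_congr rfl fun h _ => ?_
      rw [map_prod]
      refine Finset.prod_congr rfl fun i _ => ?_
      show (C.h.appLE (U (c i)) (side C U V' (c i)) _ ≫
          (WidePullback.π (fun _ : Fin d => C.f') i).appLE _ _ _) (b (h i) (c i)) =
        ((WidePullback.π (fun _ : Fin d => f) i).appLE (U (c i)) _ _ ≫ C.Φ.appLE _ _ (box_le C hV')) (b (h i) (c i))
      rw [Scheme.Hom.appLE_comp_appLE, Scheme.Hom.appLE_comp_appLE,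
        Groth.Pi1Quot.appLE_congr_hom (C.Φ_π i) _ _ _]
  | zero => exact zero_mem _
  | add x y _ _ hx hy => exact add_mem hx hy
  | smul r x _ hx =>
    rw [Algebra.smul_def]
    refine (AddSubgroup.closure_le ((AddSubgroup.closure _).comap (AddMonoidHom.mulLeft
      (algebraMap Γ(C.S', V') Γ(SymProd.fibPow C.f' d, boxOpen C.f' c (side C U V') V') r)))).2 ?_ hx
    rintro x ⟨r', w, hw, rfl⟩
    refine AddSubgroup.subset_closure ⟨r * r', w, hw, ?_⟩
    refine Eq.trans ?_ (congrArg (· * _) (map_mul _ r r').symm)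
    exact (mul_assoc _ _ _).symm

end Span

section Main

variable {Y : Scheme.{u}} {q : SymProd.fibPow f d ⟶ Y} (hq : SGA1.IsQuot (SymProd.permActU f d) q)
  (W₀ : Y.Opens) {g : Y ⟶ S} {V : S.Opens} (V' : C.S'.Opens)

/-- the part over `W₀` and `V'` -/
noncomputable abbrev part : (SymProd.fibPow C.f' d).Opens :=
  C.Φ ⁻¹ᵁ (q ⁻¹ᵁ W₀) ⊓ (WidePullback.base (fun _ : Fin d => C.f')) ⁻¹ᵁ V'

include hq in
theorem part_le_perm (σ : Equiv.Perm (Fin d)) :
    part C (q := q) W₀ V' ≤ SymProd.permHom C.f' d σ ⁻¹ᵁ part C (q := q) W₀ V' := by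
  rintro x ⟨h1, h2⟩
  refine ⟨?_, ?_⟩
  · show C.Φ.base ((SymProd.permHom C.f' d σ).base x) ∈ q ⁻¹ᵁ W₀
    rw [← Scheme.Hom.comp_apply, C.perm_Φ, Scheme.Hom.comp_apply]
    exact preimage_le_perm f hq W₀ σ h1
  · show (WidePullback.base (fun _ : Fin d => C.f')).base ((SymProd.permHom C.f' d σ).base x) ∈ V'
    rw [← Scheme.Hom.comp_apply, SymProd.permHom_base]
    exact h2

theorem pAct_Φ {O : (SymProd.fibPow f d).Opens} {O' : (SymProd.fibPow C.f' d).Opens} (e : O' ≤ C.Φ ⁻¹ᵁ O)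
    (σ : Equiv.Perm (Fin d)) (eO : O ≤ SymProd.permHom f d σ.symm ⁻¹ᵁ O)
    (eO' : O' ≤ SymProd.permHom C.f' d σ.symm ⁻¹ᵁ O') (x : Γ(SymProd.fibPow f d, O)) :
    pAct C.f' O' σ eO' (C.Φ.appLE O O' e x) = C.Φ.appLE O O' e (pAct f O σ eO x) := by
  show (C.Φ.appLE O O' e ≫ (SymProd.permHom C.f' d σ.symm).appLE O' O' eO') x =
    ((SymProd.permHom f d σ.symm).appLE O O eO ≫ C.Φ.appLE O O' e) x
  rw [Scheme.Hom.appLE_comp_appLE, Scheme.Hom.appLE_comp_appLE,
    Groth.Pi1Quot.appLE_congr_hom (C.perm_Φ σ.symm) O O' _]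

variable (hg : q ≫ g = WidePullback.base (fun _ : Fin d => f)) (hV : IsAffineOpen V)
  (hW₀ : IsAffineOpen W₀) (hWV : W₀ ≤ g ⁻¹ᵁ V) (hV'a : IsAffineOpen V') (hV' : V' ≤ C.b ⁻¹ᵁ V)

/-- the subring generated by the base and the quotient -/
noncomputable def gen : Subring Γ(SymProd.fibPow C.f' d, part C (q := q) W₀ V') :=
  Subring.closure (Set.range ((WidePullback.base (fun _ : Fin d => C.f')).appLE V' (part C (q := q) W₀ V')
      inf_le_right) ∪
    Set.range (fun b : Γ(Y, W₀) => C.Φ.appLE (q ⁻¹ᵁ W₀) (part C (q := q) W₀ V') inf_le_left (q.app W₀ b)))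

include hq hg hV hW₀ hWV hV'a hV'

theorem isAffineOpen_part : IsAffineOpen (part C (q := q) W₀ V') ∧
    ∀ z : Γ(SymProd.fibPow C.f' d, part C (q := q) W₀ V'), z ∈ AddSubgroup.closure
      {x | ∃ (r : Γ(C.S', V')) (o : Γ(SymProd.fibPow f d, q ⁻¹ᵁ W₀)),
        x = (WidePullback.base (fun _ : Fin d => C.f')).appLE V' (part C (q := q) W₀ V') inf_le_right r *
          C.Φ.appLE (q ⁻¹ᵁ W₀) (part C (q := q) W₀ V') inf_le_left o} := by
  have := hq.affine
  have := C.isClosedImmersion_lift_Φ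
  exact sections_closed C.Φ_base (hW₀.preimage q) hV hV'a
    (by rw [← hg, Scheme.Hom.comp_preimage]; exact q.preimage_mono hWV) hV'

/-- for flat `f'`, invariant sections come from the quotient and the base -/
theorem mem_gen_of_invariant [Flat C.f'] (a : Γ(SymProd.fibPow C.f' d, part C (q := q) W₀ V'))
    (ha : ∀ σ, pAct C.f' _ σ (part_le_perm C hq W₀ V' _) a = a) : a ∈ gen C (q := q) W₀ V' := by
  classical
  have := hq.affine
  let W := q ⁻¹ᵁ W₀
  have hW : IsAffineOpen W := hW₀.preimage q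
  let E := part C (q := q) W₀ V'
  have hE : IsAffineOpen E := (isAffineOpen_part C hq W₀ V' hg hV hW₀ hWV hV'a hV').1
  let φ := C.Φ.appLE W E inf_le_left
  let β := (WidePullback.base (fun _ : Fin d => C.f')).appLE V' E inf_le_right
  let J : Ideal Γ(Y, W₀) :=
    { carrier := {b | φ (q.app W₀ b) * a ∈ gen C (q := q) W₀ V'}
      zero_mem' := by simp
      add_mem' := fun {x y} hx hy => by
        simp only [Set.mem_ofPred_eq, map_add, add_mul] at *
        exact add_mem hx hy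
      smul_mem' := fun t x hx => by
        simp only [Set.mem_ofPred_eq, smul_eq_mul, map_mul, mul_assoc] at *
        exact mul_mem (Subring.subset_closure (Or.inr ⟨t, rfl⟩)) hx }
  suffices J = ⊤ by simpa [J] using (Ideal.eq_top_iff_one J).1 this
  rw [← Ideal.span_eq J, ← hW₀.iSup_basicOpen_eq_self_iff]
  refine le_antisymm (iSup_le fun b => Y.basicOpen_le _) fun y hy => ?_
  obtain ⟨k, c, U, cc, p, hU, hUV, hcc, hp, hD, htr⟩ := exists_local f hq W₀ hg hV hW₀ hWV hy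
  let B := boxOpen f c U V
  let B' := boxOpen C.f' c (side C U V') V'
  have hB' : IsAffineOpen B' := by
    have := C.closed
    exact isAffineOpen_boxOpen (fun j => (sections_closed C.w (hU j) hV hV'a (hUV j) hV').1) hV'a
      (fun j => inf_le_right)
  let P := SymProd.fibPow f d
  let P' := SymProd.fibPow C.f' d
  let ψ := C.Φ.appLE B B' (box_le C hV')
  let D := P.basicOpen cc
  let D' := P'.basicOpen (φ cc)
  have hD' : D' = E ⊓ C.Φ ⁻¹ᵁ D := Scheme.basicOpen_appLE _ _ _ _ _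
  have hDB : D ≤ B := hD.trans_le (P.basicOpen_le p)
  have hD'2 : D' = P'.basicOpen (ψ p) := by
    rw [hD', show P'.basicOpen (ψ p) = B' ⊓ C.Φ ⁻¹ᵁ P.basicOpen p from Scheme.basicOpen_appLE _ _ _ _ _, ← hD]
    refine le_antisymm (fun x hx => ⟨le_box C ⟨hDB hx.2, hx.1.2⟩, hx.2⟩) (fun x hx => ⟨⟨?_, ?_⟩, hx.2⟩)
    · exact P.basicOpen_le cc hx.2
    · exact boxOpen_le_base _ _ _ _ hx.1
  have hD'E : D' ≤ E := P'.basicOpen_le _
  have hD'B : D' ≤ B' := hD'2 ▸ P'.basicOpen_le _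
  have hD'D : D' ≤ C.Φ ⁻¹ᵁ D := hD'.trans_le inf_le_right
  have eD : ∀ σ ∈ stab c, D ≤ SymProd.permHom f d σ ⁻¹ᵁ D := by
    intro σ hσ x hx
    have h := hcc σ⁻¹ ((stab c).inv_mem hσ)
    have hx' : x ∈ P.basicOpen (pAct f W σ⁻¹ (preimage_le_perm f hq W₀ _) cc) := h.symm ▸ hx
    exact (mem_basicOpen_pAct f σ⁻¹ _ cc (P.basicOpen_le _ hx)).1 hx'
  have eD' : ∀ σ ∈ stab c, D' ≤ SymProd.permHom C.f' d σ ⁻¹ᵁ D' := by
    intro σ hσ
    rw [hD', Scheme.Hom.preimage_inf, ← Scheme.Hom.comp_preimage, C.perm_Φ, Scheme.Hom.comp_preimage]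
    exact inf_le_inf (part_le_perm C hq W₀ V' σ) (C.Φ.preimage_mono (eD σ hσ))
  let rE := P'.presheaf.map (homOfLE hD'E).op
  let rB := P'.presheaf.map (homOfLE hD'B).op
  obtain ⟨n, z, hz, hzr⟩ := exists_extend hB' (ψ p) hD'2 hD'B (ι := stab c)
    (fun σ => pAct C.f' B' σ.1 (boxOpen_le_perm C.f' c _ V' ((stab c).inv_mem σ.2)))
    (fun σ => pAct C.f' D' σ.1 (eD' _ ((stab c).inv_mem σ.2)))
    (fun σ x => pAct_res C.f' _ _ _ _ x)
    (fun σ => (pAct_Φ C (box_le C hV') σ.1 _ _ p).trans (congrArg ψ (hp σ.1 σ.2)))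
    (x := rE a) (fun σ => by
      show pAct C.f' D' σ.1 _ (rE a) = _
      rw [← pAct_res C.f' hD'E σ.1 (part_le_perm C hq W₀ V' _) _ a, ha])
  -- the elements of `E` needed
  let S₁ : AddSubgroup Γ(P', E) := AddSubgroup.closure
    {x | ∃ (r : Γ(C.S', V')) (o : Γ(P, W)),
      (∀ σ ∈ stab c, pAct f W σ (preimage_le_perm f hq W₀ _) o = o) ∧ x = β r * φ o}
  have hS₁ : ∀ (m : ℕ), ∀ x ∈ S₁, φ cc ^ m * x ∈ S₁ := by
    intro m x hx
    refine (AddSubgroup.closure_le (S₁.comap (AddMonoidHom.mulLeft _))).2 ?_ hx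
    rintro _ ⟨r, o, ho, rfl⟩
    exact AddSubgroup.subset_closure ⟨r, cc ^ m * o, fun σ hσ => by rw [map_mul, map_pow, hcc σ hσ, ho σ hσ],
      show φ cc ^ m * (β r * φ o) = _ by rw [map_mul, map_pow]; ring⟩
  let Good : AddSubgroup Γ(P', D') :=
    { carrier := {x | ∃ (N : ℕ), ∃ o ∈ S₁, rE o = rE (φ cc) ^ N * x}
      zero_mem' := ⟨0, 0, zero_mem _, by simp⟩
      add_mem' := by
        rintro x x' ⟨N, o, ho, h⟩ ⟨N', o', ho', h'⟩
        refine ⟨N + N', φ cc ^ N' * o + φ cc ^ N * o', add_mem (hS₁ _ _ ho) (hS₁ _ _ ho'), ?_⟩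
        rw [map_add, map_mul, map_mul, h, h', map_pow, map_pow]; ring
      neg_mem' := by
        rintro x ⟨N, o, ho, h⟩
        exact ⟨N, -o, neg_mem ho, by rw [map_neg, h, mul_neg]⟩ }
  -- the inverse of `p` over `D`
  have hpD : IsUnit (P.presheaf.map (homOfLE hDB).op p) := by
    rw [← isUnit_pow_iff (n := 1) one_ne_zero, pow_one]
    exact isUnit_res (isAffineOpen_boxOpen hU hV hUV) p hD hDB
  obtain ⟨u, hu⟩ := ((hpD.pow n).exists_right_inv)
  have huinv : ∀ σ (hσ : σ ∈ stab c), pAct f D σ (eD _ ((stab c).inv_mem hσ)) u = u := fun σ hσ => by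
    have h1 : pAct f D σ (eD _ ((stab c).inv_mem hσ)) (P.presheaf.map (homOfLE hDB).op p) =
        P.presheaf.map (homOfLE hDB).op p := by
      rw [← pAct_res f hDB σ (boxOpen_le_perm f c U V ((stab c).inv_mem hσ)) _ p, hp σ hσ]
    have h2 := congrArg (pAct f D σ (eD _ ((stab c).inv_mem hσ))) hu
    rw [map_mul, map_pow, h1, map_one, ← hu] at h2
    exact (hpD.pow n).mul_left_cancel h2
  let φD := C.Φ.appLE D D' hD'D
  have hφB : ∀ x, rB (ψ x) = φD (P.presheaf.map (homOfLE hDB).op x) := fun x => by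
    show (ψ ≫ P'.presheaf.map _) x = (P.presheaf.map _ ≫ φD) x
    rw [Scheme.Hom.appLE_map, Scheme.Hom.map_appLE]
  have hφE : ∀ x, rE (φ x) = φD (P.presheaf.map (homOfLE (P.basicOpen_le cc)).op x) := fun x => by
    show (φ ≫ P'.presheaf.map _) x = (P.presheaf.map _ ≫ φD) x
    rw [Scheme.Hom.appLE_map, Scheme.Hom.map_appLE]
  have hβ : ∀ r, rB ((WidePullback.base (fun _ : Fin d => C.f')).appLE V' B'
      (boxOpen_le_base C.f' c _ V') r) = rE (β r) := fun r => by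
    show (_ ≫ P'.presheaf.map _) r = (β ≫ P'.presheaf.map _) r
    rw [Scheme.Hom.appLE_map, Scheme.Hom.appLE_map]
  have hgood : rB z * φD u ∈ Good := by
    refine (AddSubgroup.closure_le (Good.comap ((AddMonoidHom.mulRight (φD u)).comp rB.hom.toAddMonoidHom))).2 ?_
      (box_mem_closure C hU hV hUV hV'a hV' fun σ hσ => hz ⟨σ, hσ⟩)
    rintro _ ⟨r, w, hw, rfl⟩
    show rB (_ * _) * φD u ∈ Good
    rw [map_mul, hβ, hφB, mul_assoc, ← map_mul]
    obtain ⟨m, o, ho, hor⟩ := exists_extend hW cc (D := D) rfl (P.basicOpen_le _) (ι := stab c)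
      (fun σ => pAct f W σ.1 (preimage_le_perm f hq W₀ _))
      (fun σ => pAct f D σ.1 (eD _ ((stab c).inv_mem σ.2)))
      (fun σ x => pAct_res f _ _ _ _ x) (fun σ => hcc σ.1 σ.2)
      (x := P.presheaf.map (homOfLE hDB).op w * u) (fun σ => by
        show pAct f D σ.1 _ (_ * _) = _
        rw [map_mul, huinv σ.1 σ.2, ← pAct_res f hDB σ.1 (boxOpen_le_perm f c U V ((stab c).inv_mem σ.2)) _ w,
          hw σ.1 σ.2])
    refine ⟨m, β r * φ o, AddSubgroup.subset_closure ⟨r, o, fun σ hσ => ho ⟨σ, hσ⟩, rfl⟩, ?_⟩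
    rw [map_mul, hφE, hor, hφE, map_mul φD.hom, map_pow]
    ring
  have hza : rB z * φD u = rE a := by
    rw [hzr]
    show rB (ψ p) ^ n * rE a * φD u = _
    rw [hφB, ← map_pow, mul_comm _ (rE a), mul_assoc, ← map_mul, hu, map_one, mul_one]
  rw [hza] at hgood
  obtain ⟨N, o, ho, hor⟩ := hgood
  obtain ⟨M, hM⟩ := eq_zero_of_res hE (φ cc) (D := D') rfl hD'E (a := φ cc ^ N * a - o) (by
    rw [map_sub, map_mul, map_pow]
    exact sub_eq_zero.2 hor.symm)
  rw [mul_sub, sub_eq_zero, ← mul_assoc, ← pow_add] at hM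
  have hfin : φ cc ^ (M + N + 1) * a ∈ S₁ := by
    rw [pow_succ', mul_assoc, hM, ← mul_assoc, ← pow_succ']
    exact hS₁ _ _ ho
  obtain ⟨b, hb⟩ := pAct_cosetSum f hq W₀ (stab c) (a := cc ^ (M + N + 1))
    (fun σ hσ => by rw [map_pow, hcc σ hσ])
  refine TopologicalSpace.Opens.mem_iSup.2 ⟨⟨b, ?_⟩, htr _ b hb⟩
  show φ (q.app W₀ b) * a ∈ gen C (q := q) W₀ V'
  let τ' : Equiv.Perm (Fin d) → Γ(P', E) →+* Γ(P', E) := fun σ => pAct C.f' E σ (part_le_perm C hq W₀ V' _)
  have hφτ : ∀ σ x, φ (pAct f W σ (preimage_le_perm f hq W₀ _) x) = τ' σ (φ x) := fun σ x =>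
    (pAct_Φ C inf_le_left σ _ _ x).symm
  let T : Γ(P', E) →+ Γ(P', E) :=
    ∑ t : Equiv.Perm (Fin d) ⧸ stab c, (τ' t.out).toAddMonoidHom
  have hT : ∀ x, T x = cosetSum (stab c) (fun σ => τ' σ) x := fun x => by
    simp [T, cosetSum_def, AddMonoidHom.finsetSum_apply]
  have e1 : φ (q.app W₀ b) * a = T (φ cc ^ (M + N + 1) * a) := by
    rw [hb, hT, map_cosetSum (stab c) φ.hom _ (fun σ => τ' σ) hφτ, cosetSum_def, cosetSum_def, Finset.sum_mul]
    refine Finset.sum_congr rfl fun t _ => ?_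
    show τ' t.out (φ (cc ^ (M + N + 1))) * a = τ' t.out (φ cc ^ (M + N + 1) * a)
    rw [map_mul (τ' t.out), ha, map_pow φ.hom]
  rw [e1]
  refine (AddSubgroup.closure_le ((gen C (q := q) W₀ V').toAddSubgroup.comap T)).2 ?_ hfin
  rintro _ ⟨r, o', ho', rfl⟩
  show T (β r * φ o') ∈ gen C (q := q) W₀ V'
  obtain ⟨b', hb'⟩ := pAct_cosetSum f hq W₀ (stab c) ho'
  have e2 : T (β r * φ o') = β r * φ (q.app W₀ b') := by
    rw [hb', hT, map_cosetSum (stab c) φ.hom _ (fun σ => τ' σ) hφτ, cosetSum_def, cosetSum_def, Finset.mul_sum]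
    refine Finset.sum_congr rfl fun t _ => ?_
    show τ' t.out (β r * φ o') = β r * τ' t.out (φ o')
    rw [map_mul (τ' t.out)]
    congr 1
    exact pAct_base t.out _ inf_le_right r
  rw [e2]
  exact mul_mem (Subring.subset_closure (Or.inl ⟨r, rfl⟩)) (Subring.subset_closure (Or.inr ⟨b', rfl⟩))

end Main

end Groth.Cycles.SymInv
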