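import Groth.Agent.Cycles.SymBox
import Groth.Agent.Pi1Quot.Local
import Groth.Agent.FlatMorOne.FiniteAvoid

/-! Near an orbit, a symmetric product looks like the quotient of a box by the permutations preserving its type. -/

set_option autoImplicit false
set_option backward.isDefEq.respectTransparency false

universe u

open CategoryTheory CategoryTheory.Limits AlgebraicGeometry
open scoped TensorProduct
open Groth.Cycles.SymBox Groth.Cycles.SymCoset

namespace Groth.Cycles.SymLocal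

section Extend

variable {P : Scheme.{u}} {E D : P.Opens} (hE : IsAffineOpen E) (s : Γ(P, E)) (hD : D = P.basicOpen s)

include hE hD

theorem isUnit_res (h : D ≤ E) : IsUnit (P.presheaf.map (homOfLE h).op s) := by
  letI : Algebra Γ(P, E) Γ(P, D) := (P.presheaf.map (homOfLE h).op).hom.toAlgebra
  have := hE.isLocalization_of_eq_basicOpen s (homOfLE h) hD
  exact IsLocalization.Away.algebraMap_isUnit (S := Γ(P, D)) s

theorem eq_zero_of_res (h : D ≤ E) {a : Γ(P, E)} (ha : P.presheaf.map (homOfLE h).op a = 0) :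
    ∃ n : ℕ, s ^ n * a = 0 := by
  letI : Algebra Γ(P, E) Γ(P, D) := (P.presheaf.map (homOfLE h).op).hom.toAlgebra
  have := hE.isLocalization_of_eq_basicOpen s (homOfLE h) hD
  obtain ⟨⟨_, m, rfl⟩, hm⟩ := (IsLocalization.map_eq_zero_iff (Submonoid.powers s) Γ(P, D) a).1 ha
  exact ⟨m, hm⟩

theorem exists_extend (h : D ≤ E) {ι : Type*} [Finite ι] (τE : ι → Γ(P, E) →+* Γ(P, E))
    (τD : ι → Γ(P, D) →+* Γ(P, D))
    (hcomm : ∀ i a, P.presheaf.map (homOfLE h).op (τE i a) = τD i (P.presheaf.map (homOfLE h).op a))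
    (hs : ∀ i, τE i s = s) {x : Γ(P, D)} (hx : ∀ i, τD i x = x) :
    ∃ (n : ℕ) (a : Γ(P, E)), (∀ i, τE i a = a) ∧
      P.presheaf.map (homOfLE h).op a = P.presheaf.map (homOfLE h).op s ^ n * x := by
  classical
  cases nonempty_fintype ι
  letI : Algebra Γ(P, E) Γ(P, D) := (P.presheaf.map (homOfLE h).op).hom.toAlgebra
  have := hE.isLocalization_of_eq_basicOpen s (homOfLE h) hD
  obtain ⟨n, a, ha⟩ := IsLocalization.Away.surj s x
  change x * P.presheaf.map (homOfLE h).op s ^ n = P.presheaf.map (homOfLE h).op a at ha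
  have hga : ∀ i, ∃ m : ℕ, s ^ m * (τE i a - a) = 0 := fun i => eq_zero_of_res hE s hD h <| by
    rw [map_sub, hcomm, ← ha, map_mul, map_pow, hx, ← hcomm, hs, sub_self]
  choose m hm using hga
  refine ⟨n + Finset.univ.sup m, s ^ Finset.univ.sup m * a, fun i => ?_, ?_⟩
  · rw [map_mul, map_pow, hs, ← sub_eq_zero, ← mul_sub]
    obtain ⟨j, hj⟩ := Nat.exists_eq_add_of_le (Finset.le_sup (f := m) (Finset.mem_univ i))
    rw [hj, pow_add, mul_comm (s ^ m i), mul_assoc, hm, mul_zero]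
  · rw [map_mul, map_pow, ← ha, pow_add]
    ring

end Extend

variable {X S : Scheme.{u}} (f : X ⟶ S) {d : ℕ}

section Act

variable {E D : (SymProd.fibPow f d).Opens}

theorem pAct_res (h : D ≤ E) (σ : Equiv.Perm (Fin d)) (eE : E ≤ SymProd.permHom f d σ.symm ⁻¹ᵁ E)
    (eD : D ≤ SymProd.permHom f d σ.symm ⁻¹ᵁ D) (a : Γ(SymProd.fibPow f d, E)) :
    (SymProd.fibPow f d).presheaf.map (homOfLE h).op (pAct f E σ eE a) =
      pAct f D σ eD ((SymProd.fibPow f d).presheaf.map (homOfLE h).op a) :=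
  RingHom.congr_fun (congrArg CommRingCat.Hom.hom
    ((Scheme.Hom.appLE_map (SymProd.permHom f d σ.symm) eE (homOfLE h).op).trans
      (Scheme.Hom.map_appLE (SymProd.permHom f d σ.symm) eD (homOfLE h).op).symm)) a

theorem pAct_mul (σ τ : Equiv.Perm (Fin d)) (e : ∀ σ : Equiv.Perm (Fin d),
    E ≤ SymProd.permHom f d σ ⁻¹ᵁ E) (a : Γ(SymProd.fibPow f d, E)) :
    pAct f E (σ * τ) (e _) a = pAct f E σ (e _) (pAct f E τ (e _) a) := by
  show _ = ((SymProd.permHom f d τ.symm).appLE E E (e _) ≫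
    (SymProd.permHom f d σ.symm).appLE E E (e _)) a
  rw [Scheme.Hom.appLE_comp_appLE]
  exact RingHom.congr_fun (congrArg CommRingCat.Hom.hom
    (Groth.Pi1Quot.appLE_congr_hom (SymProd.permHom_mul f d τ.symm σ.symm) E E _ _)) a

theorem mem_basicOpen_pAct (σ : Equiv.Perm (Fin d)) (e : E ≤ SymProd.permHom f d σ.symm ⁻¹ᵁ E)
    (a : Γ(SymProd.fibPow f d, E)) {x : ↥(SymProd.fibPow f d)} (hx : x ∈ E) :
    x ∈ (SymProd.fibPow f d).basicOpen (pAct f E σ e a) ↔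
      (SymProd.permHom f d σ.symm).base x ∈ (SymProd.fibPow f d).basicOpen a := by
  show x ∈ (SymProd.fibPow f d).basicOpen ((SymProd.permHom f d σ.symm).appLE E E e a) ↔ _
  rw [Scheme.basicOpen_appLE]
  exact ⟨fun h => h.2, fun h => ⟨hx, h⟩⟩

/-- an invariant section with prescribed non-vanishing -/
theorem exists_basicOpen_inv (hE : IsAffineOpen E) (O : (SymProd.fibPow f d).Opens)
    (H : Subgroup (Equiv.Perm (Fin d))) (eE : ∀ σ ∈ H, E ≤ SymProd.permHom f d σ ⁻¹ᵁ E)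
    {ξ : ↥(SymProd.fibPow f d)}
    (hξ : ∀ σ ∈ H, (SymProd.permHom f d σ).base ξ ∈ E ⊓ O) :
    ∃ a : Γ(SymProd.fibPow f d, E), (∀ (σ) (hσ : σ ∈ H), pAct f E σ (eE _ (H.inv_mem hσ)) a = a) ∧
      ξ ∈ (SymProd.fibPow f d).basicOpen a ∧ (SymProd.fibPow f d).basicOpen a ≤ O := by
  classical
  have : IsAffine E := hE
  let P := SymProd.fibPow f d
  let T : Finset (E : Scheme.{u}) := Finset.univ.image fun σ : H => ⟨(SymProd.permHom f d σ.1).base ξ, (hξ _ σ.2).1⟩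
  obtain ⟨h, hh, hle⟩ := Groth.FlatMorOne.exists_basicOpen_finset (E.ι ⁻¹ᵁ O) T (by
    intro z hz
    obtain ⟨σ, -, rfl⟩ := Finset.mem_image.1 hz
    exact (hξ _ σ.2).2)
  obtain ⟨a, ha⟩ : ∃ a : Γ(P, E), ∀ (y : P) (hy : y ∈ E),
      y ∈ P.basicOpen a ↔ (⟨y, hy⟩ : (E : Scheme.{u})) ∈ (E : Scheme.{u}).basicOpen h := by
    refine ⟨E.topIso.hom h, fun y hy => ?_⟩
    rw [Scheme.Opens.mem_basicOpen_toScheme]
    have e : P.basicOpen (E.topIso.hom h) = P.basicOpen h := by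
      rw [Scheme.Opens.topIso_hom]
      exact P.basicOpen_res_eq _ _
    show y ∈ P.basicOpen (E.topIso.hom h) ↔ _
    rw [e]
  let act : H → Γ(P, E) →+* Γ(P, E) := fun σ => pAct f E σ.1 (eE _ (H.inv_mem σ.2))
  have hmul : ∀ (σ τ : H) b, act (σ * τ) b = act σ (act τ b) := by
    intro σ τ b
    show _ = ((SymProd.permHom f d τ.1.symm).appLE E E _ ≫ (SymProd.permHom f d σ.1.symm).appLE E E _) b
    rw [Scheme.Hom.appLE_comp_appLE]
    exact RingHom.congr_fun (congrArg CommRingCat.Hom.hom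
      (Groth.Pi1Quot.appLE_congr_hom (SymProd.permHom_mul f d τ.1.symm σ.1.symm) E E _ _)) b
  refine ⟨∏ σ : H, act σ a, fun σ hσ => ?_, ?_, ?_⟩
  · have hinv : act ⟨σ, hσ⟩ (∏ τ : H, act τ a) = ∏ τ : H, act τ a := by
      rw [map_prod]
      simp only [← hmul]
      exact Equiv.prod_comp (Equiv.mulLeft (⟨σ, hσ⟩ : H)) (fun τ => act τ a)
    exact hinv
  · have hξE : ξ ∈ E := by
      have := (hξ 1 H.one_mem).1
      rwa [SymProd.permHom_one] at this
    rw [← Scheme.evaluation_ne_zero_iff_mem_basicOpen _ _ hξE, map_prod, Finset.prod_ne_zero_iff]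
    intro σ _
    rw [Scheme.evaluation_ne_zero_iff_mem_basicOpen]
    refine (mem_basicOpen_pAct f σ.1 _ a hξE).2 ?_
    exact (ha _ (hξ _ (H.inv_mem σ.2)).1).2 (hh _ (Finset.mem_image.2 ⟨σ⁻¹, Finset.mem_univ _, rfl⟩))
  · intro y hy
    have hyE : y ∈ E := P.basicOpen_le _ hy
    rw [← Scheme.evaluation_ne_zero_iff_mem_basicOpen _ _ hyE, map_prod, Finset.prod_ne_zero_iff] at hy
    have h1 := hy 1 (Finset.mem_univ _)
    rw [Scheme.evaluation_ne_zero_iff_mem_basicOpen] at h1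
    have h2 := (mem_basicOpen_pAct f _ _ a hyE).1 h1
    have e1 : SymProd.permHom f d (((1 : H) : Equiv.Perm (Fin d))).symm = 𝟙 _ := SymProd.permHom_one f d
    rw [e1] at h2
    exact hle ((ha y hyE).1 h2)

end Act

section Quot

variable {Y : Scheme.{u}} {q : SymProd.fibPow f d ⟶ Y} (hq : SGA1.IsQuot (SymProd.permActU f d) q) (W₀ : Y.Opens)

include hq

theorem preimage_le_perm (σ : Equiv.Perm (Fin d)) : q ⁻¹ᵁ W₀ ≤ SymProd.permHom f d σ ⁻¹ᵁ (q ⁻¹ᵁ W₀) :=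
  SGA1.preimage_le_of_inv _ q hq.inv ⟨σ⟩ W₀

theorem pAct_app (σ : Equiv.Perm (Fin d)) (b : Γ(Y, W₀)) :
    pAct f (q ⁻¹ᵁ W₀) σ (preimage_le_perm f hq W₀ _) (q.app W₀ b) = q.app W₀ b :=
  Groth.Pi1Quot.sectionHom_app hq.inv W₀ ⟨σ⟩ b

theorem exists_app_eq {a : Γ(SymProd.fibPow f d, q ⁻¹ᵁ W₀)}
    (ha : ∀ σ, pAct f (q ⁻¹ᵁ W₀) σ (preimage_le_perm f hq W₀ _) a = a) : ∃ b, q.app W₀ b = a :=
  (hq.range_iff W₀ a).2 ((Groth.Pi1Quot.forall_smul_iff hq.inv W₀ a).1 fun g => ha g.down)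

/-- the trace from sections invariant under a subgroup -/
theorem pAct_cosetSum (H : Subgroup (Equiv.Perm (Fin d))) {a : Γ(SymProd.fibPow f d, q ⁻¹ᵁ W₀)}
    (ha : ∀ σ ∈ H, pAct f (q ⁻¹ᵁ W₀) σ (preimage_le_perm f hq W₀ _) a = a) :
    ∃ b, q.app W₀ b = cosetSum H (fun σ => pAct f (q ⁻¹ᵁ W₀) σ (preimage_le_perm f hq W₀ _)) a :=
  exists_app_eq f hq W₀ (apply_cosetSum H _
    (fun g h a => pAct_mul f g h (fun σ => preimage_le_perm f hq W₀ σ) a) ha)

variable {g : Y ⟶ S} (hg : q ≫ g = WidePullback.base (fun _ : Fin d => f)) {V : S.Opens} (hV : IsAffineOpen V)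
  (hW₀ : IsAffineOpen W₀) (hWV : W₀ ≤ g ⁻¹ᵁ V)

include hg hV hW₀ hWV

/-- the local structure near the orbit over a point of the quotient -/
theorem exists_local {y : Y} (hy : y ∈ W₀) :
    ∃ (k : ℕ) (c : Fin d → Fin k) (U : Fin k → X.Opens) (a : Γ(SymProd.fibPow f d, q ⁻¹ᵁ W₀))
      (p : Γ(SymProd.fibPow f d, boxOpen f c U V)),
      (∀ j, IsAffineOpen (U j)) ∧ (∀ j, U j ≤ f ⁻¹ᵁ V) ∧
      (∀ σ ∈ stab c, pAct f (q ⁻¹ᵁ W₀) σ (preimage_le_perm f hq W₀ _) a = a) ∧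
      (∀ (σ) (hσ : σ ∈ stab c),
        pAct f (boxOpen f c U V) σ (boxOpen_le_perm f c U V ((stab c).inv_mem hσ)) p = p) ∧
      (SymProd.fibPow f d).basicOpen a = (SymProd.fibPow f d).basicOpen p ∧
      ∀ (n : ℕ) (b : Γ(Y, W₀)),
        q.app W₀ b = cosetSum (stab c)
          (fun σ => pAct f (q ⁻¹ᵁ W₀) σ (preimage_le_perm f hq W₀ _)) (a ^ (n + 1)) →
        y ∈ Y.basicOpen b := by
  classical
  have := hq.affine
  let P := SymProd.fibPow f d
  obtain ⟨ξ, hξ⟩ := (Groth.Pi1Quot.surjective hq).surj y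
  let W := q ⁻¹ᵁ W₀
  have hW : IsAffineOpen W := hW₀.preimage q
  have hξW : ξ ∈ W := show q.base ξ ∈ W₀ from hξ.symm ▸ hy
  let x : Fin d → X := fun i => (WidePullback.π (fun _ : Fin d => f) i).base ξ
  let Im := Finset.univ.image x
  let k := Im.card
  let c : Fin d → Fin k := fun i => Im.equivFin ⟨x i, Finset.mem_image.2 ⟨i, Finset.mem_univ _, rfl⟩⟩
  let x' : Fin k → X := fun j => (Im.equivFin.symm j).1
  have hx' : ∀ i, x' (c i) = x i := fun i => by simp [x', c]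
  have hinj : Function.Injective x' := fun a b h => Im.equivFin.symm.injective (Subtype.ext h)
  have hxV : ∀ i, x i ∈ f ⁻¹ᵁ V := fun i => by
    show f.base ((WidePullback.π (fun _ : Fin d => f) i).base ξ) ∈ V
    rw [← Scheme.Hom.comp_apply, WidePullback.π_arrow, ← hg, Scheme.Hom.comp_apply]
    exact hWV hξW
  have hex : ∀ j : Fin k, ∃ U : X.Opens, IsAffineOpen U ∧ x' j ∈ U ∧ U ≤ f ⁻¹ᵁ V ∧
      ∀ j', x' j' ∈ U → x' j' ⤳ x' j := by
    intro j
    let O : X.Opens := ⟨(f ⁻¹ᵁ V : Set X) ∩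
        (⋃ j' ∈ {j' | ¬ x' j' ⤳ x' j}, closure {x' j'})ᶜ,
      (f ⁻¹ᵁ V).2.inter (Set.Finite.isClosed_biUnion (Set.toFinite _) fun _ _ => isClosed_closure).isOpen_compl⟩
    have hjO : x' j ∈ O := by
      refine ⟨?_, ?_⟩
      · obtain ⟨i, -, hi⟩ := Finset.mem_image.1 (Im.equivFin.symm j).2
        show x' j ∈ f ⁻¹ᵁ V
        rw [show x' j = x i from hi.symm]
        exact hxV i
      · simp only [Set.mem_compl_iff, Set.mem_iUnion, exists_prop, not_exists, not_and]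
        exact fun j' hj' hcl => hj' (specializes_iff_mem_closure.2 hcl)
    obtain ⟨_, ⟨U, hU, rfl⟩, hjU, hUO⟩ := X.isBasis_affineOpens.exists_subset_of_mem_open hjO O.2
    refine ⟨U, hU, hjU, fun z hz => (hUO hz).1, fun j' hj' => ?_⟩
    by_contra hsp
    exact (hUO hj').2 (Set.mem_biUnion (show j' ∈ {j' | ¬ x' j' ⤳ x' j} from hsp) (subset_closure rfl))
  choose U hU hjU hUV hUspec using hex
  let B := boxOpen f c U V
  have hB : IsAffineOpen B := isAffineOpen_boxOpen hU hV hUV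
  have hperm : ∀ σ i, (WidePullback.π (fun _ : Fin d => f) i).base ((SymProd.permHom f d σ).base ξ) =
      x (σ.symm i) := fun σ i => π_permHom f σ ξ i
  have hbase : ∀ σ, (WidePullback.base (fun _ : Fin d => f)).base ((SymProd.permHom f d σ).base ξ) ∈ V := fun σ => by
    rw [← Scheme.Hom.comp_apply, SymProd.permHom_base, ← hg, Scheme.Hom.comp_apply]
    exact hWV hξW
  have hinB : ∀ σ, (SymProd.permHom f d σ).base ξ ∈ B ↔ σ ∈ stab c := by
    intro σ
    rw [mem_boxOpen]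
    constructor
    · rintro ⟨h1, -⟩
      have h2 : ∀ i, x (σ⁻¹ i) ⤳ x i := fun i => by
        have := h1 i
        rw [hperm, ← hx'] at this
        have := hUspec (c i) _ this
        rwa [hx', hx'] at this
      have h3 : ∀ (m : ℕ) i, x ((σ⁻¹ ^ m) i) ⤳ x i := by
        intro m
        induction m with
        | zero => exact fun i => specializes_rfl
        | succ m ih =>
          intro i
          rw [pow_succ', Equiv.Perm.mul_apply]
          exact (h2 _).trans (ih i)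
      intro i
      refine hinj ?_
      rw [hx', hx']
      refine (Specializes.antisymm ?_ ?_).eq
      · have h4 := h3 (orderOf σ⁻¹ - 1) i
        have hpos := orderOf_pos (σ⁻¹ : Equiv.Perm (Fin d))
        have h5 : σ⁻¹ * σ⁻¹ ^ (orderOf σ⁻¹ - 1) = 1 := by
          rw [← pow_succ', show orderOf σ⁻¹ - 1 + 1 = orderOf σ⁻¹ by omega, pow_orderOf_eq_one]
        rwa [show σ⁻¹ ^ (orderOf σ⁻¹ - 1) = σ by rw [← inv_mul_eq_one.1 h5]] at h4
      · simpa using h2 (σ i)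
    · intro hσ
      refine ⟨fun i => ?_, hbase σ⟩
      rw [hperm, ← hx', stab_symm c hσ i]
      exact hjU _
  have hinW : ∀ σ, (SymProd.permHom f d σ).base ξ ∈ W := fun σ => preimage_le_perm f hq W₀ σ hξW
  -- a first invariant function on the box
  obtain ⟨p₁, hp₁, hξp₁, hp₁W⟩ := exists_basicOpen_inv f hB W (stab c)
    (fun σ hσ => boxOpen_le_perm f c U V hσ) (ξ := ξ) fun σ hσ => ⟨(hinB σ).2 hσ, hinW σ⟩
  let D₁ := P.basicOpen p₁
  have eD₁ : ∀ σ ∈ stab c, D₁ ≤ SymProd.permHom f d σ ⁻¹ᵁ D₁ := by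
    intro σ hσ z hz
    have h := hp₁ σ⁻¹ ((stab c).inv_mem hσ)
    have hz' : z ∈ P.basicOpen (pAct f B σ⁻¹ (boxOpen_le_perm f c U V
        ((stab c).inv_mem ((stab c).inv_mem hσ))) p₁) := h.symm ▸ hz
    exact (mem_basicOpen_pAct f σ⁻¹ _ p₁ (P.basicOpen_le _ hz)).1 hz'
  have hξD₁ : ∀ σ ∈ stab c, (SymProd.permHom f d σ).base ξ ∈ D₁ := fun σ hσ => eD₁ σ hσ hξp₁
  obtain ⟨a, ha, hξa, haD₁⟩ := exists_basicOpen_inv f hW D₁ (stab c)
    (fun σ _ => preimage_le_perm f hq W₀ σ) (ξ := ξ) fun σ hσ => ⟨hinW σ, hξD₁ σ hσ⟩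
  -- lift `a` to the box
  let aD : Γ(P, D₁) := P.presheaf.map (homOfLE hp₁W).op a
  obtain ⟨n, p', hp', hp'res⟩ := exists_extend hB p₁ (D := D₁) rfl (P.basicOpen_le _) (ι := stab c)
    (fun σ => pAct f B σ.1 (boxOpen_le_perm f c U V ((stab c).inv_mem σ.2)))
    (fun σ => pAct f D₁ σ.1 (eD₁ _ ((stab c).inv_mem σ.2)))
    (fun σ b => pAct_res f _ _ _ _ b) (fun σ => hp₁ σ.1 σ.2) (x := aD) (fun σ => by
      show pAct f D₁ σ.1 (eD₁ _ ((stab c).inv_mem σ.2)) (P.presheaf.map (homOfLE hp₁W).op a) = _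
      rw [← pAct_res f hp₁W σ.1 (preimage_le_perm f hq W₀ _) _ a, ha σ.1 σ.2])
  refine ⟨k, c, U, a, p₁ * p', hU, hUV, ha, fun σ hσ => ?_, ?_, fun m b hb => ?_⟩
  · rw [map_mul, hp₁ σ hσ, hp' ⟨σ, hσ⟩]
  · have h1 := congrArg P.basicOpen hp'res
    rw [Scheme.basicOpen_res, Scheme.basicOpen_mul, P.basicOpen_of_isUnit
      ((isUnit_res hB p₁ rfl (P.basicOpen_le _)).pow n), Scheme.basicOpen_res] at h1
    rw [Scheme.basicOpen_mul, h1, inf_eq_right.2 haD₁, inf_eq_right.2 haD₁]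
  · rw [← hξ]
    show ξ ∈ q ⁻¹ᵁ Y.basicOpen b
    rw [Scheme.preimage_basicOpen, hb, ← Scheme.evaluation_ne_zero_iff_mem_basicOpen _ _ hξW, cosetSum_def,
      map_sum, Finset.sum_eq_single (QuotientGroup.mk 1)]
    · have hmem : (QuotientGroup.mk 1 : Equiv.Perm (Fin d) ⧸ stab c).out ∈ stab c := by
        simpa using QuotientGroup.eq.1 (QuotientGroup.out_eq' (QuotientGroup.mk 1 : Equiv.Perm (Fin d) ⧸ stab c))
      rw [map_pow, ha _ hmem, map_pow]
      exact pow_ne_zero _ ((Scheme.evaluation_ne_zero_iff_mem_basicOpen _ _ hξW a).2 hξa)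
    · intro t _ ht
      rw [Scheme.evaluation_eq_zero_iff_notMem_basicOpen]
      intro hmem
      rw [map_pow, Scheme.basicOpen_pow _ _ (Nat.succ_pos m)] at hmem
      have h2 := (hinB _).1 (P.basicOpen_le p₁ (haD₁ ((mem_basicOpen_pAct f _ _ a hξW).1 hmem)))
      apply ht
      rw [← QuotientGroup.out_eq' t, QuotientGroup.eq]
      simpa [Equiv.Perm.inv_def] using h2
    · simp

end Quot

end Groth.Cycles.SymLocal
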