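import Groth.Agent.Cycles.SymCompare

/-! The comparison morphism out of a symmetric product. -/

set_option autoImplicit false
set_option backward.isDefEq.respectTransparency false

universe u

open CategoryTheory CategoryTheory.Limits AlgebraicGeometry
open Groth.Cycles.SymBox Groth.Cycles.SymLocal Groth.Cycles.SymClosed Groth.Cycles.SymInv Groth.Cycles.SymCompare

namespace Groth.Cycles.SymMaster

theorem surjective_app_congr {A B : Scheme.{u}} (m : A ⟶ B) {U U' : B.Opens} (h : U' = U)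
    (hs : Function.Surjective (m.app U)) : Function.Surjective (m.app U') := by subst h; exact hs

theorem bijective_app_congr {A B : Scheme.{u}} (m : A ⟶ B) {U U' : B.Opens} (h : U' = U)
    (hs : Function.Bijective (m.app U)) : Function.Bijective (m.app U') := by subst h; exact hs

variable {X S : Scheme.{u}} {f : X ⟶ S} {d : ℕ} (C : Cmp f d)
  {Y Y' T : Scheme.{u}} {q : SymProd.fibPow f d ⟶ Y} (hq : SGA1.IsQuot (SymProd.permActU f d) q)
  {g : Y ⟶ S} (hg : q ≫ g = WidePullback.base (fun _ : Fin d => f))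
  {r : SymProd.fibPow C.f' d ⟶ Y'} (hr : SGA1.IsQuot (SymProd.permActU C.f' d) r) (m : Y' ⟶ T)
  (σT : T ⟶ C.S') (tY : T ⟶ Y)
  (hσT : r ≫ m ≫ σT = WidePullback.base (fun _ : Fin d => C.f')) (htY : r ≫ m ≫ tY = C.Φ ≫ q)

/-- a chart of the target -/
structure Chart where
  V : S.Opens
  W₀ : Y.Opens
  V' : C.S'.Opens
  hV : IsAffineOpen V
  hW₀ : IsAffineOpen W₀
  hWV : W₀ ≤ g ⁻¹ᵁ V
  hV'a : IsAffineOpen V'
  hV' : V' ≤ C.b ⁻¹ᵁ V
  hD : IsAffineOpen (tY ⁻¹ᵁ W₀ ⊓ σT ⁻¹ᵁ V')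

variable {C σT tY}

/-- the open of the target -/
abbrev Chart.D (c : Chart C (g := g) σT tY) : T.Opens := tY ⁻¹ᵁ c.W₀ ⊓ σT ⁻¹ᵁ c.V'

include hσT htY in
theorem preimage_chart (c : Chart C (g := g) σT tY) : r ⁻¹ᵁ (m ⁻¹ᵁ c.D) = part C (q := q) c.W₀ c.V' := by
  rw [← Scheme.Hom.comp_preimage]
  exact preimage_eq (r ≫ m) σT tY (by rw [Category.assoc, hσT]) (by rw [Category.assoc, htY])

include hq hg hr hσT htY

theorem isAffineOpen_chart (c : Chart C (g := g) σT tY) : IsAffineOpen (m ⁻¹ᵁ c.D) :=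
  Groth.Misc5Sym.isAffineOpen_of_preimage hr _ ((preimage_chart m hσT htY c).symm ▸
    (isAffineOpen_part C hq c.W₀ c.V' hg c.hV c.hW₀ c.hWV c.hV'a c.hV').1)

omit hg in
theorem pAct_pull (c : Chart C (g := g) σT tY) (a : Γ(Y', m ⁻¹ᵁ c.D)) (σ : Equiv.Perm (Fin d)) :
    pAct C.f' _ σ (part_le_perm C hq c.W₀ c.V' _)
      (r.appLE (m ⁻¹ᵁ c.D) (part C (q := q) c.W₀ c.V') (preimage_chart m hσT htY c).ge a) =
      r.appLE (m ⁻¹ᵁ c.D) (part C (q := q) c.W₀ c.V') (preimage_chart m hσT htY c).ge a := by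
  show (r.appLE _ _ _ ≫ (SymProd.permHom C.f' d σ.symm).appLE _ _ _) a = _
  rw [Scheme.Hom.appLE_comp_appLE,
    Groth.Pi1Quot.appLE_congr_hom (show SymProd.permHom C.f' d σ.symm ≫ r = r from hr.inv ⟨σ.symm⟩) _ _ _
      (preimage_chart m hσT htY c).ge]

theorem surjective_app (c : Chart C (g := g) σT tY)
    (h : Flat C.f' ∨ IsUnit ((Nat.factorial d : ℕ) : Γ(C.S', c.V'))) :
    Function.Surjective (m.app c.D) := by
  intro a
  let a'' := r.appLE (m ⁻¹ᵁ c.D) (part C (q := q) c.W₀ c.V') (preimage_chart m hσT htY c).ge a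
  have ha'' := pAct_pull hq hr m hσT htY c a
  have hmem : a'' ∈ gen C (q := q) c.W₀ c.V' := by
    rcases h with hf | hn
    · exact mem_gen_of_invariant C hq c.W₀ c.V' hg c.hV c.hW₀ c.hWV c.hV'a c.hV' a'' ha''
    · exact mem_gen_of_isUnit hq hg (r ≫ m) σT tY (by rw [Category.assoc, hσT])
        (by rw [Category.assoc, htY]) c.hV c.hW₀ c.hWV c.hV'a c.hV' hn a'' ha''
  have e : part C (q := q) c.W₀ c.V' ≤ (r ≫ m) ⁻¹ᵁ c.D := by
    rw [Scheme.Hom.comp_preimage]; exact (preimage_chart m hσT htY c).ge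
  obtain ⟨d₀, hd₀⟩ := exists_appLE_eq hq hg (r ≫ m) σT tY (by rw [Category.assoc, hσT])
    (by rw [Category.assoc, htY]) c.hV c.hW₀ c.hWV c.hV'a c.hV' e hmem
  refine ⟨d₀, hr.injective _ ?_⟩
  have : IsIso ((SymProd.fibPow C.f' d).presheaf.map (homOfLE (preimage_chart m hσT htY c).ge).op) := by
    rw [Subsingleton.elim (homOfLE (preimage_chart m hσT htY c).ge).op
      (eqToHom (preimage_chart m hσT htY c).symm).op]
    infer_instance
  apply (ConcreteCategory.bijective_of_isIso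
    ((SymProd.fibPow C.f' d).presheaf.map (homOfLE (preimage_chart m hσT htY c).ge).op)).1
  show r.appLE (m ⁻¹ᵁ c.D) _ _ (m.app c.D d₀) = r.appLE (m ⁻¹ᵁ c.D) _ _ a
  refine Eq.trans ?_ hd₀
  show (m.app c.D ≫ r.appLE (m ⁻¹ᵁ c.D) _ _) d₀ = _
  rw [← Scheme.Hom.appLE_eq_app, Scheme.Hom.appLE_comp_appLE]

variable (hcover : ∀ z : T, ∃ c : Chart C (g := g) σT tY, z ∈ c.D)
include hcover

theorem isClosedImmersion
    (h : Flat C.f' ∨ ∀ n : ℕ, 0 < n → IsUnit ((n : ℕ) : Γ(C.S', ⊤))) : IsClosedImmersion m := by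
  choose c hc using hcover
  refine HasAffineProperty.of_iSup_eq_top (P := @IsClosedImmersion)
    (fun z : T => (⟨(c z).D, (c z).hD⟩ : T.affineOpens))
    (eq_top_iff.2 fun z _ => TopologicalSpace.Opens.mem_iSup.2 ⟨z, hc z⟩) fun z => ?_
  refine ⟨isAffineOpen_chart hq hg hr m hσT htY (c z), ?_⟩
  have hs := surjective_app hq hg hr m hσT htY (c z) (h.imp_right fun hn => by
    have h1 := (hn _ (Nat.factorial_pos d)).map (C.S'.presheaf.map (homOfLE (le_top (a := (c z).V'))).op).hom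
    rwa [map_natCast] at h1)
  rw [morphismRestrict_appTop]
  refine (ConcreteCategory.bijective_of_isIso
    (Y'.presheaf.map (eqToHom (image_morphismRestrict_preimage m (c z).D ⊤)).op)).2.comp ?_
  exact surjective_app_congr m (Scheme.Opens.ι_image_top _) hs

theorem isIso (h : Flat C.f' ∨ ∀ n : ℕ, 0 < n → IsUnit ((n : ℕ) : Γ(C.S', ⊤)))
    (hinj : ∀ c : Chart C (g := g) σT tY, Function.Injective ((r ≫ m).app c.D)) : IsIso m := by
  have := isClosedImmersion hq hg hr m hσT htY hcover h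
  choose c hc using hcover
  show MorphismProperty.isomorphisms Scheme.{u} m
  refine HasAffineProperty.of_iSup_eq_top (P := MorphismProperty.isomorphisms Scheme.{u})
    (fun z : T => (⟨(c z).D, (c z).hD⟩ : T.affineOpens))
    (eq_top_iff.2 fun z _ => TopologicalSpace.Opens.mem_iSup.2 ⟨z, hc z⟩) fun z => ?_
  refine ⟨isAffineOpen_chart hq hg hr m hσT htY (c z), ?_⟩
  rw [ConcreteCategory.isIso_iff_bijective, morphismRestrict_appTop]
  refine (ConcreteCategory.bijective_of_isIso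
    (Y'.presheaf.map (eqToHom (image_morphismRestrict_preimage m (c z).D ⊤)).op)).comp ?_
  refine bijective_app_congr m (Scheme.Opens.ι_image_top _) ⟨fun a b hab => hinj (c z) ?_, Scheme.Hom.app_surjective m _ (c z).hD⟩
  rw [Scheme.Hom.comp_app]
  exact congrArg (r.app _) hab

theorem isIso_residueFieldMap (y' : Y') : IsIso (m.residueFieldMap y') := by
  obtain ⟨ξ, rfl⟩ := (Groth.Pi1Quot.surjective hr).surj y'
  obtain ⟨c, hc⟩ := hcover (m (r ξ))
  have hA := isAffineOpen_chart hq hg hr m hσT htY c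
  have hξ : ξ ∈ part C (q := q) c.W₀ c.V' := (preimage_chart m hσT htY c) ▸ hc
  have key : ∀ a : Γ(Y', m ⁻¹ᵁ c.D), Y'.evaluation (m ⁻¹ᵁ c.D) (r ξ) hc a ∈
      (m.residueFieldMap (r ξ)).hom.fieldRange := by
    intro a
    have h1 := evaluation_mem_range hq hg (r ≫ m) σT tY (by rw [Category.assoc, hσT])
      (by rw [Category.assoc, htY]) c.hV c.hW₀ c.hWV c.hV'a c.hV' _ (pAct_pull hq hr m hσT htY c a) hξ
    rw [evaluation_appLE, Scheme.residueFieldMap_comp] at h1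
    obtain ⟨z, hz⟩ := h1
    exact ⟨z, RingHom.injective (r.residueFieldMap ξ).hom hz⟩
  refine (ConcreteCategory.isIso_iff_bijective _).2 ⟨RingHom.injective (m.residueFieldMap (r ξ)).hom, fun z => ?_⟩
  obtain ⟨w, rfl⟩ := Y'.residue_surjective (r ξ) z
  let := Y'.presheaf.algebra_section_stalk (⟨r ξ, hc⟩ : (m ⁻¹ᵁ c.D : Y'.Opens))
  have := hA.isLocalization_stalk ⟨r ξ, hc⟩
  obtain ⟨⟨a, s⟩, hts⟩ := IsLocalization.surj (hA.primeIdealOf ⟨r ξ, hc⟩).asIdeal.primeCompl w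
  have hu : IsUnit (Y'.residue (r ξ) (Y'.presheaf.germ (m ⁻¹ᵁ c.D) (r ξ) hc s.1)) :=
    (IsLocalization.map_units (Y'.presheaf.stalk (r ξ)) s).map (Y'.residue (r ξ)).hom
  have h1 : Y'.residue (r ξ) w * Y'.residue (r ξ) (Y'.presheaf.germ (m ⁻¹ᵁ c.D) (r ξ) hc s.1) =
      Y'.residue (r ξ) (Y'.presheaf.germ (m ⁻¹ᵁ c.D) (r ξ) hc a) := by
    rw [← map_mul]
    exact congrArg (Y'.residue (r ξ)) hts
  have h2 : Y'.residue (r ξ) w ∈ (m.residueFieldMap (r ξ)).hom.fieldRange := by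
    rw [(eq_div_iff hu.ne_zero).2 h1]
    exact div_mem (key a) (key s.1)
  exact h2

end Groth.Cycles.SymMaster
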