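import Mathlib.LinearAlgebra.TensorProduct.Pi
import Mathlib.RingTheory.Flat.Basic

/-! Invariants in a tensor product of two modules with group actions. -/

set_option autoImplicit false

universe u v

open scoped TensorProduct

namespace Groth.Cycles.SymTenInv

variable {R : Type u} [CommRing R] {M M₀ N N₀ : Type u} [AddCommGroup M] [Module R M] [AddCommGroup M₀]
  [Module R M₀] [AddCommGroup N] [Module R N] [AddCommGroup N₀] [Module R N₀]

/-- invariants commute with a flat tensor factor -/
theorem mem_range_lTensor {G : Type v} [Fintype G] [DecidableEq G] [Module.Flat R N] (τ : G → M →ₗ[R] M)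
    (ι : M₀ →ₗ[R] M) (hι : ∀ m, (∀ g, τ g m = m) ↔ m ∈ LinearMap.range ι) {z : N ⊗[R] M}
    (hz : ∀ g, (τ g).lTensor N z = z) : z ∈ LinearMap.range (ι.lTensor N) := by
  let Δ : M →ₗ[R] (G → M) := LinearMap.pi fun g => τ g - LinearMap.id
  have hex : Function.Exact ι Δ := fun m => by
    show Δ m = 0 ↔ _
    refine Iff.trans ?_ ((hι m).trans Iff.rfl)
    simp [Δ, funext_iff, sub_eq_zero]
  refine (Module.Flat.lTensor_exact (M := N) hex z).1 ?_
  apply (TensorProduct.piRight R R N fun _ : G => M).injective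
  rw [map_zero]
  funext g
  have key : ∀ x : N ⊗[R] M, TensorProduct.piRight R R N (fun _ : G => M) (Δ.lTensor N x) g =
      (τ g).lTensor N x - x := fun x => by
    induction x using TensorProduct.induction_on with
    | zero => simp
    | tmul n m => simp [Δ, TensorProduct.tmul_sub]
    | add x y hx hy => simp only [map_add, Pi.add_apply, hx, hy]; abel
  rw [key, hz, sub_self]
  rfl

/-- invariants in the left factor -/
theorem mem_range_rTensor {G : Type v} [Fintype G] [DecidableEq G] [Module.Flat R N] (τ : G → M →ₗ[R] M)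
    (ι : M₀ →ₗ[R] M) (hι : ∀ m, (∀ g, τ g m = m) ↔ m ∈ LinearMap.range ι) {z : M ⊗[R] N}
    (hz : ∀ g, (τ g).rTensor N z = z) : z ∈ LinearMap.range (ι.rTensor N) := by
  have hc : ∀ {P Q : Type u} [AddCommGroup P] [Module R P] [AddCommGroup Q] [Module R Q] (f : P →ₗ[R] Q)
      (x : P ⊗[R] N), TensorProduct.comm R Q N (f.rTensor N x) = f.lTensor N (TensorProduct.comm R P N x) := by
    intro P Q _ _ _ _ f x
    induction x using TensorProduct.induction_on with
    | zero => simp
    | tmul p n => simp
    | add x y hx hy => simp only [map_add, hx, hy]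
  obtain ⟨w, hw⟩ := mem_range_lTensor (N := N) τ ι hι (z := TensorProduct.comm R M N z)
    fun g => by rw [← hc, hz]
  refine ⟨(TensorProduct.comm R M₀ N).symm w, (TensorProduct.comm R M N).injective ?_⟩
  rw [hc, LinearEquiv.apply_symm_apply, hw]

variable (ιN : N₀ →ₗ[R] N) (ιM : M₀ →ₗ[R] M)

theorem map_injective [Module.Flat R N] [Module.Flat R M₀] (hN : Function.Injective ιN) (hM : Function.Injective ιM) :
    Function.Injective (TensorProduct.map ιN ιM) := by
  rw [show TensorProduct.map ιN ιM = ιM.lTensor N ∘ₗ ιN.rTensor M₀ from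
    (LinearMap.lTensor_comp_rTensor _ _ _).symm]
  exact (Module.Flat.lTensor_preserves_injective_linearMap ιM hM).comp
    (Module.Flat.rTensor_preserves_injective_linearMap ιN hN)

/-- invariants of a product of two actions -/
theorem mem_range_map {G H : Type v} [Fintype G] [DecidableEq G] [Fintype H] [DecidableEq H]
    [Module.Flat R N] [Module.Flat R M₀] (τM : G → M →ₗ[R] M) (τN : H → N →ₗ[R] N) (hM : Function.Injective ιM)
    (hιM : ∀ m, (∀ g, τM g m = m) ↔ m ∈ LinearMap.range ιM) (hιN : ∀ n, (∀ g, τN g n = n) ↔ n ∈ LinearMap.range ιN)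
    {z : N ⊗[R] M} (hz₁ : ∀ g, (τM g).lTensor N z = z) (hz₂ : ∀ h, (τN h).rTensor M z = z) :
    z ∈ LinearMap.range (TensorProduct.map ιN ιM) := by
  obtain ⟨z₀, rfl⟩ := mem_range_lTensor τM ιM hιM hz₁
  obtain ⟨w, rfl⟩ := mem_range_rTensor τN ιN hιN (z := z₀) fun h => by
    apply Module.Flat.lTensor_preserves_injective_linearMap (M := N) ιM hM
    have := hz₂ h
    rwa [← LinearMap.comp_apply, LinearMap.rTensor_comp_lTensor, ← LinearMap.lTensor_comp_rTensor,
      LinearMap.comp_apply] at this
  exact ⟨w, by rw [← LinearMap.comp_apply, LinearMap.lTensor_comp_rTensor]⟩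

/-- averaging -/
theorem map_bijOn_of_unit {G H : Type v} [Fintype G] [Fintype H] (τM : G → M →ₗ[R] M) (τN : H → N →ₗ[R] N)
    (trM : M →ₗ[R] M₀) (trN : N →ₗ[R] N₀) (hM : ∀ m, ιM (trM m) = ∑ g, τM g m)
    (hN : ∀ n, ιN (trN n) = ∑ h, τN h n) {k l : ℕ} (hk : ∀ m, trM (ιM m) = k • m) (hl : ∀ n, trN (ιN n) = l • n)
    (hG : Fintype.card G = k) (hH : Fintype.card H = l) (hu : IsUnit ((k * l : ℕ) : R)) :
    Function.Injective (TensorProduct.map ιN ιM) ∧
      ∀ z : N ⊗[R] M, (∀ g, (τM g).lTensor N z = z) → (∀ h, (τN h).rTensor M z = z) →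
        z ∈ LinearMap.range (TensorProduct.map ιN ιM) := by
  obtain ⟨w, hw⟩ := hu.exists_left_inv
  refine ⟨(injective_iff_map_eq_zero _).2 fun z hz => ?_, fun z hz₁ hz₂ => ?_⟩
  · have h1 : ∀ x, TensorProduct.map trN trM (TensorProduct.map ιN ιM x) = ((k * l : ℕ) : R) • x := fun x => by
      induction x using TensorProduct.induction_on with
      | zero => simp
      | tmul n m =>
        rw [TensorProduct.map_tmul, TensorProduct.map_tmul, hk, hl, Nat.cast_smul_eq_nsmul,
          ← TensorProduct.smul_tmul', TensorProduct.tmul_smul, smul_smul, mul_comm]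
      | add x y hx hy => simp only [map_add, hx, hy, smul_add]
    have h2 := h1 z
    rw [hz, map_zero] at h2
    calc z = w • (((k * l : ℕ) : R) • z) := by rw [smul_smul, hw, one_smul]
      _ = 0 := by rw [← h2, smul_zero]
  · have h1 : ∀ x, TensorProduct.map ιN ιM (TensorProduct.map trN trM x) =
        ∑ h, ∑ g, (τN h).rTensor M ((τM g).lTensor N x) := fun x => by
      induction x using TensorProduct.induction_on with
      | zero => simp
      | tmul n m =>
        simp only [TensorProduct.map_tmul, hM, hN, LinearMap.lTensor_tmul, LinearMap.rTensor_tmul,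
          TensorProduct.sum_tmul, TensorProduct.tmul_sum]
        exact Finset.sum_comm
      | add x y hx hy => simp only [map_add, hx, hy, Finset.sum_add_distrib]
    refine ⟨w • TensorProduct.map trN trM z, ?_⟩
    rw [map_smul, h1]
    simp only [hz₁, hz₂, Finset.sum_const, Finset.card_univ, hG, hH]
    rw [smul_smul, ← Nat.cast_smul_eq_nsmul R, smul_smul, mul_comm l k, hw, one_smul]

end Groth.Cycles.SymTenInv
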