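import Groth.Agent.Cycles.SymLocal
import Mathlib.LinearAlgebra.TensorProduct.Basic

/-! The trace from a fibre power to its symmetric quotient. -/

set_option autoImplicit false
set_option backward.isDefEq.respectTransparency false

universe u

open CategoryTheory CategoryTheory.Limits AlgebraicGeometry
open scoped TensorProduct
open Groth.Cycles.SymBox Groth.Cycles.SymLocal

namespace Groth.Cycles.SymTrace

variable {X S : Scheme.{u}} {f : X ⟶ S} {d : ℕ} {Y : Scheme.{u}} {q : SymProd.fibPow f d ⟶ Y}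
  {g : Y ⟶ S} {V : S.Opens} (W₀ : Y.Opens)

/-- the algebra structure on the sections of the quotient -/
@[implicit_reducible]
noncomputable def algQ (hWV : W₀ ≤ g ⁻¹ᵁ V) : Algebra Γ(S, V) Γ(Y, W₀) := (g.appLE V W₀ hWV).hom.toAlgebra

/-- the algebra structure on the sections of the fibre power -/
@[implicit_reducible]
noncomputable def algP (hWb : q ⁻¹ᵁ W₀ ≤ (WidePullback.base (fun _ : Fin d => f)) ⁻¹ᵁ V) :
    Algebra Γ(S, V) Γ(SymProd.fibPow f d, q ⁻¹ᵁ W₀) :=
  ((WidePullback.base (fun _ : Fin d => f)).appLE V (q ⁻¹ᵁ W₀) hWb).hom.toAlgebra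

variable (hq : SGA1.IsQuot (SymProd.permActU f d) q) (hg : q ≫ g = WidePullback.base (fun _ : Fin d => f))
  (hWV : W₀ ≤ g ⁻¹ᵁ V) (hWb : q ⁻¹ᵁ W₀ ≤ (WidePullback.base (fun _ : Fin d => f)) ⁻¹ᵁ V)

include hg in
/-- the map on sections, linear over the base -/
theorem exists_qlin :
    letI := algQ W₀ hWV
    letI := algP (f := f) (q := q) W₀ hWb
    ∃ l : Γ(Y, W₀) →ₐ[Γ(S, V)] Γ(SymProd.fibPow f d, q ⁻¹ᵁ W₀), ∀ b, l b = q.app W₀ b := by
  letI := algQ W₀ hWV
  letI := algP (f := f) (q := q) W₀ hWb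
  refine ⟨{ (q.app W₀).hom with commutes' := fun r => ?_ }, fun b => rfl⟩
  show (g.appLE V W₀ hWV ≫ q.app W₀) r = _
  rw [← Scheme.Hom.appLE_eq_app, Scheme.Hom.appLE_comp_appLE,
    Groth.Pi1Quot.appLE_congr_hom hg V (q ⁻¹ᵁ W₀) _ hWb]
  rfl

include hq hg in
/-- tensoring the inclusion of the invariant sections is injective when `d!` is invertible -/
theorem lTensor_injective {N : Type u} [AddCommGroup N] :
    letI := algQ W₀ hWV
    letI := algP (f := f) (q := q) W₀ hWb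
    ∀ [Module Γ(S, V) N] (_ : ∀ n : N, (Nat.factorial d) • n = 0 → n = 0)
      (hsurj : ∀ n : N, ∃ n' : N, (Nat.factorial d) • n' = n)
      (l : Γ(Y, W₀) →ₐ[Γ(S, V)] Γ(SymProd.fibPow f d, q ⁻¹ᵁ W₀)), (∀ b, l b = q.app W₀ b) →
      Function.Injective (l.toLinearMap.lTensor N) := by
  letI := algQ W₀ hWV
  letI := algP (f := f) (q := q) W₀ hWb
  intro _ h0 hsurj l hl
  classical
  have htr : ∀ o : Γ(SymProd.fibPow f d, q ⁻¹ᵁ W₀), ∃ b, q.app W₀ b =
      ∑ σ : Equiv.Perm (Fin d), pAct f (q ⁻¹ᵁ W₀) σ (preimage_le_perm f hq W₀ _) o := by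
    intro o
    refine exists_app_eq f hq W₀ fun ρ => ?_
    rw [map_sum]
    refine Fintype.sum_equiv (Equiv.mulLeft ρ) _ _ fun σ => ?_
    exact (pAct_mul f ρ σ (fun σ => preimage_le_perm f hq W₀ σ) o).symm
  choose b hb using htr
  let tr : Γ(SymProd.fibPow f d, q ⁻¹ᵁ W₀) →ₗ[Γ(S, V)] Γ(Y, W₀) :=
    { toFun := b
      map_add' := fun x y => hq.injective W₀ (by simp only [map_add, hb, Finset.sum_add_distrib])
      map_smul' := fun r x => hq.injective W₀ (by
        rw [RingHom.id_apply, hb, ← hl (r • b x), map_smul, hl, hb, Finset.smul_sum]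
        refine Finset.sum_congr rfl fun σ _ => ?_
        rw [Algebra.smul_def, Algebra.smul_def, map_mul]
        congr 1
        exact pAct_base σ _ hWb r) }
  have hcomp : tr ∘ₗ l.toLinearMap = (Nat.factorial d) • LinearMap.id := by
    refine LinearMap.ext fun x => hq.injective W₀ ?_
    show q.app W₀ (b (l x)) = q.app W₀ ((Nat.factorial d) • x)
    rw [hb, map_nsmul, hl, Finset.sum_congr rfl fun σ _ => pAct_app f hq W₀ σ x, Finset.sum_const,
      Finset.card_univ, Fintype.card_perm, Fintype.card_fin]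
  refine (injective_iff_map_eq_zero _).2 fun z hz => ?_
  have h1 : ∀ z : N ⊗[Γ(S, V)] Γ(Y, W₀), ∃ z', (Nat.factorial d) • z' = z := fun z => by
    induction z using TensorProduct.induction_on with
    | zero => exact ⟨0, smul_zero _⟩
    | tmul n x =>
      obtain ⟨n', hn'⟩ := hsurj n
      exact ⟨n' ⊗ₜ x, by rw [TensorProduct.smul_tmul', hn']⟩
    | add x y hx hy =>
      obtain ⟨x', hx'⟩ := hx
      obtain ⟨y', hy'⟩ := hy
      exact ⟨x' + y', by rw [smul_add, hx', hy']⟩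
  have h2 : (Nat.factorial d) • z = 0 := by
    have h3 := congrArg (tr.lTensor N) hz
    rw [← LinearMap.comp_apply, ← LinearMap.lTensor_comp, hcomp, map_zero] at h3
    rw [← h3]
    clear hz h3
    induction z using TensorProduct.induction_on with
    | zero => simp
    | tmul n x =>
      rw [LinearMap.lTensor_tmul, LinearMap.smul_apply, LinearMap.id_apply, TensorProduct.tmul_smul]
    | add x y hx hy => rw [smul_add, map_add, hx, hy]
  -- multiplication by `d!` is bijective on `N`, hence on the tensor product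
  have hbij : Function.Bijective (DistribSMul.toAddMonoidHom N (Nat.factorial d)) :=
    ⟨(injective_iff_map_eq_zero _).2 h0, hsurj⟩
  let e : N ≃ₗ[Γ(S, V)] N := LinearEquiv.ofBijective
    ((Nat.factorial d) • LinearMap.id) hbij
  have h4 : e.toLinearMap.rTensor Γ(Y, W₀) z = 0 := by
    rw [← h2]
    clear hz h2
    induction z using TensorProduct.induction_on with
    | zero => simp
    | tmul n x => simp [e, TensorProduct.smul_tmul']
    | add x y hx hy => rw [smul_add, map_add, hx, hy]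
  exact (LinearEquiv.rTensor Γ(Y, W₀) e).injective (h4.trans (map_zero _).symm)

include hq hg in
/-- the trace, linear over the base, with the permutations as linear maps -/
theorem exists_trace :
    letI := algQ W₀ hWV
    letI := algP (f := f) (q := q) W₀ hWb
    ∃ (l : Γ(Y, W₀) →ₗ[Γ(S, V)] Γ(SymProd.fibPow f d, q ⁻¹ᵁ W₀))
      (τ : Equiv.Perm (Fin d) → Γ(SymProd.fibPow f d, q ⁻¹ᵁ W₀) →ₗ[Γ(S, V)] Γ(SymProd.fibPow f d, q ⁻¹ᵁ W₀))
      (tr : Γ(SymProd.fibPow f d, q ⁻¹ᵁ W₀) →ₗ[Γ(S, V)] Γ(Y, W₀)),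
      (∀ b, l b = q.app W₀ b) ∧ Function.Injective l ∧
      (∀ σ o, τ σ o = pAct f (q ⁻¹ᵁ W₀) σ (preimage_le_perm f hq W₀ _) o) ∧
      (∀ o, (∀ σ, τ σ o = o) ↔ o ∈ LinearMap.range l) ∧
      (∀ o, l (tr o) = ∑ σ, τ σ o) ∧ ∀ b, tr (l b) = (Nat.factorial d) • b := by
  letI := algQ W₀ hWV
  letI := algP (f := f) (q := q) W₀ hWb
  classical
  obtain ⟨l, hl⟩ := exists_qlin W₀ hg hWV hWb
  have htr : ∀ o : Γ(SymProd.fibPow f d, q ⁻¹ᵁ W₀), ∃ b, q.app W₀ b =
      ∑ σ : Equiv.Perm (Fin d), pAct f (q ⁻¹ᵁ W₀) σ (preimage_le_perm f hq W₀ _) o := by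
    intro o
    refine exists_app_eq f hq W₀ fun ρ => ?_
    rw [map_sum]
    refine Fintype.sum_equiv (Equiv.mulLeft ρ) _ _ fun σ => ?_
    exact (pAct_mul f ρ σ (fun σ => preimage_le_perm f hq W₀ σ) o).symm
  choose b hb using htr
  let τ : Equiv.Perm (Fin d) → Γ(SymProd.fibPow f d, q ⁻¹ᵁ W₀) →ₗ[Γ(S, V)] Γ(SymProd.fibPow f d, q ⁻¹ᵁ W₀) :=
    fun σ =>
    { toFun := pAct f (q ⁻¹ᵁ W₀) σ (preimage_le_perm f hq W₀ _)
      map_add' := map_add _
      map_smul' := fun r x => by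
        rw [RingHom.id_apply, Algebra.smul_def, Algebra.smul_def, map_mul]
        congr 1
        exact pAct_base σ _ hWb r }
  let tr : Γ(SymProd.fibPow f d, q ⁻¹ᵁ W₀) →ₗ[Γ(S, V)] Γ(Y, W₀) :=
    { toFun := b
      map_add' := fun x y => hq.injective W₀ (by simp only [map_add, hb, Finset.sum_add_distrib])
      map_smul' := fun r x => hq.injective W₀ (by
        rw [RingHom.id_apply, hb, ← hl (r • b x), map_smul, hl, hb, Finset.smul_sum]
        exact Finset.sum_congr rfl fun σ _ => (τ σ).map_smul r x) }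
  refine ⟨l.toLinearMap, τ, tr, hl, fun x y h => hq.injective W₀ ((hl x).symm.trans (h.trans (hl y))),
    fun σ o => rfl, fun o => ⟨fun h => ?_, ?_⟩, fun o => ?_, fun x => hq.injective W₀ ?_⟩
  · obtain ⟨x, hx⟩ := exists_app_eq f hq W₀ h
    exact ⟨x, (hl x).trans hx⟩
  · rintro ⟨x, rfl⟩ σ
    show pAct f (q ⁻¹ᵁ W₀) σ _ (l x) = l x
    rw [hl, pAct_app f hq W₀ σ x]
  · show l (b o) = _
    rw [hl, hb]
    rfl
  · show q.app W₀ (b (l x)) = q.app W₀ ((Nat.factorial d) • x)
    rw [hb, map_nsmul, hl, Finset.sum_congr rfl fun σ _ => pAct_app f hq W₀ σ x, Finset.sum_const,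
      Finset.card_univ, Fintype.card_perm, Fintype.card_fin]

end Groth.Cycles.SymTrace
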