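import Groth.Agent.Cycles.PolLawSym
import Mathlib.Algebra.Colimit.Module

/-!
Symmetric tensors commute with directed limits of algebras.
-/

universe u

open scoped TensorProduct
open PiTensorProduct (tprod)

namespace Groth.Cycles.Sym

variable {A : Type u} [CommRing A] {B : Type u} [CommRing B] [Algebra A B]
  {ι : Type u} [Preorder ι] [IsDirected ι (fun i j => i ≤ j)] [Nonempty ι]
  {Bi : ι → Type u} [∀ i, CommRing (Bi i)] [∀ i, Algebra A (Bi i)]
  {t : ∀ i j : ι, i ≤ j → (Bi i →ₐ[A] Bi j)} {φ : ∀ i : ι, Bi i →ₐ[A] B}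
  (hcomp : ∀ (i j : ι) (h : i ≤ j), (φ j).comp (t i j h) = φ i)
  (hsurj : ∀ b : B, ∃ (i : ι) (x : Bi i), φ i x = b)
  (hzero : ∀ (i : ι) (x : Bi i), φ i x = 0 → ∃ (j : ι) (h : i ≤ j), t i j h x = 0)
  (hid : ∀ (i : ι) (h : i ≤ i), t i i h = AlgHom.id A (Bi i))
  (htrans : ∀ (i j k : ι) (hij : i ≤ j) (hjk : j ≤ k), (t j k hjk).comp (t i j hij) = t i k (hij.trans hjk))

include hcomp hsurj in
lemma exists_common_lift {α : Type*} [Finite α] (v : α → B) :
    ∃ (i : ι) (x : α → Bi i), ∀ a, φ i (x a) = v a := by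
  choose i x hx using fun a => hsurj (v a)
  obtain ⟨k, hk⟩ := Finite.exists_le i
  exact ⟨k, fun a => t (i a) k (hk a) (x a), fun a => by rw [← AlgHom.comp_apply, hcomp, hx]⟩

include hzero htrans in
lemma exists_eq_of_eq {α : Type*} [Finite α] {i : ι} (x y : α → Bi i) (h : ∀ a, φ i (x a) = φ i (y a)) :
    ∃ (j : ι) (hij : i ≤ j), ∀ a, t i j hij (x a) = t i j hij (y a) := by
  choose j hij hj using fun a => hzero i (x a - y a) (by rw [map_sub, h, sub_self])
  obtain ⟨k, hk⟩ := Finite.exists_le j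
  obtain ⟨l, hkl, hil⟩ := exists_ge_ge k i
  refine ⟨l, hil, fun a => ?_⟩
  have := congrArg (t (j a) l ((hk a).trans hkl)) (hj a)
  rwa [map_zero, ← AlgHom.comp_apply, htrans, map_sub, sub_eq_zero] at this

variable {d : ℕ}

include hcomp hsurj hzero hid htrans in
/-- A tensor that dies in the limit dies at a finite stage. -/
lemma tmap_eq_zero_exists {i : ι} (w : ⨂[A] _ : Fin d, Bi i) (hw : SymTen.tmap A d (φ i) w = 0) :
    ∃ (j : ι) (h : i ≤ j), SymTen.tmap A d (t i j h) w = 0 := by
  classical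
  let T : ι → Type u := fun i => ⨂[A] _ : Fin d, Bi i
  let f : ∀ i j, i ≤ j → T i →ₗ[A] T j := fun i j h => (SymTen.tmap A d (t i j h)).toLinearMap
  have : DirectedSystem T (f · · ·) := {
    map_self := fun i x => by
      show SymTen.tmap A d (t i i le_rfl) x = x
      rw [hid, tmap_id_apply]
    map_map := fun k j i hij hjk x => by
      show SymTen.tmap A d (t _ _ _) (SymTen.tmap A d (t _ _ _) x) = SymTen.tmap A d (t _ _ _) x
      rw [tmap_comp_apply, htrans] }
  let L := Module.DirectLimit T f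
  let ofT : ∀ i, T i →ₗ[A] L := Module.DirectLimit.of A ι T f
  have hof : ∀ {i j : ι} (h : i ≤ j) (x : Fin d → Bi i),
      ofT j (tprod A fun a => t i j h (x a)) = ofT i (tprod A x) := fun {i j} h x => by
    rw [← Module.DirectLimit.of_f (f := f) (hij := h)]
    show _ = ofT j (SymTen.tmap A d (t i j h) (tprod A x))
    rw [SymTen.tmap_tprod]
  choose I X hX using fun v : Fin d → B => exists_common_lift hcomp hsurj v
  let g : (Fin d → B) → L := fun v => ofT (I v) (tprod A (X v))
  have hg : ∀ {i : ι} (x : Fin d → Bi i) (v : Fin d → B), (∀ a, φ i (x a) = v a) → g v = ofT i (tprod A x) := by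
    intro i x v hx
    obtain ⟨k, h1, h2⟩ := exists_ge_ge (I v) i
    obtain ⟨l, hkl, hl⟩ := exists_eq_of_eq hzero htrans (fun a => t _ k h1 (X v a)) (fun a => t _ k h2 (x a))
      (fun a => by rw [← AlgHom.comp_apply, ← AlgHom.comp_apply, hcomp, hcomp, hX, hx])
    show ofT (I v) (tprod A (X v)) = _
    rw [← hof h1 (X v), ← hof h2 x, ← hof hkl, ← hof hkl (fun a => t _ k h2 (x a))]
    simp only [hl]
  have hφupd : ∀ [DecidableEq (Fin d)] {i : ι} (x : Fin d → Bi i) (v : Fin d → B), (∀ a, φ i (x a) = v a) → ∀ (l : Fin d) (c : Bi i),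
      ∀ a, φ i (Function.update x l c a) = Function.update v l (φ i c) a := by
    intro _ i x v hx l c a
    by_cases h : a = l
    · subst h; simp
    · simp [h, hx]
  let M : MultilinearMap A (fun _ : Fin d => B) L :=
    { toFun := g
      map_update_add' := by
        intro _ v l p q
        obtain ⟨i, x, hx⟩ := exists_common_lift hcomp hsurj (Sum.elim v ![p, q])
        let x' : Fin d → Bi i := fun a => x (.inl a)
        have hx' : ∀ a, φ i (x' a) = v a := fun a => hx (.inl a)
        have hp : φ i (x (.inr 0)) = p := hx (.inr 0)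
        have hq : φ i (x (.inr 1)) = q := hx (.inr 1)
        have e := hφupd x' v hx' l
        rw [← hp, ← hq, ← map_add, hg _ _ (e _), hg _ _ (e _), hg _ _ (e _), MultilinearMap.map_update_add,
          map_add]
      map_update_smul' := by
        intro _ v l c p
        obtain ⟨i, x, hx⟩ := exists_common_lift hcomp hsurj (Sum.elim v ![p])
        let x' : Fin d → Bi i := fun a => x (.inl a)
        have hx' : ∀ a, φ i (x' a) = v a := fun a => hx (.inl a)
        have hp : φ i (x (.inr 0)) = p := hx (.inr 0)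
        have e := hφupd x' v hx' l
        rw [← hp, ← map_smul, hg _ _ (e _), hg _ _ (e _), MultilinearMap.map_update_smul, map_smul] }
  have hG : ∀ w : T i, PiTensorProduct.lift M (SymTen.tmap A d (φ i) w) = ofT i w := by
    intro w
    induction w using PiTensorProduct.induction_on with
    | smul_tprod a x =>
      rw [map_smul, map_smul, map_smul, SymTen.tmap_tprod, PiTensorProduct.lift.tprod]
      exact congrArg (a • ·) (hg x _ fun _ => rfl)
    | add x y hx hy => rw [map_add, map_add, map_add, hx, hy]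
  have h0 : ofT i w = 0 := by rw [← hG, hw, map_zero]
  obtain ⟨j, hij, hj⟩ := Module.DirectLimit.of.zero_exact h0
  exact ⟨j, hij, hj⟩

include hcomp hsurj in
lemma tmap_surjective_limit (z : ⨂[A] _ : Fin d, B) :
    ∃ (i : ι) (w : ⨂[A] _ : Fin d, Bi i), SymTen.tmap A d (φ i) w = z := by
  induction z using PiTensorProduct.induction_on with
  | smul_tprod a v =>
    obtain ⟨i, x, hx⟩ := exists_common_lift hcomp hsurj v
    exact ⟨i, a • tprod A x, by rw [map_smul, SymTen.tmap_tprod]; simp only [hx]⟩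
  | add x y hx hy =>
    obtain ⟨i, w, rfl⟩ := hx
    obtain ⟨j, w', rfl⟩ := hy
    obtain ⟨k, hik, hjk⟩ := exists_ge_ge i j
    exact ⟨k, SymTen.tmap A d (t i k hik) w + SymTen.tmap A d (t j k hjk) w',
      by rw [map_add, tmap_comp_apply, tmap_comp_apply, hcomp, hcomp]⟩

include hcomp hsurj hzero hid htrans in
lemma TS_isDirectLimit : (∀ z : SymTen.TS A B d, ∃ (i : ι) (y : SymTen.TS A (Bi i) d), SymTen.TSmap A d (φ i) y = z) ∧
      ∀ (i : ι) (y : SymTen.TS A (Bi i) d), SymTen.TSmap A d (φ i) y = 0 →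
        ∃ (j : ι) (h : i ≤ j), SymTen.TSmap A d (t i j h) y = 0 := by
  refine ⟨fun z => ?_, fun i y hy => ?_⟩
  · obtain ⟨i, w, hw⟩ := tmap_surjective_limit hcomp hsurj (z : ⨂[A] _ : Fin d, B)
    have h0 : ∀ σ : Equiv.Perm (Fin d), SymTen.tmap A d (φ i)
        (PiTensorProduct.reindex A (fun _ : Fin d => Bi i) σ w - w) = 0 := fun σ => by
      rw [map_sub, SymTen.tmap_reindex, hw, z.2 σ, sub_self]
    choose j hij hj using fun σ => tmap_eq_zero_exists hcomp hsurj hzero hid htrans _ (h0 σ)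
    obtain ⟨k, hk⟩ := Finite.exists_le j
    have hik : i ≤ k := (hij 1).trans (hk 1)
    refine ⟨k, ⟨SymTen.tmap A d (t i k hik) w, fun σ => ?_⟩, Subtype.ext ?_⟩
    · rw [← SymTen.tmap_reindex, ← sub_eq_zero, ← map_sub,
        ← htrans i (j σ) k (hij σ) (hk σ), ← tmap_comp_apply, hj, map_zero]
    · show SymTen.tmap A d (φ k) (SymTen.tmap A d (t i k hik) w) = _
      rw [tmap_comp_apply, hcomp, hw]
  · obtain ⟨j, hij, hj⟩ := tmap_eq_zero_exists hcomp hsurj hzero hid htrans (y : ⨂[A] _ : Fin d, Bi i)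
      (congrArg Subtype.val hy)
    exact ⟨j, hij, Subtype.ext hj⟩

end Groth.Cycles.Sym
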