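import Groth.Agent.MilnorKLambda.Key.KeyLemma
import Groth.Agent.MilnorKLambda.Tame1.Laws
import Groth.Agent.MilnorKLambda.Tame1.Single
import Groth.Agent.RefRank.Ord

/-!
The tame symbol of a one dimensional local domain on its fraction field, and the key lemma there.
-/

set_option autoImplicit false
set_option linter.style.haveILetI false
universe u

open IsLocalRing

namespace Groth.Cycles.TameK

open Groth.MilnorKLambda

section Transport

variable {L L' : Type u} [CommRing L] [IsLocalRing L] [IsNoetherianRing L] [Ring.KrullDimLE 1 L]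
  [CommRing L'] [IsLocalRing L'] [IsNoetherianRing L'] [Ring.KrullDimLE 1 L']

attribute [local instance] Amb.isLocalHom_atPrime

/-- The tame symbol commutes with isomorphisms. -/
theorem tameSymbol_transport (φ : L →+* L') [IsLocalHom φ] (hφ : Function.Bijective φ) {x y : L}
    (hx : x ∈ nonZeroDivisors L) (hy : y ∈ nonZeroDivisors L) :
    CycAlg.tameSymbol L' (φ x) (φ y) = ResidueField.map φ (CycAlg.tameSymbol L x y) := by
  classical
  by_cases hu : IsUnit x ∧ IsUnit y
  · rw [Amb.tameSymbol_units (hu.1.map φ) (hu.2.map φ), Amb.tameSymbol_units hu.1 hu.2, map_one]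
  obtain ⟨c, hc, hcn⟩ : ∃ c ∈ maximalIdeal L, c ∈ nonZeroDivisors L := by
    simp only [not_and_or] at hu
    rcases hu with h | h
    exacts [⟨x, h, hx⟩, ⟨y, h, hy⟩]
  have hQ : Amb.IsAmb (Localization.Away c) c := Amb.isAmb_away hcn hc
  obtain ⟨T, hT, h⟩ := Amb.exists_common hQ {x, y} (by simp [hx, hy])
  choose γ hγ hf using fun M : MaximalSpectrum T => h M.asIdeal
  let D : CycAlg.TameData L x y := Amb.toTameData hQ hT
    ⟨γ, hγ, fun M => (hf M x (by simp)).some, fun M => (hf M y (by simp)).some⟩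
  let e := RingEquiv.ofBijective φ hφ
  letI : Algebra L' D.B := ((algebraMap L D.B).comp e.symm.toRingHom).toAlgebra
  have hmap : ∀ a : L, algebraMap L' D.B (φ a) = algebraMap L D.B a := fun a => by
    show algebraMap L D.B (e.symm (e a)) = _
    rw [e.symm_apply_apply]
  have hloc : ∀ (q : MaximalSpectrum D.B) (a : L),
      algebraMap L' (Localization.AtPrime q.asIdeal) (φ a) = algebraMap L (Localization.AtPrime q.asIdeal) a :=
    fun q a => by
    rw [IsScalarTower.algebraMap_apply L' D.B, IsScalarTower.algebraMap_apply L D.B, hmap]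
  have hfinext : CycAlg.IsFinExt L' D.B (maximalIdeal L') := by
    obtain ⟨h1, h2, n, hn⟩ := D.isFinExt
    refine ⟨?_, ?_, n, fun a ha z => ?_⟩
    · exact h1.comp e.symm.injective
    · obtain ⟨s, hs⟩ := h2.fg_top
      refine ⟨s, top_le_iff.mp fun z hz0 => ?_⟩
      have hz : z ∈ Submodule.span L (s : Set D.B) := hs ▸ Submodule.mem_top
      clear hz0
      induction hz using Submodule.span_induction with
      | mem w hw => exact Submodule.subset_span hw
      | zero => exact zero_mem _
      | add w w' _ _ hw hw' => exact add_mem hw hw'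
      | smul a w _ hw =>
        have h' := Submodule.smul_mem _ (φ a) hw
        rwa [Algebra.smul_def, hmap, ← Algebra.smul_def] at h'
    · obtain ⟨b, rfl⟩ := hφ.2 a
      have hb : b ∈ maximalIdeal L ^ n := by
        have e' : maximalIdeal L' = (maximalIdeal L).map φ :=
          (map_maximalIdeal_of_surjective φ hφ.2).symm
        rw [e', ← Ideal.map_pow] at ha
        obtain ⟨w, hw, hwb⟩ := (Ideal.mem_map_iff_of_surjective φ hφ.2).mp ha
        rwa [← hφ.1 hwb]
      obtain ⟨r, hr⟩ := hn b hb z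
      refine ⟨φ r, ?_⟩
      rw [hmap, hr, Algebra.smul_def, Algebra.smul_def, hmap]
  have hlh : ∀ q : MaximalSpectrum D.B, IsLocalHom (algebraMap L' (Localization.AtPrime q.asIdeal)) := fun q => by
    have := D.isLocalHom q
    refine ⟨fun a ha => ?_⟩
    obtain ⟨b, rfl⟩ := hφ.2 a
    rw [hloc] at ha
    exact (isUnit_of_map_unit _ b ha).map φ
  let D' : CycAlg.TameData L' (φ x) (φ y) :=
    { B := D.B
      isFinExt := hfinext
      isLocalHom := hlh
      π := D.π
      π_mem := D.π_mem
      u₁ := D.u₁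
      u₂ := D.u₂
      e₁ := D.e₁
      e₂ := D.e₂
      fac₁ := fun q => (hloc q x).trans (D.fac₁ q)
      fac₂ := fun q => (hloc q y).trans (D.fac₂ q) }
  have hval : D'.value = ResidueField.map φ D.value := by
    have := D.isFinExt.2.1
    have := Amb.finite_maximalSpectrum (R := L) (S := D.B)
    have := Fintype.ofFinite (MaximalSpectrum D.B)
    show ∏ᶠ q : MaximalSpectrum D.B, D'.localFactor q = ResidueField.map φ (∏ᶠ q : MaximalSpectrum D.B, D.localFactor q)
    rw [finprod_eq_prod_of_fintype, finprod_eq_prod_of_fintype, map_prod]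
    refine Finset.prod_congr rfl fun q _ => ?_
    have := D.isLocalHom q
    have := hlh q
    show _ ^ _ = ResidueField.map φ (_ ^ _)
    rw [map_pow]
    congr 1
    let r : ResidueField L ≃+* ResidueField L' := ResidueField.mapEquiv e
    have hr : ∀ w, r w = ResidueField.map φ w := fun w => rfl
    have hcomm : (algebraMap (ResidueField L') (ResidueField (Localization.AtPrime q.asIdeal))).comp
        (r : ResidueField L →+* ResidueField L') =
        ((RingEquiv.refl (ResidueField (Localization.AtPrime q.asIdeal)) :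
            ResidueField (Localization.AtPrime q.asIdeal) ≃+* _) : _ →+* _).comp
          (algebraMap (ResidueField L) (ResidueField (Localization.AtPrime q.asIdeal))) := by
      refine RingHom.ext fun w => ?_
      obtain ⟨a, rfl⟩ := residue_surjective w
      simp only [RingHom.comp_apply, RingHom.coe_coe, hr, RingEquiv.refl_apply, ResidueField.map_residue,
        ResidueField.algebraMap_residue]
      exact congrArg _ (hloc q a)
    rw [← hr, Algebra.norm_eq_of_equiv_equiv r (RingEquiv.refl _) hcomm, r.apply_symm_apply]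
    rfl
  rw [CycAlg.tameSymbol, dif_pos ⟨D'⟩,
    Amb.tameData_value_eq (map_mem_nonZeroDivisors_of_bij φ hφ hx) (map_mem_nonZeroDivisors_of_bij φ hφ hy) _ D',
    CycAlg.tameSymbol, dif_pos ⟨D⟩, Amb.tameData_value_eq hx hy _ D, hval]
where
  map_mem_nonZeroDivisors_of_bij {M M' : Type u} [CommRing M] [CommRing M'] (φ : M →+* M')
      (hφ : Function.Bijective φ) {z : M} (hz : z ∈ nonZeroDivisors M) : φ z ∈ nonZeroDivisors M' := by
    refine mem_nonZeroDivisors_iff_right.mpr fun w hw => ?_
    obtain ⟨v, rfl⟩ := hφ.2 w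
    rw [← map_mul, map_eq_zero_iff φ hφ.1] at hw
    rw [mem_nonZeroDivisors_iff_right.mp hz v hw, map_zero]

end Transport

variable (R : Type u) [CommRing R] [IsDomain R] [IsLocalRing R] [IsNoetherianRing R] [Ring.KrullDimLE 1 R]
variable {K : Type u} [Field K] [Algebra R K] [IsFractionRing R K]

theorem sym_ne_zero {x y : R} (hx : x ≠ 0) (hy : y ≠ 0) : CycAlg.tameSymbol R x y ≠ 0 :=
  Amb.tameSymbol_ne_zero (mem_nonZeroDivisors_of_ne_zero hx) (mem_nonZeroDivisors_of_ne_zero hy)

theorem sym_mul_left {x x' y : R} (hx : x ≠ 0) (hx' : x' ≠ 0) (hy : y ≠ 0) :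
    CycAlg.tameSymbol R (x * x') y = CycAlg.tameSymbol R x y * CycAlg.tameSymbol R x' y :=
  (Amb.tameSymbol_mul (mem_nonZeroDivisors_of_ne_zero hx) (mem_nonZeroDivisors_of_ne_zero hx')
    (mem_nonZeroDivisors_of_ne_zero hy)).1

theorem sym_mul_right {x y y' : R} (hx : x ≠ 0) (hy : y ≠ 0) (hy' : y' ≠ 0) :
    CycAlg.tameSymbol R x (y * y') = CycAlg.tameSymbol R x y * CycAlg.tameSymbol R x y' :=
  (Amb.tameSymbol_mul (mem_nonZeroDivisors_of_ne_zero hy) (mem_nonZeroDivisors_of_ne_zero hy')
    (mem_nonZeroDivisors_of_ne_zero hx)).2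

/-- The tame symbol on the fraction field. -/
noncomputable def T (f g : K) : ResidueField R :=
  let a := (IsLocalization.sec (nonZeroDivisors R) f).1
  let b : R := (IsLocalization.sec (nonZeroDivisors R) f).2
  let c := (IsLocalization.sec (nonZeroDivisors R) g).1
  let d : R := (IsLocalization.sec (nonZeroDivisors R) g).2
  CycAlg.tameSymbol R a c * CycAlg.tameSymbol R b d / (CycAlg.tameSymbol R a d * CycAlg.tameSymbol R b c)

theorem T_div {a b c d : R} (ha : a ≠ 0) (hb : b ≠ 0) (hc : c ≠ 0) (hd : d ≠ 0) :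
    T R (algebraMap R K a / algebraMap R K b) (algebraMap R K c / algebraMap R K d) =
      CycAlg.tameSymbol R a c * CycAlg.tameSymbol R b d / (CycAlg.tameSymbol R a d * CycAlg.tameSymbol R b c) := by
  have hinj := IsFractionRing.injective R K
  have hne : ∀ {z : R}, z ≠ 0 → algebraMap R K z ≠ 0 := fun hz => (map_ne_zero_iff _ hinj).mpr hz
  have key : ∀ {a b : R}, a ≠ 0 → b ≠ 0 →
      (IsLocalization.sec (nonZeroDivisors R) (algebraMap R K a / algebraMap R K b)).1 ≠ 0 ∧
      ((IsLocalization.sec (nonZeroDivisors R) (algebraMap R K a / algebraMap R K b)).2 : R) ≠ 0 ∧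
      a * (IsLocalization.sec (nonZeroDivisors R) (algebraMap R K a / algebraMap R K b)).2 =
        (IsLocalization.sec (nonZeroDivisors R) (algebraMap R K a / algebraMap R K b)).1 * b := by
    intro a b ha hb
    have hs := IsLocalization.sec_spec (nonZeroDivisors R) (algebraMap R K a / algebraMap R K b)
    set p := IsLocalization.sec (nonZeroDivisors R) (algebraMap R K a / algebraMap R K b)
    have h2 : (p.2 : R) ≠ 0 := nonZeroDivisors.ne_zero p.2.2
    have he : a * (p.2 : R) = p.1 * b := hinj (by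
      rw [map_mul, map_mul, ← hs]
      field_simp [hne hb])
    refine ⟨fun h => mul_ne_zero ha h2 (by rw [he, h, zero_mul]), h2, he⟩
  obtain ⟨h1, h2, he⟩ := key ha hb
  obtain ⟨h3, h4, he'⟩ := key hc hd
  unfold T
  set a' := (IsLocalization.sec (nonZeroDivisors R) (algebraMap R K a / algebraMap R K b)).1
  set b' : R := ((IsLocalization.sec (nonZeroDivisors R) (algebraMap R K a / algebraMap R K b)).2 : R)
  set c' := (IsLocalization.sec (nonZeroDivisors R) (algebraMap R K c / algebraMap R K d)).1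
  set d' : R := ((IsLocalization.sec (nonZeroDivisors R) (algebraMap R K c / algebraMap R K d)).2 : R)
  -- change the first pair
  have hL : ∀ {y : R}, y ≠ 0 → CycAlg.tameSymbol R a' y * CycAlg.tameSymbol R b y =
      CycAlg.tameSymbol R a y * CycAlg.tameSymbol R b' y := fun hy => by
    rw [← sym_mul_left R h1 hb hy, ← he, sym_mul_left R ha h2 hy]
  have hR : ∀ {x : R}, x ≠ 0 → CycAlg.tameSymbol R x c' * CycAlg.tameSymbol R x d =
      CycAlg.tameSymbol R x c * CycAlg.tameSymbol R x d' := fun hx => by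
    rw [← sym_mul_right R hx h3 hd, ← he', sym_mul_right R hx hc h4]
  have n : ∀ {x y : R}, x ≠ 0 → y ≠ 0 → CycAlg.tameSymbol R x y ≠ 0 := sym_ne_zero R
  rw [div_eq_div_iff (mul_ne_zero (n h1 h4) (n h2 h3)) (mul_ne_zero (n ha hd) (n hb hc))]
  have e1 := hL h3
  have e2 := hL h4
  have e3 := hR ha
  have e4 := hR hb
  have n1 := n hb h3
  have n2 := n hb h4
  have n3 := n ha hd
  have n4 := n hb hd
  have f1 : CycAlg.tameSymbol R a' c' = CycAlg.tameSymbol R a c' * CycAlg.tameSymbol R b' c' / CycAlg.tameSymbol R b c' := by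
    rw [eq_div_iff n1, e1]
  have f2 : CycAlg.tameSymbol R a' d' = CycAlg.tameSymbol R a d' * CycAlg.tameSymbol R b' d' / CycAlg.tameSymbol R b d' := by
    rw [eq_div_iff n2, e2]
  have f3 : CycAlg.tameSymbol R a c' = CycAlg.tameSymbol R a c * CycAlg.tameSymbol R a d' / CycAlg.tameSymbol R a d := by
    rw [eq_div_iff n3, e3]
  have f4 : CycAlg.tameSymbol R b c' = CycAlg.tameSymbol R b c * CycAlg.tameSymbol R b d' / CycAlg.tameSymbol R b d := by
    rw [eq_div_iff n4, e4]
  have n5 := n hb hc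
  rw [f1, f2, f3, f4]
  field_simp

omit [IsLocalRing R] [IsNoetherianRing R] [Ring.KrullDimLE 1 R] in
theorem exists_div {f : K} (hf : f ≠ 0) :
    ∃ a b : R, a ≠ 0 ∧ b ≠ 0 ∧ f = algebraMap R K a / algebraMap R K b := by
  obtain ⟨a, b, hb, rfl⟩ := IsFractionRing.div_surjective (A := R) f
  exact ⟨a, b, fun h => hf (by rw [h, map_zero, zero_div]), nonZeroDivisors.ne_zero hb, rfl⟩

theorem T_ne_zero {f g : K} (hf : f ≠ 0) (hg : g ≠ 0) : T R f g ≠ 0 := by
  obtain ⟨a, b, ha, hb, rfl⟩ := exists_div R hf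
  obtain ⟨c, d, hc, hd, rfl⟩ := exists_div R hg
  rw [T_div R ha hb hc hd]
  exact div_ne_zero (mul_ne_zero (sym_ne_zero R ha hc) (sym_ne_zero R hb hd))
    (mul_ne_zero (sym_ne_zero R ha hd) (sym_ne_zero R hb hc))

theorem T_swap {f g : K} (hf : f ≠ 0) (hg : g ≠ 0) : T R f g * T R g f = 1 := by
  obtain ⟨a, b, ha, hb, rfl⟩ := exists_div R hf
  obtain ⟨c, d, hc, hd, rfl⟩ := exists_div R hg
  have hs : ∀ {x y : R}, x ≠ 0 → y ≠ 0 → CycAlg.tameSymbol R y x = (CycAlg.tameSymbol R x y)⁻¹ := fun hx hy =>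
    eq_inv_of_mul_eq_one_right (Amb.tameSymbol_swap (mem_nonZeroDivisors_of_ne_zero hx)
      (mem_nonZeroDivisors_of_ne_zero hy))
  rw [T_div R ha hb hc hd, T_div R hc hd ha hb, hs ha hc, hs hb hd, hs hb hc, hs ha hd]
  have := sym_ne_zero R ha hc
  have := sym_ne_zero R hb hd
  have := sym_ne_zero R ha hd
  have := sym_ne_zero R hb hc
  field_simp

theorem T_mul_left {f f' g : K} (hf : f ≠ 0) (hf' : f' ≠ 0) (hg : g ≠ 0) :
    T R (f * f') g = T R f g * T R f' g := by
  obtain ⟨a, b, ha, hb, rfl⟩ := exists_div R hf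
  obtain ⟨a', b', ha', hb', rfl⟩ := exists_div R hf'
  obtain ⟨c, d, hc, hd, rfl⟩ := exists_div R hg
  rw [div_mul_div_comm, ← map_mul, ← map_mul, T_div R (mul_ne_zero ha ha') (mul_ne_zero hb hb') hc hd,
    T_div R ha hb hc hd, T_div R ha' hb' hc hd, sym_mul_left R ha ha' hc, sym_mul_left R hb hb' hd,
    sym_mul_left R ha ha' hd, sym_mul_left R hb hb' hc, div_mul_div_comm]
  congr 1 <;> ring

theorem T_mul_right {f g g' : K} (hf : f ≠ 0) (hg : g ≠ 0) (hg' : g' ≠ 0) :
    T R f (g * g') = T R f g * T R f g' := by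
  have h := T_mul_left R hg hg' hf
  have e : ∀ {x : K}, x ≠ 0 → T R f x = (T R x f)⁻¹ := fun hx => eq_inv_of_mul_eq_one_right (T_swap R hx hf)
  rw [e (mul_ne_zero hg hg'), e hg, e hg', h, mul_inv]

theorem T_unit_left {u : R} (hu : IsUnit u) {g : K} (hg : g ≠ 0) :
    T R (algebraMap R K u) g = residue R u ^ CycAlg.ordFrac R K g := by
  obtain ⟨c, d, hc, hd, rfl⟩ := exists_div R hg
  have h1 : ∀ {y : R}, y ≠ 0 → CycAlg.tameSymbol R u y = residue R u ^ (Ring.ord R y).toNat := fun hy => by
    obtain ⟨v, rfl⟩ := hu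
    exact Amb.tameSymbol_unit_left v (mem_nonZeroDivisors_of_ne_zero hy)
  have h2 : ∀ {y : R}, y ≠ 0 → CycAlg.tameSymbol R 1 y = 1 := fun hy => by
    have := sym_mul_left R one_ne_zero one_ne_zero hy
    rw [one_mul] at this
    exact (mul_eq_left₀ (sym_ne_zero R one_ne_zero hy)).mp this.symm
  have e : algebraMap R K u = algebraMap R K u / algebraMap R K 1 := by rw [map_one, div_one]
  rw [e, T_div R hu.ne_zero one_ne_zero hc hd, h1 hc, h1 hd, h2 hc, h2 hd,
    Groth.RefRank.ordFrac_div' hc hd, mul_one, mul_one, zpow_sub₀ ((hu.map (residue R)).ne_zero),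
    zpow_natCast, zpow_natCast]

theorem T_units {u v : R} (hu : IsUnit u) (hv : IsUnit v) :
    T R (algebraMap R K u) (algebraMap R K v) = 1 := by
  rw [T_unit_left R hu ((map_ne_zero_iff _ (IsFractionRing.injective R K)).mpr hv.ne_zero),
    Groth.RefRank.ordFrac_of_isUnit' hv, zpow_zero]

theorem T_transport {R' : Type u} [CommRing R'] [IsDomain R'] [IsLocalRing R'] [IsNoetherianRing R']
    [Ring.KrullDimLE 1 R'] [Algebra R' K] [IsFractionRing R' K] (φ : R →+* R') [IsLocalHom φ]
    (hφ : Function.Bijective φ) (hc : ∀ a, algebraMap R' K (φ a) = algebraMap R K a) {f g : K} (hf : f ≠ 0)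
    (hg : g ≠ 0) : T R' f g = ResidueField.map φ (T R f g) := by
  obtain ⟨a, b, ha, hb, rfl⟩ := exists_div R hf
  obtain ⟨c, d, hcc, hd, rfl⟩ := exists_div R hg
  have hne : ∀ {z : R}, z ≠ 0 → φ z ≠ 0 := fun hz => (map_ne_zero_iff φ hφ.1).mpr hz
  rw [T_div R ha hb hcc hd, ← hc a, ← hc b, ← hc c, ← hc d, T_div R' (hne ha) (hne hb) (hne hcc) (hne hd)]
  simp only [map_div₀, map_mul, tameSymbol_transport φ hφ (mem_nonZeroDivisors_of_ne_zero ha)
      (mem_nonZeroDivisors_of_ne_zero hcc), tameSymbol_transport φ hφ (mem_nonZeroDivisors_of_ne_zero hb)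
      (mem_nonZeroDivisors_of_ne_zero hd), tameSymbol_transport φ hφ (mem_nonZeroDivisors_of_ne_zero ha)
      (mem_nonZeroDivisors_of_ne_zero hd), tameSymbol_transport φ hφ (mem_nonZeroDivisors_of_ne_zero hb)
      (mem_nonZeroDivisors_of_ne_zero hcc)]

end Groth.Cycles.TameK
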