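import Groth.Agent.Cycles.GradedGen
import Groth.Agent.Ega2Proj.RelProjFT
import Groth.Agent.Ega2Proj.TwistGen
import Groth.Agent.RefRank.Rank1
import Groth.Agent.Inter.Twist
import Groth.Prelude.Def_ProjUP

/-!
Twisting sheaves on a `Proj` covered by the loci of the elements of one degree.
-/

universe u

set_option autoImplicit false

open CategoryTheory AlgebraicGeometry Opposite TopologicalSpace
open Groth.PicAux Groth.Ega2Proj

namespace Groth.Cycles.TwistCov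

variable {R A : Type u} [CommRing R] [CommRing A] [Algebra R A] {𝒜 : ℕ → Submodule R A} [GradedAlgebra 𝒜]

theorem exists_pow_notMem {l : ℕ} (h : ∀ x : ProjectiveSpectrum 𝒜, ∃ g ∈ 𝒜 l, g ∉ x.asHomogeneousIdeal)
    (a : ℕ) (x : ProjectiveSpectrum 𝒜) : ∃ g ∈ 𝒜 (a * l), g ∉ x.asHomogeneousIdeal := by
  obtain ⟨g, hg, hgx⟩ := h x
  exact ⟨g ^ a, pow_mem_deg hg a, notMem_pow x hgx a⟩

/-- Degree `N` elements generate `O(N)` if their loci cover. -/
theorem generatedBy_of_cover {N : ℕ}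
    (h : ∀ x : ProjectiveSpectrum 𝒜, ∃ g ∈ 𝒜 N, g ∉ x.asHomogeneousIdeal) :
    ProjUP.GeneratedBy (Twist.twist 𝒜 (N : ℤ))
      (fun b : 𝒜 N => (Twist.globalOf 𝒜 b : ProjUP.Γm (Twist.twist 𝒜 (N : ℤ)))) := by
  intro x
  obtain ⟨g, hg, hgx⟩ := h x
  have hgen : Gen (Twist.twist 𝒜 (N : ℤ)) (Proj.basicOpen 𝒜 g)
      (res _ le_top (globalSec hg)) :=
    gen_fracGen hg SetLike.GradedOne.one_mem (by simp) _ (fun y _ => Groth.Ega2Proj.one_notMem y) fun _ hy => hy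
  have hb := Groth.RefRank.isStalkBasis_germ_of_gen hgen (x := x) hgx
  refine eq_top_iff.mpr (hb.span_eq_top.symm.le.trans (Submodule.span_mono ?_))
  rintro _ rfl
  refine ⟨⟨g, hg⟩, ?_⟩
  exact (Groth.QCohMod.germ_res (Twist.twist 𝒜 (N : ℤ)) (le_top : Proj.basicOpen 𝒜 g ≤ ⊤) x hgx
    (globalSec hg)).symm

/-- `O(N)` is ample on a quasi-compact `Proj` covered by the loci of degree `N`. -/
theorem isAmple_of_cover {N : ℕ} (hN : 0 < N) [CompactSpace (Proj 𝒜)]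
    (h : ∀ x : ProjectiveSpectrum 𝒜, ∃ g ∈ 𝒜 N, g ∉ x.asHomogeneousIdeal) :
    CohB1.IsAmple (Twist.twist 𝒜 (N : ℤ)) := by
  classical
  obtain ⟨t, ht⟩ := isCompact_univ.elim_finite_subcover
    (fun g : 𝒜 N => (Proj.basicOpen 𝒜 (g : A) : Set (Proj 𝒜))) (fun g => (Proj.basicOpen 𝒜 (g : A)).isOpen)
    (fun x _ => by
      obtain ⟨g, hg, hgx⟩ := h x
      exact Set.mem_iUnion.mpr ⟨⟨g, hg⟩, hgx⟩)
  refine RelProjFT.isAmple_twist hN (t.image Subtype.val) (fun f hf => ?_) fun x => ?_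
  · obtain ⟨g, -, rfl⟩ := Finset.mem_image.mp hf
    exact g.2
  · obtain ⟨g, hg, hgx⟩ := Set.mem_iUnion₂.mp (ht (Set.mem_univ x))
    exact ⟨g, Finset.mem_image_of_mem _ hg, hgx⟩

/-- Division by `f ^ a` for `f` of degree `l`. -/
noncomputable def shiftBy {l : ℕ} {f : A} (hf : f ∈ 𝒜 l) (a : ℤ) {m n : ℤ} (hm : m = a * l + n)
    {V : (Proj 𝒜).Opens} (hV : ∀ x : ProjectiveSpectrum 𝒜, x ∈ V → f ∉ x.asHomogeneousIdeal)
    (s : Γ(GrTilde.tilde 𝒜 𝒜 m, V)) : Γ(GrTilde.tilde 𝒜 𝒜 n, V) :=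
  Tilde.mulFrac (pow_mem_deg hf (-a).toNat) (pow_mem_deg hf a.toNat)
    (by
      push_cast
      have h1 : ((-a).toNat : ℤ) - a.toNat = -a := by omega
      rw [show m + ((-a).toNat : ℤ) * l - (a.toNat : ℤ) * l = m + (((-a).toNat : ℤ) - a.toNat) * l by ring, h1, hm]
      ring)
    (fun x hx => notMem_pow x (hV x hx) _) s

theorem tval_shiftBy {l : ℕ} {f : A} (hf : f ∈ 𝒜 l) (a : ℤ) {m n : ℤ} (hm : m = a * l + n)
    {V : (Proj 𝒜).Opens} (hV : ∀ x : ProjectiveSpectrum 𝒜, x ∈ V → f ∉ x.asHomogeneousIdeal)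
    (s : Γ(GrTilde.tilde 𝒜 𝒜 m, V)) (x : ProjectiveSpectrum 𝒜) (hx : x ∈ V) :
    Tilde.tval (shiftBy hf a hm hV s) x hx =
      ((funit x (hV x hx) ^ (-a) : (Twist.Loc 𝒜 x)ˣ) : Twist.Loc 𝒜 x) • Tilde.tval s x hx := by
  rw [shiftBy, Tilde.tval_mulFrac, lfrac_pow_eq x (hV x hx)]
  congr 3
  omega

/-- `O(al) ⊗ O(n) ≅ O(al + n)` when the loci of degree `l` cover. -/
theorem nonempty_tensor_iso_of_cover {l : ℕ}
    (h : ∀ x : ProjectiveSpectrum 𝒜, ∃ g ∈ 𝒜 l, g ∉ x.asHomogeneousIdeal) (a n : ℤ) :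
    Nonempty (CohB1.tensorMod (Twist.twist 𝒜 (a * l)) (Twist.twist 𝒜 n) ≅ Twist.twist 𝒜 (a * l + n)) := by
  have hcov : ⨆ f : (𝒜 l : Set A), Proj.basicOpen 𝒜 (f : A) = ⊤ := top_le_iff.1 fun x _ =>
    let ⟨g, hg, hgx⟩ := h x
    Opens.mem_iSup.2 ⟨⟨g, hg⟩, hgx⟩
  have hV : ∀ (f : (𝒜 l : Set A)) (V : (Proj 𝒜).Opens), V ≤ Proj.basicOpen 𝒜 (f : A) →
      ∀ x : ProjectiveSpectrum 𝒜, x ∈ V → (f : A) ∉ x.asHomogeneousIdeal :=
    fun f V h x hx => h hx
  obtain ⟨φ, hφ⟩ := exists_hom_of_cover (L := GrTilde.tilde 𝒜 𝒜 (a * l + n))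
    (M := CohB1.tensorMod (GrTilde.tilde 𝒜 𝒜 n) (Twist.twist 𝒜 (a * l))) hcov
    (fun f V h x => tmulSec (shiftBy f.2 a rfl (hV f V h) x)
      (pwSec (N := a * l) f.2 a rfl (hV f V h)))
    (fun f V h x y => by
      have : shiftBy f.2 a rfl (hV f V h) (x + y) =
          shiftBy (n := n) f.2 a rfl (hV f V h) x + shiftBy f.2 a rfl (hV f V h) y :=
        Tilde.tval_ext fun z hz => by simp [tval_shiftBy, mul_add]
      simp only [this, tmulSec, TensorProduct.add_tmul, map_add])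
    (fun f V h r x => by
      have : shiftBy f.2 a rfl (hV f V h) (r • x) = r • shiftBy (n := n) f.2 a rfl (hV f V h) x :=
        Tilde.tval_ext fun z hz => by
          rw [tval_shiftBy, Tilde.tval_smul, Tilde.tval_smul, tval_shiftBy, smul_comm]
      simp only [this, tmulSec_smul_left])
    (fun f V W h h' x => by rw [res_tmulSec]; rfl)
    (fun f g V hf hg x => by
      obtain ⟨c, hc⟩ := (gen_pwSec (N := a * l) g.2 a rfl (hV g V hg)).exists_coeff le_rfl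
        (pwSec (N := a * l) f.2 a rfl (hV f V hf))
      rw [res_self] at hc
      have : c • shiftBy (n := n) f.2 a rfl (hV f V hf) x = shiftBy g.2 a rfl (hV g V hg) x :=
        Tilde.tval_ext fun z hz => by
          rw [Tilde.tval_smul, tval_shiftBy, tval_shiftBy, coeff_val _ _ _ _ _ _ hc, smul_smul,
            ← Units.val_mul]
          congr 2
          rw [mul_comm (funit z (hV f V hf z hz) ^ a), mul_assoc, ← zpow_add, add_neg_cancel,
            zpow_zero, mul_one]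
      rw [hc, tmulSec_smul_right, ← tmulSec_smul_left, this])
  have : IsIso φ := isIso_of_cover hcov φ fun f V h => by
    have e : (φ.app V : Γ(GrTilde.tilde 𝒜 𝒜 (a * l + n), V) → _) =
        (fun y : Γ(GrTilde.tilde 𝒜 𝒜 n, V) => tmulSec y
          (res _ h (pwSec (N := a * l) f.2 a rfl fun x hx => hx))) ∘
          fun x => shiftBy f.2 a rfl (hV f V h) x := funext fun x => hφ f V h x
    rw [e]
    exact (tmulSec_bijective h (gen_pwSec _ _ _ _)).comp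
      (Tilde.mulFrac_bijective _ _ _ _ fun x hx => notMem_pow x (hV f V h x hx) _)
  obtain ⟨e⟩ := Groth.Inter.tensor_comm (GrTilde.tilde 𝒜 𝒜 n) (Twist.twist 𝒜 (a * l))
  exact ⟨((@asIso _ _ _ _ φ this).trans e).symm⟩

section Generators

variable {s : ℕ} (f : Fin s → A) (deg : Fin s → ℕ)

theorem exists_lcm_notMem (_hdeg : ∀ i, 0 < deg i) (hf : ∀ i, f i ∈ 𝒜 (deg i))
    (hgen : Algebra.adjoin R (Set.range f) = ⊤) (x : ProjectiveSpectrum 𝒜) :
    ∃ g ∈ 𝒜 (Finset.univ.lcm deg), g ∉ x.asHomogeneousIdeal := by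
  obtain ⟨i, hi⟩ : ∃ i, f i ∉ x.asHomogeneousIdeal := by
    by_contra hc
    push Not at hc
    apply x.not_irrelevant_le
    change (HomogeneousIdeal.irrelevant 𝒜).toIdeal ≤ x.asHomogeneousIdeal.toIdeal
    rw [HomogeneousIdeal.irrelevant_eq_span, Ideal.span_le]
    intro p hp
    simp only [Set.mem_iUnion] at hp
    obtain ⟨d, hd, hpd⟩ := hp
    have hle : 𝒜 d ≤ x.asHomogeneousIdeal.toIdeal.restrictScalars R := by
      rw [Groth.Cycles.piece_eq_span_monomials 𝒜 f deg hf hgen d, Submodule.span_le]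
      rintro _ ⟨e, he, rfl⟩
      obtain ⟨j, -, hj⟩ : ∃ j ∈ Finset.univ, e j * deg j ≠ 0 :=
        Finset.exists_ne_zero_of_sum_ne_zero (by rw [show ∑ j, e j * deg j = d from he]; omega)
      exact Ideal.mem_of_dvd _ (Finset.dvd_prod_of_mem _ (Finset.mem_univ j))
        (Ideal.pow_mem_of_mem _ (hc j) _ (Nat.pos_of_ne_zero (left_ne_zero_of_mul hj)))
    exact hle hpd
  obtain ⟨c, hc⟩ : deg i ∣ Finset.univ.lcm deg := Finset.dvd_lcm (Finset.mem_univ i)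
  exact ⟨f i ^ c, hc ▸ mul_comm c (deg i) ▸ pow_mem_deg (hf i) c, notMem_pow x hi c⟩

theorem lcm_pos (hdeg : ∀ i, 0 < deg i) : 0 < Finset.univ.lcm deg := by
  refine Nat.pos_of_ne_zero fun h0 => ?_
  obtain ⟨i, -, hi⟩ := Finset.lcm_eq_zero_iff.mp h0
  exact (hdeg i).ne' hi

theorem compactSpace_of_generators (hdeg : ∀ i, 0 < deg i) (hf : ∀ i, f i ∈ 𝒜 (deg i))
    (hgen : Algebra.adjoin R (Set.range f) = ⊤) : CompactSpace (Proj 𝒜) := by
  have hcov : ⨆ i, Proj.basicOpen 𝒜 (f i) = ⊤ := top_le_iff.1 fun x _ => by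
    by_contra hx
    obtain ⟨g, hg, hgx⟩ := exists_lcm_notMem f deg hdeg hf hgen x
    have hle : 𝒜 (Finset.univ.lcm deg) ≤ x.asHomogeneousIdeal.toIdeal.restrictScalars R := by
      rw [Groth.Cycles.piece_eq_span_monomials 𝒜 f deg hf hgen _, Submodule.span_le]
      rintro _ ⟨e, he, rfl⟩
      obtain ⟨j, -, hj⟩ : ∃ j ∈ Finset.univ, e j * deg j ≠ 0 :=
        Finset.exists_ne_zero_of_sum_ne_zero (by
          rw [show ∑ j, e j * deg j = Finset.univ.lcm deg from he]; exact (lcm_pos deg hdeg).ne')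
      refine Ideal.mem_of_dvd _ (Finset.dvd_prod_of_mem _ (Finset.mem_univ j))
        (Ideal.pow_mem_of_mem _ ?_ _ (Nat.pos_of_ne_zero (left_ne_zero_of_mul hj)))
      by_contra hj'
      exact hx (Opens.mem_iSup.2 ⟨j, hj'⟩)
    exact hgx (hle hg)
  refine ⟨?_⟩
  rw [← Opens.coe_top, ← hcov, Opens.coe_iSup]
  exact isCompact_iUnion fun i => (Proj.isAffineOpen_basicOpen 𝒜 (f i) (hf i) (hdeg i)).isCompact

end Generators

end Groth.Cycles.TwistCov
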