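import Groth.Agent.Chow.ToPn
import Groth.Agent.Cycles.GradedGen
import Groth.Agent.Cycles.TwistCoverDeg
import Groth.Agent.PnCoh.OverAffine
import Groth.Agent.RelTwist.BaseFun

/-!
Closed immersions of `Proj` into projective space given by elements of one degree.
-/

universe u

set_option autoImplicit false

open CategoryTheory CategoryTheory.Limits AlgebraicGeometry TopologicalSpace HomogeneousLocalization
open Groth.PicAux Groth.Ega2Proj Groth.Chow.ToPn

namespace Groth.Cycles.TwistEmb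

variable {R A : Type u} [CommRing R] [CommRing A] [Algebra R A] (𝒜 : ℕ → Submodule R A) [GradedAlgebra 𝒜]

/-- The structure morphism of `Proj` over the coefficients. -/
noncomputable def qS : Proj 𝒜 ⟶ Spec (CommRingCat.of R) :=
  Proj.toSpecZero 𝒜 ≫ Spec.map (CommRingCat.ofHom (algebraMap R (𝒜 0)))

theorem toGlobal_qS_val (c : R) (y : ProjectiveSpectrum 𝒜) :
    ((ProjUP.toGlobal (qS 𝒜) c).1 ⟨y, trivial⟩).val =
      (Localization.mk (algebraMap R A c) 1 : Twist.Loc 𝒜 y) := by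
  refine Eq.trans ?_ (Groth.RelTw.toSpecZero_appTop_val 𝒜 (algebraMap R (𝒜 0) c) y)
  refine congrArg (fun s : Γ(Proj 𝒜, ⊤) => (s.1 ⟨y, trivial⟩).val) ?_
  show (qS 𝒜).appTop ((Scheme.ΓSpecIso (CommRingCat.of R)).inv c) = _
  rw [qS, Scheme.Hom.comp_appTop, CommRingCat.comp_apply]
  exact congrArg _ (congr(($(Scheme.ΓSpecIso_inv_naturality
    (CommRingCat.ofHom (algebraMap R (𝒜 0))))) c)).symm

/-- Evaluation of functions at a point. -/
noncomputable def ev {U : (Proj 𝒜).Opens} (x : ProjectiveSpectrum 𝒜) (hx : x ∈ U) :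
    Γ(Proj 𝒜, U) →+* Twist.Loc 𝒜 x where
  toFun φ := (φ.1 ⟨x, hx⟩).val
  map_one' := HomogeneousLocalization.val_one
  map_mul' a b := HomogeneousLocalization.val_mul _ _
  map_zero' := HomogeneousLocalization.val_zero
  map_add' a b := HomogeneousLocalization.val_add _ _

variable {N n : ℕ} (g : Fin (N + 1) → A) (hg : ∀ i, g i ∈ 𝒜 n)

/-- The sections of `O(n)`. -/
noncomputable def sec (i : Fin (N + 1)) : ProjUP.Γm (Twist.twist 𝒜 (n : ℤ)) :=
  Twist.globalOf 𝒜 ⟨g i, hg i⟩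

theorem gen_sec (i : Fin (N + 1)) :
    Gen (Twist.twist 𝒜 (n : ℤ)) (Proj.basicOpen 𝒜 (g i)) (res _ le_top (sec 𝒜 g hg i)) :=
  gen_fracGen (hg i) SetLike.GradedOne.one_mem (by simp) _
    (fun y _ => Groth.Ega2Proj.one_notMem y) fun _ hy => hy

variable (hcov : ∀ x : ProjectiveSpectrum 𝒜, ∃ i, g i ∉ x.asHomogeneousIdeal)

include hg hcov in
theorem isInvertible_twist : PicF.IsInvertible (Twist.twist 𝒜 (n : ℤ)) := by
  rw [isInvertible_iff_exists_gen]
  intro x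
  obtain ⟨i, hi⟩ := hcov x
  exact ⟨_, _, hi, gen_sec 𝒜 g hg i⟩

include hcov in
theorem U_eq (i : Fin (N + 1)) :
    U (Twist.twist 𝒜 (n : ℤ)) (sec 𝒜 g hg) i = Proj.basicOpen 𝒜 (g i) := by
  refine le_antisymm (fun x hx => ?_) ?_
  · obtain ⟨j, hj⟩ := hcov x
    obtain ⟨c, hc⟩ := (gen_sec 𝒜 g hg j).exists_coeff le_rfl (res _ le_top (sec 𝒜 g hg i))
    rw [Groth.PicAux.res_self] at hc
    have h0 : gsec (homOfSection (sec 𝒜 g hg i)) = sec 𝒜 g hg i := gsec_homOfSection _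
    have h1 := genLocus_inf_eq_basicOpen (s := homOfSection (sec 𝒜 g hg i)) (gen_sec 𝒜 g hg j) (c := c)
      (by rw [h0]; exact hc)
    have h2 : x ∈ (Proj 𝒜).basicOpen c := h1.le ⟨hx, hj⟩
    refine (mem_basicOpen_iff_of_frac 𝒜 c hj (a := g i) (b := g j) (hb := hj) ?_).1 h2
    have h3 := congrArg (fun t => wval t x hj) hc
    simp only [wval_smul] at h3
    change Localization.mk (g i) _ = _ * Localization.mk (g j) _ at h3
    refine (lfrac_isUnit 𝒜 x hj (Groth.Ega2Proj.one_notMem x)).mul_left_injective ?_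
    beta_reduce
    change _ * Localization.mk (g j) _ = Localization.mk (g i) _ * Localization.mk (g j) _
    rw [← h3, Localization.mk_mul]
    refine Localization.mk_eq_mk_iff.mpr (Localization.r_iff_exists.mpr ⟨1, ?_⟩)
    simp only [Submonoid.coe_one, Submonoid.coe_mul]
    ring
  · show _ ≤ CohB1.genLocus _ _
    rw [le_genLocus_iff, gsec_homOfSection]
    exact gen_sec 𝒜 g hg i

include hcov in
theorem ev_c (i l : Fin (N + 1)) (x : ProjectiveSpectrum 𝒜)
    (hx : x ∈ U (Twist.twist 𝒜 (n : ℤ)) (sec 𝒜 g hg) i) :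
    ev 𝒜 x hx (c (Twist.twist 𝒜 (n : ℤ)) (sec 𝒜 g hg) i l) =
      Localization.mk (g l) ⟨g i, (U_eq 𝒜 g hg hcov i).le hx⟩ := by
  have h1 := congrArg (fun t => wval t x hx) (c_spec (Twist.twist 𝒜 (n : ℤ)) (sec 𝒜 g hg) i l)
  simp only [wval_smul] at h1
  change Localization.mk (g l) _ = _ * Localization.mk (g i) _ at h1
  refine (lfrac_isUnit 𝒜 x ((U_eq 𝒜 g hg hcov i).le hx) (Groth.Ega2Proj.one_notMem x)).mul_left_injective ?_
  beta_reduce
  change _ * Localization.mk (g i) _ = Localization.mk (g l) _ * Localization.mk (g i) _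
  refine h1.symm.trans ?_
  rw [Localization.mk_mul]
  refine Localization.mk_eq_mk_iff.mpr (Localization.r_iff_exists.mpr ⟨1, ?_⟩)
  simp only [Submonoid.coe_one, Submonoid.coe_mul]
  ring

include hcov in
theorem ev_α (i : Fin (N + 1)) {k : ℕ} (P : MvPolynomial (Fin (N + 1)) R)
    (hP : P ∈ CohB1.polyGrading N R k) (hP' : P ∈ CohB1.polyGrading N R (k • 1)) (x : ProjectiveSpectrum 𝒜)
    (hx : x ∈ U (Twist.twist 𝒜 (n : ℤ)) (sec 𝒜 g hg) i) :
    ev 𝒜 x hx (α (qS 𝒜) (Twist.twist 𝒜 (n : ℤ)) (sec 𝒜 g hg) i (Away.mk _ (X_mem i) k P hP')) =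
      Localization.mk (MvPolynomial.aeval g P)
        ⟨g i ^ k, x.asHomogeneousIdeal.toIdeal.primeCompl.pow_mem ((U_eq 𝒜 g hg hcov i).le hx) k⟩ := by
  set ψ := algebraMap A (Twist.Loc 𝒜 x) with hψ
  have hgi := (U_eq 𝒜 g hg hcov i).le hx
  let v : Twist.Loc 𝒜 x := Localization.mk 1 ⟨g i, hgi⟩
  have hb : (ev 𝒜 x hx).comp (baseMap (qS 𝒜) (Twist.twist 𝒜 (n : ℤ)) (sec 𝒜 g hg) i) =
      ψ.comp (algebraMap R A) := RingHom.ext fun r => by
    rw [RingHom.comp_apply, RingHom.comp_apply, hψ, ← Localization.mk_one_eq_algebraMap]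
    exact toGlobal_qS_val 𝒜 r x
  have hc : ∀ l, ev 𝒜 x hx (c (Twist.twist 𝒜 (n : ℤ)) (sec 𝒜 g hg) i l) = v * ψ (g l) := fun l => by
    rw [ev_c 𝒜 g hg hcov, hψ, ← Localization.mk_one_eq_algebraMap, Localization.mk_mul]
    exact congrArg₂ Localization.mk (one_mul _).symm (Subtype.ext (mul_one _).symm)
  have he : MvPolynomial.eval₂ (ψ.comp (algebraMap R A)) (fun l => ψ (g l)) P = ψ (MvPolynomial.aeval g P) := by
    rw [MvPolynomial.aeval_def, MvPolynomial.eval₂_comp_left]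
    rfl
  rw [α, chart_mk, MvPolynomial.eval₂_comp_left, hb,
    show (ev 𝒜 x hx : _ → _) ∘ c (Twist.twist 𝒜 (n : ℤ)) (sec 𝒜 g hg) i = fun l => v * ψ (g l) from funext hc,
    eval₂_scale _ _ _ hP, he, hψ, ← Localization.mk_one_eq_algebraMap]
  simp only [v]
  rw [Localization.mk_pow, Localization.mk_mul, one_pow, one_mul, mul_one]
  exact congrArg₂ Localization.mk rfl (Subtype.ext rfl)

/-- The elements expressible by forms after multiplication by a power of `g i`. -/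
def Expr (i : Fin (N + 1)) (k : ℕ) (b : A) : Prop :=
  ∃ (m : ℕ) (P : MvPolynomial (Fin (N + 1)) R),
    P ∈ CohB1.polyGrading N R (k + m) ∧ MvPolynomial.aeval g P = b * g i ^ m

include hg hcov in
theorem exists_closedImmersion (hn : 0 < n) [IsProper (qS 𝒜)] (S : Set (Fin (N + 1)))
    (hS : ∀ x : ProjectiveSpectrum 𝒜, ∃ i ∈ S, g i ∉ x.asHomogeneousIdeal)
    (hsurj : ∀ i ∈ S, ∀ k, ∀ b ∈ 𝒜 (k * n), Expr (R := R) g i k b) :
    ∃ r : Proj 𝒜 ⟶ CohB1.ProjSpace N R, IsClosedImmersion r ∧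
      r ≫ CohB1.ProjSpace.toSpec N R = qS 𝒜 ∧
      Nonempty (Twist.twist 𝒜 (n : ℤ) ≅
        (Scheme.Modules.pullback r).obj (Twist.twistProjSpace N R 1)) := by
  have hUeq := U_eq 𝒜 g hg hcov
  have hU : ⨆ i, U (Twist.twist 𝒜 (n : ℤ)) (sec 𝒜 g hg) i = ⊤ := top_le_iff.1 fun x _ =>
    Opens.mem_iSup.2 (by
      obtain ⟨i, hi⟩ := hcov x
      exact ⟨i, (hUeq i).ge hi⟩)
  obtain ⟨r, hr⟩ := exists_r (qS 𝒜) (Twist.twist 𝒜 (n : ℤ)) (sec 𝒜 g hg) hU
  obtain ⟨τ, -⟩ := exists_tau hr hU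
  have hq := r_toSpec hr hU
  have : IsProper (r ≫ CohB1.ProjSpace.toSpec N R) := hq ▸ inferInstance
  have : IsProper r := IsProper.of_comp r (CohB1.ProjSpace.toSpec N R)
  refine ⟨r, ?_, hq, ⟨τ.symm⟩⟩
  let D : Fin (N + 1) → (CohB1.ProjSpace N R).Opens := fun i =>
    Proj.basicOpen (CohB1.polyGrading N R) (MvPolynomial.X i)
  have hpre : ∀ i, r ⁻¹ᵁ D i = U (Twist.twist 𝒜 (n : ℤ)) (sec 𝒜 g hg) i := fun i => preimage_D hr hU i
  have hchart : ∀ i ∈ S, IsClosedImmersion (r ∣_ D i) := by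
    intro i hi
    have hA : IsAffineOpen (D i) := Proj.isAffineOpen_basicOpen _ _ (X_mem i) one_pos
    have hB : IsAffineOpen (r ⁻¹ᵁ D i) :=
      (congrArg IsAffineOpen ((hpre i).trans (hUeq i))).mpr (Proj.isAffineOpen_basicOpen 𝒜 _ (hg i) hn)
    have happ : Function.Surjective (r.app (D i)) := by
      intro φ
      have hle : Proj.basicOpen 𝒜 (g i) ≤ r ⁻¹ᵁ D i := ((hpre i).trans (hUeq i)).ge
      obtain ⟨k, b, hb, hφ⟩ := exists_fun_eq_frac 𝒜 hn (hg i) ((Proj 𝒜).presheaf.map (homOfLE hle).op φ)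
      obtain ⟨m, P, hP, hPb⟩ := hsurj i hi k b hb
      have hP' : P ∈ CohB1.polyGrading N R ((k + m) • 1) := by simpa using hP
      refine ⟨Proj.awayToSection _ _ (Away.mk _ (X_mem i) (k + m) P hP'), ?_⟩
      refine fun_ext fun x hx => ?_
      have hxU : x ∈ U (Twist.twist 𝒜 (n : ℤ)) (sec 𝒜 g hg) i := (hpre i).le hx
      have hgx : g i ∉ x.asHomogeneousIdeal := (hUeq i).le hxU
      have h1 := congrArg (ev 𝒜 x hxU) (appLE_awayToSection hr i (hpre i).ge
        (Away.mk _ (X_mem i) (k + m) P hP'))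
      rw [ev_α 𝒜 g hg hcov i P hP hP' x hxU] at h1
      refine Eq.trans ?_ ((h1.trans ?_).trans (hφ x hgx).symm)
      · rfl
      · refine Localization.mk_eq_mk_iff.mpr (Localization.r_iff_exists.mpr ⟨1, ?_⟩)
        simp only [Submonoid.coe_one, one_mul, hPb, pow_add]
        ring
    have : IsAffine (D i).toScheme := hA
    have : IsAffine (r ⁻¹ᵁ D i).toScheme := hB
    refine IsClosedImmersion.of_surjective_of_isAffine _ ?_
    rw [morphismRestrict_appTop]
    have happ' : ∀ V, V = D i → Function.Surjective (r.app V) := by rintro V rfl; exact happ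
    exact (ConcreteCategory.bijective_of_isIso ((Proj 𝒜).presheaf.map
      (eqToHom (image_morphismRestrict_preimage r (D i) ⊤)).op)).2.comp (happ' _ (D i).ι_image_top)
  let W : (CohB1.ProjSpace N R).Opens := ⨆ i : S, D i
  have hW : r ⁻¹ᵁ W = ⊤ := top_le_iff.1 fun x _ => by
    obtain ⟨i, hi, hgi⟩ := hS x
    show r x ∈ W
    refine Opens.mem_iSup.2 ⟨⟨i, hi⟩, ?_⟩
    exact (hpre i).ge ((hUeq i).ge hgi)
  have hWci : IsClosedImmersion (r ∣_ W) := by
    refine (IsZariskiLocalAtTarget.iff_of_iSup_eq_top (P := @IsClosedImmersion) (f := r ∣_ W)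
      (fun i : S => W.ι ⁻¹ᵁ D i) ?_).2 fun i => ?_
    · rw [← Scheme.Hom.preimage_iSup]
      exact top_le_iff.1 fun x _ => x.2
    · have hle : D i ≤ W := le_iSup (fun i : S => D i) i
      have := hchart i i.2
      have e : W.ι ''ᵁ (W.ι ⁻¹ᵁ D i) = D i := by
        rw [Scheme.Hom.image_preimage_eq_opensRange_inf, Scheme.Opens.opensRange_ι, inf_eq_right.2 hle]
      exact ((MorphismProperty.arrow_mk_iso_iff @IsClosedImmersion
        (morphismRestrictRestrict r W (W.ι ⁻¹ᵁ D i) ≪≫ morphismRestrictEq r e)).2 this)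
  have : IsIso (r ⁻¹ᵁ W).ι := by
    rw [hW]; exact (Scheme.topIso (Proj 𝒜)).isIso_hom
  have : IsImmersion r := by
    have h : r = inv (r ⁻¹ᵁ W).ι ≫ (r ∣_ W) ≫ W.ι := by
      rw [morphismRestrict_ι, IsIso.inv_hom_id_assoc]
    rw [h]; infer_instance
  exact IsClosedImmersion.of_isPreimmersion r r.isClosedMap.isClosed_range

end Groth.Cycles.TwistEmb
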