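import Groth.Agent.Cycles.TwistEmb

/-!
Closed immersions of `Proj` by `O(n)`.
-/

universe u

set_option autoImplicit false

open CategoryTheory CategoryTheory.Limits AlgebraicGeometry TopologicalSpace
open Groth.Ega2Proj

namespace Groth.Cycles.TwistEmb

variable {R A : Type u} [CommRing R] [CommRing A] [Algebra R A] {𝒜 : ℕ → Submodule R A} [GradedAlgebra 𝒜]
  {s : ℕ} (f : Fin s → A) (deg : Fin s → ℕ) (hdeg : ∀ i, 0 < deg i) (hf : ∀ i, f i ∈ 𝒜 (deg i))
  (hgen : Algebra.adjoin R (Set.range f) = ⊤)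

include hdeg hf hgen in
theorem isProper_qS : IsProper (qS 𝒜) := by
  have : Algebra.FiniteType R A := by
    classical
    refine ⟨⟨Finset.univ.image f, ?_⟩⟩
    simpa using hgen
  have : IsScalarTower R (𝒜 0) A := ⟨fun r a x => smul_mul_assoc r (a : A) x⟩
  have : Algebra.FiniteType (𝒜 0) A := Algebra.FiniteType.of_restrictScalars_finiteType R (𝒜 0) A
  have hsurj : Function.Surjective (algebraMap R (𝒜 0)) := by
    rintro ⟨a, ha⟩
    rw [Groth.Cycles.piece_eq_span_monomials 𝒜 f deg hf hgen 0] at ha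
    suffices a ∈ Submodule.span R ({1} : Set A) by
      obtain ⟨r, hr⟩ := Submodule.mem_span_singleton.1 this
      exact ⟨r, Subtype.ext ((Algebra.algebraMap_eq_smul_one r).trans hr)⟩
    refine Submodule.span_mono ?_ ha
    rintro _ ⟨e, he, rfl⟩
    have h0 : ∀ i, e i = 0 := fun i => by
      have := (Finset.sum_eq_zero_iff.mp he) i (Finset.mem_univ i)
      simpa [(hdeg i).ne'] using this
    simp [h0]
  have := IsClosedImmersion.spec_of_surjective (CommRingCat.ofHom (algebraMap R (𝒜 0))) hsurj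
  rw [qS]
  infer_instance

/-- The monomials of degree `n`, preceded by zero. -/
theorem exists_monomials {n : ℕ} (hdeg : ∀ i, 0 < deg i) (hf : ∀ i, f i ∈ 𝒜 (deg i))
    (hgen : Algebra.adjoin R (Set.range f) = ⊤) :
    ∃ (N : ℕ) (g : Fin (N + 1) → A), (∀ i, g i ∈ 𝒜 n) ∧
      (∀ e : Fin s → ℕ, ∑ l, e l * deg l = n → ∃ i, g i = ∏ l, f l ^ e l) ∧
      𝒜 n ≤ Submodule.span R (Set.range g) := by
  classical
  let I := {e : Fin s → Fin (n + 1) // ∑ l, (e l : ℕ) * deg l = n}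
  let t : Fin (Fintype.card I) ≃ I := (Fintype.equivFin I).symm
  let g : Fin (Fintype.card I + 1) → A := Fin.cons 0 fun j => ∏ l, f l ^ ((t j).1 l : ℕ)
  have hmon : ∀ e : Fin s → ℕ, ∑ l, e l * deg l = n → ∃ i, g i = ∏ l, f l ^ e l := fun e he => by
    have hle : ∀ l, e l < n + 1 := fun l => Nat.lt_succ_of_le (by
      refine le_trans (Nat.le_mul_of_pos_right _ (hdeg l)) (he ▸ ?_)
      exact Finset.single_le_sum (f := fun l => e l * deg l) (fun j _ => Nat.zero_le _) (Finset.mem_univ l))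
    refine ⟨(t.symm ⟨fun l => ⟨e l, hle l⟩, he⟩).succ, ?_⟩
    simp [g]
  refine ⟨_, g, fun i => ?_, hmon, ?_⟩
  · induction i using Fin.cases with
    | zero => exact zero_mem _
    | succ j =>
    have := Groth.Cycles.monomial_mem 𝒜 f deg hf fun l => ((t j).1 l : ℕ)
    rw [(t j).2] at this
    simpa [g] using this
  · rw [Groth.Cycles.piece_eq_span_monomials 𝒜 f deg hf hgen n, Submodule.span_le]
    rintro _ ⟨e, he, rfl⟩
    obtain ⟨i, hi⟩ := hmon e he
    exact Submodule.subset_span ⟨i, hi⟩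

theorem exists_over {N n : ℕ} {r : Proj 𝒜 ⟶ CohB1.ProjSpace N R} (h1 : IsClosedImmersion r)
    (h2 : r ≫ CohB1.ProjSpace.toSpec N R = qS 𝒜)
    (h3 : Nonempty (Twist.twist 𝒜 (n : ℤ) ≅ (Scheme.Modules.pullback r).obj (Twist.twistProjSpace N R 1))) :
    ∃ (N : ℕ) (i : Proj 𝒜 ⟶ CohB1.ProjSpaceOver N (Spec (CommRingCat.of R))), IsClosedImmersion i ∧
      i ≫ pullback.snd (CohB1.ProjSpace.toSpec N (ULift.{u} ℤ)) (specULiftZIsTerminal.from (Spec (CommRingCat.of R))) =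
        Proj.toSpecZero 𝒜 ≫ Spec.map (CommRingCat.ofHom (algebraMap R (𝒜 0))) ∧
      Nonempty (Twist.twist 𝒜 (n : ℤ) ≅
        (Scheme.Modules.pullback i).obj (Twist.twistOver N (Spec (CommRingCat.of R)) 1)) := by
  obtain ⟨e⟩ := h3
  obtain ⟨o⟩ := Groth.PnCoh.nonempty_pullback_overIso_twist N R 1
  refine ⟨N, r ≫ (Groth.PnCoh.overIso N R).hom, inferInstance, ?_, ⟨?_⟩⟩
  · rw [Category.assoc]
    exact (congrArg (r ≫ ·) (Groth.PnCoh.overIso_hom_toBase N R)).trans h2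
  · exact e ≪≫ (Scheme.Modules.pullback r).mapIso o.symm ≪≫
      (Scheme.Modules.pullbackComp r (Groth.PnCoh.overIso N R).hom).app _

include hdeg hf hgen in
theorem exists_emb_lcm (a : ℕ) (ha : 0 < a) (has : s - 1 ≤ a) :
    ∃ (N : ℕ) (r : Proj 𝒜 ⟶ CohB1.ProjSpace N R), IsClosedImmersion r ∧
      r ≫ CohB1.ProjSpace.toSpec N R = qS 𝒜 ∧
      Nonempty (Twist.twist 𝒜 ((a * Finset.univ.lcm deg : ℕ) : ℤ) ≅
        (Scheme.Modules.pullback r).obj (Twist.twistProjSpace N R 1)) := by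
  obtain ⟨N, g, hg, -, hspan⟩ := exists_monomials (n := a * Finset.univ.lcm deg) f deg hdeg hf hgen
  have hcov : ∀ x : ProjectiveSpectrum 𝒜, ∃ i, g i ∉ x.asHomogeneousIdeal := fun x => by
    by_contra hc
    push Not at hc
    obtain ⟨b, hb, hbx⟩ := TwistCov.exists_lcm_notMem f deg hdeg hf hgen x
    have hle : Submodule.span R (Set.range g) ≤ x.asHomogeneousIdeal.toIdeal.restrictScalars R :=
      Submodule.span_le.2 (Set.range_subset_iff.2 hc)
    have hba : b ^ a ∈ 𝒜 (a * Finset.univ.lcm deg) := by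
      simpa using SetLike.pow_mem_graded a hb
    exact hbx (x.isPrime.mem_of_pow_mem a (hle (hspan hba)))
  have := isProper_qS f deg hdeg hf hgen
  refine ⟨N, exists_closedImmersion 𝒜 g hg hcov (Nat.mul_pos ha (TwistCov.lcm_pos deg hdeg)) Set.univ
    (fun x => (hcov x).imp fun i h => ⟨Set.mem_univ _, h⟩) ?_⟩
  intro i _ k b hb
  rw [Groth.Cycles.piece_mul_lcm_eq_pow 𝒜 f deg hdeg hf hgen a has k] at hb
  let φ : MvPolynomial (Fin (N + 1)) R →ₐ[R] A := MvPolynomial.aeval g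
  have h1 : 𝒜 (a * Finset.univ.lcm deg) ≤ (CohB1.polyGrading N R 1).map φ.toLinearMap :=
    hspan.trans (Submodule.span_le.2 (Set.range_subset_iff.2 fun j =>
      ⟨MvPolynomial.X j, MvPolynomial.isHomogeneous_X R j, MvPolynomial.aeval_X g j⟩))
  have h2 : 𝒜 (a * Finset.univ.lcm deg) ^ k ≤ (CohB1.polyGrading N R k).map φ.toLinearMap := by
    refine (pow_le_pow_left' h1 k).trans ?_
    rw [← Submodule.map_pow]
    refine Submodule.map_mono ((Groth.Cycles.piece_pow_le (CohB1.polyGrading N R) 1 k).trans_eq ?_)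
    rw [mul_one]
  obtain ⟨P, hP, hPb⟩ := h2 hb
  exact ⟨0, P, hP, by rw [pow_zero, mul_one]; exact hPb⟩

include hdeg hf hgen in
theorem exists_emb_deg (n : ℕ) (hn : 0 < n) (hle : ∀ i, deg i ≤ n)
    (hcov : (⨆ g : 𝒜 1, Proj.basicOpen 𝒜 (g : A)) = ⊤) :
    ∃ (N : ℕ) (r : Proj 𝒜 ⟶ CohB1.ProjSpace N R), IsClosedImmersion r ∧
      r ≫ CohB1.ProjSpace.toSpec N R = qS 𝒜 ∧
      Nonempty (Twist.twist 𝒜 (n : ℤ) ≅
        (Scheme.Modules.pullback r).obj (Twist.twistProjSpace N R 1)) := by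
  classical
  obtain ⟨N, g, hg, hmon, hspan⟩ := exists_monomials (n := n) f deg hdeg hf hgen
  let S : Set (Fin (N + 1)) := {i | ∃ j, deg j = 1 ∧ g i = f j ^ n}
  have hS : ∀ x : ProjectiveSpectrum 𝒜, ∃ i ∈ S, g i ∉ x.asHomogeneousIdeal := fun x => by
    obtain ⟨j, hj1, hjx⟩ : ∃ j, deg j = 1 ∧ f j ∉ x.asHomogeneousIdeal := by
      by_contra hc
      push Not at hc
      obtain ⟨h, hh⟩ := Opens.mem_iSup.1 (hcov.ge (Set.mem_univ x))
      refine hh (?_ : (h : A) ∈ x.asHomogeneousIdeal.toIdeal.restrictScalars R)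
      refine (show 𝒜 1 ≤ x.asHomogeneousIdeal.toIdeal.restrictScalars R from ?_) h.2
      rw [Groth.Cycles.piece_eq_span_monomials 𝒜 f deg hf hgen 1, Submodule.span_le]
      rintro _ ⟨e, he, rfl⟩
      obtain ⟨l, -, hl⟩ : ∃ l ∈ Finset.univ, e l * deg l ≠ 0 :=
        Finset.exists_ne_zero_of_sum_ne_zero (by rw [show ∑ l, e l * deg l = 1 from he]; omega)
      have hl1 : deg l = 1 := by
        have := he ▸ Finset.single_le_sum (f := fun l => e l * deg l) (fun _ _ => Nat.zero_le _) (Finset.mem_univ l)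
        have := hdeg l
        have : 0 < e l := Nat.pos_of_ne_zero (left_ne_zero_of_mul hl)
        nlinarith
      exact Ideal.mem_of_dvd _ (Finset.dvd_prod_of_mem _ (Finset.mem_univ l))
        (Ideal.pow_mem_of_mem _ (hc l hl1) _ (Nat.pos_of_ne_zero (left_ne_zero_of_mul hl)))
    obtain ⟨i, hi⟩ := hmon (Pi.single j n) (by simp [Pi.single_apply, hj1])
    have hi' : g i = f j ^ n := by rw [hi]; simp [Pi.single_apply, pow_ite]
    exact ⟨i, ⟨j, hj1, hi'⟩, fun h => hjx (x.isPrime.mem_of_pow_mem n (hi' ▸ h))⟩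
  have := isProper_qS f deg hdeg hf hgen
  refine ⟨N, exists_closedImmersion 𝒜 g hg (fun x => (hS x).imp fun i h => h.2) hn S hS ?_⟩
  rintro i ⟨j, hj1, hij⟩ k b hb
  suffices h : ∃ M, ∀ m, M ≤ m → ∃ P ∈ CohB1.polyGrading N R (k + m), MvPolynomial.aeval g P = b * g i ^ m by
    obtain ⟨M, hM⟩ := h
    obtain ⟨P, hP, hPb⟩ := hM M le_rfl
    exact ⟨M, P, hP, hPb⟩
  rw [Groth.Cycles.piece_eq_span_monomials 𝒜 f deg hf hgen (k * n)] at hb
  refine Submodule.span_induction ?_ ⟨0, fun m _ => ⟨0, zero_mem _, by simp⟩⟩ ?_ ?_ hb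
  · rintro _ ⟨e, he, rfl⟩
    refine ⟨∑ l, e l, fun m hm => ?_⟩
    have hidx : ∀ l, ∃ i', g i' = f l * f j ^ (n - deg l) := fun l => by
      obtain ⟨i', hi'⟩ := hmon (Pi.single l 1 + Pi.single j (n - deg l)) (by
        simp only [Pi.add_apply, add_mul, Finset.sum_add_distrib, Pi.single_apply, ite_mul, zero_mul,
          Finset.sum_ite_eq', Finset.mem_univ, if_true, hj1, one_mul, mul_one]
        have := hle l
        omega)
      exact ⟨i', hi'.trans (by
        simp only [Pi.add_apply, pow_add, Finset.prod_mul_distrib]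
        simp [Pi.single_apply, pow_ite])⟩
    choose Y hY using hidx
    refine ⟨MvPolynomial.X i ^ (k + m - ∑ l, e l) * ∏ l, MvPolynomial.X (Y l) ^ e l, ?_, ?_⟩
    · have h1 : (∏ l, (MvPolynomial.X (Y l) : MvPolynomial (Fin (N + 1)) R) ^ e l).IsHomogeneous (∑ l, e l) :=
        MvPolynomial.IsHomogeneous.prod _ _ _ fun l _ => MvPolynomial.isHomogeneous_X_pow _ _
      have h2 := (MvPolynomial.isHomogeneous_X_pow (R := R) i (k + m - ∑ l, e l)).mul h1
      rwa [Nat.sub_add_cancel (by omega)] at h2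
    · simp only [map_mul, map_pow, map_prod, MvPolynomial.aeval_X, hY, hij, mul_pow,
        Finset.prod_mul_distrib, ← pow_mul, Finset.prod_pow_eq_pow_sum]
      rw [mul_left_comm, ← pow_add]
      congr 2
      have h3 : ∑ l, (n - deg l) * e l + k * n = n * ∑ l, e l := by
        rw [← show ∑ l, e l * deg l = k * n from he, ← Finset.sum_add_distrib, Finset.mul_sum]
        refine Finset.sum_congr rfl fun l _ => ?_
        rw [mul_comm (e l), ← add_mul, Nat.sub_add_cancel (hle l)]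
      rw [Nat.mul_sub, Nat.mul_add]
      have : n * ∑ l, e l ≤ n * m := Nat.mul_le_mul_left _ hm
      have := mul_comm k n
      omega
  · rintro x y - - ⟨M, hM⟩ ⟨M', hM'⟩
    refine ⟨max M M', fun m hm => ?_⟩
    obtain ⟨P, hP, hPb⟩ := hM m (le_trans (le_max_left _ _) hm)
    obtain ⟨Q, hQ, hQb⟩ := hM' m (le_trans (le_max_right _ _) hm)
    exact ⟨P + Q, add_mem hP hQ, by rw [map_add, hPb, hQb, add_mul]⟩
  · rintro c x - ⟨M, hM⟩
    refine ⟨M, fun m hm => ?_⟩
    obtain ⟨P, hP, hPb⟩ := hM m hm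
    exact ⟨c • P, Submodule.smul_mem _ _ hP, by rw [map_smul, hPb, smul_mul_assoc]⟩

omit hdeg hf hgen in
theorem exists_fin_generators [Algebra.FiniteType R A] (d : ℕ)
    (h : Algebra.adjoin R (⋃ i ∈ Finset.Icc 1 d, (𝒜 i : Set A)) = ⊤) :
    ∃ (s : ℕ) (f : Fin s → A) (deg : Fin s → ℕ), (∀ i, 0 < deg i) ∧ (∀ i, deg i ≤ d) ∧
      (∀ i, f i ∈ 𝒜 (deg i)) ∧ Algebra.adjoin R (Set.range f) = ⊤ := by
  classical
  set U : Set A := ⋃ i ∈ Finset.Icc 1 d, (𝒜 i : Set A)
  have hfin : ∀ x ∈ Algebra.adjoin R U, ∃ t : Finset A, ↑t ⊆ U ∧ x ∈ Algebra.adjoin R (t : Set A) := by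
    intro x hx
    induction hx using Algebra.adjoin_induction with
    | mem x hx => exact ⟨{x}, by simpa using hx, Algebra.subset_adjoin (by simp)⟩
    | algebraMap r => exact ⟨∅, by simp, Subalgebra.algebraMap_mem _ r⟩
    | add x y _ _ hx hy =>
      obtain ⟨t, ht, hxt⟩ := hx
      obtain ⟨t', ht', hyt⟩ := hy
      exact ⟨t ∪ t', by simp [ht, ht'], add_mem (Algebra.adjoin_mono (by simp) hxt) (Algebra.adjoin_mono (by simp) hyt)⟩
    | mul x y _ _ hx hy =>
      obtain ⟨t, ht, hxt⟩ := hx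
      obtain ⟨t', ht', hyt⟩ := hy
      exact ⟨t ∪ t', by simp [ht, ht'], mul_mem (Algebra.adjoin_mono (by simp) hxt) (Algebra.adjoin_mono (by simp) hyt)⟩
  obtain ⟨T, hT⟩ := Algebra.FiniteType.out (R := R) (A := A)
  choose t ht hxt using fun x : T => hfin x.1 (h ▸ Algebra.mem_top)
  let T' := T.attach.biUnion t
  have hT' : (T' : Set A) ⊆ U := fun x hx => by
    obtain ⟨z, -, hz⟩ := Finset.mem_biUnion.1 hx
    exact ht z hz
  let f : Fin T'.card → A := fun i => (T'.equivFin.symm i).1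
  choose dg hdg using fun i => Set.mem_iUnion₂.1 (hT' (T'.equivFin.symm i).2)
  refine ⟨T'.card, f, dg, fun i => (Finset.mem_Icc.1 (hdg i).1).1, fun i => (Finset.mem_Icc.1 (hdg i).1).2,
    fun i => (hdg i).2, top_le_iff.1 ?_⟩
  rw [← hT, Algebra.adjoin_le_iff]
  intro x hx
  refine Algebra.adjoin_mono ?_ (hxt ⟨x, hx⟩)
  intro z hz
  exact ⟨T'.equivFin ⟨z, Finset.mem_biUnion.2 ⟨_, Finset.mem_attach _ _, hz⟩⟩, by simp [f]⟩

end Groth.Cycles.TwistEmb
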