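import Groth.Agent.Cycles.GradedGen
import Groth.Agent.Ega2Proj.TwistSheaf
import Groth.Agent.RefRank.Rank1
import Groth.Prelude.Def_ProjUP

/-!
`O(n)` is generated by the degree `n` elements for `n` large.
-/

universe u

set_option autoImplicit false

open CategoryTheory AlgebraicGeometry Opposite TopologicalSpace
open Groth.Ega2Proj Groth.QCohMod

namespace Groth.Cycles

variable {R A : Type u} [CommRing R] [CommRing A] [Algebra R A] {𝒜 : ℕ → Submodule R A} [GradedAlgebra 𝒜]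

theorem piece_add_mul_le_of_bound {n l : ℕ}
    (h : ∀ m, n ≤ m → 𝒜 (m + l) = 𝒜 m * 𝒜 l) (k : ℕ) : 𝒜 (n + k * l) ≤ 𝒜 n * 𝒜 (k * l) := by
  induction k with
  | zero =>
    rw [zero_mul, add_zero]
    intro a ha
    simpa using Submodule.mul_mem_mul ha (SetLike.one_mem_graded 𝒜)
  | succ k ih =>
    rw [Nat.succ_mul, ← add_assoc, h _ le_self_add]
    refine (mul_le_mul' ih le_rfl).trans ?_
    rw [mul_assoc]
    exact mul_le_mul' le_rfl (piece_mul_le 𝒜 _ _)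

open Submodule in
theorem germ_mem_span_globalOf {n l : ℕ} (hl : 0 < l)
    (h : ∀ m, n ≤ m → 𝒜 (m + l) = 𝒜 m * 𝒜 l) (x : ↥(Proj 𝒜))
    (m : (Twist.twist 𝒜 (n : ℤ)).presheaf.stalk x) :
    m ∈ span ((Proj 𝒜).presheaf.stalk x)
      (Set.range fun b : 𝒜 n => germ (Twist.twist 𝒜 (n : ℤ)) x (U := ⊤) trivial (Twist.globalOf 𝒜 b)) := by
  set S := span ((Proj 𝒜).presheaf.stalk x)
    (Set.range fun b : 𝒜 n => germ (Twist.twist 𝒜 (n : ℤ)) x (U := ⊤) trivial (Twist.globalOf 𝒜 b))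
  obtain ⟨V, hxV, s, rfl⟩ := exists_germ (Twist.twist 𝒜 (n : ℤ)) x m
  suffices H : ∀ (W : (Proj 𝒜).Opens) (hxW : x ∈ W) (hWV : W ≤ V) (i j : ℕ) (a t : A) (_ : a ∈ 𝒜 i) (_ : t ∈ 𝒜 j)
      (hWt : ∀ y : ProjectiveSpectrum 𝒜, y ∈ W → t ∉ y.asHomogeneousIdeal) (_ : (i : ℤ) = j + n ∨ a = 0),
      (∀ (y : ProjectiveSpectrum 𝒜) (hy : y ∈ W), wval s y (hWV hy) = lfrac 𝒜 y a (hWt y hy)) →
      germ (Twist.twist 𝒜 (n : ℤ)) x hxW (res (Twist.twist 𝒜 (n : ℤ)) hWV s) ∈ S by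
    obtain ⟨W, hxW, ι, i, j, ⟨a, ha⟩, ⟨t, ht⟩, nin, hdeg, hval⟩ := s.2 ⟨x, hxV⟩
    rw [← germ_res (Twist.twist 𝒜 (n : ℤ)) (V := (W : (Proj 𝒜).Opens)) ι.le x hxW s]
    exact H W hxW ι.le i j a t ha ht (fun y hy => nin ⟨y, hy⟩) hdeg fun y hy => hval ⟨y, hy⟩
  intro W hxW hWV i j a t ha ht hWt hdeg hval
  have hWt' : ∀ y : ProjectiveSpectrum 𝒜, y ∈ W → t ^ l ∉ y.asHomogeneousIdeal := fun y hy h' =>
    hWt y hy (y.isPrime.mem_of_pow_mem l h')
  rcases hdeg with hdeg | rfl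
  swap
  · rw [show res (Twist.twist 𝒜 (n : ℤ)) hWV s = 0 from wval_ext fun y hy =>
      (hval y hy).trans (Localization.mk_zero _), map_zero]
    exact zero_mem _
  have hij : i = j + n := by omega
  have ht' : t ^ l ∈ 𝒜 (j * l) := by
    have := SetLike.pow_mem_graded l ht
    rwa [smul_eq_mul, mul_comm] at this
  have key : ∀ p ∈ 𝒜 n * 𝒜 (j * l), ∃ hp : p ∈ 𝒜 (n + j * l),
      germ (Twist.twist 𝒜 (n : ℤ)) x hxW
        (fracGen hp ht' (by push_cast; ring) W hWt') ∈ S := by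
    intro p hp
    refine Submodule.mul_induction_on hp (fun b hb c hc => ?_) ?_
    · refine ⟨SetLike.mul_mem_graded hb hc, ?_⟩
      obtain ⟨r, hr⟩ := exists_fun_eq_wval (fracGen hc ht' (n := 0) (by simp) W hWt')
      have e : fracGen (SetLike.mul_mem_graded hb hc) ht' (n := (n : ℤ)) (by push_cast; ring) W hWt' =
          r • res (Twist.twist 𝒜 (n : ℤ)) (le_top : W ≤ ⊤) (Twist.globalOf 𝒜 ⟨b, hb⟩) := by
        refine wval_ext fun y hy => ?_
        rw [wval_smul, hr, wval_fracGen, wval_fracGen]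
        change _ = lfrac 𝒜 y c (hWt' y hy) * Localization.mk b _
        rw [Localization.mk_mul]
        refine Localization.mk_eq_mk_iff.mpr (Localization.r_iff_exists.mpr ⟨1, ?_⟩)
        simp only [Submonoid.coe_one, Submonoid.coe_mul]
        ring
      rw [e, germ_smul, germ_res]
      exact S.smul_mem _ (subset_span ⟨⟨b, hb⟩, rfl⟩)
    · rintro p q ⟨hp, hp'⟩ ⟨hq, hq'⟩
      refine ⟨add_mem hp hq, ?_⟩
      have e : fracGen (add_mem hp hq) ht' (n := (n : ℤ)) (by push_cast; ring) W hWt' =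
          fracGen hp ht' (n := (n : ℤ)) (by push_cast; ring) W hWt' +
          fracGen hq ht' (n := (n : ℤ)) (by push_cast; ring) W hWt' := by
        refine wval_ext fun y hy => ?_
        exact (Localization.add_mk_self _ _ _).symm
      rw [e, map_add]
      exact add_mem hp' hq'
  have ha' : a * t ^ (l - 1) ∈ 𝒜 (n + j * l) := by
    have h1 := SetLike.mul_mem_graded ha (SetLike.pow_mem_graded (l - 1) ht)
    have e : i + (l - 1) • j = n + j * l := by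
      obtain ⟨l, rfl⟩ : ∃ l', l = l' + 1 := ⟨l - 1, by omega⟩
      rw [smul_eq_mul, hij, Nat.add_sub_cancel]; ring
    exact e ▸ h1
  obtain ⟨hp, hmem⟩ := key _ (piece_add_mul_le_of_bound h j ha')
  convert hmem using 2
  refine wval_ext fun y hy => ?_
  rw [wval_fracGen]
  refine (hval y hy).trans (Localization.mk_eq_mk_iff.mpr (Localization.r_iff_exists.mpr ⟨1, ?_⟩))
  obtain ⟨l, rfl⟩ : ∃ l', l = l' + 1 := ⟨l - 1, by omega⟩
  simp only [Submonoid.coe_one, Nat.add_sub_cancel]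
  ring

theorem generatedBy_twist_of_bound {s : ℕ} (f : Fin s → A) (deg : Fin s → ℕ) (hdeg : ∀ i, 0 < deg i)
    (hf : ∀ i, f i ∈ 𝒜 (deg i)) (hgen : Algebra.adjoin R (Set.range f) = ⊤) (n : ℕ)
    (hn : (s - 1) * (Finset.univ.lcm deg - 1) ≤ n) :
    ProjUP.GeneratedBy (Twist.twist 𝒜 (n : ℤ))
      (fun b : 𝒜 n => (Twist.globalOf 𝒜 b : ProjUP.Γm (Twist.twist 𝒜 (n : ℤ)))) := by
  intro x
  refine eq_top_iff.mpr fun m _ => germ_mem_span_globalOf ?_
    (fun m hm => piece_add_lcm_eq_mul 𝒜 f deg hdeg hf hgen m (hn.trans hm)) x m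
  refine Nat.pos_of_ne_zero fun h0 => ?_
  obtain ⟨i, -, hi⟩ := Finset.lcm_eq_zero_iff.mp h0
  exact (hdeg i).ne' hi

end Groth.Cycles
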